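import Mathlib
import Cfsg.Agent.Lib.Helper71.BG11b
import Cfsg.Agent.Lib.Helper61.PrimeAction

set_option autoImplicit false

namespace Cfsg.Agent.Lib.Helper63.BG117

open Cfsg Cfsg.Agent.Lib.Helper55 Cfsg.Agent.Lib.Helper31 Cfsg.Agent.Lib.Helper71.BG10
  Cfsg.Agent.Lib.Helper71.BG11

variable {G : Type*} [Group G] [Finite G]

/-- The Hall–Higman type statement for one normal `l`-subgroup `P` of `M`. -/
theorem comm_le_centralizer_pgroup_in (hodd : Odd (Nat.card G)) {M : Subgroup G} {p q l : ℕ}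
    [Fact p.Prime] [Fact q.Prime] [Fact l.Prime] (hqp : q ≠ p) (hlq : l ≠ q) (hlp : l ≠ p)
    {X Q P : Subgroup G} (hXM : X ≤ M) (hX : Nat.card X = p) (hQM : Q ≤ M) (hQ : IsPGroup q Q)
    (hXQ : X ≤ Subgroup.normalizer (Q : Set G)) (hPM : P ≤ M) (hP : IsPGroup l P)
    (hMP : M ≤ Subgroup.normalizer (P : Set G))
    (hfpf : P ⊓ Subgroup.centralizer (X : Set G) = ⊥) :
    ⁅Q, X⁆ ≤ Subgroup.centralizer (P : Set G) := by
  have hpP : p.Prime := Fact.out
  have hqP : q.Prime := Fact.out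
  have hlP : l.Prime := Fact.out
  obtain ⟨g, hg⟩ := (isCyclic_of_prime_card hX).exists_generator
  have hgo : orderOf g = p := by rw [orderOf_eq_card_of_forall_mem_zpowers hg, hX]
  have hXg : ∀ b ∈ X, ∃ k : ℤ, b = (g : G) ^ k := by
    intro b hb
    obtain ⟨k, hk⟩ := hg ⟨b, hb⟩
    refine ⟨k, ?_⟩
    have := congrArg Subtype.val hk
    simp only [Subgroup.coe_zpow] at this
    exact this.symm
  have hgM : (g : G) ∈ M := hXM g.2
  have hx'o : orderOf (⟨(g : G), hgM⟩ : M) = p := by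
    rw [← hgo, ← Subgroup.orderOf_coe g, ← Subgroup.orderOf_coe (⟨(g : G), hgM⟩ : M)]
  haveI hPn : (P.subgroupOf M).Normal := (Subgroup.normal_subgroupOf_iff_le_normalizer hPM).mpr hMP
  have hP' : IsPGroup l (P.subgroupOf M) := hP.comap_subtype
  have hQ' : IsPGroup q (Q.subgroupOf M) := hQ.comap_subtype
  have hPr : (Nat.card (P.subgroupOf M)).Coprime p := by
    obtain ⟨n, hn⟩ := IsPGroup.iff_card.mp hP'
    rw [hn]
    exact Nat.Coprime.pow_left n ((Nat.coprime_primes hlP hpP).mpr hlp)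
  have hQr : (Nat.card (Q.subgroupOf M)).Coprime p := by
    obtain ⟨n, hn⟩ := IsPGroup.iff_card.mp hQ'
    rw [hn]
    exact Nat.Coprime.pow_left n ((Nat.coprime_primes hqP hpP).mpr hqp)
  have hQodd : Odd (Nat.card (Q.subgroupOf M)) :=
    Odd.of_dvd_nat hodd ((Subgroup.card_subgroup_dvd_card _).trans (Subgroup.card_subgroup_dvd_card M))
  have hxQ : (⟨(g : G), hgM⟩ : M) ∈ Subgroup.normalizer ((Q.subgroupOf M : Subgroup M) : Set M) := by
    rw [Subgroup.mem_normalizer_iff]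
    intro h
    rw [Subgroup.mem_subgroupOf, Subgroup.mem_subgroupOf]
    exact Subgroup.mem_normalizer_iff.mp (hXQ g.2) (h : G)
  have hCP : P.subgroupOf M ⊓ Subgroup.centralizer
      ((Subgroup.zpowers (⟨(g : G), hgM⟩ : M) : Subgroup M) : Set M) = ⊥ := by
    rw [eq_bot_iff]
    intro m hm
    rw [Subgroup.mem_bot]
    have hmP : (m : G) ∈ P := Subgroup.mem_subgroupOf.mp hm.1
    have hmc := Subgroup.mem_centralizer_iff.mp hm.2 _ (Subgroup.mem_zpowers _)
    have hmc' : (g : G) * (m : G) = (m : G) * (g : G) := congrArg Subtype.val hmc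
    have hmX : (m : G) ∈ Subgroup.centralizer (X : Set G) := by
      rw [Subgroup.mem_centralizer_iff]
      intro b hb
      obtain ⟨k, rfl⟩ := hXg b hb
      exact ((Commute.zpow_left (show Commute (g : G) (m : G) from hmc') k)).eq
    have h1 : (m : G) ∈ P ⊓ Subgroup.centralizer (X : Set G) := ⟨hmP, hmX⟩
    rw [hfpf, Subgroup.mem_bot] at h1
    exact Subtype.ext h1
  have key := Cfsg.Agent.Lib.Helper61.PrimeAction.commutator_le_centralizer_pgroup' hlP hqP hpP hlq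
    (P.subgroupOf M) (Q.subgroupOf M) (⟨(g : G), hgM⟩ : M) hP' hQ' hPr hQr hQodd hx'o hxQ hCP
  rw [Subgroup.commutator_le]
  intro a ha b hb
  rw [Subgroup.mem_centralizer_iff]
  intro y hy
  have ha' : (⟨a, hQM ha⟩ : M) ∈ Q.subgroupOf M := Subgroup.mem_subgroupOf.mpr ha
  have hb' : (⟨b, hXM hb⟩ : M) ∈ Subgroup.zpowers (⟨(g : G), hgM⟩ : M) := by
    obtain ⟨k, hk⟩ := hXg b hb
    refine ⟨k, ?_⟩
    apply Subtype.ext
    simp only [Subgroup.coe_zpow]
    exact hk.symm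
  have h2 := key (Subgroup.commutator_mem_commutator ha' hb')
  rw [Subgroup.mem_centralizer_iff] at h2
  have h3 := h2 ⟨y, hPM hy⟩ (Subgroup.mem_subgroupOf.mpr hy)
  exact congrArg Subtype.val h3

/-- K-S1417-L1 (Hall–Higman type): `X` of order `p` fixed-point-free on the nilpotent `M_σ`, `Q` an `X`-invariant `q`-subgroup of
`M` with `q ∉ σ(M)`: `[Q, X]` centralizes `M_σ`. -/
theorem comm_le_centralizer_of_fpf (hG : IsMinSimpleOddOrder G) {M : Subgroup G} (hM : IsCoatom M)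
    (hnil : Group.IsNilpotent (sigmaCore M)) {p q : ℕ} [Fact p.Prime] [Fact q.Prime] (hqp : q ≠ p)
    (hq : q ∉ sigma M) (hp : p ∉ sigma M)
    {X Q : Subgroup G} (hXM : X ≤ M) (hX : Nat.card X = p) (hQM : Q ≤ M) (hQ : IsPGroup q Q)
    (hXQ : X ≤ Subgroup.normalizer (Q : Set G))
    (hfpf : sigmaCore M ⊓ Subgroup.centralizer (X : Set G) = ⊥) :
    ⁅Q, X⁆ ≤ Subgroup.centralizer (sigmaCore M : Set G) := by
  rw [Subgroup.le_centralizer_iff]
  -- each Sylow subgroup of `M_σ` centralizes `[Q, X]`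
  have hsyl : ∀ (i : {l : ℕ // l.Prime ∧ l ∣ Nat.card (sigmaCore M)}) (P : Sylow i.1 (sigmaCore M)),
      (P : Subgroup (sigmaCore M)) ≤ (Subgroup.centralizer ((⁅Q, X⁆ : Subgroup G) : Set G)).subgroupOf (sigmaCore M) := by
    intro i P
    haveI : Fact (i.1).Prime := ⟨i.2.1⟩
    have hsig : i.1 ∈ sigma M := sigmaCore_pi hG hM i.2.1 i.2.2
    have hiq : i.1 ≠ q := fun h => hq (h ▸ hsig)
    have hip : i.1 ≠ p := fun h => hp (h ▸ hsig)
    have hPS : IsSylowIn i.1 (sigmaCore M) ((P : Subgroup (sigmaCore M)).map (sigmaCore M).subtype) :=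
      isSylowIn_of_sylow P
    have hMP := sylow_normal_of_nilpotent hnil hPS (le_normalizer_sigmaCore M)
    have hPle : (P : Subgroup (sigmaCore M)).map (sigmaCore M).subtype ≤ sigmaCore M := hPS.1
    have hfpf' : (P : Subgroup (sigmaCore M)).map (sigmaCore M).subtype ⊓ Subgroup.centralizer (X : Set G) = ⊥ := by
      rw [eq_bot_iff, ← hfpf]
      exact inf_le_inf_right _ hPle
    have h1 := comm_le_centralizer_pgroup_in hG.1 hqp hiq hip hXM hX hQM hQ hXQ (hPle.trans (sigmaCore_le M))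
      hPS.2.1 hMP hfpf'
    rw [Subgroup.le_centralizer_iff] at h1
    intro s hs
    rw [Subgroup.mem_subgroupOf]
    exact h1 ⟨s, hs, rfl⟩
  have htop := Cfsg.Agent.Lib.Helper76.iSup_sylow_eq_top (G := sigmaCore M)
    (ι := {l : ℕ // l.Prime ∧ l ∣ Nat.card (sigmaCore M)}) (fun i => i.1)
    (fun l hl hd => ⟨⟨l, hl, hd⟩, rfl⟩) (fun i => Classical.choice inferInstance)
  have hle : (⊤ : Subgroup (sigmaCore M)) ≤
      (Subgroup.centralizer ((⁅Q, X⁆ : Subgroup G) : Set G)).subgroupOf (sigmaCore M) := by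
    rw [← htop]
    exact iSup_le (fun i => hsyl i _)
  intro s hs
  have := hle (Subgroup.mem_top (⟨s, hs⟩ : sigmaCore M))
  exact Subgroup.mem_subgroupOf.mp this

end Cfsg.Agent.Lib.Helper63.BG117
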