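import Mathlib

set_option autoImplicit false

namespace Cfsg.Agent.Lib.Helper63

open MulAction Subgroup

section Tuples

variable {G : Type*} [Group G] {α : Type*} [MulAction G α]

/-- 2-transitivity in elementary form -/
theorem exists_smul_pair (h2 : IsMultiplyPretransitive G α 2) {a b c d : α}
    (hab : a ≠ b) (hcd : c ≠ d) : ∃ g : G, g • a = c ∧ g • b = d := by
  have hi1 : Function.Injective ![a, b] := by
    intro i j hij
    fin_cases i <;> fin_cases j <;> simp_all
  have hi2 : Function.Injective ![c, d] := by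
    intro i j hij
    fin_cases i <;> fin_cases j <;> simp_all
  obtain ⟨g, hg⟩ := h2.exists_smul_eq (⟨![a, b], hi1⟩ : Fin 2 ↪ α) ⟨![c, d], hi2⟩
  refine ⟨g, ?_, ?_⟩
  · have := congrArg (fun e : Fin 2 ↪ α => e 0) hg
    simpa using this
  · have := congrArg (fun e : Fin 2 ↪ α => e 1) hg
    simpa using this

/-- 3-transitivity in elementary form -/
theorem exists_smul_triple (h3 : IsMultiplyPretransitive G α 3) {a b c a' b' c' : α}
    (hab : a ≠ b) (hac : a ≠ c) (hbc : b ≠ c) (hab' : a' ≠ b') (hac' : a' ≠ c') (hbc' : b' ≠ c') :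
    ∃ g : G, g • a = a' ∧ g • b = b' ∧ g • c = c' := by
  have hi1 : Function.Injective ![a, b, c] := by
    intro i j hij
    fin_cases i <;> fin_cases j <;> simp_all
  have hi2 : Function.Injective ![a', b', c'] := by
    intro i j hij
    fin_cases i <;> fin_cases j <;> simp_all
  obtain ⟨g, hg⟩ := h3.exists_smul_eq (⟨![a, b, c], hi1⟩ : Fin 3 ↪ α) ⟨![a', b', c'], hi2⟩
  refine ⟨g, ?_, ?_, ?_⟩
  · have := congrArg (fun e : Fin 3 ↪ α => e 0) hg
    simpa using this
  · have := congrArg (fun e : Fin 3 ↪ α => e 1) hg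
    simpa using this
  · have := congrArg (fun e : Fin 3 ↪ α => e 2) hg
    simpa using this

/-- 4-transitivity in elementary form -/
theorem exists_smul_quad (h4 : IsMultiplyPretransitive G α 4) {a b c d a' b' c' d' : α}
    (hab : a ≠ b) (hac : a ≠ c) (had : a ≠ d) (hbc : b ≠ c) (hbd : b ≠ d) (hcd : c ≠ d)
    (hab' : a' ≠ b') (hac' : a' ≠ c') (had' : a' ≠ d') (hbc' : b' ≠ c') (hbd' : b' ≠ d')
    (hcd' : c' ≠ d') :
    ∃ g : G, g • a = a' ∧ g • b = b' ∧ g • c = c' ∧ g • d = d' := by
  have hi1 : Function.Injective ![a, b, c, d] := by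
    intro i j hij
    fin_cases i <;> fin_cases j <;> simp_all
  have hi2 : Function.Injective ![a', b', c', d'] := by
    intro i j hij
    fin_cases i <;> fin_cases j <;> simp_all
  obtain ⟨g, hg⟩ := h4.exists_smul_eq (⟨![a, b, c, d], hi1⟩ : Fin 4 ↪ α) ⟨![a', b', c', d'], hi2⟩
  refine ⟨g, ?_, ?_, ?_, ?_⟩
  · have := congrArg (fun e : Fin 4 ↪ α => e 0) hg
    simpa using this
  · have := congrArg (fun e : Fin 4 ↪ α => e 1) hg
    simpa using this
  · have := congrArg (fun e : Fin 4 ↪ α => e 2) hg
    simpa using this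
  · have := congrArg (fun e : Fin 4 ↪ α => e 3) hg
    simpa using this

end Tuples

section Regular

variable {G : Type*} [Group G] {α : Type*} [MulAction G α]

/-- conjugating a semiregular normal subgroup element by a stabilizer element fixing its image -/
theorem conj_eq_of_smul_eq (N : Subgroup G) [N.Normal]
    (hsr : ∀ a : α, ∀ n ∈ N, n • a = a → n = 1) {a : α} {g x : G} (hx : x ∈ N)
    (hga : g • a = a) (hgx : g • (x • a) = x • a) : g * x * g⁻¹ = x := by
  have hmem : g * x * g⁻¹ ∈ N := Subgroup.Normal.conj_mem inferInstance x hx g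
  have hga' : g⁻¹ • a = a := by rw [inv_smul_eq_iff, hga]
  have h1 : (g * x * g⁻¹) • a = x • a := by
    rw [mul_smul, mul_smul, hga', hgx]
  have h2 : (x⁻¹ * (g * x * g⁻¹)) • a = a := by
    rw [mul_smul, h1, inv_smul_smul]
  have h3 := hsr a _ (N.mul_mem (N.inv_mem hx) hmem) h2
  have : x * (x⁻¹ * (g * x * g⁻¹)) = x * 1 := by rw [h3]
  simpa using this

/-- a semiregular normal subgroup of a 3-transitive group on at least 4 points has exponent 2 -/
theorem sq_eq_one_of_semiregular_normal (h3 : IsMultiplyPretransitive G α 3)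
    (hcard : ∀ a b c : α, ∃ d : α, d ≠ a ∧ d ≠ b ∧ d ≠ c) (a : α)
    (N : Subgroup G) [N.Normal] (hsr : ∀ a : α, ∀ n ∈ N, n • a = a → n = 1) :
    ∀ x ∈ N, x ^ 2 = 1 := by
  intro x hx
  by_contra hne
  have hx1 : x ≠ 1 := by rintro rfl; simp at hne
  have h1 : a ≠ x • a := fun h => hx1 (hsr a x hx h.symm)
  have h2 : a ≠ x⁻¹ • a := fun h => hx1 (by
    have := hsr a x⁻¹ (N.inv_mem hx) h.symm
    simpa using this)
  have h3' : x • a ≠ x⁻¹ • a := by
    intro h
    apply hne
    apply hsr a _ (N.pow_mem hx 2)
    rw [pow_two, mul_smul, h, smul_inv_smul]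
  obtain ⟨d, hda, hdx, hdx'⟩ := hcard a (x • a) (x⁻¹ • a)
  obtain ⟨g, hga, hgx, hgx'⟩ := exists_smul_triple h3 h1 h2 h3' h1 hda.symm hdx.symm
  have hc := conj_eq_of_smul_eq N hsr hx hga hgx
  have hc' : g * x⁻¹ * g⁻¹ = x⁻¹ := by
    have : g * x⁻¹ * g⁻¹ = (g * x * g⁻¹)⁻¹ := by simp [mul_assoc]
    rw [this, hc]
  have hga' : g⁻¹ • a = a := by rw [inv_smul_eq_iff, hga]
  have : (g * x⁻¹ * g⁻¹) • a = d := by
    rw [mul_smul, mul_smul, hga', hgx']
  rw [hc'] at this
  exact hdx' this.symm

/-- a 4-transitive group on at least 5 points has no regular normal subgroup -/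
theorem false_of_regular_normal_four (h4 : IsMultiplyPretransitive G α 4) [Finite α]
    (hcard4 : ∀ a b c e : α, ∃ d : α, d ≠ a ∧ d ≠ b ∧ d ≠ c ∧ d ≠ e) (a : α)
    (N : Subgroup G) [N.Normal] (hsr : ∀ a : α, ∀ n ∈ N, n • a = a → n = 1)
    (htr : ∀ a b : α, ∃ n ∈ N, n • a = b) : False := by
  have hcard : ∀ a b c : α, ∃ d : α, d ≠ a ∧ d ≠ b ∧ d ≠ c := by
    intro a b c
    obtain ⟨d, h1, h2, h3, -⟩ := hcard4 a b c c
    exact ⟨d, h1, h2, h3⟩
  have h4c : 4 ≤ Nat.card α := by
    obtain ⟨b, hb, -, -⟩ := hcard a a a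
    obtain ⟨c, hca, hcb, -⟩ := hcard a b b
    obtain ⟨d, hda, hdb, hdc⟩ := hcard a b c
    have hi : Function.Injective ![a, b, c, d] := by
      intro i j hij
      fin_cases i <;> fin_cases j <;> simp_all
    have := Nat.card_le_card_of_injective _ hi
    simpa using this
  have h3 : IsMultiplyPretransitive G α 3 :=
    isMultiplyPretransitive_of_le (n := 4) (by norm_num) h4c
  have hsq := sq_eq_one_of_semiregular_normal h3 hcard a N hsr
  obtain ⟨b, hb, -, -⟩ := hcard a a a
  obtain ⟨c, hca, hcb, -⟩ := hcard a b b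
  obtain ⟨x, hx, hxa⟩ := htr a b
  obtain ⟨y, hy, hya⟩ := htr a c
  have hx1 : x ≠ 1 := by rintro rfl; rw [one_smul] at hxa; exact hb hxa.symm
  have hy1 : y ≠ 1 := by rintro rfl; rw [one_smul] at hya; exact hca hya.symm
  have hxy : x ≠ y := by rintro rfl; rw [hxa] at hya; exact hcb hya.symm
  have hxinv : x⁻¹ = x := by
    have := hsq x hx
    rw [pow_two] at this
    exact inv_eq_of_mul_eq_one_right this
  have p1 : a ≠ x • a := fun h => hx1 (hsr a x hx h.symm)
  have p2 : a ≠ y • a := fun h => hy1 (hsr a y hy h.symm)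
  have p3 : a ≠ (x * y) • a := by
    intro h
    have := hsr a _ (N.mul_mem hx hy) h.symm
    apply hxy
    rw [← hxinv]
    exact (inv_eq_of_mul_eq_one_right this).symm ▸ rfl
  have p4 : x • a ≠ y • a := by rw [hxa, hya]; exact hcb.symm
  have p5 : x • a ≠ (x * y) • a := by
    intro h
    rw [mul_smul] at h
    exact p2 (smul_left_cancel x h)
  have p6 : y • a ≠ (x * y) • a := by
    intro h
    have hmem : y⁻¹ * x * y ∈ N := by
      have := Subgroup.Normal.conj_mem (inferInstance : N.Normal) x hx y⁻¹
      simpa using this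
    have hfix : (y⁻¹ * x * y) • a = a := by
      rw [mul_smul, mul_smul, ← mul_smul x y, ← h, inv_smul_smul]
    have := hsr a _ hmem hfix
    apply hx1
    have h' : y * (y⁻¹ * x * y) * y⁻¹ = y * 1 * y⁻¹ := by rw [this]
    simpa [mul_assoc] using h'
  obtain ⟨d, hd1, hd2, hd3, hd4⟩ := hcard4 a (x • a) (y • a) ((x * y) • a)
  obtain ⟨g, hga, hgx, hgy, hgxy⟩ := exists_smul_quad h4 p1 p2 p3 p4 p5 p6 p1 p2 hd1.symm p4
    hd2.symm hd3.symm
  have hcx := conj_eq_of_smul_eq N hsr hx hga hgx
  have hcy := conj_eq_of_smul_eq N hsr hy hga hgy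
  have hcxy : g * (x * y) * g⁻¹ = x * y := by
    calc g * (x * y) * g⁻¹ = (g * x * g⁻¹) * (g * y * g⁻¹) := by group
      _ = x * y := by rw [hcx, hcy]
  have hga' : g⁻¹ • a = a := by rw [inv_smul_eq_iff, hga]
  have : (g * (x * y) * g⁻¹) • a = d := by
    rw [mul_smul, mul_smul, hga', hgxy]
  rw [hcxy] at this
  exact hd4 this.symm

/-- a subgroup all of whose point stabilizers have exponent 2 and are transitive on the remaining
points cannot act faithfully on at least 4 points -/
theorem false_of_stabilizers_exp_two [FaithfulSMul G α] (N : Subgroup G)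
    (h2 : ∀ a : α, ∀ n ∈ N, n • a = a → n ^ 2 = 1)
    (htr : ∀ a b c : α, b ≠ a → c ≠ a → ∃ n ∈ N, n • a = a ∧ n • b = c)
    (hcard : ∀ a b c : α, ∃ d : α, d ≠ a ∧ d ≠ b ∧ d ≠ c) (a : α) : False := by
  -- commutativity inside stabilizers
  have hcomm : ∀ a : α, ∀ n ∈ N, ∀ m ∈ N, n • a = a → m • a = a → n * m = m * n := by
    intro a n hn m hm hna hma
    have e1 := h2 a n hn hna
    have e2 := h2 a m hm hma
    have e3 := h2 a (n * m) (N.mul_mem hn hm) (by rw [mul_smul, hma, hna])
    have hninv : n⁻¹ = n := by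
      rw [pow_two] at e1; exact inv_eq_of_mul_eq_one_right e1
    have hminv : m⁻¹ = m := by
      rw [pow_two] at e2; exact inv_eq_of_mul_eq_one_right e2
    have hnminv : (n * m)⁻¹ = n * m := by
      rw [pow_two] at e3; exact inv_eq_of_mul_eq_one_right e3
    rw [mul_inv_rev, hninv, hminv] at hnminv
    exact hnminv.symm
  -- semiregularity of stabilizers on the remaining points
  have hsr : ∀ a : α, ∀ n ∈ N, n • a = a → ∀ b : α, b ≠ a → n • b = b → n = 1 := by
    intro a n hn hna b hba hnb
    apply FaithfulSMul.eq_of_smul_eq_smul (α := α)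
    intro c
    rw [one_smul]
    by_cases hca : c = a
    · rw [hca, hna]
    · obtain ⟨m, hm, hma, hmb⟩ := htr a b c hba hca
      rw [← hmb, ← mul_smul, hcomm a n hn m hm hna hma, mul_smul, hnb]
  obtain ⟨b, hb, -, -⟩ := hcard a a a
  obtain ⟨c, hca, hcb, -⟩ := hcard a b b
  obtain ⟨a', ha'a, ha'b, ha'c⟩ := hcard a b c
  obtain ⟨t, ht, hta, htb⟩ := htr a b c hb hca
  obtain ⟨t', ht', hta', htb'⟩ := htr a' b c ha'b.symm ha'c.symm
  have htc : t • c = b := by
    have := h2 a t ht hta
    rw [← htb, ← mul_smul, ← pow_two, this, one_smul]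
  have htc' : t' • c = b := by
    have := h2 a' t' ht' hta'
    rw [← htb', ← mul_smul, ← pow_two, this, one_smul]
  have hu : t' * t = 1 := by
    apply hsr b (t' * t) (N.mul_mem ht' ht) (by rw [mul_smul, htb, htc']) c hcb
    rw [mul_smul, htc, htb']
  have htinv : t' = t⁻¹ := eq_inv_of_mul_eq_one_left hu
  have hta'' : t • a' = a' := by
    have : t⁻¹ • a' = a' := by rw [← htinv]; exact hta'
    rw [inv_smul_eq_iff] at this
    exact this.symm
  have ht1 : t = 1 := hsr a t ht hta a' ha'a hta''
  rw [ht1, one_smul] at htb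
  exact hcb htb.symm

end Regular

section Card

variable {α : Type*} [Finite α]

theorem exists_ne_three (h : 4 ≤ Nat.card α) (a b c : α) : ∃ d : α, d ≠ a ∧ d ≠ b ∧ d ≠ c := by
  classical
  haveI := Fintype.ofFinite α
  by_contra hcon
  push Not at hcon
  have hsub : (Finset.univ : Finset α) ⊆ {a, b, c} := by
    intro d _
    simp only [Finset.mem_insert, Finset.mem_singleton]
    by_cases h1 : d = a
    · exact Or.inl h1
    · by_cases h2 : d = b
      · exact Or.inr (Or.inl h2)
      · exact Or.inr (Or.inr (hcon d h1 h2))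
  have h1 := Finset.card_le_card hsub
  have h2 : ({a, b, c} : Finset α).card ≤ 3 := Finset.card_le_three
  rw [Finset.card_univ, ← Nat.card_eq_fintype_card] at h1
  omega

theorem exists_ne_four (h : 5 ≤ Nat.card α) (a b c e : α) :
    ∃ d : α, d ≠ a ∧ d ≠ b ∧ d ≠ c ∧ d ≠ e := by
  classical
  haveI := Fintype.ofFinite α
  by_contra hcon
  push Not at hcon
  have hsub : (Finset.univ : Finset α) ⊆ {a, b, c, e} := by
    intro d _
    simp only [Finset.mem_insert, Finset.mem_singleton]
    by_cases h1 : d = a
    · exact Or.inl h1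
    · by_cases h2 : d = b
      · exact Or.inr (Or.inl h2)
      · by_cases h3 : d = c
        · exact Or.inr (Or.inr (Or.inl h3))
        · exact Or.inr (Or.inr (Or.inr (hcon d h1 h2 h3)))
  have h1 := Finset.card_le_card hsub
  have h2 : ({a, b, c, e} : Finset α).card ≤ 4 := Finset.card_le_four
  rw [Finset.card_univ, ← Nat.card_eq_fintype_card] at h1
  omega

end Card

section Main

variable {G : Type*} [Group G] {α : Type*} [MulAction G α]

theorem pretransitive_of_normal_ne_bot [FaithfulSMul G α] (hprim : IsPreprimitive G α)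
    (N : Subgroup G) [N.Normal] (hN : N ≠ ⊥) : IsPretransitive N α := by
  have hqp : IsQuasiPreprimitive G α := inferInstance
  apply hqp.isPretransitive_of_normal
  intro h
  apply hN
  rw [eq_bot_iff]
  intro n hn
  rw [Subgroup.mem_bot]
  apply FaithfulSMul.eq_of_smul_eq_smul (α := α)
  intro x
  rw [one_smul]
  have : x ∈ fixedPoints N α := by rw [h]; trivial
  exact this ⟨n, hn⟩

instance faithful_ofStabilizer [FaithfulSMul G α] (a : α) :
    FaithfulSMul (stabilizer G a) (SubMulAction.ofStabilizer G a) := by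
  constructor
  intro g h hgh
  apply Subtype.ext
  apply FaithfulSMul.eq_of_smul_eq_smul (α := α)
  intro x
  by_cases hx : x = a
  · rw [hx]
    have h1 : (g : G) • a = a := g.2
    have h2 : (h : G) • a = a := h.2
    rw [h1, h2]
  · have := hgh ⟨x, hx⟩
    exact congrArg Subtype.val this

theorem transfer_stabilizer (N : Subgroup G) (a : α) (m : ℕ)
    (h : IsMultiplyPretransitive (N.subgroupOf (stabilizer G a)) (SubMulAction.ofStabilizer G a) m) :
    IsMultiplyPretransitive (stabilizer N a) (SubMulAction.ofStabilizer N a) m := by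
  rw [isMultiplyPretransitive_iff] at h ⊢
  intro x y
  let x' : Fin m ↪ SubMulAction.ofStabilizer G a :=
    ⟨fun i => ⟨(x i).1, (x i).2⟩, fun i j hij => x.injective (Subtype.ext (by
      have := congrArg Subtype.val hij
      exact this))⟩
  let y' : Fin m ↪ SubMulAction.ofStabilizer G a :=
    ⟨fun i => ⟨(y i).1, (y i).2⟩, fun i j hij => y.injective (Subtype.ext (by
      have := congrArg Subtype.val hij
      exact this))⟩
  obtain ⟨g, hg⟩ := h x' y'
  have hgN : (g.1.1 : G) ∈ N := g.2
  have hga : (g.1.1 : G) • a = a := g.1.2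
  refine ⟨⟨⟨g.1.1, hgN⟩, hga⟩, ?_⟩
  ext i
  have := congrArg (fun e : Fin m ↪ SubMulAction.ofStabilizer G a => ((e i).1 : α)) hg
  exact this

end Main

universe u v

/-- **Jordan**: a nontrivial normal subgroup of a `k`-transitive group (`k ≥ 2`, degree `> k`,
faithful action) is `(k-1)`-transitive, or `k = 3` and it has exponent 2. -/
theorem jordan_normal_subgroup (k : ℕ) (hk : 2 ≤ k) :
    ∀ (G : Type u) (α : Type v) [Group G] [MulAction G α] [Finite α] [FaithfulSMul G α],
      k < Nat.card α → IsMultiplyPretransitive G α k →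
      ∀ (N : Subgroup G), N.Normal → N ≠ ⊥ →
        IsMultiplyPretransitive N α (k - 1) ∨ (k = 3 ∧ ∀ n ∈ N, n ^ 2 = 1) := by
  induction k, hk using Nat.le_induction with
  | base =>
    intro G α _ _ _ _ hcard h2 N hNn hN
    left
    have hprim := isPreprimitive_of_is_two_pretransitive h2
    have : IsPretransitive N α := pretransitive_of_normal_ne_bot hprim N hN
    exact is_one_pretransitive_iff.mpr this
  | succ k hk ih =>
    intro G α _ _ _ _ hcard hk1 N hNn hN
    have h2 : IsMultiplyPretransitive G α 2 :=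
      isMultiplyPretransitive_of_le (n := k + 1) (by omega) (by omega)
    have hprim := isPreprimitive_of_is_two_pretransitive h2
    have hNtr : IsPretransitive N α := pretransitive_of_normal_ne_bot hprim N hN
    have hGtr : IsPretransitive G α := isPretransitive_of_is_two_pretransitive
    have h3 : IsMultiplyPretransitive G α 3 :=
      isMultiplyPretransitive_of_le (n := k + 1) (by omega) (by omega)
    have hne : Nonempty α := by
      by_contra hcon
      rw [not_nonempty_iff] at hcon
      rw [Nat.card_of_isEmpty] at hcard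
      omega
    obtain ⟨a⟩ := hne
    have hcard3 := exists_ne_three (α := α) (by omega)
    have htrN : ∀ a b : α, ∃ n ∈ N, n • a = b := by
      intro a b
      obtain ⟨n, hn⟩ := hNtr.exists_smul_eq a b
      exact ⟨n.1, n.2, hn⟩
    by_cases hreg : ∀ a : α, ∀ n ∈ N, n • a = a → n = 1
    · have hsq := sq_eq_one_of_semiregular_normal h3 hcard3 a N hreg
      by_cases hk3 : k + 1 = 3
      · right; exact ⟨hk3, hsq⟩
      · exfalso
        have h4 : IsMultiplyPretransitive G α 4 :=
          isMultiplyPretransitive_of_le (n := k + 1) (by omega) (by omega)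
        exact false_of_regular_normal_four h4 (exists_ne_four (α := α) (by omega)) a N hreg htrN
    · push Not at hreg
      obtain ⟨a0, n0, hn0, hfix0, hne0⟩ := hreg
      have hall : ∀ a : α, ∃ n ∈ N, n • a = a ∧ n ≠ 1 := by
        intro a
        obtain ⟨g, hg⟩ := hGtr.exists_smul_eq a0 a
        refine ⟨g * n0 * g⁻¹, hNn.conj_mem n0 hn0 g, ?_, ?_⟩
        · rw [mul_smul, mul_smul, ← hg, inv_smul_smul, hfix0]
        · intro h
          apply hne0
          have : g⁻¹ * (g * n0 * g⁻¹) * g = g⁻¹ * 1 * g := by rw [h]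
          simpa [mul_assoc] using this
      -- the induction hypothesis at each point
      have key : ∀ a : α,
          IsMultiplyPretransitive (stabilizer N a) (SubMulAction.ofStabilizer N a) (k - 1) ∨
          (k = 3 ∧ (∀ n ∈ N, n • a = a → n ^ 2 = 1) ∧
            ∀ b c : α, b ≠ a → c ≠ a → ∃ n ∈ N, n • a = a ∧ n • b = c) := by
        intro a
        have hcard' : k < Nat.card (SubMulAction.ofStabilizer G a) := by
          have := SubMulAction.nat_card_ofStabilizer_add_one_eq (G := G) a
          omega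
        have hk' : IsMultiplyPretransitive (stabilizer G a) (SubMulAction.ofStabilizer G a) k :=
          (SubMulAction.ofStabilizer.isMultiplyPretransitive (G := G) (a := a)).mp hk1
        have hN'n : (N.subgroupOf (stabilizer G a)).Normal := inferInstance
        obtain ⟨n1, hn1, hfix1, hne1⟩ := hall a
        have hN' : N.subgroupOf (stabilizer G a) ≠ ⊥ := by
          intro h
          have hmem : (⟨n1, hfix1⟩ : stabilizer G a) ∈ N.subgroupOf (stabilizer G a) := by
            rw [Subgroup.mem_subgroupOf]; exact hn1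
          rw [h, Subgroup.mem_bot] at hmem
          exact hne1 (congrArg Subtype.val hmem)
        rcases ih (stabilizer G a) (SubMulAction.ofStabilizer G a) hcard' hk'
          (N.subgroupOf (stabilizer G a)) hN'n hN' with h | ⟨hk3, hsq⟩
        · left
          exact transfer_stabilizer N a (k - 1) h
        · right
          refine ⟨hk3, ?_, ?_⟩
          · intro n hn hna
            have hmem : (⟨n, hna⟩ : stabilizer G a) ∈ N.subgroupOf (stabilizer G a) := by
              rw [Subgroup.mem_subgroupOf]; exact hn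
            have := hsq _ hmem
            exact congrArg Subtype.val this
          · have h2' : IsMultiplyPretransitive (stabilizer G a) (SubMulAction.ofStabilizer G a) 2 :=
              isMultiplyPretransitive_of_le (n := k) (by omega) (by omega)
            have hprim' := isPreprimitive_of_is_two_pretransitive h2'
            have htr' := pretransitive_of_normal_ne_bot hprim' (N.subgroupOf (stabilizer G a)) hN'
            intro b c hb hc
            obtain ⟨n, hn⟩ := htr'.exists_smul_eq ⟨b, hb⟩ ⟨c, hc⟩
            exact ⟨n.1.1, n.2, n.1.2, congrArg Subtype.val hn⟩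
      by_cases hex : ∃ a : α,
          IsMultiplyPretransitive (stabilizer N a) (SubMulAction.ofStabilizer N a) (k - 1)
      · left
        obtain ⟨a, ha⟩ := hex
        have := (SubMulAction.ofStabilizer.isMultiplyPretransitive (G := N) (α := α)
          (n := k - 1) (a := a)).mpr ha
        have e : (k - 1).succ = k + 1 - 1 := by omega
        rw [e] at this
        exact this
      · exfalso
        push Not at hex
        have hk3 : k = 3 := by
          rcases key a with h | ⟨h, -⟩
          · exact absurd h (hex a)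
          · exact h
        refine false_of_stabilizers_exp_two N ?_ ?_ hcard3 a
        · intro a n hn hna
          rcases key a with h | ⟨-, h, -⟩
          · exact absurd h (hex a)
          · exact h n hn hna
        · intro a b c hb hc
          rcases key a with h | ⟨-, -, h⟩
          · exact absurd h (hex a)
          · exact h b c hb hc

end Cfsg.Agent.Lib.Helper63
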