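import Mathlib
import Cfsg.Agent.Lib.Helper63.JordanNormal

set_option autoImplicit false

namespace Cfsg.Agent.Lib.Helper63

open MulAction Subgroup

section Regular2

variable {G : Type*} [Group G] [Finite G] {α : Type*} [MulAction G α]

/-- a semiregular nontrivial normal subgroup of a 2-transitive group is an elementary abelian
`p`-group -/
theorem elementary_abelian_of_semiregular_normal (h2 : IsMultiplyPretransitive G α 2)
    (N : Subgroup G) [hNn : N.Normal] (hN : N ≠ ⊥) (a : α)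
    (hsr : ∀ a : α, ∀ n ∈ N, n • a = a → n = 1) :
    (∀ x ∈ N, ∀ y ∈ N, x * y = y * x) ∧ ∃ p : ℕ, p.Prime ∧ ∀ n ∈ N, n ^ p = 1 := by
  classical
  -- nonidentity elements are conjugate
  have hconj : ∀ x ∈ N, ∀ y ∈ N, x ≠ 1 → y ≠ 1 → ∃ g : G, g * x * g⁻¹ = y := by
    intro x hx y hy hx1 hy1
    have hxa : a ≠ x • a := fun h => hx1 (hsr a x hx h.symm)
    have hya : a ≠ y • a := fun h => hy1 (hsr a y hy h.symm)
    obtain ⟨g, hga, hgx⟩ := exists_smul_pair h2 hxa hya
    refine ⟨g, ?_⟩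
    have hga' : g⁻¹ • a = a := by rw [inv_smul_eq_iff, hga]
    have hz : (g * x * g⁻¹) • a = y • a := by
      rw [mul_smul, mul_smul, hga', hgx]
    have hmem : g * x * g⁻¹ ∈ N := hNn.conj_mem x hx g
    have : y⁻¹ * (g * x * g⁻¹) = 1 := by
      apply hsr a _ (N.mul_mem (N.inv_mem hy) hmem)
      rw [mul_smul, hz, inv_smul_smul]
    have e : g * x * g⁻¹ = y * (y⁻¹ * (g * x * g⁻¹)) := by group
    rw [e, this, mul_one]
  have hNnt : Nontrivial N := by
    rw [Subgroup.nontrivial_iff_ne_bot]; exact hN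
  obtain ⟨p, hp, hpd⟩ : ∃ p : ℕ, p.Prime ∧ p ∣ Nat.card N := by
    have h1 : Nat.card N ≠ 1 := by
      intro h
      rw [Subgroup.card_eq_one] at h
      exact hN h
    exact ⟨(Nat.card N).minFac, Nat.minFac_prime h1, Nat.minFac_dvd _⟩
  have : Fact p.Prime := ⟨hp⟩
  obtain ⟨x0, hx0⟩ := exists_prime_orderOf_dvd_card' (G := N) p hpd
  have hx01 : (x0 : G) ≠ 1 := by
    intro h
    have : x0 = 1 := Subtype.ext h
    rw [this, orderOf_one] at hx0
    exact hp.one_lt.ne hx0
  have hx0ord : orderOf (x0 : G) = p := by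
    rw [Subgroup.orderOf_coe]; exact hx0
  have hpow : ∀ n ∈ N, n ^ p = 1 := by
    intro n hn
    by_cases hn1 : n = 1
    · rw [hn1, one_pow]
    · obtain ⟨g, hg⟩ := hconj x0.1 x0.2 n hn hx01 hn1
      rw [← hg]
      have : (g * (x0 : G) * g⁻¹) ^ p = g * (x0 : G) ^ p * g⁻¹ := conj_pow
      rw [this, ← hx0ord, pow_orderOf_eq_one]
      group
  refine ⟨?_, p, hp, hpow⟩
  have hpgroup : IsPGroup p N := by
    intro t
    refine ⟨1, ?_⟩
    rw [pow_one]
    apply Subtype.ext
    rw [Subgroup.coe_pow, Subgroup.coe_one]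
    exact hpow t.1 t.2
  have hcnt := hpgroup.center_nontrivial
  obtain ⟨z, hz1⟩ := exists_ne (1 : Subgroup.center N)
  have hzc : ∀ m ∈ N, ((z : N) : G) * m = m * ((z : N) : G) := by
    intro m hm
    have := (Subgroup.mem_center_iff.mp z.2) ⟨m, hm⟩
    exact (congrArg Subtype.val this).symm
  have hz1' : ((z : N) : G) ≠ 1 := by
    intro h
    apply hz1
    apply Subtype.ext
    apply Subtype.ext
    exact h
  intro x hx y hy
  by_cases hx1 : x = 1
  · rw [hx1, one_mul, mul_one]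
  · obtain ⟨g, hg⟩ := hconj _ (z : N).2 x hx hz1' hx1
    have hy' : g⁻¹ * y * g ∈ N := by
      have := hNn.conj_mem y hy g⁻¹
      simpa using this
    have hc := hzc _ hy'
    rw [← hg]
    calc g * ((z : N) : G) * g⁻¹ * y = g * (((z : N) : G) * (g⁻¹ * y * g)) * g⁻¹ := by group
      _ = g * ((g⁻¹ * y * g) * ((z : N) : G)) * g⁻¹ := by rw [hc]
      _ = y * (g * ((z : N) : G) * g⁻¹) := by group

end Regular2

end Cfsg.Agent.Lib.Helper63
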