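import Mathlib
import Cfsg.Prelude.Def_HallClasses
import Cfsg.Agent.Lib.Helper06.HallSym.Defs

/-!
# K-S2536-N3 (keystone 253603, architect helper6): arithmetic of the imprimitive case.
-/

set_option autoImplicit false
open Cfsg

namespace Cfsg.Agent.Lib.Helper63.HallSym
open Cfsg.Agent.Lib.Helper06.HallSym

/-- **K-N3.** Arithmetic of the imprimitive case. -/
theorem impr_arith
    (hnt2 : ∀ a b : ℕ, 1 ≤ a → a ≤ b → (∀ p : ℕ, p.Prime → p ≤ b → ¬ p ∣ Nat.choose (a + b) a) →
      (a = 1 ∧ (b + 1).Prime) ∨ (a = 3 ∧ b = 4))
    (π : Set ℕ) (a b : ℕ) (ha : 2 ≤ a) (hb : 2 ≤ b) (hC : Cls π (a * b - a))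
    (hn : ∀ p : ℕ, p.Prime → p ∣ a * b → p ∈ π)
    (hch : ∀ p : ℕ, p.Prime → p ∈ π → ¬ p ∣ Nat.choose (a * b - 1) (a - 1))
    (hle : ∀ p : ℕ, p.Prime → p ∈ π → p ≤ a * b → p ≤ a) : Cls π (a * b) := by
  by_cases hT : Triv π (a * b)
  · exact Or.inl hT
  unfold Triv at hT
  push Not at hT
  obtain ⟨⟨r, s, hr, hs, hrn, hsn, hrπ, hsπ, hrs⟩, -⟩ := hT
  have hra : r ≤ a := hle r hr hrπ hrn
  have hsa : s ≤ a := hle s hs hsπ hsn
  have h2ab : a * 2 ≤ a * b := Nat.mul_le_mul_left a hb
  have hac : a ≤ a * b - a := by omega
  have hcab : a * b - a ≤ a * b := Nat.sub_le _ _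
  have hcmul : a * b - a = a * (b - 1) := (Nat.mul_sub_one a b).symm
  rcases hC with hC | hC | hC
  · rcases hC with h | h
    · exact absurd (h r s hr hs (hra.trans hac) (hsa.trans hac) hrπ hsπ) hrs
    · by_cases hb3 : 3 ≤ b
      · exfalso
        have h3ab : a * 3 ≤ a * b := Nat.mul_le_mul_left a hb3
        obtain ⟨p, hp, hap, hp2⟩ := Nat.exists_prime_lt_and_le_two_mul a (by omega)
        have hpc : p ≤ a * b - a := by omega
        have hpπ : p ∈ π := h p hp hpc
        have := hle p hp hpπ (hpc.trans hcab)
        omega
      · have hb2 : b = 2 := by omega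
        subst hb2
        have hca : a * 2 - a = a := by omega
        rw [hca] at h
        have hnt := hnt2 (a - 1) a (by omega) (by omega) (by
          intro p hp hpa
          have h1 := hch p hp (h p hp hpa)
          have h2 : a - 1 + a = a * 2 - 1 := by omega
          rw [h2]
          exact h1)
        rcases hnt with ⟨h1, -⟩ | ⟨h1, h2⟩
        · exfalso
          have ha2 : a = 2 := by omega
          have hr2 : r = 2 := le_antisymm (by omega) hr.two_le
          have hs2 : s = 2 := le_antisymm (by omega) hs.two_le
          exact hrs (hr2.trans hs2.symm)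
        · subst h2
          refine Or.inr (Or.inr ⟨Or.inr rfl, fun t ht ht8 => ?_⟩)
          have ht8' : t ≤ 8 := ht8
          interval_cases t
          · exact absurd ht (by norm_num)
          · exact absurd ht (by norm_num)
          · exact ⟨fun _ => Or.inl rfl, fun _ => h 2 Nat.prime_two (by norm_num)⟩
          · exact ⟨fun _ => Or.inr rfl, fun _ => h 3 Nat.prime_three (by norm_num)⟩
          · exact absurd ht (by norm_num)
          · refine ⟨fun h5 => ?_, fun h5 => ?_⟩
            · have := hle 5 ht h5 (by norm_num)
              omega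
            · omega
          · exact absurd ht (by norm_num)
          · refine ⟨fun h7 => ?_, fun h7 => ?_⟩
            · have := hle 7 ht h7 (by norm_num)
              omega
            · omega
          · exact absurd ht (by norm_num)
  · exfalso
    obtain ⟨hcp, hA⟩ := hC
    have hadvd : a ∣ a * b - a := by rw [hcmul]; exact dvd_mul_right _ _
    have hac' : a = a * b - a := by
      rcases (Nat.dvd_prime hcp).1 hadvd with h | h
      · omega
      · exact h
    have hap : a.Prime := by rw [hac']; exact hcp
    have haπ : a ∈ π := hn a hap (dvd_mul_right _ _)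
    have := (hA a hap hac).1 haπ
    omega
  · exfalso
    obtain ⟨hc78, hB⟩ := hC
    have hadvd : a ∣ a * b - a := by rw [hcmul]; exact dvd_mul_right _ _
    rcases hc78 with hc | hc
    · rw [hc] at hadvd hB
      have ha7 : a = 7 := by
        rcases (Nat.dvd_prime (by norm_num : Nat.Prime 7)).1 hadvd with h | h
        · omega
        · exact h
      subst ha7
      have h7π : 7 ∈ π := hn 7 (by norm_num) (dvd_mul_right _ _)
      have := (hB 7 (by norm_num) le_rfl).1 h7π
      omega
    · rw [hc] at hB
      have ha8 : a ≤ 8 := by omega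
      have h3π : 3 ∈ π := (hB 3 Nat.prime_three (by norm_num)).2 (Or.inr rfl)
      interval_cases a
      · -- a = 2, b = 5
        have hb5 : b = 5 := by omega
        subst hb5
        have h5π : 5 ∈ π := hn 5 (by norm_num) (by norm_num)
        have := (hB 5 (by norm_num) (by norm_num)).1 h5π
        omega
      · omega
      · -- a = 4, b = 3
        have hb3 : b = 3 := by omega
        subst hb3
        exact hch 3 Nat.prime_three h3π (by decide)
      · omega
      · omega
      · omega
      · -- a = 8, b = 2
        have hb2 : b = 2 := by omega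
        subst hb2
        exact hch 3 Nat.prime_three h3π (by decide)

end Cfsg.Agent.Lib.Helper63.HallSym
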