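import Mathlib
import Cfsg.Prelude.Def_GeometricClasses
import Cfsg.Agent.Lib.Helper61.AschDefs

set_option autoImplicit false

/-!
# K-S5630-B6: a subgroup of a Kronecker subgroup `GL_a ⊗ GL_b`, `a, b ≥ 2`, lies in a geometric class
-/

namespace Cfsg.Agent.Lib.Helper63.Asch

open Cfsg Cfsg.Geo Cfsg.Agent.Lib.Helper61.Asch
open scoped Matrix Kronecker MatrixGroups

section General

variable {ι κ : Type} [Fintype ι] [DecidableEq ι] [Fintype κ] [DecidableEq κ] {F : Type*} [Field F]

theorem coe_glReindex (e : κ ≃ ι) (k : GL κ F) :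
    ((glReindex e k : GL ι F) : Matrix ι ι F) = (k : Matrix κ κ F).submatrix e.symm e.symm := rfl

theorem mem_tensorProductSubgroup {n₁ n₂ : ℕ} (e : ι ≃ Fin n₁ × Fin n₂) (P g : GL ι F) :
    g ∈ tensorProductSubgroup n₁ n₂ e P ↔
      ∃ k ∈ kroneckerSubgroup n₁ n₂ F, g = P * glReindex e.symm k * P⁻¹ := by
  unfold tensorProductSubgroup
  constructor
  · rintro ⟨x, ⟨k, hk, rfl⟩, rfl⟩
    exact ⟨k, hk, rfl⟩
  · rintro ⟨k, hk, rfl⟩
    exact ⟨_, ⟨k, hk, rfl⟩, rfl⟩

theorem mem_tensorWreathSubgroup {m t : ℕ} (e : ι ≃ (Fin t → Fin m)) (P g : GL ι F) :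
    g ∈ tensorWreathSubgroup m t e P ↔
      ∃ k ∈ tensorWreathStandard m t F, g = P * glReindex e.symm k * P⁻¹ := by
  unfold tensorWreathSubgroup
  constructor
  · rintro ⟨x, ⟨k, hk, rfl⟩, rfl⟩
    exact ⟨k, hk, rfl⟩
  · rintro ⟨k, hk, rfl⟩
    exact ⟨_, ⟨k, hk, rfl⟩, rfl⟩

/-- swapping the two tensor factors. -/
theorem tensorProductSubgroup_le_swap {n₁ n₂ : ℕ} (e : ι ≃ Fin n₁ × Fin n₂) (P : GL ι F) :
    tensorProductSubgroup n₁ n₂ e P ≤
      tensorProductSubgroup n₂ n₁ (e.trans (Equiv.prodComm _ _)) P := by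
  intro g hg
  rw [mem_tensorProductSubgroup] at hg ⊢
  obtain ⟨k, ⟨A, B, hk⟩, rfl⟩ := hg
  refine ⟨glReindex (Equiv.prodComm _ _) k, ⟨B, A, ?_⟩, ?_⟩
  · rw [coe_glReindex, hk]
    ext ⟨i, j⟩ ⟨i', j'⟩
    simp [Matrix.kroneckerMap_apply, mul_comm]
  · rfl

/-- two equal factors: the Kronecker subgroup lies in the tensor wreath subgroup. -/
theorem tensorProductSubgroup_le_tensorWreathSubgroup {m : ℕ} (e : ι ≃ Fin m × Fin m) (P : GL ι F) :
    tensorProductSubgroup m m e P ≤
      tensorWreathSubgroup m 2 (e.trans (finTwoArrowEquiv (Fin m)).symm) P := by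
  intro g hg
  rw [mem_tensorProductSubgroup] at hg
  rw [mem_tensorWreathSubgroup]
  obtain ⟨k, ⟨A, B, hk⟩, rfl⟩ := hg
  refine ⟨glReindex (finTwoArrowEquiv (Fin m)).symm k, ?_, ?_⟩
  · apply Subgroup.subset_closure
    left
    refine ⟨![A, B], fun x y => ?_⟩
    rw [coe_glReindex, hk, Fin.prod_univ_two]
    simp [Matrix.kroneckerMap_apply]
  · rfl

end General

section Det

variable {ι : Type} [Fintype ι] [DecidableEq ι] {F : Type*} [Field F]

/-- the determinant form on `F^(2×2)`. -/
def detQ (X : Fin 2 × Fin 2 → F) : F := X (0, 0) * X (1, 1) - X (0, 1) * X (1, 0)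

/-- the polar form of the determinant form. -/
def detB (X Y : Fin 2 × Fin 2 → F) : F :=
  X (0, 0) * Y (1, 1) + X (1, 1) * Y (0, 0) - X (0, 1) * Y (1, 0) - X (1, 0) * Y (0, 1)

theorem detQ_kronecker (A B : Matrix (Fin 2) (Fin 2) F) (X : Fin 2 × Fin 2 → F) :
    detQ ((A ⊗ₖ B) *ᵥ X) = A.det * B.det * detQ X := by
  simp only [detQ, Matrix.mulVec, dotProduct, Fintype.sum_prod_type, Fin.sum_univ_two,
    Matrix.kroneckerMap_apply, Matrix.det_fin_two]
  ring

theorem detB_symm (X Y : Fin 2 × Fin 2 → F) : detB X Y = detB Y X := by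
  simp only [detB]; ring

theorem detQ_add (X Y : Fin 2 × Fin 2 → F) : detQ (X + Y) = detQ X + detQ Y + detB X Y := by
  simp only [detQ, detB, Pi.add_apply]; ring

theorem detQ_smul (c : F) (X : Fin 2 × Fin 2 → F) : detQ (c • X) = c ^ 2 * detQ X := by
  simp only [detQ, Pi.smul_apply, smul_eq_mul]; ring

theorem detB_add_left (X Y W : Fin 2 × Fin 2 → F) : detB (X + Y) W = detB X W + detB Y W := by
  simp only [detB, Pi.add_apply]; ring

theorem detB_smul_left (c : F) (X W : Fin 2 × Fin 2 → F) : detB (c • X) W = c * detB X W := by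
  simp only [detB, Pi.smul_apply, smul_eq_mul]; ring

theorem detB_self (X : Fin 2 × Fin 2 → F) : detB X X = 2 * detQ X := by
  simp only [detB, detQ]; ring

theorem exists_detB_ne_zero (Y : Fin 2 × Fin 2 → F) (hY : Y ≠ 0) : ∃ X, detB X Y ≠ 0 := by
  classical
  obtain ⟨⟨i, j⟩, hij⟩ : ∃ x, Y x ≠ 0 := by
    by_contra h
    push Not at h
    exact hY (funext h)
  fin_cases i <;> fin_cases j
  · refine ⟨Pi.single (1, 1) 1, ?_⟩
    simpa [detB, Pi.single_apply] using hij
  · refine ⟨Pi.single (1, 0) 1, ?_⟩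
    simpa [detB, Pi.single_apply] using hij
  · refine ⟨Pi.single (0, 1) 1, ?_⟩
    simpa [detB, Pi.single_apply] using hij
  · refine ⟨Pi.single (0, 0) 1, ?_⟩
    simpa [detB, Pi.single_apply] using hij

/-- the coordinates of a vector with respect to `e`, `P`. -/
def coord (e : ι ≃ Fin 2 × Fin 2) (P : GL ι F) (v : ι → F) : Fin 2 × Fin 2 → F :=
  fun x => (((P⁻¹ : GL ι F) : Matrix ι ι F) *ᵥ v) (e.symm x)

theorem coord_add (e : ι ≃ Fin 2 × Fin 2) (P : GL ι F) (u v : ι → F) :
    coord e P (u + v) = coord e P u + coord e P v := by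
  ext x
  simp [coord, Matrix.mulVec_add]

theorem coord_smul (e : ι ≃ Fin 2 × Fin 2) (P : GL ι F) (c : F) (v : ι → F) :
    coord e P (c • v) = c • coord e P v := by
  ext x
  simp [coord, Matrix.mulVec_smul]

theorem coord_surjective (e : ι ≃ Fin 2 × Fin 2) (P : GL ι F) (X : Fin 2 × Fin 2 → F) :
    ∃ v : ι → F, coord e P v = X := by
  refine ⟨(P : Matrix ι ι F) *ᵥ (X ∘ e), ?_⟩
  ext x
  simp only [coord, Matrix.mulVec_mulVec]
  rw [← Units.val_mul, inv_mul_cancel, Units.val_one, Matrix.one_mulVec]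
  simp

theorem coord_eq_zero (e : ι ≃ Fin 2 × Fin 2) (P : GL ι F) (v : ι → F)
    (h : coord e P v = 0) : v = 0 := by
  have h1 : ((P⁻¹ : GL ι F) : Matrix ι ι F) *ᵥ v = 0 := by
    ext i
    have := congrFun h (e i)
    simpa [coord] using this
  have h2 := congrArg (fun w => (P : Matrix ι ι F) *ᵥ w) h1
  simp only [Matrix.mulVec_mulVec, Matrix.mulVec_zero] at h2
  rwa [← Units.val_mul, mul_inv_cancel, Units.val_one, Matrix.one_mulVec] at h2

theorem coord_mulVec (e : ι ≃ Fin 2 × Fin 2) (P : GL ι F) (k : GL (Fin 2 × Fin 2) F) (v : ι → F) :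
    coord e P (((P * glReindex e.symm k * P⁻¹ : GL ι F) : Matrix ι ι F) *ᵥ v)
      = (k : Matrix (Fin 2 × Fin 2) (Fin 2 × Fin 2) F) *ᵥ coord e P v := by
  ext x
  simp only [coord, Matrix.mulVec_mulVec]
  have h1 : ((P⁻¹ : GL ι F) : Matrix ι ι F) * ((P * glReindex e.symm k * P⁻¹ : GL ι F) : Matrix ι ι F)
      = ((glReindex e.symm k : GL ι F) : Matrix ι ι F) * ((P⁻¹ : GL ι F) : Matrix ι ι F) := by
    rw [← Units.val_mul, ← Units.val_mul]
    congr 1
    group
  rw [h1, ← Matrix.mulVec_mulVec, coe_glReindex]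
  simp only [Equiv.symm_symm]
  rw [Matrix.submatrix_mulVec_equiv]
  simp only [Function.comp_apply, Equiv.apply_symm_apply]
  rfl

/-- the determinant form in the coordinates `e`, `P`. -/
def detForm (e : ι ≃ Fin 2 × Fin 2) (P : GL ι F) (v : ι → F) : F := detQ (coord e P v)

theorem polar_detForm (e : ι ≃ Fin 2 × Fin 2) (P : GL ι F) (u v : ι → F) :
    QuadraticMap.polar (detForm e P) u v = detB (coord e P u) (coord e P v) := by
  simp only [QuadraticMap.polar, detForm, coord_add, detQ_add]
  ring

theorem isBilinearForm_polar_detForm (e : ι ≃ Fin 2 × Fin 2) (P : GL ι F) :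
    IsBilinearForm (QuadraticMap.polar (detForm e P)) where
  add_left x y v := by
    simp only [polar_detForm, coord_add, detB_add_left]
  smul_left c x v := by
    simp only [polar_detForm, coord_smul, detB_smul_left]
  add_right v x y := by
    simp only [polar_detForm, coord_add]
    rw [detB_symm, detB_add_left, detB_symm, detB_symm _ (coord e P v)]
  smul_right c v x := by
    simp only [polar_detForm, coord_smul]
    rw [detB_symm, detB_smul_left, detB_symm]

theorem isNondegenerateForm_polar_detForm (e : ι ≃ Fin 2 × Fin 2) (P : GL ι F) :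
    IsNondegenerateForm (QuadraticMap.polar (detForm e P)) := by
  intro v hv
  have hc : coord e P v ≠ 0 := fun h => hv (coord_eq_zero e P v h)
  obtain ⟨X, hX⟩ := exists_detB_ne_zero (coord e P v) hc
  obtain ⟨u, hu⟩ := coord_surjective e P X
  refine ⟨⟨u, ?_⟩, ⟨u, ?_⟩⟩
  · rw [polar_detForm, hu]; exact hX
  · rw [polar_detForm, hu, detB_symm]; exact hX

theorem isNondegenerateQuadraticForm_detForm (e : ι ≃ Fin 2 × Fin 2) (P : GL ι F) :
    IsNondegenerateQuadraticForm (detForm e P) where
  smul c v := by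
    simp only [detForm, coord_smul, detQ_smul]
  polar_bilinear := isBilinearForm_polar_detForm e P
  nondegenerate := isNondegenerateForm_polar_detForm e P

theorem isSymplecticForm_polar_detForm (e : ι ≃ Fin 2 × Fin 2) (P : GL ι F) (h2 : (2 : F) = 0) :
    IsSymplecticForm (QuadraticMap.polar (detForm e P)) where
  bilinear := isBilinearForm_polar_detForm e P
  skew v w := by
    have hneg : ∀ x : F, -x = x := by
      intro x
      have : x + x = 0 := by rw [← two_mul, h2, zero_mul]
      exact neg_eq_of_add_eq_zero_left this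
    rw [hneg, polar_detForm, polar_detForm, detB_symm]
  alternating v := by
    rw [polar_detForm, detB_self, h2, zero_mul]
  nondegenerate := isNondegenerateForm_polar_detForm e P

theorem tensorProductSubgroup_le_quadSimilarityGroup (e : ι ≃ Fin 2 × Fin 2) (P : GL ι F) :
    tensorProductSubgroup 2 2 e P ≤ quadSimilarityGroup (detForm e P) := by
  intro g hg
  rw [mem_tensorProductSubgroup] at hg
  obtain ⟨k, ⟨A, B, hk⟩, rfl⟩ := hg
  refine ⟨Matrix.GeneralLinearGroup.det A * Matrix.GeneralLinearGroup.det B, fun v => ?_⟩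
  simp only [detForm]
  rw [coord_mulVec, hk, detQ_kronecker]
  simp

theorem quadSimilarityGroup_le_similarityGroup_polar (Q : (ι → F) → F) :
    quadSimilarityGroup Q ≤ similarityGroup (QuadraticMap.polar Q) := by
  rintro g ⟨c, hc⟩
  refine ⟨c, fun u v => ?_⟩
  simp only [QuadraticMap.polar]
  rw [← Matrix.mulVec_add, hc, hc, hc]
  ring

end Det

variable {F : Type*} [Field F] [Fintype F] {n : ℕ}

/-- K-S5630-B6. -/
theorem geom_of_le_tensorProductSubgroup (K : Subgroup (GL (Fin n) F)) (a b : ℕ)
    (e : Fin n ≃ Fin a × Fin b) (P : GL (Fin n) F) (ha : 2 ≤ a) (hb : 2 ≤ b)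
    (hK : K ≤ tensorProductSubgroup a b e P) : Geom K := by
  rcases lt_trichotomy a b with hab | hab | hab
  · refine ⟨tensorProductSubgroup a b e P, ?_, hK⟩
    unfold InLinearClass
    right; right; right; right; right; left
    exact ⟨a, b, e, P, ha, hab, rfl⟩
  · subst hab
    rcases Nat.lt_or_ge a 3 with h3 | h3
    · have ha2 : a = 2 := by omega
      subst ha2
      have hn : n = 4 := by
        have := Fintype.card_congr e
        simpa using this
      by_cases hodd : Odd (Fintype.card F)
      · refine ⟨quadSimilarityGroup (detForm e P), ?_,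
          hK.trans (tensorProductSubgroup_le_quadSimilarityGroup e P)⟩
        unfold InLinearClass
        right; right; right; right; right; right; right; right; right; right; right
        exact ⟨detForm e P, isNondegenerateQuadraticForm_detForm e P, hodd, by omega, rfl⟩
      · have h2 : (2 : F) = 0 := by
          have hev : Fintype.card F % 2 = 0 := by
            rcases Nat.even_or_odd (Fintype.card F) with h | h
            · exact Nat.even_iff.1 h
            · exact absurd h hodd
          have hchar : ringChar F = 2 := FiniteField.even_card_iff_char_two.2 hev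
          have := ringChar.spec F 2
          have h2' : ((2 : ℕ) : F) = 0 := (ringChar.spec F 2).2 (by rw [hchar])
          exact_mod_cast h2'
        refine ⟨similarityGroup (QuadraticMap.polar (detForm e P)), ?_,
          (hK.trans (tensorProductSubgroup_le_quadSimilarityGroup e P)).trans
            (quadSimilarityGroup_le_similarityGroup_polar _)⟩
        unfold InLinearClass
        right; right; right; right; right; right; right; right; right; left
        refine ⟨_, isSymplecticForm_polar_detForm e P h2, ?_, by omega, rfl⟩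
        rw [hn]; decide
    · refine ⟨tensorWreathSubgroup a 2 (e.trans (finTwoArrowEquiv (Fin a)).symm) P, ?_,
        hK.trans (tensorProductSubgroup_le_tensorWreathSubgroup e P)⟩
      unfold InLinearClass
      right; right; right; right; right; right; right; right; left
      exact ⟨a, 2, _, P, h3, le_refl 2, rfl⟩
  · refine ⟨tensorProductSubgroup b a (e.trans (Equiv.prodComm _ _)) P, ?_,
      hK.trans (tensorProductSubgroup_le_swap e P)⟩
    unfold InLinearClass
    right; right; right; right; right; left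
    exact ⟨b, a, _, P, hb, hab, rfl⟩

end Cfsg.Agent.Lib.Helper63.Asch
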