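import Cfsg.Agent.Lib.Helper63.OhA
import Cfsg.Agent.Lib.Helper45.S2718W1

set_option autoImplicit false

/-! K-Oh-B: a nondegenerate subspace of odd dimension of a symmetric bilinear space over a finite
field of odd characteristic contains nondegenerate subspaces of every smaller even dimension
`≥ 2` of both types. Route: an orthogonal basis, the discriminant criterion of `OhA`, and the
universality of binary forms to change the discriminant class. -/

namespace Cfsg.Agent.Lib.Helper63.Oh

open Module Cfsg.Agent.Lib.Helper98.Elus Cfsg.Agent.Lib.Helper98.Sy Cfsg.Agent.Lib.Helper98.Oh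

universe u
variable {F : Type u} [Field F] {V : Type u} [AddCommGroup V] [Module F V]

theorem orth_sum_apply (B : LinearMap.BilinForm F V) {ι : Type} [Fintype ι] [DecidableEq ι]
    (u : ι → V) (horth : ∀ i j, i ≠ j → B (u i) (u j) = 0) (c : ι → F) (j : ι) :
    B (∑ i, c i • u i) (u j) = c j * B (u j) (u j) := by
  rw [map_sum, LinearMap.sum_apply, Finset.sum_eq_single j]
  · rw [map_smul, LinearMap.smul_apply, smul_eq_mul]
  · intro i _ hij
    rw [map_smul, LinearMap.smul_apply, horth i j hij, smul_zero]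
  · intro h
    exact absurd (Finset.mem_univ j) h

theorem orth_linearIndependent (B : LinearMap.BilinForm F V) {ι : Type} [Fintype ι]
    [DecidableEq ι] (u : ι → V) (horth : ∀ i j, i ≠ j → B (u i) (u j) = 0)
    (hd : ∀ i, B (u i) (u i) ≠ 0) : LinearIndependent F u := by
  rw [Fintype.linearIndependent_iff]
  intro c hc j
  have := orth_sum_apply B u horth c j
  rw [hc, map_zero, LinearMap.zero_apply] at this
  exact (mul_eq_zero.mp this.symm).resolve_right (hd j)

/-- the span of an orthogonal family of non-isotropic vectors: nondegenerate, with the type read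
off from the product of the norms -/
theorem diag_family [Fintype F] (h2 : (2 : F) ≠ 0) [FiniteDimensional F V]
    (B : LinearMap.BilinForm F V) (hS : ∀ a b, B a b = B b a) {ι : Type} [Fintype ι]
    [DecidableEq ι] (k : ℕ) (hcard : Fintype.card ι = 2 * k) (u : ι → V)
    (horth : ∀ i j, i ≠ j → B (u i) (u j) = 0) (hd : ∀ i, B (u i) (u i) ≠ 0) :
    NonDeg B (Submodule.span F (Set.range u)) ∧
      finrank F (Submodule.span F (Set.range u)) = 2 * k ∧
      (Plus B (Submodule.span F (Set.range u)) ↔
        (IsSquare (∏ i, B (u i) (u i)) ↔ IsSquare ((-1 : F) ^ k))) := by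
  have hli := orth_linearIndependent B u horth hd
  have hnd : NonDeg B (Submodule.span F (Set.range u)) := by
    intro w hw hw'
    obtain ⟨c, rfl⟩ := (Submodule.mem_span_range_iff_exists_fun F).mp hw
    have hc : ∀ j, c j = 0 := by
      intro j
      have := hw' (u j) (Submodule.subset_span ⟨j, rfl⟩)
      rw [orth_sum_apply B u horth c j] at this
      exact (mul_eq_zero.mp this).resolve_right (hd j)
    simp [hc]
  have hfr : finrank F (Submodule.span F (Set.range u)) = 2 * k := by
    rw [finrank_span_eq_card hli, hcard]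
  refine ⟨hnd, hfr, ?_⟩
  have hb : ∀ i, ((Basis.span hli i : Submodule.span F (Set.range u)) : V) = u i :=
    fun i => congrArg Subtype.val (Basis.span_apply hli i)
  rw [plus_iff_gram h2 B hS _ hnd k hfr (Basis.span hli)]
  have hG : (Matrix.of fun i j => B ((Basis.span hli i : Submodule.span F (Set.range u)) : V)
      ((Basis.span hli j : Submodule.span F (Set.range u)) : V)) =
      Matrix.diagonal (fun i => B (u i) (u i)) := by
    ext i j
    rw [Matrix.of_apply, hb, hb, Matrix.diagonal_apply]
    split_ifs with hij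
    · rw [hij]
    · exact horth i j hij
  rw [hG, Matrix.det_diagonal]

/-- an orthogonal family extended by one more vector -/
theorem snoc_family [Fintype F] (h2 : (2 : F) ≠ 0) [FiniteDimensional F V]
    (B : LinearMap.BilinForm F V) (hS : ∀ a b, B a b = B b a) (k m : ℕ) (hm : m + 1 = 2 * k)
    (u : Fin m → V) (horth : ∀ i j, i ≠ j → B (u i) (u j) = 0) (hd : ∀ i, B (u i) (u i) ≠ 0)
    (z : V) (hz : ∀ i, B (u i) z = 0) (hzz : B z z ≠ 0) :
    NonDeg B (Submodule.span F (Set.range (Fin.snoc u z : Fin (m + 1) → V))) ∧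
      finrank F (Submodule.span F (Set.range (Fin.snoc u z : Fin (m + 1) → V))) = 2 * k ∧
      (Plus B (Submodule.span F (Set.range (Fin.snoc u z : Fin (m + 1) → V))) ↔
        (IsSquare ((∏ i, B (u i) (u i)) * B z z) ↔ IsSquare ((-1 : F) ^ k))) := by
  have horth' : ∀ i j : Fin (m + 1), i ≠ j →
      B ((Fin.snoc u z : Fin (m + 1) → V) i) ((Fin.snoc u z : Fin (m + 1) → V) j) = 0 := by
    intro i j hij
    rcases Fin.eq_castSucc_or_eq_last i with ⟨i', rfl⟩ | rfl <;>
      rcases Fin.eq_castSucc_or_eq_last j with ⟨j', rfl⟩ | rfl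
    · rw [Fin.snoc_castSucc, Fin.snoc_castSucc]
      exact horth i' j' (fun h => hij (by rw [h]))
    · rw [Fin.snoc_castSucc, Fin.snoc_last]
      exact hz i'
    · rw [Fin.snoc_castSucc, Fin.snoc_last, hS]
      exact hz j'
    · exact absurd rfl hij
  have hd' : ∀ i : Fin (m + 1),
      B ((Fin.snoc u z : Fin (m + 1) → V) i) ((Fin.snoc u z : Fin (m + 1) → V) i) ≠ 0 := by
    intro i
    rcases Fin.eq_castSucc_or_eq_last i with ⟨i', rfl⟩ | rfl
    · rw [Fin.snoc_castSucc]
      exact hd i'
    · rw [Fin.snoc_last]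
      exact hzz
  have hcard : Fintype.card (Fin (m + 1)) = 2 * k := by rw [Fintype.card_fin, hm]
  have h := diag_family h2 B hS k hcard (Fin.snoc u z : Fin (m + 1) → V) horth' hd'
  have hprod : ∏ i, B ((Fin.snoc u z : Fin (m + 1) → V) i) ((Fin.snoc u z : Fin (m + 1) → V) i) =
      (∏ i, B (u i) (u i)) * B z z := by
    rw [Fin.prod_univ_castSucc]
    simp only [Fin.snoc_castSucc, Fin.snoc_last]
  rw [hprod] at h
  exact h

theorem exists_sub_of_odd [Fintype F] (h2 : (2 : F) ≠ 0) [FiniteDimensional F V]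
    (B : LinearMap.BilinForm F V) (hS : ∀ a b, B a b = B b a)
    (C : Submodule F V) (hC : NonDeg B C) (hCd : Odd (finrank F C))
    (e : ℕ) (he : Even e) (he2 : 2 ≤ e) (hlt : e < finrank F C) (t : Prop) :
    ∃ W : Submodule F V, W ≤ C ∧ NonDeg B W ∧ finrank F W = e ∧ (Plus B W ↔ t) := by
  classical
  obtain ⟨k, hk⟩ := he
  obtain ⟨m, rfl⟩ : ∃ m, e = m + 1 := ⟨e - 1, by omega⟩
  have hm : m + 1 = 2 * k := by omega
  have hn : m + 2 ≤ finrank F C := by
    obtain ⟨j, hj⟩ := hCd
    omega
  -- an orthogonal basis of `C`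
  have hinv : Invertible (2 : F) := invertibleOfNonzero h2
  have hsymm : LinearMap.IsSymm (B.restrict C) := by
    refine ⟨fun x y => ?_⟩
    simp only [RingHom.id_apply]
    exact hS _ _
  obtain ⟨v, hv⟩ := LinearMap.BilinForm.exists_orthogonal_basis (B := B.restrict C) hsymm
  have horthv : ∀ i j, i ≠ j → B (v i : V) (v j : V) = 0 := by
    intro i j hij
    have := hv hij
    exact this
  have hav : ∀ i, B (v i : V) (v i : V) ≠ 0 := by
    intro i hi
    apply v.ne_zero i
    apply Subtype.ext
    apply hC (v i : V) (v i).2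
    intro w hw
    have hw' : (⟨w, hw⟩ : C) = ∑ j, v.repr ⟨w, hw⟩ j • v j := (v.sum_repr ⟨w, hw⟩).symm
    have hw'' : w = ∑ j, v.repr ⟨w, hw⟩ j • (v j : V) := by
      have := congrArg (fun z : C => (z : V)) hw'
      simp only [Submodule.coe_sum, Submodule.coe_smul] at this
      exact this
    rw [hw'', map_sum]
    apply Finset.sum_eq_zero
    intro j _
    rw [map_smul, smul_eq_mul]
    by_cases hij : i = j
    · rw [← hij, hi, mul_zero]
    · rw [horthv i j hij, mul_zero]
  -- the first `m` vectors, and the two next ones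
  let idx : Fin m → Fin (finrank F C) := fun i => ⟨i.val, by omega⟩
  let u : Fin m → V := fun i => (v (idx i) : V)
  let il : Fin (finrank F C) := ⟨m, by omega⟩
  let inx : Fin (finrank F C) := ⟨m + 1, by omega⟩
  have hidx : ∀ i j : Fin m, i ≠ j → idx i ≠ idx j := by
    intro i j hij h
    apply hij
    apply Fin.ext
    have := congrArg Fin.val h
    exact this
  have hidxl : ∀ i : Fin m, idx i ≠ il := by
    intro i h
    have := congrArg Fin.val h
    have h' : i.val = m := this
    omega
  have hidxn : ∀ i : Fin m, idx i ≠ inx := by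
    intro i h
    have := congrArg Fin.val h
    have h' : i.val = m + 1 := this
    omega
  have hln : il ≠ inx := by
    intro h
    have := congrArg Fin.val h
    have h' : m = m + 1 := this
    omega
  have horthu : ∀ i j, i ≠ j → B (u i) (u j) = 0 := fun i j hij => horthv _ _ (hidx i j hij)
  have hdu : ∀ i, B (u i) (u i) ≠ 0 := fun i => hav _
  have huC : ∀ i, u i ∈ C := fun i => (v (idx i)).2
  -- the nonsquare and the modified last vector
  have hchar : ringChar F ≠ 2 := by
    intro h
    apply h2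
    have := ringChar.Nat.cast_ringChar (R := F)
    rw [h] at this
    exact_mod_cast this
  obtain ⟨ζ, hζ⟩ := FiniteField.exists_nonsquare hchar
  have hζ0 : ζ ≠ 0 := fun h => hζ (h ▸ ⟨0, by ring⟩)
  set al := B (v il : V) (v il : V) with hal
  set an := B (v inx : V) (v inx : V) with han
  obtain ⟨x, y, hxy⟩ := Cfsg.Agent.Lib.Helper45.S2718K.binary h2 al an (ζ * al) (hav il) (hav inx)
  set z0 : V := (v il : V) with hz0
  set z1 : V := x • (v il : V) + y • (v inx : V) with hz1
  have hz0u : ∀ i, B (u i) z0 = 0 := fun i => horthv _ _ (hidxl i)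
  have hz1u : ∀ i, B (u i) z1 = 0 := by
    intro i
    rw [hz1, map_add, map_smul, map_smul, horthv _ _ (hidxl i), horthv _ _ (hidxn i)]
    simp
  have hz0z : B z0 z0 = al := rfl
  have hz1z : B z1 z1 = ζ * al := by
    rw [hz1]
    simp only [map_add, map_smul, LinearMap.add_apply, LinearMap.smul_apply, smul_eq_mul]
    rw [horthv il inx hln, horthv inx il hln.symm, ← hal, ← han]
    linear_combination hxy
  have hz1z0 : B z1 z1 ≠ 0 := by
    rw [hz1z]
    exact mul_ne_zero hζ0 (hav il)
  obtain ⟨hnd0, hfr0, hp0⟩ := snoc_family h2 B hS k m hm u horthu hdu z0 hz0u (hav il)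
  obtain ⟨hnd1, hfr1, hp1⟩ := snoc_family h2 B hS k m hm u horthu hdu z1 hz1u hz1z0
  have hle0 : Submodule.span F (Set.range (Fin.snoc u z0 : Fin (m + 1) → V)) ≤ C := by
    rw [Submodule.span_le]
    rintro _ ⟨i, rfl⟩
    rcases Fin.eq_castSucc_or_eq_last i with ⟨i', rfl⟩ | rfl
    · rw [Fin.snoc_castSucc]
      exact huC i'
    · rw [Fin.snoc_last]
      exact (v il).2
  have hle1 : Submodule.span F (Set.range (Fin.snoc u z1 : Fin (m + 1) → V)) ≤ C := by
    rw [Submodule.span_le]
    rintro _ ⟨i, rfl⟩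
    rcases Fin.eq_castSucc_or_eq_last i with ⟨i', rfl⟩ | rfl
    · rw [Fin.snoc_castSucc]
      exact huC i'
    · rw [Fin.snoc_last]
      exact C.add_mem (C.smul_mem _ (v il).2) (C.smul_mem _ (v inx).2)
  have hP0 : (∏ i, B (u i) (u i)) ≠ 0 := Finset.prod_ne_zero_iff.mpr fun i _ => hdu i
  have h01 : Plus B (Submodule.span F (Set.range (Fin.snoc u z1 : Fin (m + 1) → V))) ↔
      ¬ Plus B (Submodule.span F (Set.range (Fin.snoc u z0 : Fin (m + 1) → V))) := by
    rw [hp0, hp1, hz0z, hz1z, not_iff,
      show (∏ i, B (u i) (u i)) * (ζ * al) = ((∏ i, B (u i) (u i)) * al) * ζ by ring,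
      Cfsg.Agent.Lib.Helper50.isSquare_mul_nonsquare_iff (mul_ne_zero hP0 (hav il)) hζ]
  by_cases ht : t
  · by_cases hp : Plus B (Submodule.span F (Set.range (Fin.snoc u z0 : Fin (m + 1) → V)))
    · exact ⟨_, hle0, hnd0, by omega, iff_of_true hp ht⟩
    · exact ⟨_, hle1, hnd1, by omega, iff_of_true (h01.mpr hp) ht⟩
  · by_cases hp : Plus B (Submodule.span F (Set.range (Fin.snoc u z0 : Fin (m + 1) → V)))
    · exact ⟨_, hle1, hnd1, by omega, iff_of_false (fun h => h01.mp h hp) ht⟩
    · exact ⟨_, hle0, hnd0, by omega, iff_of_false hp ht⟩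

end Cfsg.Agent.Lib.Helper63.Oh
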