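import Mathlib
import Cfsg.Agent.S3443

set_option autoImplicit false

namespace Cfsg.Agent.Lib.Helper63

open scoped commutatorElement

universe u

/-- spectra are invariant under isomorphism -/
theorem range_orderOf_congr {A B : Type*} [Group A] [Group B] (e : A ≃* B) :
    Set.range (orderOf : A → ℕ) = Set.range (orderOf : B → ℕ) := by
  apply Set.Subset.antisymm
  · rintro _ ⟨a, rfl⟩
    exact ⟨e a, e.orderOf_eq a⟩
  · rintro _ ⟨b, rfl⟩
    exact ⟨e.symm b, e.symm.orderOf_eq b⟩

/-- every finite group has a model in `Type` -/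
theorem exists_type_model (H : Type u) [Group H] [Finite H] :
    ∃ (H' : Type) (_ : Group H') (_ : Fintype H'), Nonempty (H' ≃* H) := by
  let e : Fin (Nat.card H) ≃ H := (Finite.equivFin H).symm
  let _ : Group (Fin (Nat.card H)) := e.group
  exact ⟨Fin (Nat.card H), e.group, inferInstance, ⟨e.mulEquiv⟩⟩

/-- the packaged conclusion: finite groups in `Type` of unbounded order with the spectrum of `G` -/
def UnboundedIsospectral (G : Type u) [Group G] : Prop :=
  ∀ N : ℕ, ∃ (H : Type) (_ : Group H) (_ : Fintype H), N < Fintype.card H ∧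
    Set.range (orderOf : H → ℕ) = Set.range (orderOf : G → ℕ)

theorem UnboundedIsospectral.congr {A B : Type*} [Group A] [Group B] (e : A ≃* B)
    (h : UnboundedIsospectral A) : UnboundedIsospectral B := by
  intro N
  obtain ⟨H, i1, i2, h1, h2⟩ := h N
  exact ⟨H, i1, i2, h1, h2.trans (range_orderOf_congr e)⟩

/-- iteration of `V ⋊ G` -/
theorem iterate_semidirect (n : ℕ) : ∀ (G : Type u) [Group G] [Finite G] (V : Subgroup G) [V.Normal]
    (p : ℕ) (_ : p.Prime) (_ : V ≠ ⊥) (_ : ∀ x y : V, x * y = y * x) (_ : ∀ x : V, x ^ p = 1),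
    ∃ (H : Type u) (_ : Group H) (_ : Finite H), Nat.card G + n ≤ Nat.card H ∧
      Set.range (orderOf : H → ℕ) = Set.range (orderOf : G → ℕ) := by
  induction n with
  | zero =>
    intro G _ _ V _ p _ _ _ _
    exact ⟨G, inferInstance, inferInstance, le_rfl, rfl⟩
  | succ n ih =>
    intro G _ _ V _ p hp hV hcomm hexp
    let G' := V ⋊[MulAut.conjNormal] G
    have hfin : Finite G' := Finite.of_equiv _ SemidirectProduct.equivProd.symm
    let V' : Subgroup G' := (SemidirectProduct.inl : V →* G').range
    have hV'n : V'.Normal := by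
      show (SemidirectProduct.inl : V →* G').range.Normal
      rw [SemidirectProduct.range_inl_eq_ker_rightHom]
      infer_instance
    have hV'ne : V' ≠ ⊥ := by
      intro h
      apply hV
      rw [Subgroup.eq_bot_iff_forall]
      intro x hx
      have : SemidirectProduct.inl (⟨x, hx⟩ : V) ∈ V' := ⟨_, rfl⟩
      rw [h, Subgroup.mem_bot] at this
      have h2 := SemidirectProduct.inl_injective (this.trans (map_one _).symm)
      exact congrArg Subtype.val h2
    have hV'comm : ∀ x y : V', x * y = y * x := by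
      rintro ⟨_, a, rfl⟩ ⟨_, b, rfl⟩
      ext1
      simp only [Subgroup.coe_mul]
      rw [← map_mul, ← map_mul, hcomm]
    have hV'exp : ∀ x : V', x ^ p = 1 := by
      rintro ⟨_, a, rfl⟩
      ext1
      simp only [Subgroup.coe_pow, Subgroup.coe_one]
      rw [← map_pow, hexp, map_one]
    obtain ⟨H, i1, i2, h1, h2⟩ := ih G' V' p hp hV'ne hV'comm hV'exp
    refine ⟨H, i1, i2, ?_, h2.trans (Cfsg.Agent.S3443.result V p hp hcomm hexp)⟩
    have hc : Nat.card G' = Nat.card V * Nat.card G := SemidirectProduct.card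
    have hV2 : 2 ≤ Nat.card V := by
      have : Nontrivial V := (Subgroup.nontrivial_iff_ne_bot V).mpr hV
      exact Finite.one_lt_card
    have hG1 : 1 ≤ Nat.card G := Nat.card_pos
    nlinarith

/-- a normal nontrivial elementary abelian subgroup gives unboundedly many isospectral groups -/
theorem unbounded_of_elementary_abelian_normal {G : Type u} [Group G] [Finite G] (V : Subgroup G)
    [V.Normal] (p : ℕ) (hp : p.Prime) (hV : V ≠ ⊥) (hcomm : ∀ x y : V, x * y = y * x)
    (hexp : ∀ x : V, x ^ p = 1) : UnboundedIsospectral G := by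
  intro N
  obtain ⟨H, i1, i2, h1, h2⟩ := iterate_semidirect (N + 1) G V p hp hV hcomm hexp
  obtain ⟨H', j1, j2, ⟨e⟩⟩ := exists_type_model H
  refine ⟨H', j1, j2, ?_, (range_orderOf_congr e).trans h2⟩
  rw [← Nat.card_eq_fintype_card, Nat.card_congr e.toEquiv]
  omega

/-- a solvable nontrivial subgroup properly contains its commutator -/
theorem commutator_lt_of_solvable {G : Type u} [Group G] (H : Subgroup G) [Group.IsSolvable H]
    (hH : H ≠ ⊥) : ⁅H, H⁆ < H := by
  rw [← Subgroup.nontrivial_iff_ne_bot] at hH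
  conv_rhs => rw [← H.range_subtype, MonoidHom.range_eq_map]
  conv_lhs => rw [← H.range_subtype, MonoidHom.range_eq_map]
  rw [← Subgroup.map_commutator, Subgroup.map_subtype_lt_map_subtype]
  exact Group.IsSolvable.commutator_lt_top_of_nontrivial H

/-- a nontrivial solvable normal subgroup contains a nontrivial abelian normal subgroup -/
theorem exists_abelian_normal {G : Type u} [Group G] [Finite G] :
    ∀ (K : Subgroup G), K.Normal → K ≠ ⊥ → Group.IsSolvable K →
      ∃ A : Subgroup G, A.Normal ∧ A ≠ ⊥ ∧ ⁅A, A⁆ = ⊥ := by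
  intro K
  induction K using WellFoundedLT.induction with
  | ind K ih =>
    intro hKn hK hs
    by_cases hc : ⁅K, K⁆ = ⊥
    · exact ⟨K, hKn, hK, hc⟩
    · have hlt : ⁅K, K⁆ < K := commutator_lt_of_solvable K hK
      have hsol : Group.IsSolvable ↥⁅K, K⁆ := by
        have : Function.Injective (Subgroup.inclusion hlt.le) := Subgroup.inclusion_injective _
        exact Group.isSolvable_of_isSolvable_injective this
      exact ih _ hlt (Subgroup.commutator_normal K K) hc hsol

/-- a nontrivial solvable normal subgroup contains a nontrivial elementary abelian normal subgroup -/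
theorem exists_elementary_abelian_normal {G : Type u} [Group G] [Finite G] (K : Subgroup G)
    [K.Normal] (hK : K ≠ ⊥) (hs : Group.IsSolvable K) :
    ∃ (V : Subgroup G) (p : ℕ), V.Normal ∧ p.Prime ∧ V ≠ ⊥ ∧ (∀ x y : V, x * y = y * x) ∧
      (∀ x : V, x ^ p = 1) := by
  obtain ⟨A, hAn, hA, hAc⟩ := exists_abelian_normal K inferInstance hK hs
  have hcomm : ∀ x ∈ A, ∀ y ∈ A, x * y = y * x := by
    intro x hx y hy
    have : ⁅x, y⁆ ∈ ⁅A, A⁆ := Subgroup.commutator_mem_commutator hx hy
    rw [hAc, Subgroup.mem_bot] at this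
    exact commutatorElement_eq_one_iff_mul_comm.mp this
  have hnt : Nontrivial A := (Subgroup.nontrivial_iff_ne_bot A).mpr hA
  have hcard : Nat.card A ≠ 1 := by
    have := Finite.one_lt_card (α := A)
    omega
  obtain ⟨p, hp, hpd⟩ := Nat.exists_prime_and_dvd hcard
  have : Fact p.Prime := ⟨hp⟩
  obtain ⟨a, ha⟩ := exists_prime_orderOf_dvd_card' p hpd
  let V : Subgroup G :=
    { carrier := {x | x ∈ A ∧ x ^ p = 1}
      one_mem' := ⟨A.one_mem, one_pow _⟩
      mul_mem' := by
        rintro x y ⟨hx, hx'⟩ ⟨hy, hy'⟩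
        refine ⟨A.mul_mem hx hy, ?_⟩
        rw [(show Commute x y from hcomm x hx y hy).mul_pow, hx', hy', one_mul]
      inv_mem' := by
        rintro x ⟨hx, hx'⟩
        exact ⟨A.inv_mem hx, by rw [inv_pow, hx', inv_one]⟩ }
  refine ⟨V, p, ⟨?_⟩, hp, ?_, ?_, ?_⟩
  · rintro x ⟨hx, hx'⟩ g
    refine ⟨hAn.conj_mem x hx g, ?_⟩
    rw [conj_pow, hx', mul_one, mul_inv_cancel]
  · intro h
    have hmem : (a : G) ∈ V := by
      refine ⟨a.2, ?_⟩
      have := pow_orderOf_eq_one a
      rw [ha] at this
      simpa using congrArg Subtype.val this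
    rw [h, Subgroup.mem_bot] at hmem
    have h1 : a = 1 := Subtype.ext hmem
    rw [h1, orderOf_one] at ha
    exact hp.one_lt.ne ha
  · rintro ⟨x, hx, _⟩ ⟨y, hy, _⟩
    exact Subtype.ext (hcomm x hx y hy)
  · rintro ⟨x, hx, hx'⟩
    exact Subtype.ext hx'

/-- a finite group with a nontrivial solvable normal subgroup has unboundedly many isospectral groups -/
theorem unbounded_of_solvable_normal {G : Type u} [Group G] [Finite G] (K : Subgroup G)
    [K.Normal] (hK : K ≠ ⊥) (hs : Group.IsSolvable K) : UnboundedIsospectral G := by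
  obtain ⟨V, p, hVn, hp, hV, hcomm, hexp⟩ := exists_elementary_abelian_normal K hK hs
  exact unbounded_of_elementary_abelian_normal V p hp hV hcomm hexp

end Cfsg.Agent.Lib.Helper63
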