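import Cfsg.Agent.Lib.Helper99.OTsDefs
import Cfsg.Agent.Lib.Helper43.WittQuad
import Cfsg.Agent.Lib.Helper05.OsElB

/-!
# K-OTs-O6 (keystone 597306, architect helper99): Witt cancellation of a hyperbolic summand
`V = U0 ⊥ U1`, `U1` and `V` of plus type ⇒ `U0` of plus type (all characteristics), via
`Helper43.witt_quad`.
-/

set_option autoImplicit false
set_option linter.unusedVariables false
set_option linter.unusedSectionVars false

namespace Cfsg.Agent.Lib.Helper63.OTs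

open Module Cfsg.Agent.Lib.Helper98.Elus Cfsg.Agent.Lib.Helper98.Sy Cfsg.Agent.Lib.Helper99.OTs
open scoped Matrix MatrixGroups

universe u
variable {F : Type u} [Field F] {V : Type u} [AddCommGroup V] [Module F V]

/-- subspaces of every smaller dimension -/
theorem exists_sub_finrank' [FiniteDimensional F V] (U : Submodule F V) (m : ℕ)
    (hm : m ≤ finrank F U) : ∃ Z : Submodule F V, Z ≤ U ∧ finrank F Z = m := by
  let b := Module.finBasis F U
  let s : Fin m → V := fun a => (b (Fin.castLE hm a) : V)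
  have hli : LinearIndependent F s :=
    (b.linearIndependent.comp _ (Fin.castLE_injective hm)).map' U.subtype (Submodule.ker_subtype U)
  refine ⟨Submodule.span F (Set.range s), ?_, ?_⟩
  · apply Submodule.span_le.mpr
    rintro _ ⟨a, rfl⟩
    exact Submodule.coe_mem _
  · rw [finrank_span_eq_card hli, Fintype.card_fin]

theorem nondegenerate_of_nonDeg (Q : QuadraticForm F V)
    (hV : NonDeg (QuadraticMap.polarBilin Q) ⊤) : (QuadraticMap.polarBilin Q).Nondegenerate := by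
  constructor
  · intro x hx
    exact hV x Submodule.mem_top (fun y _ => hx y)
  · intro x hx
    apply hV x Submodule.mem_top
    intro y _
    rw [polarBilin_symm]
    exact hx y

/-- O6 (597306): Witt cancellation of a hyperbolic summand. -/
theorem plusOn_cancel [FiniteDimensional F V] (Q : QuadraticForm F V)
    (hV : NonDeg (QuadraticMap.polarBilin Q) ⊤)
    (U0 U1 : Submodule F V) (h0 : NonDeg (QuadraticMap.polarBilin Q) U0)
    (h1 : NonDeg (QuadraticMap.polarBilin Q) U1)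
    (hort : Ort (QuadraticMap.polarBilin Q) U0 U1) (hsup : U0 ⊔ U1 = ⊤)
    (hp1 : PlusOn Q U1) (hp : PlusOn Q ⊤) : PlusOn Q U0 := by
  classical
  have hR : (QuadraticMap.polarBilin Q).IsRefl := by
    intro x y h
    rw [polarBilin_symm]
    exact h
  obtain ⟨Z1, hZ1U, hZ1, hZ1d⟩ := hp1
  obtain ⟨Z, -, hZ, hZd⟩ := hp
  rw [finrank_top] at hZd
  have hdim := Cfsg.Agent.Lib.Helper98.Os.finrank_sup_of_ort hR U0 U1 h0 h1 hort
  rw [hsup, finrank_top] at hdim
  have hinf : U0 ⊓ U1 = ⊥ := (Cfsg.Agent.Lib.Helper98.Os.nonDeg_sup hR U0 U1 h0 h1 hort).2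
  obtain ⟨Z', hZ'Z, hZ'd⟩ := exists_sub_finrank' Z (finrank F Z1) (by omega)
  let φ : Z' ≃ₗ[F] Z1 := LinearEquiv.ofFinrankEq _ _ hZ'd
  have hφ : ∀ x : Z', Q (φ x : V) = Q (x : V) := by
    intro x
    rw [hZ1 _ (φ x).2, hZ _ (hZ'Z x.2)]
  obtain ⟨g, hg1, hg2⟩ := Cfsg.Agent.Lib.Helper43.witt_quad Q (nondegenerate_of_nonDeg Q hV) Z' Z1 φ hφ
  obtain ⟨Z'', hZ''⟩ : ∃ Z'' : Submodule F V, Z'' = Z.map (g : V →ₗ[F] V) := ⟨_, rfl⟩
  have hZ''ts : TS Q Z'' := by
    rw [hZ'']
    rintro _ ⟨z, hz, rfl⟩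
    simp only [LinearEquiv.coe_coe]
    rw [hg1]
    exact hZ z hz
  have hZ''d : finrank F Z'' = finrank F Z := by
    rw [hZ'']
    exact (g.submoduleMap Z).finrank_eq.symm
  have hZ1le : Z1 ≤ Z'' := by
    intro z1 hz1
    rw [hZ'']
    refine ⟨(φ.symm ⟨z1, hz1⟩ : V), hZ'Z (φ.symm ⟨z1, hz1⟩).2, ?_⟩
    simp only [LinearEquiv.coe_coe]
    rw [hg2]
    simp
  have hperp : LinearMap.BilinForm.orthogonal (QuadraticMap.polarBilin Q) Z1 ⊓ U1 = Z1 := by
    symm
    apply Submodule.eq_of_le_of_finrank_eq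
    · intro z hz
      refine Submodule.mem_inf.mpr ⟨?_, hZ1U hz⟩
      rw [LinearMap.BilinForm.mem_orthogonal_iff]
      intro n hn
      exact hZ1.ort n hn z hz
    · have := Cfsg.Agent.Lib.Helper05.OsEl.finrank_orth_inf hR hV Z1 U1 hZ1U h1
      omega
  have hle : Z'' ≤ (Z'' ⊓ U0) ⊔ Z1 := by
    intro z hz
    have hz' : z ∈ U0 ⊔ U1 := by rw [hsup]; exact Submodule.mem_top
    obtain ⟨a, ha, b, hb, rfl⟩ := Submodule.mem_sup.mp hz'
    have hbZ1 : b ∈ Z1 := by
      rw [← hperp]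
      refine Submodule.mem_inf.mpr ⟨?_, hb⟩
      rw [LinearMap.BilinForm.mem_orthogonal_iff]
      intro n hn
      have h3 := hZ''ts.ort n (hZ1le hn) (a + b) hz
      rw [map_add] at h3
      have h4 : QuadraticMap.polarBilin Q n a = 0 := by
        rw [polarBilin_symm]
        exact hort a ha n (hZ1U hn)
      rw [h4, zero_add] at h3
      exact h3
    have haZ : a ∈ Z'' := by
      have : a = (a + b) - b := by abel
      rw [this]
      exact Z''.sub_mem hz (hZ1le hbZ1)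
    exact Submodule.add_mem _ (Submodule.mem_sup_left ⟨haZ, ha⟩) (Submodule.mem_sup_right hbZ1)
  have heq : (Z'' ⊓ U0) ⊔ Z1 = Z'' := le_antisymm (sup_le inf_le_left hZ1le) hle
  have hinf' : (Z'' ⊓ U0) ⊓ Z1 = ⊥ := by
    rw [eq_bot_iff, ← hinf]
    exact inf_le_inf inf_le_right hZ1U
  have hsum := Submodule.finrank_sup_add_finrank_inf_eq (Z'' ⊓ U0) Z1
  rw [heq, hinf', finrank_bot, hZ''d] at hsum
  refine ⟨Z'' ⊓ U0, inf_le_right, hZ''ts.mono inf_le_left, ?_⟩
  omega

end Cfsg.Agent.Lib.Helper63.OTs
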