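import Cfsg.Agent.Lib.Helper06.Hall4.Defs
import Cfsg.Agent.Lib.Helper68.H4P2

/-!
# K-H4-D2a (keystone 422115, S4221, architect helper6; parallel hand)

The centralizer `D = G ⊓ centralizer {x, y}` of the four-group is transitive on the regular
points `Preg x y`.  Also K-H4-TR2 (422119): if `Preg x y` has exactly four points it is
`{i, x i, y i, x (y i)}`.
-/

set_option autoImplicit false
open Equiv

namespace Cfsg.Agent.Lib.Helper63.Hall4
open Cfsg.Agent.Lib.Helper06.Hall4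

variable {α : Type*} [Fintype α] [DecidableEq α]

theorem invol_app {t : Perm α} (t2 : t * t = 1) (z : α) : t (t z) = z := by
  have h := congrArg (fun f : Perm α => f z) t2
  simpa using h

theorem comm_app {x y : Perm α} (comm : x * y = y * x) (z : α) : x (y z) = y (x z) := by
  have h := congrArg (fun f : Perm α => f z) comm
  simpa using h

theorem conj_app (g t : Perm α) (z : α) : (g * t * g⁻¹) (g z) = g (t z) := by
  simp [Perm.mul_apply]

/-- `i, x i, y i, x (y i)` are pairwise distinct for a regular point `i`. -/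
theorem preg_distinct {x y : Perm α} (x2 : x * x = 1) (comm : x * y = y * x)
    {i : α} (hi : i ∈ Preg x y) :
    i ≠ x i ∧ i ≠ y i ∧ i ≠ x (y i) ∧ x i ≠ y i ∧ x i ≠ x (y i) ∧ y i ≠ x (y i) := by
  obtain ⟨h1, h2, h3⟩ := hi
  refine ⟨fun h => h1 h.symm, fun h => h2 h.symm, fun h => h3 h.symm, ?_, ?_, ?_⟩
  · intro h
    apply h3
    rw [← h, invol_app x2]
  · intro h
    exact h2 (x.injective h).symm
  · intro h
    apply h1
    have : y (x i) = y i := by rw [← comm_app comm]; exact h.symm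
    exact y.injective this

theorem conj_sq {g t : Perm α} (t2 : t * t = 1) : (g * t * g⁻¹) * (g * t * g⁻¹) = 1 := by
  calc (g * t * g⁻¹) * (g * t * g⁻¹) = g * (t * t) * g⁻¹ := by group
    _ = 1 := by rw [t2]; group

/-- **LEAF D2a (422115).** -/
theorem D_trans_reg (G : Subgroup (Perm α)) (hG : Trans4 G) (hodd : Odd4 G) {x y : Perm α}
    (hx : x ∈ G) (hy : y ∈ G) (x2 : x * x = 1) (y2 : y * y = 1) (comm : x * y = y * x) {i j : α}
    (hi : i ∈ Preg x y) (hj : j ∈ Preg x y) :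
    ∃ g ∈ (G ⊓ Subgroup.centralizer {x, y} : Subgroup (Perm α)), g i = j := by
  obtain ⟨i1, i2, i3, i4, i5, i6⟩ := preg_distinct x2 comm hi
  obtain ⟨j1, j2, j3, j4, j5, j6⟩ := preg_distinct x2 comm hj
  obtain ⟨g0, hg0, e1, e2, e3, e4⟩ :=
    hG i (x i) (y i) (x (y i)) j (x j) (y j) (x (y j)) i1 i2 i3 i4 i5 i6 j1 j2 j3 j4 j5 j6
  -- first step: `x' := g0 x g0⁻¹` agrees with `x` on the second quadruple
  have hx'G : g0 * x * g0⁻¹ ∈ G := G.mul_mem (G.mul_mem hg0 hx) (G.inv_mem hg0)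
  have a1 : x j = (g0 * x * g0⁻¹) j := by
    conv_rhs => rw [← e1, conj_app, e2]
  have a2 : x (x j) = (g0 * x * g0⁻¹) (x j) := by
    conv_rhs => rw [← e2, conj_app, invol_app x2, e1]
    rw [invol_app x2]
  have a3 : x (y j) = (g0 * x * g0⁻¹) (y j) := by
    conv_rhs => rw [← e3, conj_app, e4]
  have a4 : x (x (y j)) = (g0 * x * g0⁻¹) (x (y j)) := by
    conv_rhs => rw [← e4, conj_app, invol_app x2, e3]
    rw [invol_app x2]
  obtain ⟨u1, hu1, hu1c, -⟩ :=
    Cfsg.Agent.Lib.Helper68.Hall4.conj_of_agree G hodd j1 j2 j3 j4 j5 j6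
      (t := g0 * x * g0⁻¹) (t' := x) hx'G hx (conj_sq x2) x2 a1 a2 a3 a4
  have hu1G : u1 ∈ G := (mem_FS.1 hu1).1
  have hu1f := (mem_FS.1 hu1).2
  have f1 : u1 j = j := hu1f j (by simp)
  have f2 : u1 (x j) = x j := hu1f (x j) (by simp)
  have f3 : u1 (y j) = y j := hu1f (y j) (by simp)
  have f4 : u1 (x (y j)) = x (y j) := hu1f (x (y j)) (by simp)
  -- `g1 := u1 * g0` commutes with `x`
  have hg1G : u1 * g0 ∈ G := G.mul_mem hu1G hg0
  have hg1x : (u1 * g0) * x * (u1 * g0)⁻¹ = x := by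
    rw [← hu1c]
    conv_rhs => rw [← hu1c]
    group
  have hg1x' : (u1 * g0) * x = x * (u1 * g0) := by
    rw [← mul_inv_eq_iff_eq_mul]; exact hg1x
  have k1 : (u1 * g0) i = j := by rw [Perm.mul_apply, e1, f1]
  have k2 : (u1 * g0) (x i) = x j := by rw [Perm.mul_apply, e2, f2]
  have k3 : (u1 * g0) (y i) = y j := by rw [Perm.mul_apply, e3, f3]
  have k4 : (u1 * g0) (x (y i)) = x (y j) := by rw [Perm.mul_apply, e4, f4]
  -- second step: `y' := g1 y g1⁻¹`
  have hy'G : (u1 * g0) * y * (u1 * g0)⁻¹ ∈ G :=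
    G.mul_mem (G.mul_mem hg1G hy) (G.inv_mem hg1G)
  have b1 : y j = ((u1 * g0) * y * (u1 * g0)⁻¹) j := by
    conv_rhs => rw [← k1, conj_app, k3]
  have b2 : y (x j) = ((u1 * g0) * y * (u1 * g0)⁻¹) (x j) := by
    conv_rhs => rw [← k2, conj_app, ← comm_app comm, k4]
    rw [comm_app comm]
  have b3 : y (y j) = ((u1 * g0) * y * (u1 * g0)⁻¹) (y j) := by
    conv_rhs => rw [← k3, conj_app, invol_app y2, k1]
    rw [invol_app y2]
  have b4 : y (x (y j)) = ((u1 * g0) * y * (u1 * g0)⁻¹) (x (y j)) := by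
    conv_rhs => rw [← k4, conj_app, ← comm_app comm, invol_app y2, k2]
    rw [← comm_app comm, invol_app y2]
  obtain ⟨u2, hu2, hu2c, hu2v⟩ :=
    Cfsg.Agent.Lib.Helper68.Hall4.conj_of_agree G hodd j1 j2 j3 j4 j5 j6
      (t := (u1 * g0) * y * (u1 * g0)⁻¹) (t' := y) hy'G hy (conj_sq y2) y2 b1 b2 b3 b4
  have hu2G : u2 ∈ G := (mem_FS.1 hu2).1
  have g1 : u2 j = j := (mem_FS.1 hu2).2 j (by simp)
  -- `x` commutes with `y'`
  have hxy' : x * ((u1 * g0) * y * (u1 * g0)⁻¹) = ((u1 * g0) * y * (u1 * g0)⁻¹) * x := by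
    have h1 : x * (u1 * g0) = (u1 * g0) * x := hg1x'.symm
    have h2 : (u1 * g0)⁻¹ * x = x * (u1 * g0)⁻¹ := by
      calc (u1 * g0)⁻¹ * x = (u1 * g0)⁻¹ * (x * (u1 * g0)) * (u1 * g0)⁻¹ := by group
        _ = (u1 * g0)⁻¹ * ((u1 * g0) * x) * (u1 * g0)⁻¹ := by rw [h1]
        _ = x * (u1 * g0)⁻¹ := by group
    calc x * ((u1 * g0) * y * (u1 * g0)⁻¹)
        = (x * (u1 * g0)) * y * (u1 * g0)⁻¹ := by group
      _ = (u1 * g0) * (x * y) * (u1 * g0)⁻¹ := by rw [h1]; group
      _ = (u1 * g0) * y * (x * (u1 * g0)⁻¹) := by rw [comm]; group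
      _ = (u1 * g0) * y * ((u1 * g0)⁻¹ * x) := by rw [h2]
      _ = ((u1 * g0) * y * (u1 * g0)⁻¹) * x := by group
  have hxu2 : x * u2 = u2 * x := hu2v x hxy' comm
  refine ⟨u2 * (u1 * g0), ?_, ?_⟩
  · rw [Subgroup.mem_inf, mem_centralizer_pair]
    refine ⟨G.mul_mem hu2G hg1G, ?_, ?_⟩
    · calc x * (u2 * (u1 * g0)) = (x * u2) * (u1 * g0) := by group
        _ = u2 * (x * (u1 * g0)) := by rw [hxu2]; group
        _ = u2 * ((u1 * g0) * x) := by rw [hg1x']
        _ = u2 * (u1 * g0) * x := by group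
    · -- `u2 * y' * u2⁻¹ = y`
      have h3 : u2 * ((u1 * g0) * y * (u1 * g0)⁻¹) = y * u2 := by
        rw [← mul_inv_eq_iff_eq_mul]; exact hu2c
      calc y * (u2 * (u1 * g0)) = (y * u2) * (u1 * g0) := by group
        _ = u2 * ((u1 * g0) * y * (u1 * g0)⁻¹) * (u1 * g0) := by rw [h3]
        _ = u2 * (u1 * g0) * y := by group
  · rw [Perm.mul_apply, k1, g1]

/-- **LEAF TR2 (422119).** -/
theorem Preg_eq_of_ncard {x y : Perm α} (x2 : x * x = 1) (y2 : y * y = 1) (comm : x * y = y * x)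
    {i : α} (hi : i ∈ Preg x y) (h4 : (Preg x y).ncard = 4) :
    Preg x y = {i, x i, y i, x (y i)} := by
  obtain ⟨i1, i2, i3, i4, i5, i6⟩ := preg_distinct x2 comm hi
  obtain ⟨h1, h2, h3⟩ := hi
  have hsub : ({i, x i, y i, x (y i)} : Set α) ⊆ Preg x y := by
    intro z hz
    simp only [Set.mem_insert_iff, Set.mem_singleton_iff] at hz
    rcases hz with rfl | rfl | rfl | rfl
    · exact ⟨h1, h2, h3⟩
    · refine ⟨?_, ?_, ?_⟩
      · rw [invol_app x2]; exact i1
      · rw [← comm_app comm]; exact fun h => i5 h.symm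
      · rw [← comm_app comm, invol_app x2]; exact fun h => i4 h.symm
    · refine ⟨fun h => i6 h.symm, ?_, ?_⟩
      · rw [invol_app y2]; exact i2
      · rw [invol_app y2]; exact i4
    · refine ⟨?_, ?_, ?_⟩
      · rw [invol_app x2]; exact i6
      · rw [← comm_app comm, invol_app y2]; exact i5
      · rw [← comm_app comm, invol_app y2, invol_app x2]; exact i3
  have hcard : ({i, x i, y i, x (y i)} : Set α).ncard = 4 := by
    rw [Set.ncard_eq_toFinset_card']
    simp only [Set.toFinset_insert, Set.toFinset_singleton]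
    rw [Finset.card_insert_of_notMem, Finset.card_insert_of_notMem, Finset.card_insert_of_notMem,
      Finset.card_singleton]
    · simp only [Finset.mem_singleton]; exact i6
    · simp only [Finset.mem_insert, Finset.mem_singleton]; push Not; exact ⟨i4, i5⟩
    · simp only [Finset.mem_insert, Finset.mem_singleton]; push Not; exact ⟨i1, i2, i3⟩
  exact (Set.eq_of_subset_of_ncard_le hsub (by rw [hcard, h4]) (Set.toFinite _)).symm

end Cfsg.Agent.Lib.Helper63.Hall4
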