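import Mathlib
import Cfsg.Agent.Lib.Helper06.NFDefs
import Cfsg.Agent.Lib.Helper81.NFGal

set_option autoImplicit false

/-!
# K-S3361-G: the one-dimensional semilinear form of a group with an irreducible abelian normal subgroup
-/

namespace Cfsg.Agent.Lib.Helper63.NF

open Cfsg.Agent.Lib.Helper06.NF Cfsg.Agent.Lib.Helper81.NF

section Linear

variable {q : ℕ} [Fact q.Prime] {V : Type*} [AddCommGroup V] [Module (ZMod q) V]

/-- a generator of `adj H A`. -/
theorem gen_mem_adj (H : Subgroup (V ≃ₗ[ZMod q] V)) (A : Subgroup H) (a : H) (ha : a ∈ A) :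
    (((a : H) : V ≃ₗ[ZMod q] V) : Module.End (ZMod q) V) ∈ adj H A :=
  Algebra.subset_adjoin ⟨a, ha, rfl⟩

/-- elements of `adj H A` commute with the elements of a commutative `A`. -/
theorem adj_apply_gen (H : Subgroup (V ≃ₗ[ZMod q] V)) (A : Subgroup H)
    (hAc : ∀ a ∈ A, ∀ b ∈ A, a * b = b * a) (k : Module.End (ZMod q) V) (hk : k ∈ adj H A)
    (a : H) (ha : a ∈ A) (v : V) :
    k (((a : H) : V ≃ₗ[ZMod q] V) v) = ((a : H) : V ≃ₗ[ZMod q] V) (k v) := by
  have hcomm : Commute (((a : H) : V ≃ₗ[ZMod q] V) : Module.End (ZMod q) V) k := by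
    refine Algebra.commute_of_mem_adjoin_of_forall_mem_commute hk ?_
    rintro g ⟨b, hb, rfl⟩
    have hab := hAc a ha b hb
    have hab' : ((a : H) : V ≃ₗ[ZMod q] V) * ((b : H) : V ≃ₗ[ZMod q] V)
        = ((b : H) : V ≃ₗ[ZMod q] V) * ((a : H) : V ≃ₗ[ZMod q] V) := by
      have := congrArg (fun x : H => (x : V ≃ₗ[ZMod q] V)) hab
      simpa using this
    ext w
    have := congrArg (fun x : V ≃ₗ[ZMod q] V => x w) hab'
    simpa using this
  have := congrArg (fun f : Module.End (ZMod q) V => f v) hcomm.eq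
  simpa using this.symm

/-- irreducibility of `A` makes the nonzero elements of `adj H A` injective. -/
theorem adj_injective_of_irr (H : Subgroup (V ≃ₗ[ZMod q] V)) (A : Subgroup H)
    (hAc : ∀ a ∈ A, ∀ b ∈ A, a * b = b * a)
    (hirr : ∀ W : Submodule (ZMod q) V,
      (∀ a ∈ A, ∀ v ∈ W, ((a : H) : V ≃ₗ[ZMod q] V) v ∈ W) → W = ⊥ ∨ W = ⊤) :
    ∀ k ∈ adj H A, ∀ v : V, v ≠ 0 → k v = 0 → k = 0 := by
  intro k hk v hv hkv
  have hinv : ∀ a ∈ A, ∀ w ∈ LinearMap.ker k, ((a : H) : V ≃ₗ[ZMod q] V) w ∈ LinearMap.ker k := by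
    intro a ha w hw
    rw [LinearMap.mem_ker] at hw ⊢
    rw [adj_apply_gen H A hAc k hk a ha w, hw, map_zero]
  rcases hirr _ hinv with h | h
  · exfalso
    have : v ∈ LinearMap.ker k := LinearMap.mem_ker.2 hkv
    rw [h, Submodule.mem_bot] at this
    exact hv this
  · exact LinearMap.ker_eq_top.1 h

/-- the semilinear form inside `adj H A`. -/
theorem exists_addEquiv_adj [Finite V] [Nontrivial V]
    (H : Subgroup (V ≃ₗ[ZMod q] V)) (A : Subgroup H) (hAn : A.Normal)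
    (hAc : ∀ a ∈ A, ∀ b ∈ A, a * b = b * a)
    (hirr : ∀ W : Submodule (ZMod q) V,
      (∀ a ∈ A, ∀ v ∈ W, ((a : H) : V ≃ₗ[ZMod q] V) v ∈ W) → W = ⊥ ∨ W = ⊤) :
    IsField (adj H A) ∧ ∃ e₀ : V ≃+ adj H A,
      ∀ h : H, ∃ (a : adj H A) (σ : adj H A ≃+* adj H A),
        ∀ v : V, e₀ ((h : V ≃ₗ[ZMod q] V) v) = a * σ (e₀ v) := by
  classical
  have hK := adj_injective_of_irr H A hAc hirr
  have hF : IsField (adj H A) := isField_adj H A hAc hK
  refine ⟨hF, ?_⟩
  obtain ⟨v0, hv0⟩ := exists_ne (0 : V)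
  -- the evaluation map
  let φ : adj H A →+ V :=
    { toFun := fun k => (k : Module.End (ZMod q) V) v0
      map_zero' := by simp
      map_add' := by intro x y; simp }
  have hφ : ∀ k : adj H A, φ k = (k : Module.End (ZMod q) V) v0 := fun _ => rfl
  have hinj : Function.Injective φ := by
    rw [injective_iff_map_eq_zero]
    intro k hk
    exact Subtype.ext (hK k.1 k.2 v0 hv0 hk)
  have hsurj : Function.Surjective φ := by
    let W : Submodule (ZMod q) V :=
      Submodule.map (LinearMap.applyₗ v0) (Subalgebra.toSubmodule (adj H A))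
    have hW : ∀ v : V, v ∈ W ↔ ∃ k ∈ adj H A, k v0 = v := by
      intro v
      simp only [W, Submodule.mem_map, Subalgebra.mem_toSubmodule, LinearMap.applyₗ_apply_apply]
    have hinv : ∀ a ∈ A, ∀ v ∈ W, ((a : H) : V ≃ₗ[ZMod q] V) v ∈ W := by
      intro a ha v hv
      obtain ⟨k, hk, rfl⟩ := (hW v).1 hv
      refine (hW _).2 ⟨_, (adj H A).mul_mem (gen_mem_adj H A a ha) hk, ?_⟩
      simp
    rcases hirr W hinv with h | h
    · exfalso
      have : v0 ∈ W := (hW v0).2 ⟨1, (adj H A).one_mem, by simp⟩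
      rw [h, Submodule.mem_bot] at this
      exact hv0 this
    · intro v
      have : v ∈ W := by rw [h]; trivial
      obtain ⟨k, hk, hkv⟩ := (hW v).1 this
      exact ⟨⟨k, hk⟩, hkv⟩
  let E : adj H A ≃+ V := AddEquiv.ofBijective φ ⟨hinj, hsurj⟩
  have hE : ∀ k : adj H A, E k = (k : Module.End (ZMod q) V) v0 := fun _ => rfl
  refine ⟨E.symm, ?_⟩
  intro h
  obtain ⟨ah, hah⟩ := hsurj ((h : V ≃ₗ[ZMod q] V) v0)
  rw [hφ] at hah
  refine ⟨ah, (conjEquiv H A hAn h).toRingEquiv, ?_⟩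
  intro v
  rw [AddEquiv.symm_apply_eq, hE]
  set k := E.symm v with hk
  have hkv : (k : Module.End (ZMod q) V) v0 = v := by
    rw [← hE, hk, AddEquiv.apply_symm_apply]
  have hσ : ((conjEquiv H A hAn h).toRingEquiv k) = conjHom H A hAn h k := rfl
  rw [hF.mul_comm ah, hσ, Subalgebra.coe_mul, Module.End.mul_apply, hah, conjHom_apply,
    LinearEquiv.symm_apply_apply, hkv]

end Linear

/-- a finite field in any universe has a copy in `Type`. -/
theorem exists_field_type {K : Type*} [Ring K] [Finite K] (hF : IsField K) :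
    ∃ (F : Type) (_ : Field F) (_ : Fintype F), Nonempty (K ≃+* F) := by
  classical
  let _ : Field K := hF.toField
  have : Finite (Shrink.{0} K) := Finite.of_equiv K (equivShrink.{0} K)
  have : Fintype (Shrink.{0} K) := Fintype.ofFinite _
  exact ⟨Shrink.{0} K, inferInstance, inferInstance, ⟨(Shrink.ringEquiv.{0} K).symm⟩⟩

/-- K-S3361-G (ΓL(1) form). -/
theorem gammaL_form {q : ℕ} [Fact q.Prime] {V : Type*} [AddCommGroup V] [Module (ZMod q) V]
    [Finite V] [Nontrivial V]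
    (H : Subgroup (V ≃ₗ[ZMod q] V)) (A : Subgroup H) (hAn : A.Normal)
    (hAc : ∀ a ∈ A, ∀ b ∈ A, a * b = b * a)
    (hirr : ∀ W : Submodule (ZMod q) V,
      (∀ a ∈ A, ∀ v ∈ W, ((a : H) : V ≃ₗ[ZMod q] V) v ∈ W) → W = ⊥ ∨ W = ⊤) :
    ∃ (F : Type) (_ : Field F) (_ : Fintype F) (e : V ≃+ F),
      ∀ h : H, ∃ (a : F) (σ : F ≃+* F), ∀ v : V, e ((h : V ≃ₗ[ZMod q] V) v) = a * σ (e v) := by
  classical
  obtain ⟨hF, e₀, he₀⟩ := exists_addEquiv_adj H A hAn hAc hirr
  have : Finite (Module.End (ZMod q) V) :=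
    Finite.of_injective (fun f : Module.End (ZMod q) V => (f : V → V))
      (fun _ _ h => LinearMap.ext (congrFun h))
  obtain ⟨F, instF, instFt, ⟨ρ⟩⟩ := exists_field_type hF
  refine ⟨F, instF, instFt, e₀.trans ρ.toAddEquiv, ?_⟩
  intro h
  obtain ⟨a, σ, hσ⟩ := he₀ h
  refine ⟨ρ a, (ρ.symm.trans σ).trans ρ, ?_⟩
  intro v
  simp only [AddEquiv.trans_apply, RingEquiv.toAddEquiv_eq_coe, RingEquiv.coe_toAddEquiv,
    RingEquiv.trans_apply, RingEquiv.symm_apply_apply]
  rw [hσ v, map_mul]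

end Cfsg.Agent.Lib.Helper63.NF
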