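import Mathlib
import Cfsg.Prelude.Def_LieTypeDatum

set_option autoImplicit false

/-! K-S2721-D (pure group theory): `N ≤ P ≤ E`, `E/N` cyclic of order 2 or 4, squares of `E` in `P`,
`c ∈ E ∖ P` commuting with `x`: the `E`-class of `x` is its `N`-class. -/

namespace Cfsg.Agent.Lib.Helper63.S2721K

theorem zmod_two_gen : ∀ a : ZMod 2, (∀ b : ZMod 2, a ≠ b + b) → ∀ z : ZMod 2,
    ∃ j : Fin 2, z = (j : ℕ) • a := by decide

theorem zmod_four_gen : ∀ a : ZMod 4, (∀ b : ZMod 4, a ≠ b + b) → ∀ z : ZMod 4,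
    ∃ j : Fin 4, z = (j : ℕ) • a := by decide

theorem zmod_gen {k : ℕ} (hk : k = 2 ∨ k = 4) (a : ZMod k) (ha : ∀ b : ZMod k, a ≠ b + b)
    (z : ZMod k) : ∃ j : ℕ, z = j • a := by
  rcases hk with rfl | rfl
  · obtain ⟨j, hj⟩ := zmod_two_gen a ha z
    exact ⟨j, hj⟩
  · obtain ⟨j, hj⟩ := zmod_four_gen a ha z
    exact ⟨j, hj⟩

theorem isConjUnder_iff_of_cyclic {X : Type*} [Group X] (N P E : Subgroup X) (hNP : N ≤ P) (hPE : P ≤ E)
    (hsq : ∀ d ∈ E, d * d ∈ P) {k : ℕ} (hk : k = 2 ∨ k = 4)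
    (φ : ↥E →* Multiplicative (ZMod k)) (hφs : Function.Surjective φ)
    (hφk : φ.ker = N.subgroupOf E)
    (x c : X) (hcE : c ∈ E) (hcP : c ∉ P) (hcx : c * x = x * c) (y : X) :
    Cfsg.IsConjUnder N x y ↔ Cfsg.IsConjUnder E x y := by
  constructor
  · rintro ⟨h, hh, rfl⟩
    exact ⟨h, hPE (hNP hh), rfl⟩
  · rintro ⟨g, hgE, rfl⟩
    have hker : ∀ e : ↥E, φ e = 1 → (e : X) ∈ N := by
      intro e he
      have : e ∈ φ.ker := he
      rw [hφk] at this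
      exact Subgroup.mem_subgroupOf.mp this
    -- the image of `c` is not a square
    have hnot : ∀ b : ZMod k, Multiplicative.toAdd (φ ⟨c, hcE⟩) ≠ b + b := by
      intro b hb
      obtain ⟨d, hd⟩ := hφs (Multiplicative.ofAdd b)
      have h1 : φ (⟨c, hcE⟩ * (d * d)⁻¹) = 1 := by
        rw [map_mul, map_inv, map_mul, hd]
        apply Multiplicative.toAdd.injective
        rw [toAdd_mul, toAdd_inv, toAdd_mul, toAdd_ofAdd, hb, toAdd_one]
        abel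
      have h2 := hker _ h1
      have h3 : (d : X) * (d : X) ∈ P := hsq _ d.2
      apply hcP
      have h4 : c = (c * ((d : X) * (d : X))⁻¹) * ((d : X) * (d : X)) := by group
      rw [h4]
      exact P.mul_mem (hNP h2) h3
    obtain ⟨j, hj⟩ := zmod_gen hk _ hnot (Multiplicative.toAdd (φ ⟨g, hgE⟩))
    have h1 : φ (⟨g, hgE⟩ * (⟨c, hcE⟩ ^ j)⁻¹) = 1 := by
      rw [map_mul, map_inv, map_pow]
      apply Multiplicative.toAdd.injective
      rw [toAdd_mul, toAdd_inv, toAdd_pow, hj, toAdd_one]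
      abel
    have h2 : g * (c ^ j)⁻¹ ∈ N := hker _ h1
    have hcj : Commute (c ^ j) x := (show Commute c x from hcx).pow_left j
    refine ⟨g * (c ^ j)⁻¹, h2, ?_⟩
    have h3 : (c ^ j)⁻¹ * x * c ^ j = x := by
      rw [mul_assoc, ← hcj.eq, ← mul_assoc, inv_mul_cancel, one_mul]
    calc g * x * g⁻¹ = g * ((c ^ j)⁻¹ * x * c ^ j) * g⁻¹ := by rw [h3]
      _ = g * (c ^ j)⁻¹ * x * (g * (c ^ j)⁻¹)⁻¹ := by group

end Cfsg.Agent.Lib.Helper63.S2721K
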