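import Mathlib
import Cfsg.Prelude.Def_GeometricClasses

set_option autoImplicit false

namespace Cfsg.Agent.Lib.Helper63.SLMax

open Cfsg Cfsg.Geo
open scoped Matrix

/-- A field `L` that is an `F`-algebra mapping into the endomorphisms of an `F`-space `V` has degree dividing the dimension of
`V` (tower law). -/
theorem finrank_dvd_of_algHom {F L V : Type*} [Field F] [Field L] [Algebra F L] [AddCommGroup V] [Module F V]
    (f : L →ₐ[F] Module.End F V) : Module.finrank F L ∣ Module.finrank F V := by
  letI : Module L V := Module.compHom V (f : L →+* Module.End F V)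
  haveI : IsScalarTower F L V := ⟨fun c l v => by
    show f (c • l) v = c • f l v
    rw [map_smul]
    rfl⟩
  exact Module.finrank_dvd_finrank_right F L V

variable {F : Type*} [Field F] [Fintype F] {n : ℕ}

/-- K-SLMax-D3: the degree of a field subalgebra of the `n × n` matrices divides `n`. -/
theorem dvd_of_isFieldSubalgebra {r : ℕ} (K : Subalgebra F (Matrix (Fin n) (Fin n) F)) (hK : IsFieldSubalgebra r K) :
    r ∣ n := by
  rcases Nat.eq_zero_or_pos n with hn | hn
  · subst hn
    haveI : Subsingleton K := ⟨fun a b => Subtype.ext (Subsingleton.elim _ _)⟩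
    rw [← hK.finrank_eq, Module.finrank_zero_of_subsingleton]
  · haveI : Nonempty (Fin n) := ⟨⟨0, hn⟩⟩
    haveI : Nontrivial K := ⟨⟨0, 1, fun h => zero_ne_one (congrArg Subtype.val h)⟩⟩
    have hfield : IsField K :=
      { exists_pair_ne := ⟨0, 1, zero_ne_one⟩
        mul_comm := fun x y => Subtype.ext (hK.comm x x.2 y y.2)
        mul_inv_cancel := fun {a} ha => by
          obtain ⟨y, hy, hxy⟩ := hK.inv a a.2 (fun h => ha (Subtype.ext h))
          exact ⟨⟨y, hy⟩, Subtype.ext hxy⟩ }
    letI : Field K := hfield.toField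
    have h1 := finrank_dvd_of_algHom (F := F) (L := K) (V := Fin n → F)
      ((Matrix.toLinAlgEquiv' : Matrix (Fin n) (Fin n) F ≃ₐ[F] Module.End F (Fin n → F)).toAlgHom.comp K.val)
    rw [hK.finrank_eq, Module.finrank_fin_fun] at h1
    exact h1

end Cfsg.Agent.Lib.Helper63.SLMax
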