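import Cfsg.Agent.Lib.Helper98.Oh0
import Cfsg.Agent.Lib.Helper50.TypeCriteria
import Cfsg.Agent.Lib.Helper50.WittMain

set_option autoImplicit false

/-! K-Oh-A: over a finite field of odd characteristic the orthogonal sum of two nondegenerate
even-dimensional subspaces of a symmetric bilinear space is of plus type iff the summands have
the same type. Route: the discriminant criterion `Plus B W ↔ (Gram determinant of W is a square
↔ (-1)^(dim W / 2) is a square)`. -/

namespace Cfsg.Agent.Lib.Helper63.Oh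

open Module Cfsg.Agent.Lib.Helper98.Elus Cfsg.Agent.Lib.Helper98.Sy Cfsg.Agent.Lib.Helper98.Oh

universe u
variable {F : Type u} [Field F] {V : Type u} [AddCommGroup V] [Module F V]

theorem iff_iff_iff_swap (a b c d : Prop) : ((a ↔ b) ↔ (c ↔ d)) ↔ ((a ↔ c) ↔ (b ↔ d)) := by
  by_cases ha : a <;> by_cases hb : b <;> by_cases hc : c <;> by_cases hd : d <;>
    simp [ha, hb, hc, hd]

/-- product of two nonzero elements of a finite field: a square iff both or none are -/
theorem isSquare_mul_iff_iff [Fintype F] {x y : F} (hx : x ≠ 0) (hy : y ≠ 0) :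
    IsSquare (x * y) ↔ (IsSquare x ↔ IsSquare y) := by
  classical
  rw [← quadraticChar_one_iff_isSquare (mul_ne_zero hx hy), ← quadraticChar_one_iff_isSquare hx,
    ← quadraticChar_one_iff_isSquare hy, map_mul]
  rcases quadraticChar_dichotomy hx with h | h <;>
    rcases quadraticChar_dichotomy hy with h' | h' <;> rw [h, h'] <;> norm_num

/-- the quadratic form `w ↦ B w w / 2` on a subspace -/
noncomputable def qOn (B : LinearMap.BilinForm F V) (W : Submodule F V) : QuadraticForm F W :=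
  (2⁻¹ : F) • LinearMap.BilinMap.toQuadraticMap (B.restrict W)

theorem qOn_apply (B : LinearMap.BilinForm F V) (W : Submodule F V) (w : W) :
    qOn B W w = 2⁻¹ * B (w : V) (w : V) := by
  change (2⁻¹ : F) • (LinearMap.BilinMap.toQuadraticMap (B.restrict W)) w = _
  rw [LinearMap.BilinMap.toQuadraticMap_apply, smul_eq_mul]
  rfl

theorem polar_qOn (h2 : (2 : F) ≠ 0) (B : LinearMap.BilinForm F V) (hS : ∀ a b, B a b = B b a)
    (W : Submodule F V) (x y : W) :
    QuadraticMap.polar (qOn B W) x y = B (x : V) (y : V) := by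
  unfold QuadraticMap.polar
  rw [qOn_apply, qOn_apply, qOn_apply, Submodule.coe_add, map_add, map_add, LinearMap.add_apply,
    LinearMap.add_apply, hS (y : V) (x : V)]
  field_simp
  ring

theorem qnd_qOn (h2 : (2 : F) ≠ 0) (B : LinearMap.BilinForm F V) (hS : ∀ a b, B a b = B b a)
    (W : Submodule F V) (hW : NonDeg B W) : Cfsg.Agent.Lib.Helper50.QND (qOn B W) := by
  intro v hv
  apply Subtype.ext
  apply hW (v : V) v.2
  intro w hw
  have := hv ⟨w, hw⟩
  rwa [polar_qOn h2 B hS] at this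

theorem plus_iff_plusType (h2 : (2 : F) ≠ 0) [FiniteDimensional F V]
    (B : LinearMap.BilinForm F V) (hS : ∀ a b, B a b = B b a)
    (W : Submodule F V) (hW : NonDeg B W) (k : ℕ) (hk : finrank F W = 2 * k) :
    Plus B W ↔ Cfsg.Agent.Lib.Helper50.IsPlusType (qOn B W) k := by
  constructor
  · rintro ⟨U, hUW, hU0, hUd⟩
    have hfr : finrank F ↥(U.comap W.subtype) = finrank F U :=
      LinearEquiv.finrank_eq (Submodule.comapSubtypeEquivOfLe hUW)
    refine Cfsg.Agent.Lib.Helper50.plusType_of_totally_singular k (qOn B W)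
      (qnd_qOn h2 B hS W hW) hk (U.comap W.subtype) (by omega) ?_
    intro x hx
    rw [qOn_apply, hU0 (x : V) hx, mul_zero]
  · intro h
    obtain ⟨X, hXd, hX0⟩ :=
      Cfsg.Agent.Lib.Helper50.exists_totally_singular_of_plusType (qOn B W) k h
    refine ⟨X.map W.subtype, Submodule.map_subtype_le W X, ?_, ?_⟩
    · rintro _ ⟨x, hx, rfl⟩
      have := hX0 x hx
      rw [qOn_apply] at this
      rcases mul_eq_zero.mp this with h0 | h0
      · exact absurd (inv_eq_zero.mp h0) h2
      · exact h0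
    · rw [Submodule.finrank_map_subtype_eq, hXd, hk]

/-- the discriminant criterion for the plus type -/
theorem plus_iff_gram [Fintype F] (h2 : (2 : F) ≠ 0) [FiniteDimensional F V]
    (B : LinearMap.BilinForm F V) (hS : ∀ a b, B a b = B b a)
    (W : Submodule F V) (hW : NonDeg B W) (k : ℕ) (hk : finrank F W = 2 * k)
    {ι : Type} [Fintype ι] [DecidableEq ι] (b : Basis ι F W) :
    Plus B W ↔ (IsSquare (Matrix.of fun i j => B (b i : V) (b j : V)).det ↔
      IsSquare ((-1 : F) ^ k)) := by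
  have hG : (Matrix.of fun i j => QuadraticMap.polar (qOn B W) (b i) (b j)) =
      Matrix.of fun i j => B (b i : V) (b j : V) := by
    ext i j
    simp only [Matrix.of_apply]
    exact polar_qOn h2 B hS W (b i) (b j)
  rw [plus_iff_plusType h2 B hS W hW k hk]
  constructor
  · intro h
    rw [← hG]
    exact Cfsg.Agent.Lib.Helper50.gram_isSquare_plus (qOn B W) k h b
  · intro h
    rcases Cfsg.Agent.Lib.Helper50.witt_type (2 * k) (qOn B W) hk (qnd_qOn h2 B hS W hW) with
      ⟨m, hm, hp⟩ | ⟨m, ζ, hm, hζ, hp⟩ | ⟨m, c, hm, -, -⟩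
    · obtain rfl : m = k := by omega
      exact hp
    · exfalso
      obtain rfl : k = m + 1 := by omega
      have h3 := Cfsg.Agent.Lib.Helper50.gram_isSquare_minus h2 (qOn B W) m ζ hζ hp b
      rw [hG] at h3
      tauto
    · omega

/-- the Gram determinant of a nondegenerate subspace is nonzero -/
theorem gram_det_ne_zero (B : LinearMap.BilinForm F V) (hS : ∀ a b, B a b = B b a)
    (W : Submodule F V) (hW : NonDeg B W)
    {ι : Type} [Fintype ι] [DecidableEq ι] (b : Basis ι F W) :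
    (Matrix.of fun i j => B (b i : V) (b j : V)).det ≠ 0 := by
  intro hdet
  obtain ⟨c, hc0, hc⟩ := Matrix.exists_mulVec_eq_zero_iff.mpr hdet
  apply hc0
  set u : W := ∑ j, c j • b j with hu
  have hbu : ∀ i, B (b i : V) (u : V) = 0 := by
    intro i
    have := congrFun hc i
    rw [Matrix.mulVec, dotProduct] at this
    simp only [Matrix.of_apply, Pi.zero_apply] at this
    rw [hu, Submodule.coe_sum, map_sum]
    rw [← this]
    refine Finset.sum_congr rfl fun j _ => ?_
    rw [Submodule.coe_smul, map_smul, smul_eq_mul, mul_comm]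
  have hu0 : u = 0 := by
    apply Subtype.ext
    apply hW (u : V) u.2
    intro w hw
    rw [hS]
    have hw' : (⟨w, hw⟩ : W) = ∑ i, b.repr ⟨w, hw⟩ i • b i := (b.sum_repr ⟨w, hw⟩).symm
    have hw'' : w = ∑ i, b.repr ⟨w, hw⟩ i • (b i : V) := by
      have := congrArg (fun z : W => (z : V)) hw'
      simp only [Submodule.coe_sum, Submodule.coe_smul] at this
      exact this
    rw [hw'', map_sum, LinearMap.sum_apply]
    apply Finset.sum_eq_zero
    intro i _
    rw [map_smul, LinearMap.smul_apply, hbu i, smul_zero]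
  funext i
  exact Fintype.linearIndependent_iff.mp b.linearIndependent c hu0 i

/-- the sum map `W1 × W2 → W1 ⊔ W2` -/
noncomputable def supMap (W1 W2 : Submodule F V) : (W1 × W2) →ₗ[F] ↥(W1 ⊔ W2) :=
  (Submodule.inclusion (le_sup_left : W1 ≤ W1 ⊔ W2)).coprod
    (Submodule.inclusion (le_sup_right : W2 ≤ W1 ⊔ W2))

theorem supMap_coe (W1 W2 : Submodule F V) (x : W1 × W2) :
    ((supMap W1 W2 x : ↥(W1 ⊔ W2)) : V) = (x.1 : V) + (x.2 : V) := by
  unfold supMap
  rw [LinearMap.coprod_apply]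
  rfl

theorem supMap_bijective (W1 W2 : Submodule F V) (h : W1 ⊓ W2 = ⊥) :
    Function.Bijective (supMap W1 W2) := by
  constructor
  · rw [← LinearMap.ker_eq_bot, LinearMap.ker_eq_bot']
    rintro ⟨a, c⟩ hac
    have h1 := congrArg (fun z : ↥(W1 ⊔ W2) => (z : V)) hac
    simp only [supMap_coe, ZeroMemClass.coe_zero] at h1
    have ha : (a : V) ∈ W1 ⊓ W2 := by
      refine Submodule.mem_inf.mpr ⟨a.2, ?_⟩
      have : (a : V) = -(c : V) := eq_neg_of_add_eq_zero_left h1
      rw [this]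
      exact W2.neg_mem c.2
    rw [h, Submodule.mem_bot] at ha
    have hc : (c : V) = 0 := by rwa [ha, zero_add] at h1
    exact Prod.ext (Subtype.ext ha) (Subtype.ext hc)
  · rintro ⟨w, hw⟩
    obtain ⟨a, ha, c, hc, rfl⟩ := Submodule.mem_sup.mp hw
    refine ⟨(⟨a, ha⟩, ⟨c, hc⟩), ?_⟩
    apply Subtype.ext
    rw [supMap_coe]

/-- the sum map as a linear equivalence, for two independent subspaces -/
noncomputable def supEquiv (W1 W2 : Submodule F V) (h : W1 ⊓ W2 = ⊥) :
    (W1 × W2) ≃ₗ[F] ↥(W1 ⊔ W2) :=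
  LinearEquiv.ofBijective (supMap W1 W2) (supMap_bijective W1 W2 h)

theorem supEquiv_coe (W1 W2 : Submodule F V) (h : W1 ⊓ W2 = ⊥) (x : W1 × W2) :
    ((supEquiv W1 W2 h x : ↥(W1 ⊔ W2)) : V) = (x.1 : V) + (x.2 : V) := by
  unfold supEquiv
  rw [LinearEquiv.ofBijective_apply, supMap_coe]

/-- a basis of the sum of two independent subspaces from bases of the summands -/
theorem exists_sup_basis (W1 W2 : Submodule F V) (h : W1 ⊓ W2 = ⊥) {ι1 ι2 : Type}
    (b1 : Basis ι1 F W1) (b2 : Basis ι2 F W2) :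
    ∃ b : Basis (ι1 ⊕ ι2) F ↥(W1 ⊔ W2),
      (∀ i, ((b (Sum.inl i) : ↥(W1 ⊔ W2)) : V) = (b1 i : V)) ∧
      (∀ i, ((b (Sum.inr i) : ↥(W1 ⊔ W2)) : V) = (b2 i : V)) := by
  refine ⟨(b1.prod b2).map (supEquiv W1 W2 h), ?_, ?_⟩
  · intro i
    rw [Basis.map_apply, supEquiv_coe, Basis.prod_apply_inl_fst, Basis.prod_apply_inl_snd,
      ZeroMemClass.coe_zero, add_zero]
  · intro i
    rw [Basis.map_apply, supEquiv_coe, Basis.prod_apply_inr_fst, Basis.prod_apply_inr_snd,
      ZeroMemClass.coe_zero, zero_add]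

theorem plus_sup_iff [Fintype F] (h2 : (2 : F) ≠ 0) [FiniteDimensional F V]
    (B : LinearMap.BilinForm F V) (hS : ∀ a b, B a b = B b a)
    (W1 W2 : Submodule F V) (h1 : NonDeg B W1) (h2' : NonDeg B W2) (hort : Ort B W1 W2)
    (he1 : Even (finrank F W1)) (he2 : Even (finrank F W2)) :
    Plus B (W1 ⊔ W2) ↔ (Plus B W1 ↔ Plus B W2) := by
  have hR := Cfsg.Agent.Lib.Helper98.Os.isRefl_of_symm hS
  obtain ⟨hnd, hdisj⟩ := Cfsg.Agent.Lib.Helper98.Os.nonDeg_sup hR W1 W2 h1 h2' hort
  obtain ⟨k1, hk1⟩ := he1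
  obtain ⟨k2, hk2⟩ := he2
  have hk : finrank F ↥(W1 ⊔ W2) = 2 * (k1 + k2) := by
    rw [Cfsg.Agent.Lib.Helper98.Os.finrank_sup_of_ort hR W1 W2 h1 h2' hort, hk1, hk2]
    ring
  obtain ⟨b1⟩ : Nonempty (Basis (Fin (finrank F W1)) F W1) := ⟨Module.finBasis F W1⟩
  obtain ⟨b2⟩ : Nonempty (Basis (Fin (finrank F W2)) F W2) := ⟨Module.finBasis F W2⟩
  obtain ⟨b, hbl, hbr⟩ := exists_sup_basis W1 W2 hdisj b1 b2
  have hG : (Matrix.of fun i j => B (b i : V) (b j : V)) =
      Matrix.fromBlocks (Matrix.of fun i j => B (b1 i : V) (b1 j : V)) 0 0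
        (Matrix.of fun i j => B (b2 i : V) (b2 j : V)) := by
    ext i j
    rcases i with i | i <;> rcases j with j | j
    · rw [Matrix.of_apply, Matrix.fromBlocks_apply₁₁, Matrix.of_apply, hbl, hbl]
    · rw [Matrix.of_apply, Matrix.fromBlocks_apply₁₂, hbl, hbr, Matrix.zero_apply]
      exact hort _ (b1 i).2 _ (b2 j).2
    · rw [Matrix.of_apply, Matrix.fromBlocks_apply₂₁, hbl, hbr, Matrix.zero_apply, hS]
      exact hort _ (b1 j).2 _ (b2 i).2
    · rw [Matrix.of_apply, Matrix.fromBlocks_apply₂₂, Matrix.of_apply, hbr, hbr]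
  have hd1 := gram_det_ne_zero B hS W1 h1 b1
  have hd2 := gram_det_ne_zero B hS W2 h2' b2
  have hm1 : ((-1 : F) ^ k1) ≠ 0 := pow_ne_zero _ (neg_ne_zero.mpr one_ne_zero)
  have hm2 : ((-1 : F) ^ k2) ≠ 0 := pow_ne_zero _ (neg_ne_zero.mpr one_ne_zero)
  have e := plus_iff_gram h2 B hS (W1 ⊔ W2) hnd (k1 + k2) hk b
  have e1 := plus_iff_gram h2 B hS W1 h1 k1 (by omega) b1
  have e2 := plus_iff_gram h2 B hS W2 h2' k2 (by omega) b2
  rw [hG, Matrix.det_fromBlocks_zero₂₁, pow_add, isSquare_mul_iff_iff hd1 hd2,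
    isSquare_mul_iff_iff hm1 hm2] at e
  rw [e, e1, e2]
  exact iff_iff_iff_swap _ _ _ _

end Cfsg.Agent.Lib.Helper63.Oh
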