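import Cfsg.Agent.Lib.Helper46.UTiDefs
import Cfsg.Agent.Lib.Helper46.UnitaryField

/-!
# K-UTi-B3 (keystone 595303, architect helper46): isotropic vectors and totally isotropic subspaces
of hermitian spaces over a finite field

`exists_isotropic`, `two_mul_finrank_le`, `exists_ti` with the exact signatures of
`notes/S5953_keystones.lean.txt`.  The file is self-contained: it proves its own copies
(`finrank_orth_inf_aux`, `compl_props_aux`) of the two facts of B1/B2 it needs.
-/

set_option autoImplicit false
set_option linter.unusedSectionVars false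
set_option linter.unusedVariables false

namespace Cfsg.Agent.Lib.Helper63.UTi

open Module Polynomial Cfsg.Agent.Lib.Helper98.Elus Cfsg.Agent.Lib.Helper46.UTi
open Cfsg.Agent.Lib.Helper19 (pow_q_pow_q add_pow_q sum_pow_q q_pos one_lt_q)

universe u

section base

variable {F : Type u} [Field F] [Fintype F] {V : Type u} [AddCommGroup V] [Module F V]
  [FiniteDimensional F V] {q : ℕ} {H : V → V → F}

omit [FiniteDimensional F V] in
/-- the norm `c ↦ c ^ (q + 1)` is onto the nonzero elements of the fixed field -/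
theorem exists_norm_eq (hF : Fintype.card F = q ^ 2) (r : F) (hr0 : r ≠ 0) (hrq : r ^ q = r) :
    ∃ c : F, c ^ (q + 1) = r := by
  have hq1 : 1 < q := one_lt_q hF
  have hrq1 : r ^ (q - 1) = 1 := by
    have h1 : r ^ (q - 1) * r = 1 * r := by
      rw [← pow_succ, Nat.sub_add_cancel (by omega), hrq, one_mul]
    exact mul_right_cancel₀ hr0 h1
  have hy : (Units.mk0 r hr0) ^ (q - 1) = 1 := by
    apply Units.ext
    rw [Units.val_pow_eq_pow_val, Units.val_mk0, Units.val_one, hrq1]
  obtain ⟨x, hx⟩ := Cfsg.Agent.Lib.Helper46.exists_pow_eq_of_pow_eq_one (C := Fˣ) (q + 1) (q - 1)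
    (Cfsg.Agent.Lib.Helper46.card_units_eq hF) _ hy
  refine ⟨(x : F), ?_⟩
  have := congrArg Units.val hx
  rwa [Units.val_pow_eq_pow_val, Units.val_mk0] at this

omit [Fintype F] [FiniteDimensional F V] in
/-- the linear map `u ↦ (H u (b j))_j` on `U` -/
noncomputable def evalMap (hH : IsHerm q H) (U : Submodule F V) {k : ℕ} (b : Fin k → V) :
    U →ₗ[F] (Fin k → F) where
  toFun u j := H (u : V) (b j)
  map_add' a c := by
    funext j
    simp only [Submodule.coe_add, Pi.add_apply]
    exact hH.add_left _ _ _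
  map_smul' c a := by
    funext j
    simp only [Submodule.coe_smul, Pi.smul_apply, RingHom.id_apply, smul_eq_mul]
    exact hH.smul_left _ _ _

omit [Fintype F] [FiniteDimensional F V] in
theorem evalMap_apply (hH : IsHerm q H) (U : Submodule F V) {k : ℕ} (b : Fin k → V) (u : U)
    (j : Fin k) : evalMap hH U b u j = H (u : V) (b j) := rfl

/-- own copy of B1 `finrank_orth_inf` -/
theorem finrank_orth_inf_aux (hF : Fintype.card F = q ^ 2) (hH : IsHerm q H)
    (Z U : Submodule F V) (hZU : Z ≤ U) (hU : NonDeg H U) :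
    finrank F ↥(orth hH Z ⊓ U) + finrank F Z = finrank F U := by
  classical
  obtain ⟨k, hk⟩ : ∃ k, k = finrank F Z := ⟨_, rfl⟩
  have b : Basis (Fin k) F Z := (Module.finBasis F Z).reindex (finCongr hk.symm)
  set φ := evalMap hH U (fun j => (b j : V)) with hφ
  have hker : LinearMap.ker φ = Submodule.comap U.subtype (orth hH Z ⊓ U) := by
    ext u
    rw [LinearMap.mem_ker, Submodule.mem_comap, Submodule.mem_inf]
    constructor
    · intro h
      refine ⟨?_, u.2⟩
      intro z hz
      have hz' : z = ∑ j, b.repr ⟨z, hz⟩ j • (b j : V) := by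
        have := congrArg Subtype.val (b.sum_repr ⟨z, hz⟩)
        rw [Submodule.coe_sum] at this
        simp only [Submodule.coe_smul] at this
        exact this.symm
      rw [hz', hH.sum_right hF]
      apply Finset.sum_eq_zero
      intro j _
      have : H (u : V) (b j) = 0 := congrFun h j
      rw [Submodule.subtype_apply, this, mul_zero]
    · rintro ⟨h, -⟩
      funext j
      exact h _ (b j).2
  have hkd : finrank F (LinearMap.ker φ) = finrank F ↥(orth hH Z ⊓ U) := by
    rw [hker]
    exact (Submodule.comapSubtypeEquivOfLe inf_le_right).finrank_eq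
  have hrange : LinearMap.range φ = ⊤ := by
    by_contra hne
    obtain ⟨f, hf0, hf⟩ := Submodule.exists_le_ker_of_lt_top _ (lt_top_iff_ne_top.mpr hne)
    set c : Fin k → F := fun j => f (fun j' => if j = j' then 1 else 0) with hc
    have hfx : ∀ x : Fin k → F, f x = ∑ j, x j * c j := by
      intro x
      rw [LinearMap.pi_apply_eq_sum_univ]
      rfl
    set z : V := ∑ j, (c j) ^ q • (b j : V) with hz
    have hzZ : z ∈ Z := Submodule.sum_mem _ (fun j _ => Z.smul_mem _ (b j).2)
    have hall : ∀ u ∈ U, H u z = 0 := by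
      intro u hu
      rw [hz, hH.sum_right hF]
      have := hf (LinearMap.mem_range_self φ ⟨u, hu⟩)
      rw [LinearMap.mem_ker, hfx] at this
      rw [← this]
      apply Finset.sum_congr rfl
      intro j _
      rw [pow_q_pow_q hF, mul_comm]
      rfl
    have hz0 : z = 0 := by
      apply hU z (hZU hzZ)
      intro u hu
      exact hH.eq_zero_symm (q_pos hF) (hall u hu)
    have hc0 : ∀ j, c j = 0 := by
      have h1 : (∑ j, (c j) ^ q • b j : Z) = 0 := by
        apply Subtype.ext
        rw [Submodule.coe_sum, Submodule.coe_zero]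
        simp only [Submodule.coe_smul]
        rw [← hz]
        exact hz0
      have := (Fintype.linearIndependent_iff.mp b.linearIndependent) (fun j => (c j) ^ q) h1
      intro j
      exact (pow_eq_zero_iff (q_pos hF).ne').mp (this j)
    apply hf0
    apply LinearMap.ext
    intro x
    rw [hfx]
    simp [hc0]
  have h := LinearMap.finrank_range_add_finrank_ker φ
  rw [hrange, finrank_top, hkd, Module.finrank_fin_fun] at h
  omega

/-- own copy of B2 `compl_props` -/
theorem compl_props_aux (hF : Fintype.card F = q ^ 2) (hH : IsHerm q H) (W' W : Submodule F V)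
    (hW' : NonDeg H W') (hle : W' ≤ W) (hW : NonDeg H W) :
    W' ⊔ (orth hH W' ⊓ W) = W ∧ W' ⊓ (orth hH W' ⊓ W) = ⊥ ∧
      NonDeg H (orth hH W' ⊓ W) ∧
      finrank F W' + finrank F ↥(orth hH W' ⊓ W) = finrank F W := by
  have hd := finrank_orth_inf_aux hF hH W' W hle hW
  have h2 : W' ⊓ (orth hH W' ⊓ W) = ⊥ := by
    rw [eq_bot_iff]
    intro u hu
    obtain ⟨hu1, hu2, -⟩ := hu
    rw [Submodule.mem_bot]
    exact hW' u hu1 hu2
  have h1 : W' ⊔ (orth hH W' ⊓ W) = W := by
    apply Submodule.eq_of_le_of_finrank_eq (sup_le hle inf_le_right)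
    have h := Submodule.finrank_sup_add_finrank_inf_eq W' (orth hH W' ⊓ W)
    rw [h2, finrank_bot] at h
    omega
  refine ⟨h1, h2, ?_, by omega⟩
  intro u hu hu'
  obtain ⟨hu1, hu2⟩ := Submodule.mem_inf.mp hu
  apply hW u hu2
  intro w hw
  rw [← h1] at hw
  obtain ⟨a, ha, b, hb, rfl⟩ := Submodule.mem_sup.mp hw
  rw [hH.add_right hF, hu' b hb, add_zero]
  exact hu1 a ha

/-- **K-UTi-B3 (595303)** isotropic vectors (norm `a ↦ a ^ (q+1)` is onto the fixed field) -/
theorem exists_isotropic (hF : Fintype.card F = q ^ 2) (hH : IsHerm q H) (U : Submodule F V)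
    (hU : NonDeg H U) (hd : 2 ≤ finrank F U) : ∃ v ∈ U, v ≠ 0 ∧ H v v = 0 := by
  by_cases hall : ∀ v ∈ U, H v v = 0
  · have hne : U ≠ ⊥ := by
      rintro rfl
      rw [finrank_bot] at hd
      omega
    obtain ⟨v, hv, hv0⟩ := Submodule.exists_mem_ne_zero_of_ne_bot hne
    exact ⟨v, hv, hv0, hall v hv⟩
  · push Not at hall
    obtain ⟨u, hu, huu⟩ := hall
    set φ := evalMap hH U (fun _ : Fin 1 => u) with hφ
    have hker : LinearMap.ker φ ≠ ⊥ := by
      intro hbot
      have h := LinearMap.finrank_range_add_finrank_ker φ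
      rw [hbot, finrank_bot, add_zero] at h
      have h1 := Submodule.finrank_le (LinearMap.range φ)
      rw [Module.finrank_fin_fun] at h1
      omega
    obtain ⟨w, hw, hw0⟩ := Submodule.exists_mem_ne_zero_of_ne_bot hker
    have hwu : H (w : V) u = 0 := congrFun (LinearMap.mem_ker.mp hw) 0
    have huw : H u (w : V) = 0 := hH.eq_zero_symm (q_pos hF) hwu
    have hw0' : (w : V) ≠ 0 := fun h => hw0 (Subtype.ext h)
    by_cases hww : H (w : V) w = 0
    · exact ⟨w, w.2, hw0', hww⟩
    · obtain ⟨a, ha⟩ : ∃ a, a = H u u := ⟨_, rfl⟩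
      obtain ⟨b, hb⟩ : ∃ b, b = H (w : V) w := ⟨_, rfl⟩
      rw [← ha] at huu
      rw [← hb] at hww
      have haq : a ^ q = a := by rw [ha]; exact hH.self_pow u
      have hbq : b ^ q = b := by rw [hb]; exact hH.self_pow w
      have hnaq : (-a) ^ q = -a := by
        have h := add_pow_q hF (-a) a
        rw [neg_add_cancel, zero_pow (q_pos hF).ne', haq] at h
        exact eq_neg_of_add_eq_zero_left h.symm
      have hr0 : -a / b ≠ 0 := div_ne_zero (neg_ne_zero.mpr huu) hww
      have hrq : (-a / b) ^ q = -a / b := by rw [div_pow, hnaq, hbq]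
      obtain ⟨c, hc⟩ := exists_norm_eq hF (-a / b) hr0 hrq
      refine ⟨u + c • (w : V), U.add_mem hu (U.smul_mem c w.2), ?_, ?_⟩
      · intro h0
        have h1 : H (u + c • (w : V)) u = 0 := by rw [h0]; exact hH.zero_left u
        rw [hH.add_left, hH.smul_left, hwu, mul_zero, add_zero, ← ha] at h1
        exact huu h1
      · rw [hH.add_left, hH.add_right hF, hH.add_right hF, hH.smul_left, hH.smul_left,
          hH.smul_right, hH.smul_right, hwu, huw, ← ha, ← hb]
        have : c * (c ^ q * b) = c ^ (q + 1) * b := by ring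
        rw [mul_zero, mul_zero, add_zero, zero_add, this, hc]
        field_simp
        ring

/-- a totally isotropic subspace of a nondegenerate subspace has at most half the dimension -/
theorem two_mul_finrank_le (hF : Fintype.card F = q ^ 2) (hH : IsHerm q H)
    (U Z : Submodule F V) (hU : NonDeg H U) (hZU : Z ≤ U) (hZ : Ort H Z Z) :
    2 * finrank F Z ≤ finrank F U := by
  have h1 := finrank_orth_inf_aux hF hH Z U hZU hU
  have h2 : Z ≤ orth hH Z ⊓ U := le_inf ((ort_iff_le_orth hH Z Z).mp hZ) hZU
  have h3 := Submodule.finrank_mono h2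
  omega

/-- a nondegenerate plane through an isotropic vector -/
theorem exists_plane_of_isotropic (hF : Fintype.card F = q ^ 2) (hH : IsHerm q H)
    (U : Submodule F V) (hU : NonDeg H U) (v : V) (hv : v ∈ U) (hv0 : v ≠ 0) (hvv : H v v = 0) :
    ∃ P : Submodule F V, P ≤ U ∧ v ∈ P ∧ NonDeg H P ∧ finrank F P = 2 := by
  have : ∃ w ∈ U, H v w ≠ 0 := by
    by_contra h
    push Not at h
    exact hv0 (hU v hv h)
  obtain ⟨w, hw, hvw⟩ := this
  have hwv : H w v ≠ 0 := by
    rw [hH.conj v w]
    exact pow_ne_zero _ hvw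
  have hli : LinearIndependent F ![v, w] := by
    rw [LinearIndependent.pair_iff]
    intro s t hst
    have h1 : H (s • v + t • w) v = 0 := by rw [hst]; exact hH.zero_left v
    rw [hH.add_left, hH.smul_left, hH.smul_left, hvv, mul_zero, zero_add] at h1
    have ht : t = 0 := by
      rcases mul_eq_zero.mp h1 with h | h
      · exact h
      · exact absurd h hwv
    rw [ht, zero_smul, add_zero] at hst
    have hs : s = 0 := by
      rcases smul_eq_zero.mp hst with h | h
      · exact h
      · exact absurd h hv0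
    exact ⟨hs, ht⟩
  have hrange : Set.range ![v, w] = {v, w} := by
    ext x
    simp only [Matrix.range_cons, Matrix.range_empty, Set.union_empty, Set.mem_union,
      Set.mem_singleton_iff, Set.mem_insert_iff]
  refine ⟨Submodule.span F (Set.range ![v, w]), ?_, ?_, ?_, ?_⟩
  · apply Submodule.span_le.mpr
    rintro _ ⟨k, rfl⟩
    fin_cases k
    · exact hv
    · exact hw
  · exact Submodule.subset_span ⟨0, rfl⟩
  · intro x hx hx'
    rw [hrange] at hx hx'
    obtain ⟨a, b, rfl⟩ := Submodule.mem_span_pair.mp hx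
    have h1 := hx' v (Submodule.subset_span (by simp))
    have h2 := hx' w (Submodule.subset_span (by simp))
    rw [hH.add_left, hH.smul_left, hH.smul_left, hvv, mul_zero, zero_add] at h1
    have hb : b = 0 := by
      rcases mul_eq_zero.mp h1 with h | h
      · exact h
      · exact absurd h hwv
    rw [hb, zero_smul, add_zero, hH.smul_left] at h2
    have ha : a = 0 := by
      rcases mul_eq_zero.mp h2 with h | h
      · exact h
      · exact absurd h hvw
    rw [ha, hb, zero_smul, zero_smul, add_zero]
  · rw [finrank_span_eq_card hli]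
    simp

/-- totally isotropic subspaces of every admissible dimension -/
theorem exists_ti (hF : Fintype.card F = q ^ 2) (hH : IsHerm q H) :
    ∀ (s : ℕ) (U : Submodule F V), NonDeg H U → 2 * s ≤ finrank F U →
      ∃ Z : Submodule F V, Z ≤ U ∧ Ort H Z Z ∧ finrank F Z = s := by
  intro s
  induction s with
  | zero =>
    intro U _ _
    refine ⟨⊥, bot_le, fun u hu v hv => ?_, finrank_bot F V⟩
    rw [(Submodule.mem_bot F).mp hu]
    exact hH.zero_left v
  | succ s ih =>
    intro U hU hs
    obtain ⟨v, hv, hv0, hvv⟩ := exists_isotropic hF hH U hU (by omega)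
    obtain ⟨P, hPle, hvP, hP, hPd⟩ := exists_plane_of_isotropic hF hH U hU v hv hv0 hvv
    obtain ⟨h1, h2, h3, h4⟩ := compl_props_aux hF hH P U hP hPle hU
    obtain ⟨Z', hZ'le, hZ', hZ'd⟩ := ih (orth hH P ⊓ U) h3 (by omega)
    have hZv : ∀ z ∈ Z', H z v = 0 := fun z hz => (Submodule.mem_inf.mp (hZ'le hz)).1 v hvP
    have hvZ : ∀ z ∈ Z', H v z = 0 := fun z hz => hH.eq_zero_symm (q_pos hF) (hZv z hz)
    refine ⟨Submodule.span F {v} ⊔ Z', ?_, ?_, ?_⟩
    · apply sup_le
      · rw [Submodule.span_singleton_le_iff_mem]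
        exact hv
      · exact le_trans hZ'le inf_le_right
    · intro a ha b hb
      obtain ⟨a1, ha1, a2, ha2, rfl⟩ := Submodule.mem_sup.mp ha
      obtain ⟨b1, hb1, b2, hb2, rfl⟩ := Submodule.mem_sup.mp hb
      obtain ⟨α, rfl⟩ := Submodule.mem_span_singleton.mp ha1
      obtain ⟨β, rfl⟩ := Submodule.mem_span_singleton.mp hb1
      rw [hH.add_left, hH.add_right hF, hH.add_right hF, hH.smul_left, hH.smul_left,
        hH.smul_right, hH.smul_right, hvv, hvZ b2 hb2, hZv a2 ha2, hZ' a2 ha2 b2 hb2]
      ring
    · have hinf : Submodule.span F {v} ⊓ Z' = ⊥ := by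
        rw [eq_bot_iff, ← h2]
        apply inf_le_inf
        · rw [Submodule.span_singleton_le_iff_mem]
          exact hvP
        · exact hZ'le
      have h := Submodule.finrank_sup_add_finrank_inf_eq (Submodule.span F {v}) Z'
      rw [hinf, finrank_bot, finrank_span_singleton hv0, hZ'd] at h
      omega

end base

end Cfsg.Agent.Lib.Helper63.UTi
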