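import Mathlib
import Cfsg.Agent.Lib.Helper74.FCDefs
import Cfsg.Agent.Lib.Helper01.FrobPackage

set_option autoImplicit false

universe u

namespace Cfsg.Agent.Lib.Helper63.FC

open Cfsg.Agent.Lib.Helper74.FC

/-- K-S3359-1: a nontrivial subgroup of a Frobenius complement is a Frobenius complement. -/
theorem isFC_subgroup {G : Type u} [Group G] [Finite G] (h : IsFC G) (D : Subgroup G) (hD : D ≠ ⊥) :
    IsFC D := by
  obtain ⟨L, _, _, H, hH, ⟨e⟩⟩ := h
  obtain ⟨N, hN, -, -⟩ := Cfsg.Agent.S0035.result H hH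
  have pkg := Cfsg.Agent.Lib.Helper01.frobPkg_of H N hH hN
  have hfinj : Function.Injective (H.subtype.comp e.toMonoidHom) :=
    H.subtype_injective.comp e.injective
  have hD'H : D.map (H.subtype.comp e.toMonoidHom) ≤ H := by
    rintro _ ⟨x, -, rfl⟩
    exact (e x).2
  have hD'ne : D.map (H.subtype.comp e.toMonoidHom) ≠ ⊥ := by
    intro hbot
    apply hD
    rw [eq_bot_iff]
    intro x hx
    have h1 : (H.subtype.comp e.toMonoidHom) x ∈ D.map (H.subtype.comp e.toMonoidHom) := ⟨x, hx, rfl⟩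
    rw [hbot, Subgroup.mem_bot] at h1
    rw [Subgroup.mem_bot]
    exact hfinj (h1.trans (map_one _).symm)
  obtain ⟨hfc, -⟩ := Cfsg.Agent.Lib.Helper01.frob_sub H N hH pkg _ hD'H hD'ne
  refine ⟨↥(N ⊔ D.map (H.subtype.comp e.toMonoidHom)), inferInstance, inferInstance,
    (D.map (H.subtype.comp e.toMonoidHom)).subgroupOf (N ⊔ D.map (H.subtype.comp e.toMonoidHom)), hfc, ⟨?_⟩⟩
  exact (D.equivMapOfInjective _ hfinj).trans (Subgroup.subgroupOfEquivOfLe le_sup_right).symm

end Cfsg.Agent.Lib.Helper63.FC
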