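import Mathlib

/-!
# K-S4118-3 (keystone 411803, architect helper11): order count `R = O (R ⊓ H)` for a Hall subgroup `H`.
-/

set_option autoImplicit false

namespace Cfsg.Agent.Lib.Helper63.TIHall

theorem card_mul_relIndex_of_le {G : Type*} [Group G] {K L : Subgroup G} (h : K ≤ L) :
    Nat.card K * K.relIndex L = Nat.card L := by
  have := Subgroup.relIndex_mul_relIndex (⊥ : Subgroup G) K L bot_le h
  rwa [Subgroup.relIndex_bot_left, Subgroup.relIndex_bot_left] at this

/-- `|R : R ⊓ H| = |HR : H|` divides `|G : H|` for `R` normal. -/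
theorem relIndex_dvd_index_of_normal_right {G : Type*} [Group G] [Finite G] (H R : Subgroup G) [R.Normal] :
    H.relIndex R ∣ H.index := by
  have h1 : Nat.card H * H.relIndex (H ⊔ R) = Nat.card (H ⊔ R : Subgroup G) :=
    card_mul_relIndex_of_le le_sup_left
  have h2 : Nat.card R * R.relIndex (H ⊔ R) = Nat.card (H ⊔ R : Subgroup G) :=
    card_mul_relIndex_of_le le_sup_right
  rw [Subgroup.relIndex_sup_right] at h2
  have h3 : Nat.card (H ⊓ R : Subgroup G) * R.relIndex H = Nat.card H := by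
    have := card_mul_relIndex_of_le (inf_le_left : H ⊓ R ≤ H)
    rwa [Subgroup.inf_relIndex_left] at this
  have h4 : Nat.card (H ⊓ R : Subgroup G) * H.relIndex R = Nat.card R := by
    have := card_mul_relIndex_of_le (inf_le_right : H ⊓ R ≤ R)
    rwa [Subgroup.inf_relIndex_right] at this
  have hpos : 0 < Nat.card (H ⊓ R : Subgroup G) * R.relIndex H := by
    rw [h3]; exact Nat.card_pos
  have h5 : H.relIndex (H ⊔ R) = H.relIndex R := by
    have h6 : Nat.card (H ⊓ R : Subgroup G) * R.relIndex H * H.relIndex (H ⊔ R) =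
        Nat.card (H ⊓ R : Subgroup G) * R.relIndex H * H.relIndex R := by
      calc Nat.card (H ⊓ R : Subgroup G) * R.relIndex H * H.relIndex (H ⊔ R)
          = Nat.card (H ⊔ R : Subgroup G) := by rw [h3, h1]
        _ = Nat.card R * R.relIndex H := h2.symm
        _ = Nat.card (H ⊓ R : Subgroup G) * H.relIndex R * R.relIndex H := by rw [h4]
        _ = Nat.card (H ⊓ R : Subgroup G) * R.relIndex H * H.relIndex R := by ring
    exact Nat.eq_of_mul_eq_mul_left hpos h6
  rw [← h5]
  exact Subgroup.relIndex_dvd_index_of_le le_sup_left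

/-- **K-S4118-3**. -/
theorem le_sup_of_hall {G : Type*} [Group G] [Finite G] (H O R : Subgroup G) [O.Normal] [R.Normal]
    (hHallG : (Nat.card H).Coprime H.index) (hOc : (Nat.card O).Coprime (Nat.card H)) (hOR : O ≤ R)
    (hpi : ∀ q : ℕ, q.Prime → q ∣ O.relIndex R → q ∣ Nat.card H) : R ≤ O ⊔ H := by
  -- notation
  have hab : Nat.card O * O.relIndex R = Nat.card R := card_mul_relIndex_of_le hOR
  have hcd : Nat.card (H ⊓ R : Subgroup G) * H.relIndex R = Nat.card R := by
    have := card_mul_relIndex_of_le (inf_le_right : H ⊓ R ≤ R)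
    rwa [Subgroup.inf_relIndex_right] at this
  have hd : H.relIndex R ∣ H.index := relIndex_dvd_index_of_normal_right H R
  have hcH : Nat.card (H ⊓ R : Subgroup G) ∣ Nat.card H := Subgroup.card_dvd_of_le inf_le_left
  -- `c ∣ b`
  have hcb : Nat.card (H ⊓ R : Subgroup G) ∣ O.relIndex R := by
    have h1 : Nat.card (H ⊓ R : Subgroup G) ∣ Nat.card O * O.relIndex R := by
      rw [hab, ← hcd]; exact dvd_mul_right _ _
    have h2 : (Nat.card (H ⊓ R : Subgroup G)).Coprime (Nat.card O) :=
      (Nat.Coprime.coprime_dvd_right hcH hOc).symm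
    exact h2.dvd_of_dvd_mul_left h1
  -- `b ∣ c`
  have hbc : O.relIndex R ∣ Nat.card (H ⊓ R : Subgroup G) := by
    have h1 : O.relIndex R ∣ Nat.card (H ⊓ R : Subgroup G) * H.relIndex R := by
      rw [hcd, ← hab]; exact dvd_mul_left _ _
    have h2 : (O.relIndex R).Coprime (H.relIndex R) := by
      apply Nat.Coprime.coprime_dvd_right hd
      apply Nat.coprime_of_dvd
      intro q hq hqb hqi
      exact (Nat.Prime.coprime_iff_not_dvd hq).1
        ((Nat.Coprime.coprime_dvd_left (hpi q hq hqb) hHallG)) hqi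
    exact h2.dvd_of_dvd_mul_right h1
  have hbeq : O.relIndex R = Nat.card (H ⊓ R : Subgroup G) := Nat.dvd_antisymm hbc hcb
  -- the subgroup `S = O ⊔ (H ⊓ R)`
  have hbot : O ⊓ (H ⊓ R) = ⊥ := by
    exact disjoint_iff.1 (Subgroup.disjoint_of_coprime_natCard
      (Nat.Coprime.coprime_dvd_right hcH hOc))
  have hScard : Nat.card (O ⊔ (H ⊓ R) : Subgroup G) = Nat.card R := by
    have h1 : Nat.card O * O.relIndex (O ⊔ (H ⊓ R)) = Nat.card (O ⊔ (H ⊓ R) : Subgroup G) :=
      card_mul_relIndex_of_le le_sup_left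
    rw [Subgroup.relIndex_sup_left] at h1
    have h2 : O.relIndex (H ⊓ R) = Nat.card (H ⊓ R : Subgroup G) := by
      rw [← Subgroup.inf_relIndex_right, hbot, Subgroup.relIndex_bot_left]
    rw [← h1, h2, ← hbeq, hab]
  have hSR : O ⊔ (H ⊓ R) ≤ R := sup_le hOR inf_le_right
  have hSeq : O ⊔ (H ⊓ R) = R :=
    Subgroup.eq_of_le_of_card_ge hSR (le_of_eq hScard.symm)
  calc R = O ⊔ (H ⊓ R) := hSeq.symm
    _ ≤ O ⊔ H := sup_le_sup_left inf_le_left O

end Cfsg.Agent.Lib.Helper63.TIHall
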