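import Mathlib
import Cfsg.Agent.Lib.Helper63.JordanNormal

set_option autoImplicit false

namespace Cfsg.Agent.Lib.Helper63

open MulAction Subgroup

section CJ

variable {G : Type*} [Group G]

/-- conjugate subgroup `g T g⁻¹` -/
def cj (g : G) (T : Subgroup G) : Subgroup G := T.map (MulAut.conj g).toMonoidHom

theorem mem_cj {g : G} {T : Subgroup G} {x : G} : x ∈ cj g T ↔ g⁻¹ * x * g ∈ T := by
  unfold cj
  rw [Subgroup.mem_map]
  constructor
  · rintro ⟨t, ht, rfl⟩
    have : g⁻¹ * ((MulAut.conj g).toMonoidHom t) * g = t := by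
      simp [MulAut.conj_apply, mul_assoc]
    rw [this]; exact ht
  · intro h
    refine ⟨g⁻¹ * x * g, h, ?_⟩
    simp [MulAut.conj_apply, mul_assoc]

theorem conj_mem_cj {g : G} {T : Subgroup G} {t : G} (ht : t ∈ T) : g * t * g⁻¹ ∈ cj g T := by
  rw [mem_cj]
  have : g⁻¹ * (g * t * g⁻¹) * g = t := by group
  rw [this]; exact ht

theorem card_cj (g : G) (T : Subgroup G) : Nat.card (cj g T) = Nat.card T :=
  Subgroup.card_map_of_injective (MulAut.conj g).injective

/-- `T` is normalized by `N` -/
def NNormal (N T : Subgroup G) : Prop := ∀ n ∈ N, ∀ t ∈ T, n * t * n⁻¹ ∈ T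

theorem NNormal.cj {N T : Subgroup G} [hN : N.Normal] (h : NNormal N T) (g : G) :
    NNormal N (cj g T) := by
  intro n hn x hx
  rw [mem_cj] at hx ⊢
  have hn' : g⁻¹ * n * g ∈ N := by
    have := hN.conj_mem n hn g⁻¹
    simpa using this
  have := h _ hn' _ hx
  have e : g⁻¹ * (n * x * n⁻¹) * g = g⁻¹ * n * g * (g⁻¹ * x * g) * (g⁻¹ * n * g)⁻¹ := by group
  rw [e]; exact this

theorem NNormal.inf {N T S : Subgroup G} (h₁ : NNormal N T) (h₂ : NNormal N S) :
    NNormal N (T ⊓ S) := by
  intro n hn x hx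
  exact ⟨h₁ n hn x hx.1, h₂ n hn x hx.2⟩

end CJ

section Simple

variable {G : Type*} [Group G] {α : Type*} [MulAction G α]

/-- elements of a subgroup commuting with a transitive subgroup are semiregular -/
theorem eq_one_of_commute_transitive [FaithfulSMul G α] (T : Subgroup G)
    (hT : ∀ x y : α, ∃ t ∈ T, t • x = y) {s : G} (hs : ∀ t ∈ T, t * s = s * t) {a : α}
    (hsa : s • a = a) : s = 1 := by
  apply FaithfulSMul.eq_of_smul_eq_smul (α := α)
  intro c
  rw [one_smul]
  obtain ⟨t, ht, rfl⟩ := hT a c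
  rw [← mul_smul, ← hs t ht, mul_smul, hsa]

variable [Finite G] [Finite α]

/-- **Burnside, simplicity part**: a primitive minimal normal subgroup of a faithful 2-transitive
group is simple. -/
theorem isSimpleGroup_of_minimal_normal [FaithfulSMul G α] (h2 : IsMultiplyPretransitive G α 2)
    (N : Subgroup G) [hNn : N.Normal] (hN : N ≠ ⊥)
    (hmin : ∀ M : Subgroup G, M.Normal → M ≤ N → M = ⊥ ∨ M = N)
    (hprimN : IsPreprimitive N α) : IsSimpleGroup N := by
  classical
  have hnt : Nontrivial N := by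
    rw [Subgroup.nontrivial_iff_ne_bot]; exact hN
  refine { exists_pair_ne := hnt.exists_pair_ne, eq_bot_or_eq_top_of_normal := ?_ }
  intro M hMn
  by_contra hcon
  push Not at hcon
  obtain ⟨hMbot, hMtop⟩ := hcon
  -- pass to subgroups of G
  let M' : Subgroup G := M.map N.subtype
  have hM'le : M' ≤ N := by
    intro x hx
    obtain ⟨m, -, rfl⟩ := Subgroup.mem_map.mp hx
    exact m.2
  have hM'N : NNormal N M' := by
    intro n hn x hx
    obtain ⟨m, hm, rfl⟩ := Subgroup.mem_map.mp hx
    exact Subgroup.mem_map.mpr ⟨⟨n, hn⟩ * m * ⟨n, hn⟩⁻¹, hMn.conj_mem m hm ⟨n, hn⟩, rfl⟩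
  have hM'bot : M' ≠ ⊥ := by
    intro h
    apply hMbot
    rw [eq_bot_iff]
    intro m hm
    have : (m : G) ∈ M' := Subgroup.mem_map.mpr ⟨m, hm, rfl⟩
    rw [h, Subgroup.mem_bot] at this
    rw [Subgroup.mem_bot]
    exact Subtype.ext this
  have hM'ne : M' ≠ N := by
    intro h
    apply hMtop
    rw [eq_top_iff]
    intro m _
    have : (m : G) ∈ M' := by rw [h]; exact m.2
    obtain ⟨m', hm', hmm'⟩ := Subgroup.mem_map.mp this
    have : m' = m := Subtype.ext hmm'
    rw [← this]; exact hm'
  -- minimal N-normal subgroup inside M'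
  let P : ℕ → Prop := fun d => ∃ T : Subgroup G, T ≤ M' ∧ NNormal N T ∧ T ≠ ⊥ ∧ Nat.card T = d
  have hex : ∃ d, P d := ⟨Nat.card M', M', le_rfl, hM'N, hM'bot, rfl⟩
  obtain ⟨T, hTM, hTN, hTbot, hTd⟩ := Nat.find_spec hex
  have hTle : T ≤ N := hTM.trans hM'le
  have hTmin : ∀ S : Subgroup G, S ≤ T → NNormal N S → S ≠ ⊥ → S = T := by
    intro S hST hSN hSbot
    apply Subgroup.eq_of_le_of_card_ge hST
    rw [hTd]
    exact Nat.find_min' hex ⟨S, hST.trans hTM, hSN, hSbot, rfl⟩
  have hTneN : T ≠ N := by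
    intro h
    apply hM'ne
    have h' : N ≤ M' := by rw [← h]; exact hTM
    exact le_antisymm hM'le h'
  -- some conjugate differs from T
  have hexg : ∃ g : G, cj g T ≠ T := by
    by_contra hcon
    push Not at hcon
    have hTnormal : T.Normal := by
      constructor
      intro t ht g
      have := conj_mem_cj (g := g) ht
      rw [hcon g] at this
      exact this
    rcases hmin T hTnormal hTle with h | h
    · exact hTbot h
    · exact hTneN h
  -- dichotomy for conjugates
  have hdich : ∀ g : G, cj g T = T ∨ (∀ t ∈ T, ∀ s ∈ cj g T, t * s = s * t) := by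
    intro g
    by_cases hg : cj g T = T
    · exact Or.inl hg
    · right
      have hcjN : NNormal N (cj g T) := hTN.cj g
      have hcjle : cj g T ≤ N := by
        intro x hx
        rw [mem_cj] at hx
        have := hNn.conj_mem _ (hTle hx) g
        have e : g * (g⁻¹ * x * g) * g⁻¹ = x := by group
        rw [e] at this; exact this
      have hinf : T ⊓ cj g T = ⊥ := by
        by_contra hne
        have := hTmin (T ⊓ cj g T) inf_le_left (hTN.inf hcjN) hne
        have hle : T ≤ cj g T := by
          intro u hu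
          have hu' : u ∈ T ⊓ cj g T := by rw [this]; exact hu
          exact (Subgroup.mem_inf.mp hu').2
        apply hg
        symm
        apply Subgroup.eq_of_le_of_card_ge hle
        rw [card_cj]
      intro t ht s hs
      have h1 : t * s * t⁻¹ * s⁻¹ ∈ T ⊓ cj g T := by
        constructor
        · have := hTN s (hcjle hs) t⁻¹ (T.inv_mem ht)
          have e : t * s * t⁻¹ * s⁻¹ = t * (s * t⁻¹ * s⁻¹) := by group
          rw [e]; exact T.mul_mem ht this
        · have := hcjN t (hTle ht) s hs
          exact (cj g T).mul_mem this ((cj g T).inv_mem hs)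
      rw [hinf, Subgroup.mem_bot] at h1
      have : t * s = (t * s * t⁻¹ * s⁻¹) * (s * t) := by group
      rw [this, h1, one_mul]
  -- transitivity of N-normal nontrivial subgroups of N
  have hfaithN : FaithfulSMul N α := inferInstance
  have htrans : ∀ S : Subgroup G, S ≤ N → NNormal N S → S ≠ ⊥ → ∀ x y : α, ∃ s ∈ S, s • x = y := by
    intro S hSle hSN hSbot x y
    have hn : (S.subgroupOf N).Normal := by
      constructor
      intro s hs n
      rw [Subgroup.mem_subgroupOf] at hs ⊢
      exact hSN n.1 n.2 _ hs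
    have hne : S.subgroupOf N ≠ ⊥ := by
      intro h
      apply hSbot
      rw [eq_bot_iff]
      intro s hs
      have : (⟨s, hSle hs⟩ : N) ∈ S.subgroupOf N := by
        rw [Subgroup.mem_subgroupOf]; exact hs
      rw [h, Subgroup.mem_bot] at this
      rw [Subgroup.mem_bot]
      exact congrArg Subtype.val this
    have := pretransitive_of_normal_ne_bot hprimN (S.subgroupOf N) hne
    obtain ⟨s, hs⟩ := this.exists_smul_eq x y
    exact ⟨s.1.1, s.2, hs⟩
  have hTtr := htrans T hTle hTN hTbot
  obtain ⟨g, hg⟩ := hexg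
  have hcomm : ∀ t ∈ T, ∀ s ∈ cj g T, t * s = s * t := (hdich g).resolve_left hg
  have hT'N : NNormal N (cj g T) := hTN.cj g
  have hT'le : cj g T ≤ N := by
    intro x hx
    rw [mem_cj] at hx
    have := hNn.conj_mem _ (hTle hx) g
    have e : g * (g⁻¹ * x * g) * g⁻¹ = x := by group
    rw [e] at this; exact this
  have hT'bot : cj g T ≠ ⊥ := by
    intro h
    apply hTbot
    rw [eq_bot_iff]
    intro t ht
    have := conj_mem_cj (g := g) ht
    rw [h, Subgroup.mem_bot] at this
    rw [Subgroup.mem_bot]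
    have e : t = g⁻¹ * (g * t * g⁻¹) * g := by group
    rw [e, this]; group
  have hT'tr := htrans (cj g T) hT'le hT'N hT'bot
  -- semiregularity of T
  have hTsr : ∀ t ∈ T, ∀ a : α, t • a = a → t = 1 := by
    intro t ht a hta
    exact eq_one_of_commute_transitive (cj g T) hT'tr (fun s hs => (hcomm t ht s hs).symm) hta
  -- all nonidentity elements of T have the same order
  obtain ⟨a⟩ : Nonempty α := by
    by_contra hcon
    rw [not_nonempty_iff] at hcon
    apply hN
    rw [eq_bot_iff]
    intro n _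
    rw [Subgroup.mem_bot]
    apply FaithfulSMul.eq_of_smul_eq_smul (α := α)
    intro c
    exact (hcon.false c).elim
  have horder : ∀ x ∈ T, ∀ y ∈ T, x ≠ 1 → y ≠ 1 → orderOf x = orderOf y := by
    intro x hx y hy hx1 hy1
    have hxa : a ≠ x • a := fun h => hx1 (hTsr x hx a h.symm)
    have hya : a ≠ y • a := fun h => hy1 (hTsr y hy a h.symm)
    obtain ⟨h, hha, hhx⟩ := exists_smul_pair h2 hxa hya
    have hha' : h⁻¹ • a = a := by rw [inv_smul_eq_iff, hha]
    have hz : (h * x * h⁻¹) • a = y • a := by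
      rw [mul_smul, mul_smul, hha', hhx]
    have hzmem : h * x * h⁻¹ ∈ cj h T := conj_mem_cj hx
    have hord : orderOf (h * x * h⁻¹) = orderOf x := by
      have := orderOf_injective (MulAut.conj h).toMonoidHom (MulAut.conj h).injective x
      simpa [MulAut.conj_apply] using this
    rw [← hord]
    rcases hdich h with he | hc
    · rw [he] at hzmem
      have : y⁻¹ * (h * x * h⁻¹) = 1 := by
        apply hTsr _ (T.mul_mem (T.inv_mem hy) hzmem) a
        rw [mul_smul, hz, inv_smul_smul]
      have : h * x * h⁻¹ = y := by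
        have e : h * x * h⁻¹ = y * (y⁻¹ * (h * x * h⁻¹)) := by group
        rw [e, this, mul_one]
      rw [this]
    · -- z commutes with T
      set z := h * x * h⁻¹ with hzdef
      have hpow : ∀ j : ℕ, z ^ j • a = y ^ j • a := by
        intro j
        induction j with
        | zero => simp
        | succ j ih =>
          rw [pow_succ, mul_smul, hz, ← mul_smul]
          have hcomm' : z ^ j * y = y * z ^ j := by
            have := hc y hy (z ^ j) ((cj h T).pow_mem hzmem j)
            exact this.symm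
          rw [hcomm', mul_smul, ih, ← mul_smul, ← pow_succ']
      have hzsr : ∀ s ∈ cj h T, s • a = a → s = 1 := by
        intro s hs hsa
        exact eq_one_of_commute_transitive T hTtr (fun t ht => hc t ht s hs) hsa
      rw [orderOf_eq_orderOf_iff]
      intro j
      constructor
      · intro hzj
        apply hTsr _ (T.pow_mem hy j) a
        rw [← hpow, hzj, one_smul]
      · intro hyj
        apply hzsr _ ((cj h T).pow_mem hzmem j)
        rw [hpow, hyj, one_smul]
  -- T is a p-group
  have hTnt : Nontrivial T := by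
    rw [Subgroup.nontrivial_iff_ne_bot]; exact hTbot
  obtain ⟨p, hp, hpd⟩ : ∃ p : ℕ, p.Prime ∧ p ∣ Nat.card T := by
    have h1 : Nat.card T ≠ 1 := by
      intro h
      rw [Subgroup.card_eq_one] at h
      exact hTbot h
    exact ⟨(Nat.card T).minFac, Nat.minFac_prime h1, Nat.minFac_dvd _⟩
  haveI : Fact p.Prime := ⟨hp⟩
  obtain ⟨x0, hx0⟩ := exists_prime_orderOf_dvd_card' (G := T) p hpd
  have hx01 : (x0 : G) ≠ 1 := by
    intro h
    have : x0 = 1 := Subtype.ext h
    rw [this, orderOf_one] at hx0
    exact hp.one_lt.ne hx0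
  have hx0ord : orderOf (x0 : G) = p := by
    rw [Subgroup.orderOf_coe]; exact hx0
  have hpgroup : IsPGroup p T := by
    intro t
    refine ⟨1, ?_⟩
    rw [pow_one]
    by_cases ht1 : t = 1
    · rw [ht1, one_pow]
    · have ht1' : (t : G) ≠ 1 := fun h => ht1 (Subtype.ext h)
      have := horder t.1 t.2 x0.1 x0.2 ht1' hx01
      rw [hx0ord] at this
      apply Subtype.ext
      rw [Subgroup.coe_pow, Subgroup.coe_one, ← this, pow_orderOf_eq_one]
  have hcnt := hpgroup.center_nontrivial
  obtain ⟨z, hz1⟩ := exists_ne (1 : Subgroup.center T)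
  -- the center of T, as a subgroup of G
  let Z : Subgroup G := T ⊓ Subgroup.centralizer (T : Set G)
  have hZN : NNormal N Z := by
    intro n hn x hx
    obtain ⟨hx1, hx2⟩ := Subgroup.mem_inf.mp hx
    refine Subgroup.mem_inf.mpr ⟨hTN n hn x hx1, ?_⟩
    rw [Subgroup.mem_centralizer_iff]
    intro t ht
    have ht' : n⁻¹ * t * n ∈ T := by
      have := hTN n⁻¹ (N.inv_mem hn) t ht
      simpa using this
    have hxc := (Subgroup.mem_centralizer_iff.mp hx2) _ ht'
    calc t * (n * x * n⁻¹) = n * ((n⁻¹ * t * n) * x) * n⁻¹ := by group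
      _ = n * (x * (n⁻¹ * t * n)) * n⁻¹ := by rw [hxc]
      _ = n * x * n⁻¹ * t := by group
  have hZbot : Z ≠ ⊥ := by
    intro h
    apply hz1
    have hzmem : ((z : T) : G) ∈ Z := by
      refine Subgroup.mem_inf.mpr ⟨(z : T).2, ?_⟩
      rw [Subgroup.mem_centralizer_iff]
      intro t ht
      have := (Subgroup.mem_center_iff.mp z.2) ⟨t, ht⟩
      exact congrArg Subtype.val this
    rw [h, Subgroup.mem_bot] at hzmem
    apply Subtype.ext
    apply Subtype.ext
    exact hzmem
  have hZT : Z = T := hTmin Z inf_le_left hZN hZbot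
  have hTab : ∀ t ∈ T, ∀ s ∈ T, t * s = s * t := by
    intro t ht s hs
    have : s ∈ Z := by rw [hZT]; exact hs
    exact (Subgroup.mem_centralizer_iff.mp (Subgroup.mem_inf.mp this).2) t ht
  -- contradiction
  obtain ⟨t', ht', ht'1⟩ : ∃ t' ∈ cj g T, t' ≠ 1 := by
    by_contra hcon
    push Not at hcon
    apply hT'bot
    rw [eq_bot_iff]
    intro s hs
    rw [Subgroup.mem_bot]
    exact hcon s hs
  obtain ⟨t, ht, hta⟩ := hTtr a (t' • a)
  have hcomm1 : ∀ u ∈ T, u * (t⁻¹ * t') = (t⁻¹ * t') * u := by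
    intro u hu
    have e1 := hTab u hu t⁻¹ (T.inv_mem ht)
    have e2 := hcomm u hu t' ht'
    calc u * (t⁻¹ * t') = (u * t⁻¹) * t' := by group
      _ = (t⁻¹ * u) * t' := by rw [e1]
      _ = t⁻¹ * (u * t') := by group
      _ = t⁻¹ * (t' * u) := by rw [e2]
      _ = (t⁻¹ * t') * u := by group
  have hfix : (t⁻¹ * t') • a = a := by
    rw [mul_smul, ← hta, inv_smul_smul]
  have h1 := eq_one_of_commute_transitive T hTtr hcomm1 hfix
  have htt' : t' = t := by
    have e : t' = t * (t⁻¹ * t') := by group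
    rw [e, h1, mul_one]
  have hinf : T ⊓ cj g T = ⊥ := by
    by_contra hne
    have := hTmin (T ⊓ cj g T) inf_le_left (hTN.inf hT'N) hne
    have hle : T ≤ cj g T := by
      intro u hu
      have hu' : u ∈ T ⊓ cj g T := by rw [this]; exact hu
      exact (Subgroup.mem_inf.mp hu').2
    apply hg
    symm
    apply Subgroup.eq_of_le_of_card_ge hle
    rw [card_cj]
  have : t' ∈ T ⊓ cj g T := Subgroup.mem_inf.mpr ⟨htt' ▸ ht, ht'⟩
  rw [hinf, Subgroup.mem_bot] at this
  exact ht'1 this

end Simple

end Cfsg.Agent.Lib.Helper63
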