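import Mathlib
import Cfsg.Agent.Lib.Helper63.TwoTransSimple

set_option autoImplicit false

namespace Cfsg.Agent.Lib.Helper63

open Subgroup

section MinNN

variable {G : Type*} [Group G]

/-- `T` is a minimal nontrivial subgroup of `N` normalized by `N` -/
structure IsMinNNormal (N T : Subgroup G) : Prop where
  le : T ≤ N
  nn : NNormal N T
  ne_bot : T ≠ ⊥
  min : ∀ S : Subgroup G, S ≤ T → NNormal N S → S ≠ ⊥ → S = T

theorem exists_isMinNNormal_le [Finite G] (N M : Subgroup G) (hM : M ≤ N) (hMN : NNormal N M)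
    (hMbot : M ≠ ⊥) : ∃ T : Subgroup G, T ≤ M ∧ IsMinNNormal N T := by
  classical
  let P : ℕ → Prop := fun d => ∃ T : Subgroup G, T ≤ M ∧ NNormal N T ∧ T ≠ ⊥ ∧ Nat.card T = d
  have hex : ∃ d, P d := ⟨Nat.card M, M, le_rfl, hMN, hMbot, rfl⟩
  obtain ⟨T, hTM, hTN, hTbot, hTd⟩ := Nat.find_spec hex
  refine ⟨T, hTM, hTM.trans hM, hTN, hTbot, ?_⟩
  intro S hST hSN hSbot
  apply Subgroup.eq_of_le_of_card_ge hST
  rw [hTd]
  exact Nat.find_min' hex ⟨S, hST.trans hTM, hSN, hSbot, rfl⟩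

theorem cj_le_of_normal {N T : Subgroup G} [hN : N.Normal] (hT : T ≤ N) (g : G) : cj g T ≤ N := by
  intro x hx
  rw [mem_cj] at hx
  have := hN.conj_mem _ (hT hx) g
  have e : g * (g⁻¹ * x * g) * g⁻¹ = x := by group
  rw [e] at this; exact this

theorem cj_ne_bot {T : Subgroup G} (hT : T ≠ ⊥) (g : G) : cj g T ≠ ⊥ := by
  intro h
  apply hT
  rw [eq_bot_iff]
  intro t ht
  have := conj_mem_cj (g := g) ht
  rw [h, Subgroup.mem_bot] at this
  rw [Subgroup.mem_bot]
  have e : t = g⁻¹ * (g * t * g⁻¹) * g := by group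
  rw [e, this]; group

theorem cj_cj (g h : G) (T : Subgroup G) : cj g (cj h T) = cj (g * h) T := by
  ext x
  rw [mem_cj, mem_cj, mem_cj]
  have e : h⁻¹ * (g⁻¹ * x * g) * h = (g * h)⁻¹ * x * (g * h) := by group
  rw [e]

theorem cj_one (T : Subgroup G) : cj 1 T = T := by
  ext x
  rw [mem_cj]
  simp

theorem cj_mono {S T : Subgroup G} (h : S ≤ T) (g : G) : cj g S ≤ cj g T := by
  intro x hx
  rw [mem_cj] at hx ⊢
  exact h hx

theorem IsMinNNormal.cj {N T : Subgroup G} [hN : N.Normal] (h : IsMinNNormal N T) (g : G) :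
    IsMinNNormal N (cj g T) := by
  refine ⟨cj_le_of_normal h.le g, h.nn.cj g, cj_ne_bot h.ne_bot g, ?_⟩
  intro S hS hSN hSbot
  have h1 : Helper63.cj g⁻¹ S ≤ T := by
    have := cj_mono hS g⁻¹
    rw [cj_cj, inv_mul_cancel, cj_one] at this
    exact this
  have h2 := h.min _ h1 (hSN.cj g⁻¹) (cj_ne_bot hSbot g⁻¹)
  have : Helper63.cj g (Helper63.cj g⁻¹ S) = Helper63.cj g T := by rw [h2]
  rw [cj_cj, mul_inv_cancel, cj_one] at this
  exact this

theorem IsMinNNormal.dichotomy [Finite G] {N T : Subgroup G} [hN : N.Normal]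
    (h : IsMinNNormal N T) (g : G) :
    Helper63.cj g T = T ∨
      (T ⊓ Helper63.cj g T = ⊥ ∧ ∀ t ∈ T, ∀ s ∈ Helper63.cj g T, t * s = s * t) := by
  by_cases hg : Helper63.cj g T = T
  · exact Or.inl hg
  · right
    have hcjN : NNormal N (Helper63.cj g T) := h.nn.cj g
    have hcjle : Helper63.cj g T ≤ N := cj_le_of_normal h.le g
    have hinf : T ⊓ Helper63.cj g T = ⊥ := by
      by_contra hne
      have := h.min (T ⊓ Helper63.cj g T) inf_le_left (h.nn.inf hcjN) hne
      have hle : T ≤ Helper63.cj g T := by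
        intro u hu
        have hu' : u ∈ T ⊓ Helper63.cj g T := by rw [this]; exact hu
        exact (Subgroup.mem_inf.mp hu').2
      apply hg
      symm
      apply Subgroup.eq_of_le_of_card_ge hle
      rw [card_cj]
    refine ⟨hinf, ?_⟩
    intro t ht s hs
    have h1 : t * s * t⁻¹ * s⁻¹ ∈ T ⊓ Helper63.cj g T := by
      refine Subgroup.mem_inf.mpr ⟨?_, ?_⟩
      · have := h.nn s (hcjle hs) t⁻¹ (T.inv_mem ht)
        have e : t * s * t⁻¹ * s⁻¹ = t * (s * t⁻¹ * s⁻¹) := by group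
        rw [e]; exact T.mul_mem ht this
      · have := hcjN t (h.le ht) s hs
        exact (Helper63.cj g T).mul_mem this ((Helper63.cj g T).inv_mem hs)
    rw [hinf, Subgroup.mem_bot] at h1
    have : t * s = (t * s * t⁻¹ * s⁻¹) * (s * t) := by group
    rw [this, h1, one_mul]

/-- a proper minimal `N`-normal subgroup of a minimal normal subgroup has a different conjugate -/
theorem IsMinNNormal.exists_cj_ne {N T : Subgroup G} (h : IsMinNNormal N T)
    (hmin : ∀ M : Subgroup G, M.Normal → M ≤ N → M = ⊥ ∨ M = N) (hTN : T ≠ N) :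
    ∃ g : G, Helper63.cj g T ≠ T := by
  by_contra hcon
  push Not at hcon
  have hTnormal : T.Normal := by
    constructor
    intro t ht g
    have := conj_mem_cj (g := g) ht
    rw [hcon g] at this
    exact this
  rcases hmin T hTnormal h.le with h' | h'
  · exact h.ne_bot h'
  · exact hTN h'

theorem mem_sup_of_commute' {H J : Subgroup G} (hcomm : ∀ h ∈ H, ∀ j ∈ J, h * j = j * h) {x : G}
    (hx : x ∈ H ⊔ J) : ∃ h ∈ H, ∃ j ∈ J, x = h * j := by
  let K : Subgroup G :=
    { carrier := {x | ∃ h ∈ H, ∃ j ∈ J, x = h * j}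
      mul_mem' := by
        rintro _ _ ⟨h, hh, j, hj, rfl⟩ ⟨h', hh', j', hj', rfl⟩
        refine ⟨h * h', H.mul_mem hh hh', j * j', J.mul_mem hj hj', ?_⟩
        calc h * j * (h' * j') = h * (j * h') * j' := by group
          _ = h * (h' * j) * j' := by rw [hcomm h' hh' j hj]
          _ = h * h' * (j * j') := by group
      one_mem' := ⟨1, H.one_mem, 1, J.one_mem, (mul_one 1).symm⟩
      inv_mem' := by
        rintro _ ⟨h, hh, j, hj, rfl⟩
        refine ⟨h⁻¹, H.inv_mem hh, j⁻¹, J.inv_mem hj, ?_⟩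
        rw [mul_inv_rev, hcomm h⁻¹ (H.inv_mem hh) j⁻¹ (J.inv_mem hj)] }
  have hle : H ⊔ J ≤ K :=
    sup_le (fun h hh => ⟨h, hh, 1, J.one_mem, (mul_one h).symm⟩)
      (fun j hj => ⟨1, H.one_mem, j, hj, (one_mul j).symm⟩)
  exact hle hx

/-- decomposition `N = T · C_N(T)` -/
theorem IsMinNNormal.exists_mul [Finite G] {N T : Subgroup G} [hN : N.Normal]
    (h : IsMinNNormal N T)
    (hmin : ∀ M : Subgroup G, M.Normal → M ≤ N → M = ⊥ ∨ M = N) :
    ∀ n ∈ N, ∃ t ∈ T, ∃ c ∈ N ⊓ centralizer (T : Set G), n = t * c := by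
  have hcomm : ∀ t ∈ T, ∀ c ∈ N ⊓ centralizer (T : Set G), t * c = c * t := by
    intro t ht c hc
    exact ((Subgroup.mem_centralizer_iff.mp (Subgroup.mem_inf.mp hc).2) t ht)
  have hK : Subgroup.normalClosure (T : Set G) ≤ T ⊔ (N ⊓ centralizer (T : Set G)) := by
    unfold Subgroup.normalClosure
    rw [Subgroup.closure_le]
    intro x hx
    rw [Group.mem_conjugatesOfSet_iff] at hx
    obtain ⟨t, ht, hconj⟩ := hx
    rw [isConj_iff] at hconj
    obtain ⟨g, rfl⟩ := hconj
    have hmem : g * t * g⁻¹ ∈ Helper63.cj g T := conj_mem_cj ht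
    rcases h.dichotomy g with he | ⟨-, hc⟩
    · rw [he] at hmem
      exact (le_sup_left : T ≤ T ⊔ (N ⊓ centralizer (T : Set G))) hmem
    · apply (le_sup_right : (N ⊓ centralizer (T : Set G)) ≤ T ⊔ (N ⊓ centralizer (T : Set G)))
      refine Subgroup.mem_inf.mpr ⟨cj_le_of_normal h.le g hmem, ?_⟩
      rw [Subgroup.mem_centralizer_iff]
      intro u hu
      exact hc u hu _ hmem
  have hKN : Subgroup.normalClosure (T : Set G) = N := by
    have hle : Subgroup.normalClosure (T : Set G) ≤ N :=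
      Subgroup.normalClosure_le_normal h.le
    rcases hmin _ Subgroup.normalClosure_normal hle with h' | h'
    · exfalso
      apply h.ne_bot
      rw [eq_bot_iff, ← h']
      exact Subgroup.le_normalClosure
    · exact h'
  intro n hn
  have : n ∈ T ⊔ (N ⊓ centralizer (T : Set G)) := hK (hKN ▸ hn)
  exact mem_sup_of_commute' hcomm this

/-- if `T` is abelian then so is `N` -/
theorem IsMinNNormal.comm_of_comm [Finite G] {N T : Subgroup G} [hN : N.Normal]
    (h : IsMinNNormal N T)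
    (hmin : ∀ M : Subgroup G, M.Normal → M ≤ N → M = ⊥ ∨ M = N)
    (hab : ∀ t ∈ T, ∀ s ∈ T, t * s = s * t) : ∀ x ∈ N, ∀ y ∈ N, x * y = y * x := by
  -- T centralizes N
  have hTc : ∀ t ∈ T, ∀ n ∈ N, t * n = n * t := by
    intro t ht n hn
    obtain ⟨u, hu, c, hc, rfl⟩ := h.exists_mul hmin n hn
    have h1 := hab t ht u hu
    have h2 := (Subgroup.mem_centralizer_iff.mp (Subgroup.mem_inf.mp hc).2) t ht
    calc t * (u * c) = (t * u) * c := by group
      _ = (u * t) * c := by rw [h1]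
      _ = u * (t * c) := by group
      _ = u * (c * t) := by rw [h2]
      _ = u * c * t := by group
  -- the center of N is normal in G
  let Z : Subgroup G := N ⊓ centralizer (N : Set G)
  have hZn : Z.Normal := by
    constructor
    intro z hz g
    obtain ⟨hz1, hz2⟩ := Subgroup.mem_inf.mp hz
    refine Subgroup.mem_inf.mpr ⟨hN.conj_mem z hz1 g, ?_⟩
    rw [Subgroup.mem_centralizer_iff]
    intro n hn
    have hn' : g⁻¹ * n * g ∈ N := by
      have := hN.conj_mem n hn g⁻¹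
      simpa using this
    have hc := (Subgroup.mem_centralizer_iff.mp hz2) _ hn'
    calc n * (g * z * g⁻¹) = g * ((g⁻¹ * n * g) * z) * g⁻¹ := by group
      _ = g * (z * (g⁻¹ * n * g)) * g⁻¹ := by rw [hc]
      _ = g * z * g⁻¹ * n := by group
  have hTZ : T ≤ Z := by
    intro t ht
    refine Subgroup.mem_inf.mpr ⟨h.le ht, ?_⟩
    rw [Subgroup.mem_centralizer_iff]
    intro n hn
    exact (hTc t ht n hn).symm
  rcases hmin Z hZn inf_le_left with h' | h'
  · exfalso
    apply h.ne_bot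
    rw [eq_bot_iff, ← h']
    exact hTZ
  · intro x hx y hy
    have : y ∈ Z := by rw [h']; exact hy
    exact (Subgroup.mem_centralizer_iff.mp (Subgroup.mem_inf.mp this).2) x hx

/-- if `N` is nonabelian then `T` has trivial centre -/
theorem IsMinNNormal.inf_centralizer_eq_bot [Finite G] {N T : Subgroup G} [hN : N.Normal]
    (h : IsMinNNormal N T)
    (hmin : ∀ M : Subgroup G, M.Normal → M ≤ N → M = ⊥ ∨ M = N)
    (hnab : ¬ ∀ x ∈ N, ∀ y ∈ N, x * y = y * x) : T ⊓ centralizer (T : Set G) = ⊥ := by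
  by_contra hne
  have hZN : NNormal N (T ⊓ centralizer (T : Set G)) := by
    intro n hn x hx
    obtain ⟨hx1, hx2⟩ := Subgroup.mem_inf.mp hx
    refine Subgroup.mem_inf.mpr ⟨h.nn n hn x hx1, ?_⟩
    rw [Subgroup.mem_centralizer_iff]
    intro t ht
    have ht' : n⁻¹ * t * n ∈ T := by
      have := h.nn n⁻¹ (N.inv_mem hn) t ht
      simpa using this
    have hxc := (Subgroup.mem_centralizer_iff.mp hx2) _ ht'
    calc t * (n * x * n⁻¹) = n * ((n⁻¹ * t * n) * x) * n⁻¹ := by group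
      _ = n * (x * (n⁻¹ * t * n)) * n⁻¹ := by rw [hxc]
      _ = n * x * n⁻¹ * t := by group
  have hZT := h.min _ inf_le_left hZN hne
  apply hnab
  apply h.comm_of_comm hmin
  intro t ht s hs
  have : s ∈ T ⊓ centralizer (T : Set G) := by rw [hZT]; exact hs
  exact (Subgroup.mem_centralizer_iff.mp (Subgroup.mem_inf.mp this).2) t ht

/-- a non-simple nontrivial normal subgroup contains a proper nontrivial `N`-normal subgroup -/
theorem exists_proper_NNormal_of_not_simple (N : Subgroup G) (hN : N ≠ ⊥)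
    (hns : ¬ IsSimpleGroup N) :
    ∃ M : Subgroup G, M ≤ N ∧ NNormal N M ∧ M ≠ ⊥ ∧ M ≠ N := by
  have hnt : Nontrivial N := by
    rw [Subgroup.nontrivial_iff_ne_bot]; exact hN
  have hex : ∃ M : Subgroup N, M.Normal ∧ M ≠ ⊥ ∧ M ≠ ⊤ := by
    by_contra hcon
    push Not at hcon
    apply hns
    refine { exists_pair_ne := hnt.exists_pair_ne, eq_bot_or_eq_top_of_normal := ?_ }
    intro M hMn
    by_cases hb : M = ⊥
    · exact Or.inl hb
    · exact Or.inr (hcon M hMn hb)
  obtain ⟨M, hMn, hMbot, hMtop⟩ := hex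
  refine ⟨M.map N.subtype, ?_, ?_, ?_, ?_⟩
  · intro x hx
    obtain ⟨m, -, rfl⟩ := Subgroup.mem_map.mp hx
    exact m.2
  · intro n hn x hx
    obtain ⟨m, hm, rfl⟩ := Subgroup.mem_map.mp hx
    exact Subgroup.mem_map.mpr ⟨⟨n, hn⟩ * m * ⟨n, hn⟩⁻¹, hMn.conj_mem m hm ⟨n, hn⟩, rfl⟩
  · intro h
    apply hMbot
    rw [eq_bot_iff]
    intro m hm
    have : (m : G) ∈ M.map N.subtype := Subgroup.mem_map.mpr ⟨m, hm, rfl⟩
    rw [h, Subgroup.mem_bot] at this
    rw [Subgroup.mem_bot]
    exact Subtype.ext this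
  · intro h
    apply hMtop
    rw [eq_top_iff]
    intro m _
    have : (m : G) ∈ M.map N.subtype := by rw [h]; exact m.2
    obtain ⟨m', hm', hmm'⟩ := Subgroup.mem_map.mp this
    have : m' = m := Subtype.ext hmm'
    rw [← this]; exact hm'

/-- `C_N(T)` is normalized by `N` -/
theorem IsMinNNormal.nnormal_centralizer {N T : Subgroup G} (h : IsMinNNormal N T) :
    NNormal N (N ⊓ centralizer (T : Set G)) := by
  intro n hn x hx
  obtain ⟨hx1, hx2⟩ := Subgroup.mem_inf.mp hx
  refine Subgroup.mem_inf.mpr ⟨N.mul_mem (N.mul_mem hn hx1) (N.inv_mem hn), ?_⟩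
  rw [Subgroup.mem_centralizer_iff]
  intro t ht
  have ht' : n⁻¹ * t * n ∈ T := by
    have := h.nn n⁻¹ (N.inv_mem hn) t ht
    simpa using this
  have hxc := (Subgroup.mem_centralizer_iff.mp hx2) _ ht'
  calc t * (n * x * n⁻¹) = n * ((n⁻¹ * t * n) * x) * n⁻¹ := by group
    _ = n * (x * (n⁻¹ * t * n)) * n⁻¹ := by rw [hxc]
    _ = n * x * n⁻¹ * t := by group

end MinNN

end Cfsg.Agent.Lib.Helper63
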