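import Mathlib

set_option autoImplicit false

namespace Cfsg.Agent.Lib.Helper63

open scoped commutatorElement

section Scott

variable {ι : Type*} {T : Type*} [Group T]

/-- linked coordinates of a subgroup of a power -/
def Lk (M : Subgroup (ι → T)) (i j : ι) : Prop := ∀ x ∈ M, x i = 1 → x j = 1

/-- the elements of `M` trivial on `J` -/
def kerOn (M : Subgroup (ι → T)) (J : Set ι) : Subgroup (ι → T) where
  carrier := {x | x ∈ M ∧ ∀ j ∈ J, x j = 1}
  mul_mem' := by
    rintro x y ⟨hx, hx'⟩ ⟨hy, hy'⟩
    exact ⟨M.mul_mem hx hy, fun j hj => by rw [Pi.mul_apply, hx' j hj, hy' j hj, one_mul]⟩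
  one_mem' := ⟨M.one_mem, fun j _ => rfl⟩
  inv_mem' := by
    rintro x ⟨hx, hx'⟩
    exact ⟨M.inv_mem hx, fun j hj => by rw [Pi.inv_apply, hx' j hj, inv_one]⟩

/-- the projection of `kerOn` to coordinate `i` -/
def projK (M : Subgroup (ι → T)) (J : Set ι) (i : ι) : Subgroup T :=
  (kerOn M J).map (Pi.evalMonoidHom _ i)

theorem mem_projK {M : Subgroup (ι → T)} {J : Set ι} {i : ι} {t : T} :
    t ∈ projK M J i ↔ ∃ x ∈ M, (∀ j ∈ J, x j = 1) ∧ x i = t := by
  constructor
  · rintro ⟨x, ⟨hx, hx'⟩, rfl⟩
    exact ⟨x, hx, hx', rfl⟩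
  · rintro ⟨x, hx, hx', rfl⟩
    exact ⟨x, ⟨hx, hx'⟩, rfl⟩

theorem projK_normal {M : Subgroup (ι → T)} (hsub : ∀ i t, ∃ x ∈ M, x i = t) (J : Set ι)
    (i : ι) : (projK M J i).Normal := by
  constructor
  intro t ht s
  obtain ⟨x, hx, hx', rfl⟩ := mem_projK.mp ht
  obtain ⟨y, hy, rfl⟩ := hsub i s
  refine mem_projK.mpr ⟨y * x * y⁻¹, M.mul_mem (M.mul_mem hy hx) (M.inv_mem hy), ?_, rfl⟩
  intro j hj
  rw [Pi.mul_apply, Pi.mul_apply, hx' j hj, mul_one, Pi.inv_apply, mul_inv_cancel]

theorem Lk.refl (M : Subgroup (ι → T)) (i : ι) : Lk M i i := fun _ _ h => h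

theorem Lk.trans {M : Subgroup (ι → T)} {i j k : ι} (h1 : Lk M i j) (h2 : Lk M j k) :
    Lk M i k := fun x hx h => h2 x hx (h1 x hx h)

theorem Lk.eq_of_eq {M : Subgroup (ι → T)} {i j : ι} (h : Lk M i j) {x y : ι → T}
    (hx : x ∈ M) (hy : y ∈ M) (hxy : x i = y i) : x j = y j := by
  have h1 : (y⁻¹ * x) i = 1 := by
    rw [Pi.mul_apply, Pi.inv_apply, hxy, inv_mul_cancel]
  have h2 := h _ (M.mul_mem (M.inv_mem hy) hx) h1
  rw [Pi.mul_apply, Pi.inv_apply, inv_mul_eq_one] at h2
  exact h2.symm

variable [IsSimpleGroup T]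

theorem Lk.symm {M : Subgroup (ι → T)} (hsub : ∀ i t, ∃ x ∈ M, x i = t) {i j : ι}
    (h : Lk M i j) : Lk M j i := by
  have hn := projK_normal hsub {j} i
  rcases hn.eq_bot_or_eq_top with h0 | h0
  · intro x hx hxj
    have : x i ∈ projK M {j} i :=
      mem_projK.mpr ⟨x, hx, fun k hk => by rw [Set.mem_singleton_iff.mp hk]; exact hxj, rfl⟩
    rw [h0, Subgroup.mem_bot] at this
    exact this
  · exfalso
    obtain ⟨t, ht⟩ := exists_ne (1 : T)
    obtain ⟨y, hy, hyj⟩ := hsub j t
    have : y i ∈ projK M {j} i := by rw [h0]; trivial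
    obtain ⟨x, hx, hxJ, hxi⟩ := mem_projK.mp this
    have hxj : x j = 1 := hxJ j rfl
    have h2 := h.eq_of_eq hx hy hxi
    rw [hxj, hyj] at h2
    exact ht h2.symm

theorem projK_eq_top [DecidableEq ι] {M : Subgroup (ι → T)} (hsub : ∀ i t, ∃ x ∈ M, x i = t)
    (hna : ¬ ∀ a b : T, a * b = b * a) (i : ι) (J : Finset ι) (hJ : ∀ j ∈ J, ¬ Lk M i j) :
    projK M (J : Set ι) i = ⊤ := by
  induction J using Finset.induction_on with
  | empty =>
    rw [eq_top_iff]
    intro t _
    obtain ⟨x, hx, hxi⟩ := hsub i t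
    exact mem_projK.mpr ⟨x, hx, fun j hj => by simp at hj, hxi⟩
  | insert j₀ J hj₀ ih =>
    have ihJ := ih (fun j hj => hJ j (Finset.mem_insert_of_mem hj))
    have hB : projK M ({j₀} : Set ι) i = ⊤ := by
      rcases (projK_normal hsub {j₀} i).eq_bot_or_eq_top with h0 | h0
      · exfalso
        apply hJ j₀ (Finset.mem_insert_self _ _)
        apply Lk.symm hsub
        intro x hx hxj
        have : x i ∈ projK M {j₀} i :=
          mem_projK.mpr ⟨x, hx, fun k hk => by rw [Set.mem_singleton_iff.mp hk]; exact hxj, rfl⟩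
        rw [h0, Subgroup.mem_bot] at this
        exact this
      · exact h0
    rcases (projK_normal hsub (↑(insert j₀ J) : Set ι) i).eq_bot_or_eq_top with h0 | h0
    · exfalso
      apply hna
      intro a b
      have ha : a ∈ projK M (J : Set ι) i := by rw [ihJ]; trivial
      have hb : b ∈ projK M ({j₀} : Set ι) i := by rw [hB]; trivial
      obtain ⟨x, hx, hxJ, rfl⟩ := mem_projK.mp ha
      obtain ⟨y, hy, hyJ, rfl⟩ := mem_projK.mp hb
      have hc : ⁅x i, y i⁆ ∈ projK M (↑(insert j₀ J) : Set ι) i := by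
        refine mem_projK.mpr ⟨⁅x, y⁆, ?_, ?_, ?_⟩
        · rw [commutatorElement_def]
          exact M.mul_mem (M.mul_mem (M.mul_mem hx hy) (M.inv_mem hx)) (M.inv_mem hy)
        · intro j hj
          rw [Finset.coe_insert, Set.mem_insert_iff] at hj
          rw [commutatorElement_def]
          simp only [Pi.mul_apply, Pi.inv_apply]
          rcases hj with hj | hj
          · rw [hj, hyJ j₀ rfl]
            group
          · rw [hxJ j hj]
            group
        · rw [commutatorElement_def, commutatorElement_def]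
          simp only [Pi.mul_apply, Pi.inv_apply]
      rw [h0, Subgroup.mem_bot] at hc
      exact commutatorElement_eq_one_iff_mul_comm.mp hc
    · exact h0

/-- the linking map between coordinates -/
noncomputable def lkFun (M : Subgroup (ι → T)) (hsub : ∀ i t, ∃ x ∈ M, x i = t) (i j : ι)
    (t : T) : T := (Classical.choose (hsub i t)) j

theorem lkFun_spec {M : Subgroup (ι → T)} (hsub : ∀ i t, ∃ x ∈ M, x i = t) {i j : ι}
    (h : Lk M i j) {x : ι → T} (hx : x ∈ M) : lkFun M hsub i j (x i) = x j := by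
  have hc := Classical.choose_spec (hsub i (x i))
  exact h.eq_of_eq hc.1 hx hc.2

theorem lkFun_self {M : Subgroup (ι → T)} (hsub : ∀ i t, ∃ x ∈ M, x i = t) (i : ι) (t : T) :
    lkFun M hsub i i t = t :=
  (Classical.choose_spec (hsub i t)).2

theorem lkFun_mul {M : Subgroup (ι → T)} (hsub : ∀ i t, ∃ x ∈ M, x i = t) {i j : ι}
    (h : Lk M i j) (s t : T) :
    lkFun M hsub i j (s * t) = lkFun M hsub i j s * lkFun M hsub i j t := by
  obtain ⟨x, hx, rfl⟩ := hsub i s
  obtain ⟨y, hy, rfl⟩ := hsub i t
  rw [← Pi.mul_apply, lkFun_spec hsub h (M.mul_mem hx hy), lkFun_spec hsub h hx,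
    lkFun_spec hsub h hy, Pi.mul_apply]

theorem lkFun_inv {M : Subgroup (ι → T)} (hsub : ∀ i t, ∃ x ∈ M, x i = t) {i j : ι}
    (h : Lk M i j) (t : T) : lkFun M hsub j i (lkFun M hsub i j t) = t := by
  obtain ⟨x, hx, rfl⟩ := hsub i t
  rw [lkFun_spec hsub h hx, lkFun_spec hsub (h.symm hsub) hx]

/-- the linking isomorphism -/
noncomputable def lkEquiv {M : Subgroup (ι → T)} (hsub : ∀ i t, ∃ x ∈ M, x i = t) {i j : ι}
    (h : Lk M i j) : T ≃* T where
  toFun := lkFun M hsub i j
  invFun := lkFun M hsub j i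
  left_inv := lkFun_inv hsub h
  right_inv := lkFun_inv hsub (h.symm hsub)
  map_mul' := lkFun_mul hsub h

theorem lkEquiv_apply {M : Subgroup (ι → T)} (hsub : ∀ i t, ∃ x ∈ M, x i = t) {i j : ι}
    (h : Lk M i j) (t : T) : lkEquiv hsub h t = lkFun M hsub i j t := rfl

/-- Scott's lemma: a subdirect subgroup of a power of a nonabelian simple group is a product of
diagonals -/
theorem mem_iff_of_reps [Fintype ι] [DecidableEq ι] {M : Subgroup (ι → T)}
    (hsub : ∀ i t, ∃ x ∈ M, x i = t)
    (hna : ¬ ∀ a b : T, a * b = b * a) (b : ι → ι) (hb : ∀ i, Lk M i (b i))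
    (hb' : ∀ i j, Lk M i j → b i = b j) (x : ι → T) :
    x ∈ M ↔ ∀ i, lkFun M hsub i (b i) (x i) = x (b i) := by
  classical
  constructor
  · intro hx i
    exact lkFun_spec hsub (hb i) hx
  · have hbb : ∀ i, b (b i) = b i := fun i => (hb' _ _ (hb i)).symm
    have key : ∀ (n : ℕ) (x : ι → T), (∀ i, lkFun M hsub i (b i) (x i) = x (b i)) →
        (Finset.univ.filter (fun r => b r = r ∧ x r ≠ 1)).card = n → x ∈ M := by
      intro n
      induction n using Nat.strong_induction_on with
      | _ n ih =>
        intro x hx hn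
        by_cases hS : (Finset.univ.filter (fun r => b r = r ∧ x r ≠ 1)) = ∅
        · have hx1 : x = 1 := by
            funext i
            have h1 : x (b i) = 1 := by
              by_contra hne
              have : b i ∈ (Finset.univ.filter (fun r => b r = r ∧ x r ≠ 1)) := by
                rw [Finset.mem_filter]
                exact ⟨Finset.mem_univ _, hbb i, hne⟩
              rw [hS] at this
              exact absurd this (Finset.notMem_empty _)
            have h2 := hx i
            rw [h1] at h2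
            have h3 : lkEquiv hsub (hb i) (x i) = lkEquiv hsub (hb i) 1 := by
              rw [lkEquiv_apply, h2, map_one]
            exact (lkEquiv hsub (hb i)).injective h3
          rw [hx1]
          exact M.one_mem
        · obtain ⟨r, hr⟩ := Finset.nonempty_iff_ne_empty.mpr hS
          rw [Finset.mem_filter] at hr
          obtain ⟨_, hbr, hxr⟩ := hr
          have htop := projK_eq_top hsub hna r (Finset.univ.filter (fun j => ¬ Lk M r j))
            (fun j hj => (Finset.mem_filter.mp hj).2)
          have hmem : x r ∈ projK M (↑(Finset.univ.filter (fun j => ¬ Lk M r j)) : Set ι) r := by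
            rw [htop]; trivial
          obtain ⟨y, hy, hyJ, hyr⟩ := mem_projK.mp hmem
          have hyJ' : ∀ j, ¬ Lk M r j → y j = 1 := fun j hj =>
            hyJ j (by rw [Finset.mem_coe, Finset.mem_filter]; exact ⟨Finset.mem_univ _, hj⟩)
          have hyD : ∀ i, lkFun M hsub i (b i) (y i) = y (b i) :=
            fun i => lkFun_spec hsub (hb i) hy
          have hzD : ∀ i, lkFun M hsub i (b i) ((x * y⁻¹) i) = (x * y⁻¹) (b i) := by
            intro i
            have e1 : lkFun M hsub i (b i) ((x * y⁻¹) i) = lkEquiv hsub (hb i) (x i * (y i)⁻¹) :=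
              rfl
            rw [e1, map_mul, map_inv, lkEquiv_apply, lkEquiv_apply, hx i, hyD i, Pi.mul_apply,
              Pi.inv_apply]
          have hsubset : (Finset.univ.filter (fun r => b r = r ∧ (x * y⁻¹) r ≠ 1)) ⊂
              (Finset.univ.filter (fun r => b r = r ∧ x r ≠ 1)) := by
            rw [Finset.ssubset_iff_of_subset]
            · refine ⟨r, ?_, ?_⟩
              · rw [Finset.mem_filter]; exact ⟨Finset.mem_univ _, hbr, hxr⟩
              · rw [Finset.mem_filter]
                rintro ⟨_, _, h3⟩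
                apply h3
                rw [Pi.mul_apply, Pi.inv_apply, hyr, mul_inv_cancel]
            · intro r' hr'
              rw [Finset.mem_filter] at hr' ⊢
              obtain ⟨_, hbr', hzr'⟩ := hr'
              refine ⟨Finset.mem_univ _, hbr', ?_⟩
              by_cases hl : Lk M r r'
              · exfalso
                have : r = r' := by rw [← hbr, ← hbr']; exact hb' _ _ hl
                subst this
                apply hzr'
                rw [Pi.mul_apply, Pi.inv_apply, hyr, mul_inv_cancel]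
              · intro h4
                apply hzr'
                rw [Pi.mul_apply, Pi.inv_apply, hyJ' r' hl, h4, inv_one, mul_one]
          have hz := ih _ (by rw [← hn]; exact Finset.card_lt_card hsubset) (x * y⁻¹) hzD rfl
          have : x = (x * y⁻¹) * y := by group
          rw [this]
          exact M.mul_mem hz hy
    intro hx
    exact key _ x hx rfl

end Scott

end Cfsg.Agent.Lib.Helper63
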