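import Mathlib
import Cfsg.Agent.Lib.Helper63.ScottLemma

set_option autoImplicit false

namespace Cfsg.Agent.Lib.Helper63

section Core

variable {G : Type*} [Group G]

/-- abstract core of the O'Nan–Scott analysis of `K ⊓ N` -/
theorem onan_scott_core (N K : Subgroup G) [hN : N.Normal] (hK : IsCoatom K) (hNK : ¬ N ≤ K)
    {ι : Type*} [Fintype ι] [DecidableEq ι] [Nonempty ι] {T : Type*} [Group T] [IsSimpleGroup T]
    (hna : ¬ ∀ a b : T, a * b = b * a)
    (E : N ≃* (ι → T)) (σ : G → Equiv.Perm ι) (θ : G → ι → T ≃* T)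
    (hact : ∀ k ∈ K, ∀ (n : N) (i : ι),
      E ⟨k * (n : G) * k⁻¹, hN.conj_mem n n.2 k⟩ (σ k i) = θ k i (E n i))
    (htrans : ∀ i j, ∃ k ∈ K, σ k i = j) :
    ∃ e : N ≃* (ι → T),
      (∃ R : ι → Subgroup T, (∀ i, R i ≠ ⊤) ∧ ∀ n : N, (n : G) ∈ K ↔ ∀ i, e n i ∈ R i) ∨
      (∃ (k : ℕ) (b : ι → ι), 2 ≤ k ∧
        (∀ r, Nat.card {i // b i = r} = k ∨ Nat.card {i // b i = r} = 0) ∧
        ∀ n : N, (n : G) ∈ K ↔ ∀ i j, b i = b j → e n i = e n j) := by
  classical
  let M : Subgroup (ι → T) := (K.subgroupOf N).map E.toMonoidHom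
  have hM : ∀ n : N, E n ∈ M ↔ (n : G) ∈ K := by
    intro n
    constructor
    · rintro ⟨n', hn', hnn'⟩
      have : n' = n := E.injective hnn'
      rw [← this]
      exact Subgroup.mem_subgroupOf.mp hn'
    · intro hn
      exact ⟨n, Subgroup.mem_subgroupOf.mpr hn, rfl⟩
  have hM' : ∀ x ∈ M, ∃ n : N, (n : G) ∈ K ∧ E n = x := by
    rintro x ⟨n, hn, rfl⟩
    exact ⟨n, Subgroup.mem_subgroupOf.mp hn, rfl⟩
  let R : ι → Subgroup T := fun i => M.map (Pi.evalMonoidHom _ i)
  have hR_mem : ∀ i t, t ∈ R i ↔ ∃ x ∈ M, x i = t := by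
    intro i t
    constructor
    · rintro ⟨x, hx, rfl⟩
      exact ⟨x, hx, rfl⟩
    · rintro ⟨x, hx, rfl⟩
      exact ⟨x, hx, rfl⟩
  -- conjugation by `K` preserves `M`
  have hconjM : ∀ k ∈ K, ∀ n : N, (n : G) ∈ K →
      E ⟨k * (n : G) * k⁻¹, hN.conj_mem n n.2 k⟩ ∈ M := by
    intro k hk n hn
    rw [hM]
    exact K.mul_mem (K.mul_mem hk hn) (K.inv_mem hk)
  have hRmap : ∀ k ∈ K, ∀ i, ∀ t ∈ R i, θ k i t ∈ R (σ k i) := by
    intro k hk i t ht
    obtain ⟨x, hx, rfl⟩ := (hR_mem i t).mp ht
    obtain ⟨n, hn, rfl⟩ := hM' x hx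
    rw [hR_mem]
    exact ⟨_, hconjM k hk n hn, hact k hk n i⟩
  by_cases hR : ∃ i, R i = ⊤
  · -- the subdirect case
    obtain ⟨i₀, hi₀⟩ := hR
    have hall : ∀ j, R j = ⊤ := by
      intro j
      obtain ⟨k, hk, hkj⟩ := htrans i₀ j
      rw [eq_top_iff]
      intro t _
      have h1 : (θ k i₀).symm t ∈ R i₀ := by rw [hi₀]; trivial
      have h2 := hRmap k hk i₀ _ h1
      rw [MulEquiv.apply_symm_apply, hkj] at h2
      exact h2
    have hsub : ∀ i t, ∃ x ∈ M, x i = t := by
      intro i t
      have : t ∈ R i := by rw [hall i]; trivial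
      exact (hR_mem i t).mp this
    -- equivariance of the linking relation
    have hlk : ∀ k ∈ K, ∀ i j, Lk M i j → Lk M (σ k i) (σ k j) := by
      intro k hk i j hij x hx hxi
      obtain ⟨n, hn, rfl⟩ := hM' x hx
      have hn'N : k⁻¹ * (n : G) * k ∈ N := by
        have := hN.conj_mem n n.2 k⁻¹
        rwa [inv_inv] at this
      have hn'K : k⁻¹ * (n : G) * k ∈ K := K.mul_mem (K.mul_mem (K.inv_mem hk) hn) hk
      have hnn' : n = ⟨k * ((⟨k⁻¹ * (n : G) * k, hn'N⟩ : N) : G) * k⁻¹,
          hN.conj_mem _ hn'N k⟩ := by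
        apply Subtype.ext
        show (n : G) = k * (k⁻¹ * (n : G) * k) * k⁻¹
        group
      have h1 := hact k hk ⟨k⁻¹ * (n : G) * k, hn'N⟩ i
      have h2 := hact k hk ⟨k⁻¹ * (n : G) * k, hn'N⟩ j
      rw [← hnn'] at h1 h2
      rw [h1] at hxi
      have h3 : E ⟨k⁻¹ * (n : G) * k, hn'N⟩ i = 1 := by
        have : θ k i (E ⟨k⁻¹ * (n : G) * k, hn'N⟩ i) = θ k i 1 := by rw [hxi, map_one]
        exact (θ k i).injective this
      have h4 := hij _ ((hM _).mpr hn'K) h3
      rw [h2, h4, map_one]
    let s : Setoid ι := ⟨Lk M, ⟨Lk.refl M, fun h => Lk.symm hsub h, fun h1 h2 => Lk.trans h1 h2⟩⟩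
    let b : ι → ι := fun i => Quotient.out (Quotient.mk s i)
    have hb : ∀ i, Lk M i (b i) := by
      intro i
      have : s.r (Quotient.out (Quotient.mk s i)) i := Quotient.mk_out (s := s) i
      exact Lk.symm hsub this
    have hb' : ∀ i j, Lk M i j → b i = b j := by
      intro i j hij
      have : Quotient.mk s i = Quotient.mk s j := Quotient.sound hij
      show Quotient.out (Quotient.mk s i) = Quotient.out (Quotient.mk s j)
      rw [this]
    have hbb : ∀ i, b (b i) = b i := fun i => (hb' _ _ (hb i)).symm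
    have hb'' : ∀ i j, b i = b j → Lk M i j := by
      intro i j hij
      have h1 := hb i
      rw [hij] at h1
      exact h1.trans (Lk.symm hsub (hb j))
    have hchar := mem_iff_of_reps hsub hna b hb hb'
    let ε : ι → T ≃* T := fun i => lkEquiv hsub (hb i)
    have hε : ∀ i t, ε i t = lkFun M hsub i (b i) t := fun i t => rfl
    let e : N ≃* (ι → T) := E.trans (MulEquiv.piCongrRight ε)
    have he : ∀ n i, e n i = ε i (E n i) := fun n i => rfl
    have hmemK : ∀ n : N, (n : G) ∈ K ↔ ∀ i j, b i = b j → e n i = e n j := by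
      intro n
      rw [← hM, hchar]
      constructor
      · intro h i j hij
        rw [he, he, hε, hε, h i, h j, hij]
      · intro h i
        have h1 := h i (b i) (hbb i).symm
        rw [he, he, hε, hε] at h1
        rw [h1]
        have h2 : ∀ r, b r = r → ∀ t, lkFun M hsub r (b r) t = t := by
          intro r hr t
          obtain ⟨r', hr'⟩ : ∃ r', r' = b r := ⟨_, rfl⟩
          rw [← hr']
          have : r' = r := hr'.trans hr
          subst this
          exact lkFun_self hsub _ t
        exact h2 (b i) (hbb i) _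
    -- block sizes
    have hblk : ∀ r r', Nat.card {i // Lk M r i} ≤ Nat.card {i // Lk M r' i} := by
      intro r r'
      obtain ⟨k, hk, hkr⟩ := htrans r r'
      apply Nat.card_le_card_of_injective
        (fun i : {i // Lk M r i} => (⟨σ k i.1, by rw [← hkr]; exact hlk k hk _ _ i.2⟩ :
          {i // Lk M r' i}))
      intro i j hij
      apply Subtype.ext
      have := congrArg Subtype.val hij
      exact (σ k).injective this
    have hblk' : ∀ r r', Nat.card {i // Lk M r i} = Nat.card {i // Lk M r' i} :=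
      fun r r' => le_antisymm (hblk r r') (hblk r' r)
    obtain ⟨i₁⟩ := (inferInstance : Nonempty ι)
    have hcard : ∀ r, Nat.card {i // b i = r} = Nat.card {i // Lk M i₁ i} ∨
        Nat.card {i // b i = r} = 0 := by
      intro r
      by_cases hr : b r = r
      · left
        rw [hblk' i₁ r]
        apply Nat.card_congr
        refine Equiv.subtypeEquivRight ?_
        intro i
        constructor
        · intro h
          rw [← hr] at h
          exact Lk.symm hsub (hb'' _ _ h)
        · intro h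
          rw [← hr]
          exact (hb' _ _ h).symm
      · right
        have : IsEmpty {i // b i = r} := by
          constructor
          rintro ⟨i, hi⟩
          apply hr
          rw [← hi, hbb]
        exact Nat.card_of_isEmpty
    refine ⟨e, Or.inr ⟨Nat.card {i // Lk M i₁ i}, b, ?_, hcard, hmemK⟩⟩
    -- the blocks are not singletons
    by_contra hlt
    have hle1 : ∀ r, Nat.card {i // Lk M r i} ≤ 1 := by
      intro r
      rw [hblk' r i₁]
      omega
    have hsing : ∀ i j, Lk M i j → i = j := by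
      intro i j hij
      have hfin : Finite {i' // Lk M i i'} := inferInstance
      have := (Finite.card_le_one_iff_subsingleton).mp (hle1 i)
      have h2 := Subsingleton.elim (⟨i, Lk.refl M i⟩ : {i' // Lk M i i'}) ⟨j, hij⟩
      exact congrArg Subtype.val h2
    apply hNK
    intro n hn
    have := (hmemK ⟨n, hn⟩).mpr (by
      intro i j hij
      have : i = j := hsing i j (hb'' i j hij)
      rw [this])
    exact this
  · -- the product case
    push Not at hR
    refine ⟨E, Or.inl ⟨R, hR, ?_⟩⟩
    let P : Subgroup G := ((Subgroup.pi Set.univ R).comap E.toMonoidHom).map N.subtype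
    have hP : ∀ g, g ∈ P ↔ ∃ hg : g ∈ N, ∀ i, E ⟨g, hg⟩ i ∈ R i := by
      intro g
      constructor
      · rintro ⟨n, hn, rfl⟩
        refine ⟨n.2, ?_⟩
        intro i
        have := Subgroup.mem_comap.mp hn
        exact (Subgroup.mem_pi _).mp this i (Set.mem_univ _)
      · rintro ⟨hg, h⟩
        refine Subgroup.mem_map.mpr ⟨⟨g, hg⟩, ?_, rfl⟩
        rw [Subgroup.mem_comap, Subgroup.mem_pi]
        intro i _
        exact h i
    have hKP : ∀ k ∈ K, ∀ p ∈ P, k * p * k⁻¹ ∈ P := by
      intro k hk p hp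
      obtain ⟨hpN, hp'⟩ := (hP p).mp hp
      rw [hP]
      refine ⟨hN.conj_mem p hpN k, ?_⟩
      intro j
      obtain ⟨i, rfl⟩ := (σ k).surjective j
      have := hact k hk ⟨p, hpN⟩ i
      rw [this]
      exact hRmap k hk i _ (hp' i)
    have hnorm : K ≤ Subgroup.normalizer (P : Set G) := by
      intro k hk
      rw [Subgroup.mem_normalizer_iff]
      intro p
      constructor
      · intro hp
        exact hKP k hk p hp
      · intro hp
        have := hKP k⁻¹ (K.inv_mem hk) _ hp
        have e : k⁻¹ * (k * p * k⁻¹) * k⁻¹⁻¹ = p := by group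
        rwa [e] at this
    have hKNP : ∀ n : N, (n : G) ∈ K → (n : G) ∈ P := by
      intro n hn
      rw [hP]
      refine ⟨n.2, ?_⟩
      intro i
      rw [hR_mem]
      exact ⟨E n, (hM n).mpr hn, rfl⟩
    have hPK : P ≤ K := by
      by_contra hPK
      have hlt : K < K ⊔ P := by
        apply lt_of_le_of_ne le_sup_left
        intro h
        apply hPK
        rw [h]
        exact le_sup_right
      have htop : K ⊔ P = ⊤ := hK.2 _ hlt
      have hset := Subgroup.coe_mul_of_left_le_normalizer_right K P hnorm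
      have hallP : ∀ n : N, (n : G) ∈ P := by
        intro n
        have : (n : G) ∈ ((K ⊔ P : Subgroup G) : Set G) := by rw [htop]; trivial
        rw [hset] at this
        obtain ⟨k, hk, p, hp, hkp⟩ := Set.mem_mul.mp this
        obtain ⟨hpN, _⟩ := (hP p).mp hp
        have hkN : k ∈ N := by
          have : k = (n : G) * p⁻¹ := by rw [← hkp]; group
          rw [this]
          exact N.mul_mem n.2 (N.inv_mem hpN)
        have hkP := hKNP ⟨k, hkN⟩ hk
        rw [← hkp]
        exact P.mul_mem hkP hp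
      obtain ⟨i₁⟩ := (inferInstance : Nonempty ι)
      apply hR i₁
      rw [eq_top_iff]
      intro t _
      have h1 := hallP (E.symm (Pi.mulSingle i₁ t))
      obtain ⟨hg, h2⟩ := (hP _).mp h1
      have h3 := h2 i₁
      have h4 : (⟨((E.symm (Pi.mulSingle i₁ t) : N) : G), hg⟩ : N) = E.symm (Pi.mulSingle i₁ t) :=
        rfl
      rw [h4, MulEquiv.apply_symm_apply, Pi.mulSingle_eq_same] at h3
      exact h3
    intro n
    constructor
    · intro hn i
      rw [hR_mem]
      exact ⟨E n, (hM n).mpr hn, rfl⟩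
    · intro h
      apply hPK
      rw [hP]
      exact ⟨n.2, h⟩

end Core

end Cfsg.Agent.Lib.Helper63
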