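import Mathlib
import Cfsg.Agent.Lib.Helper63.MinNormalDecomp
import Cfsg.Agent.Lib.Helper63.OnanScottCore

set_option autoImplicit false
set_option linter.style.haveILetI false

namespace Cfsg.Agent.Lib.Helper63

open Subgroup

section Decomp

variable {G : Type*} [Group G]

/-- a minimal `N`-normal subgroup of a minimal normal subgroup is simple -/
theorem IsMinNNormal.isSimpleGroup [Finite G] {N T : Subgroup G} [hN : N.Normal]
    (h : IsMinNNormal N T)
    (hmin : ∀ M : Subgroup G, M.Normal → M ≤ N → M = ⊥ ∨ M = N) : IsSimpleGroup T := by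
  have hnt : Nontrivial T := (Subgroup.nontrivial_iff_ne_bot T).mpr h.ne_bot
  refine { exists_pair_ne := hnt.exists_pair_ne, eq_bot_or_eq_top_of_normal := ?_ }
  intro S hSn
  have hSN : NNormal N (S.map T.subtype) := by
    intro n hn x hx
    obtain ⟨s, hs, rfl⟩ := Subgroup.mem_map.mp hx
    obtain ⟨t, ht, c, hc, rfl⟩ := h.exists_mul hmin n hn
    have hcs : c * (s : G) = (s : G) * c :=
      ((Subgroup.mem_centralizer_iff.mp (Subgroup.mem_inf.mp hc).2) s s.2).symm
    have e : t * c * (T.subtype s) * (t * c)⁻¹ = t * (s : G) * t⁻¹ := by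
      show t * c * (s : G) * (t * c)⁻¹ = t * (s : G) * t⁻¹
      calc t * c * (s : G) * (t * c)⁻¹ = t * (c * (s : G)) * c⁻¹ * t⁻¹ := by group
        _ = t * ((s : G) * c) * c⁻¹ * t⁻¹ := by rw [hcs]
        _ = t * (s : G) * t⁻¹ := by group
    rw [e]
    exact Subgroup.mem_map.mpr ⟨⟨t, ht⟩ * s * ⟨t, ht⟩⁻¹, hSn.conj_mem s hs ⟨t, ht⟩, rfl⟩
  by_cases hb : S = ⊥
  · exact Or.inl hb
  · right
    have hmapne : S.map T.subtype ≠ ⊥ := by
      intro h0
      exact hb ((Subgroup.map_eq_bot_iff_of_injective S T.subtype_injective).mp h0)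
    have := h.min _ (Subgroup.map_subtype_le S) hSN hmapne
    rw [eq_top_iff]
    intro t _
    have ht : (t : G) ∈ S.map T.subtype := by rw [this]; exact t.2
    obtain ⟨s, hs, hst⟩ := Subgroup.mem_map.mp ht
    have : s = t := Subtype.ext hst
    rw [← this]; exact hs

variable (T : Subgroup G)

/-- the set of conjugates of `T` -/
def CjIdx : Type _ := {S : Subgroup G // ∃ g, S = cj g T}

instance [Finite G] : Finite (CjIdx T) := Subtype.finite

/-- the conjugation action on the set of conjugates -/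
def CjIdx.act {T : Subgroup G} (g : G) (i : CjIdx T) : CjIdx T :=
  ⟨cj g i.1, by obtain ⟨h, hh⟩ := i.2; exact ⟨g * h, by rw [hh, cj_cj]⟩⟩

theorem CjIdx.act_val {T : Subgroup G} (g : G) (i : CjIdx T) : (CjIdx.act g i).1 = cj g i.1 := rfl

theorem CjIdx.act_mul {T : Subgroup G} (g h : G) (i : CjIdx T) :
    CjIdx.act (g * h) i = CjIdx.act g (CjIdx.act h i) := by
  apply Subtype.ext
  rw [CjIdx.act_val, CjIdx.act_val, CjIdx.act_val, cj_cj]

theorem CjIdx.act_one {T : Subgroup G} (i : CjIdx T) : CjIdx.act 1 i = i := by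
  apply Subtype.ext
  rw [CjIdx.act_val, cj_one]

theorem CjIdx.act_trans {T : Subgroup G} (i j : CjIdx T) : ∃ g : G, CjIdx.act g i = j := by
  obtain ⟨a, ha⟩ := i.2
  obtain ⟨b, hb⟩ := j.2
  refine ⟨b * a⁻¹, ?_⟩
  apply Subtype.ext
  rw [CjIdx.act_val, ha, hb, cj_cj, mul_assoc, inv_mul_cancel, mul_one]

/-- the base index -/
def CjIdx.base : CjIdx T := ⟨T, 1, (cj_one T).symm⟩

variable {T}

theorem CjIdx.isMin [Finite G] {N : Subgroup G} [hN : N.Normal] (h : IsMinNNormal N T)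
    (i : CjIdx T) : IsMinNNormal N i.1 := by
  obtain ⟨g, hg⟩ := i.2
  rw [hg]
  exact h.cj g

theorem CjIdx.act_of_mem [Finite G] {N : Subgroup G} [hN : N.Normal] (h : IsMinNNormal N T)
    (i : CjIdx T) {n : G} (hn : n ∈ N) : CjIdx.act n i = i := by
  apply Subtype.ext
  rw [CjIdx.act_val]
  have hi := CjIdx.isMin h i
  apply le_antisymm
  · intro x hx
    rw [mem_cj] at hx
    have := hi.nn n hn _ hx
    have e : n * (n⁻¹ * x * n) * n⁻¹ = x := by group
    rw [e] at this
    exact this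
  · intro x hx
    rw [mem_cj]
    have := hi.nn n⁻¹ (N.inv_mem hn) x hx
    simpa using this

theorem CjIdx.commute_of_ne [Finite G] {N : Subgroup G} [hN : N.Normal] (h : IsMinNNormal N T)
    {i j : CjIdx T} (hij : i ≠ j) : ∀ x ∈ i.1, ∀ y ∈ j.1, x * y = y * x := by
  obtain ⟨a, ha⟩ := i.2
  obtain ⟨b, hb⟩ := j.2
  have hi := CjIdx.isMin h i
  have hj : j.1 = cj (b * a⁻¹) i.1 := by
    rw [ha, hb, cj_cj, mul_assoc, inv_mul_cancel, mul_one]
  rcases hi.dichotomy (b * a⁻¹) with hd | hd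
  · exfalso
    apply hij
    apply Subtype.ext
    rw [hj, hd]
  · intro x hx y hy
    rw [hj] at hy
    exact hd.2 x hx y hy

theorem CjIdx.le_centralizer_of_ne [Finite G] {N : Subgroup G} [hN : N.Normal]
    (h : IsMinNNormal N T) {i j : CjIdx T} (hij : i ≠ j) :
    j.1 ≤ centralizer (i.1 : Set G) := by
  intro y hy
  rw [Subgroup.mem_centralizer_iff]
  intro x hx
  exact CjIdx.commute_of_ne h hij x hx y hy

end Decomp


section Iso

variable {G : Type*} [Group G] [Finite G] {N T : Subgroup G} [hN : N.Normal]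

noncomputable instance CjIdx.instDecEq : DecidableEq (CjIdx T) := Classical.decEq _

noncomputable instance CjIdx.instFintype : Fintype (CjIdx T) := Fintype.ofFinite _

/-- the direct product decomposition of a nonabelian minimal normal subgroup -/
theorem exists_decomp_equiv (h : IsMinNNormal N T)
    (hmin : ∀ M : Subgroup G, M.Normal → M ≤ N → M = ⊥ ∨ M = N)
    (hnab : ¬ ∀ x ∈ N, ∀ y ∈ N, x * y = y * x) :
    ∃ E : N ≃* (∀ i : CjIdx T, (i.1 : Subgroup G)),
      (∀ (i : CjIdx T) (t : G) (ht : t ∈ i.1),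
        E ⟨t, (CjIdx.isMin h i).le ht⟩ = Pi.mulSingle i ⟨t, ht⟩) ∧
      (∀ (n : N) (i : CjIdx T), ∃ c ∈ centralizer (i.1 : Set G), (n : G) = (E n i : G) * c) := by
  classical
  let Hf : CjIdx T → Subgroup G := fun i => i.1
  have hMI : ∀ i : CjIdx T, IsMinNNormal N (Hf i) := fun i => CjIdx.isMin h i
  have hcomm : Pairwise fun i j : CjIdx T => ∀ x y : G, x ∈ Hf i → y ∈ Hf j → Commute x y := by
    intro i j hij x y hx hy
    exact CjIdx.commute_of_ne h hij x hx y hy
  have hci : ∀ i, Hf i ⊓ centralizer (Hf i : Set G) = ⊥ :=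
    fun i => (hMI i).inf_centralizer_eq_bot hmin hnab
  have hind : iSupIndep Hf := by
    intro i
    rw [disjoint_iff, eq_bot_iff]
    calc Hf i ⊓ ⨆ j, ⨆ (_ : j ≠ i), Hf j ≤ Hf i ⊓ centralizer (Hf i : Set G) :=
          inf_le_inf_left _ (iSup₂_le fun j hj =>
            CjIdx.le_centralizer_of_ne h (fun e => hj e.symm))
      _ = ⊥ := hci i
  have hsup : ⨆ i, Hf i = N := by
    have hle : ⨆ i, Hf i ≤ N := iSup_le fun i => (hMI i).le
    have hnorm : (⨆ i, Hf i).Normal := by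
      constructor
      intro x hx g
      have hmap : (⨆ i, Hf i).map (MulAut.conj g).toMonoidHom ≤ ⨆ i, Hf i := by
        rw [Subgroup.map_iSup]
        apply iSup_le
        intro i
        exact le_iSup Hf (CjIdx.act g i)
      exact hmap ⟨x, hx, rfl⟩
    rcases hmin _ hnorm hle with h0 | h0
    · exfalso
      have h1 : T ≤ ⨆ i, Hf i := le_iSup Hf (CjIdx.base T)
      rw [h0] at h1
      exact h.ne_bot (le_bot_iff.1 h1)
    · exact h0
  have hinj := Subgroup.injective_noncommPiCoprod_of_iSupIndep (hcomm := hcomm) hind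
  have hrange : (Subgroup.noncommPiCoprod hcomm).range = N := by
    rw [Subgroup.noncommPiCoprod_range, hsup]
  let e1 : (∀ i, Hf i) ≃* N :=
    (MonoidHom.ofInjective hinj).trans (MulEquiv.subgroupCongr hrange)
  have he1 : ∀ f, ((e1 f : N) : G) = Subgroup.noncommPiCoprod hcomm f := fun f => rfl
  refine ⟨e1.symm, ?_, ?_⟩
  · intro i t ht
    have h1 : e1 (Pi.mulSingle i ⟨t, ht⟩) = ⟨t, (CjIdx.isMin h i).le ht⟩ := by
      apply Subtype.ext
      rw [he1, Subgroup.noncommPiCoprod_mulSingle]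
    rw [← h1, MulEquiv.symm_apply_apply]
  · intro n i
    obtain ⟨f, hf⟩ : ∃ f, f = e1.symm n := ⟨_, rfl⟩
    have hn : (n : G) = Subgroup.noncommPiCoprod hcomm f := by
      rw [← he1, hf, MulEquiv.apply_symm_apply]
    have hsplit : f = Pi.mulSingle i (f i) * Function.update f i 1 := by
      funext j
      by_cases hj : j = i
      · subst hj
        simp
      · simp [Pi.mulSingle_eq_of_ne hj, Function.update_of_ne hj]
    refine ⟨Subgroup.noncommPiCoprod hcomm (Function.update f i 1), ?_, ?_⟩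
    · rw [Subgroup.noncommPiCoprod_apply]
      apply Subgroup.noncommProd_mem
      intro j _
      by_cases hj : j = i
      · subst hj
        simp
      · rw [Function.update_of_ne hj]
        exact CjIdx.le_centralizer_of_ne h (fun e => hj e.symm) (f j).2
    · rw [← hf, hn]
      conv_lhs => rw [hsplit]
      rw [map_mul, Subgroup.noncommPiCoprod_mulSingle]

end Iso


section Analysis

variable {G : Type*} [Group G] [Finite G] {N T : Subgroup G} [hN : N.Normal]
  (h : IsMinNNormal N T)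
  (hmin : ∀ M : Subgroup G, M.Normal → M ≤ N → M = ⊥ ∨ M = N)
  (hnab : ¬ ∀ x ∈ N, ∀ y ∈ N, x * y = y * x)
  (E : N ≃* (∀ i : CjIdx T, (i.1 : Subgroup G)))
  (hE1 : ∀ (i : CjIdx T) (t : G) (ht : t ∈ i.1),
    E ⟨t, (CjIdx.isMin h i).le ht⟩ = Pi.mulSingle i ⟨t, ht⟩)
  (hE2 : ∀ (n : N) (i : CjIdx T), ∃ c ∈ centralizer (i.1 : Set G), (n : G) = (E n i : G) * c)

include h hmin hnab hE2 in
theorem coord_unique (n : N) (i : CjIdx T) (t c : G) (ht : t ∈ i.1)
    (hc : c ∈ centralizer (i.1 : Set G)) (hn : (n : G) = t * c) : (E n i : G) = t := by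
  obtain ⟨c', hc', hn'⟩ := hE2 n i
  have hci := (CjIdx.isMin h i).inf_centralizer_eq_bot hmin hnab
  have h1 : ((E n i : G))⁻¹ * t = c' * c⁻¹ := by
    have h2 : (E n i : G) * c' = t * c := by rw [← hn', hn]
    calc ((E n i : G))⁻¹ * t = ((E n i : G))⁻¹ * (t * c) * c⁻¹ := by group
      _ = ((E n i : G))⁻¹ * ((E n i : G) * c') * c⁻¹ := by rw [h2]
      _ = c' * c⁻¹ := by group
  have h3 : ((E n i : G))⁻¹ * t ∈ i.1 ⊓ centralizer (i.1 : Set G) := by
    refine Subgroup.mem_inf.mpr ⟨(i.1).mul_mem ((i.1).inv_mem (E n i).2) ht, ?_⟩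
    rw [h1]
    exact Subgroup.mul_mem _ hc' (Subgroup.inv_mem _ hc)
  rw [hci, Subgroup.mem_bot] at h3
  exact (inv_mul_eq_one.mp h3)

include h hmin hnab hE2 in
theorem coord_conj (g : G) (n : N) (i : CjIdx T) :
    (E ⟨g * (n : G) * g⁻¹, hN.conj_mem n n.2 g⟩ (CjIdx.act g i) : G) = g * (E n i : G) * g⁻¹ := by
  obtain ⟨c, hc, hn⟩ := hE2 n i
  apply coord_unique h hmin hnab E hE2 _ (CjIdx.act g i) (g * (E n i : G) * g⁻¹) (g * c * g⁻¹)
  · rw [CjIdx.act_val]
    exact conj_mem_cj (E n i).2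
  · rw [Subgroup.mem_centralizer_iff]
    intro y hy
    rw [SetLike.mem_coe, CjIdx.act_val, mem_cj] at hy
    have := (Subgroup.mem_centralizer_iff.mp hc) _ hy
    calc y * (g * c * g⁻¹) = g * ((g⁻¹ * y * g) * c) * g⁻¹ := by group
      _ = g * (c * (g⁻¹ * y * g)) * g⁻¹ := by rw [this]
      _ = g * c * g⁻¹ * y := by group
  · show g * (n : G) * g⁻¹ = g * (E n i : G) * g⁻¹ * (g * c * g⁻¹)
    rw [hn]
    group

include h hE1 in
theorem coord_self (i : CjIdx T) (t : G) (ht : t ∈ i.1) :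
    (E ⟨t, (CjIdx.isMin h i).le ht⟩ i : G) = t := by
  rw [hE1 i t ht, Pi.mulSingle_eq_same]

include h hE1 in
theorem coord_other (i j : CjIdx T) (hij : j ≠ i) (t : G) (ht : t ∈ i.1) :
    E ⟨t, (CjIdx.isMin h i).le ht⟩ j = 1 := by
  rw [hE1 i t ht, Pi.mulSingle_eq_of_ne hij]

end Analysis

section Setup

variable {G : Type*} [Group G] {T : Subgroup G}

/-- conjugation iso between `i` and `act g i` -/
def CjIdx.conjEquiv (g : G) (i : CjIdx T) :
    (i.1 : Subgroup G) ≃* ((CjIdx.act g i).1 : Subgroup G) where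
  toFun x := ⟨g * (x : G) * g⁻¹, by rw [CjIdx.act_val]; exact conj_mem_cj x.2⟩
  invFun y := ⟨g⁻¹ * (y : G) * g, by
    have h1 : (y : G) ∈ cj g i.1 := y.2
    exact mem_cj.mp h1⟩
  left_inv x := by
    apply Subtype.ext
    show g⁻¹ * (g * (x : G) * g⁻¹) * g = x
    group
  right_inv y := by
    apply Subtype.ext
    show g * (g⁻¹ * (y : G) * g) * g⁻¹ = y
    group
  map_mul' x y := by
    apply Subtype.ext
    show g * ((x : G) * (y : G)) * g⁻¹ = (g * (x : G) * g⁻¹) * (g * (y : G) * g⁻¹)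
    group

theorem CjIdx.conjEquiv_val (g : G) (i : CjIdx T) (x : (i.1 : Subgroup G)) :
    ((CjIdx.conjEquiv g i x : (CjIdx.act g i).1) : G) = g * (x : G) * g⁻¹ := rfl

/-- an iso from a conjugate to the base -/
noncomputable def CjIdx.toBase (i : CjIdx T) : (i.1 : Subgroup G) ≃* T where
  toFun x := ⟨(Classical.choose i.2)⁻¹ * (x : G) * (Classical.choose i.2),
    mem_cj.mp ((Classical.choose_spec i.2).le x.2)⟩
  invFun t := ⟨(Classical.choose i.2) * (t : G) * (Classical.choose i.2)⁻¹,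
    (Classical.choose_spec i.2).ge (conj_mem_cj t.2)⟩
  left_inv x := by
    apply Subtype.ext
    show (Classical.choose i.2) * ((Classical.choose i.2)⁻¹ * (x : G) * (Classical.choose i.2)) *
      (Classical.choose i.2)⁻¹ = x
    group
  right_inv y := by
    apply Subtype.ext
    show (Classical.choose i.2)⁻¹ * ((Classical.choose i.2) * (y : G) * (Classical.choose i.2)⁻¹) *
      (Classical.choose i.2) = y
    group
  map_mul' x y := by
    apply Subtype.ext
    show (Classical.choose i.2)⁻¹ * ((x : G) * (y : G)) * (Classical.choose i.2) =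
      ((Classical.choose i.2)⁻¹ * (x : G) * (Classical.choose i.2)) *
        ((Classical.choose i.2)⁻¹ * (y : G) * (Classical.choose i.2))
    group

/-- the permutation of the conjugates induced by `g` -/
def CjIdx.perm (g : G) : Equiv.Perm (CjIdx T) where
  toFun := CjIdx.act g
  invFun := CjIdx.act g⁻¹
  left_inv i := by rw [← CjIdx.act_mul, inv_mul_cancel, CjIdx.act_one]
  right_inv i := by rw [← CjIdx.act_mul, mul_inv_cancel, CjIdx.act_one]

theorem CjIdx.perm_apply (g : G) (i : CjIdx T) : CjIdx.perm g i = CjIdx.act g i := rfl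

end Setup

section Main

variable {G : Type*} [Group G] [Finite G]

/-- the O'Nan–Scott analysis for a nonabelian minimal normal subgroup `N` and a maximal subgroup
`K` not containing it -/
theorem onan_scott_min_normal (N K : Subgroup G) [hN : N.Normal] (hK : IsCoatom K)
    (hNK : ¬ N ≤ K) (hNbot : N ≠ ⊥)
    (hmin : ∀ M : Subgroup G, M.Normal → M ≤ N → M = ⊥ ∨ M = N)
    (hnab : ¬ ∀ x ∈ N, ∀ y ∈ N, x * y = y * x) :
    ∃ (T : Subgroup G) (e : N ≃* (CjIdx T → T)), IsSimpleGroup T ∧ (¬ ∀ a b : T, a * b = b * a) ∧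
      ((∃ R : CjIdx T → Subgroup T, (∀ i, R i ≠ ⊤) ∧ ∀ n : N, (n : G) ∈ K ↔ ∀ i, e n i ∈ R i) ∨
      (∃ (k : ℕ) (b : CjIdx T → CjIdx T), 2 ≤ k ∧
        (∀ r, Nat.card {i // b i = r} = k ∨ Nat.card {i // b i = r} = 0) ∧
        ∀ n : N, (n : G) ∈ K ↔ ∀ i j, b i = b j → e n i = e n j)) := by
  classical
  have hNN : NNormal N N := fun n hn t ht => N.mul_mem (N.mul_mem hn ht) (N.inv_mem hn)
  obtain ⟨T, hTN, hT⟩ := exists_isMinNNormal_le N N le_rfl hNN hNbot
  have hsimple := hT.isSimpleGroup hmin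
  obtain ⟨E, hE1, hE2⟩ := exists_decomp_equiv hT hmin hnab
  have hna : ¬ ∀ a b : T, a * b = b * a := by
    intro hc
    have hci := hT.inf_centralizer_eq_bot hmin hnab
    apply hT.ne_bot
    rw [eq_bot_iff, ← hci]
    intro t ht
    refine Subgroup.mem_inf.mpr ⟨ht, ?_⟩
    rw [Subgroup.mem_centralizer_iff]
    intro s hs
    have := hc ⟨s, hs⟩ ⟨t, ht⟩
    exact congrArg Subtype.val this
  have : Nonempty (CjIdx T) := ⟨CjIdx.base T⟩
  let E' : N ≃* (CjIdx T → T) := E.trans (MulEquiv.piCongrRight (fun i => CjIdx.toBase i))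
  have hE' : ∀ n i, E' n i = CjIdx.toBase i (E n i) := fun n i => rfl
  let θ : G → CjIdx T → T ≃* T := fun g i =>
    (CjIdx.toBase i).symm.trans ((CjIdx.conjEquiv g i).trans (CjIdx.toBase (CjIdx.act g i)))
  have hact : ∀ k ∈ K, ∀ (n : N) (i : CjIdx T),
      E' ⟨k * (n : G) * k⁻¹, hN.conj_mem n n.2 k⟩ (CjIdx.perm k i) = θ k i (E' n i) := by
    intro k _ n i
    rw [hE', hE', CjIdx.perm_apply]
    show _ = CjIdx.toBase (CjIdx.act k i)
      (CjIdx.conjEquiv k i ((CjIdx.toBase i).symm (CjIdx.toBase i (E n i))))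
    rw [MulEquiv.symm_apply_apply]
    congr 1
    apply Subtype.ext
    rw [CjIdx.conjEquiv_val]
    exact coord_conj hT hmin hnab E hE2 k n i
  have hsup : K ⊔ N = ⊤ := by
    apply hK.2
    apply lt_of_le_of_ne le_sup_left
    intro h
    apply hNK
    rw [h]
    exact le_sup_right
  have htrans : ∀ i j : CjIdx T, ∃ k ∈ K, CjIdx.perm k i = j := by
    intro i j
    obtain ⟨g, hg⟩ := CjIdx.act_trans i j
    have hgm : g ∈ K ⊔ N := by rw [hsup]; trivial
    obtain ⟨k, hk, n, hn, rfl⟩ := Subgroup.mem_sup_of_normal_right.mp hgm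
    refine ⟨k, hk, ?_⟩
    rw [CjIdx.perm_apply, ← hg, CjIdx.act_mul, CjIdx.act_of_mem hT i hn]
  obtain ⟨e, he⟩ := onan_scott_core N K hK hNK hna E' CjIdx.perm θ hact htrans
  exact ⟨T, e, hsimple, hna, he⟩

end Main

end Cfsg.Agent.Lib.Helper63
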