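import Cfsg.Agent.Lib.Helper50.ClsPlus

set_option autoImplicit false

/-! K-S2718-A: a similarity `t` of the hyperbolic form with `t² = c²` and multiplier `-c²`
(odd characteristic) preserves the two classes of maximal totally singular subspaces: its
`c`-eigenspace is a `t`-stable totally singular subspace of dimension `m`. -/

namespace Cfsg.Agent.Lib.Helper63.S2718K

open Module Matrix Cfsg.Agent.Lib.Helper43 Cfsg.Agent.Lib.Helper08 Cfsg.Agent.Lib.Helper50

universe u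

section eig

variable {F : Type u} [Field F] {ι : Type} [Fintype ι] [DecidableEq ι]

/-- the eigenspace of a matrix `T` for the eigenvalue `a` -/
def eigSp (T : Matrix ι ι F) (a : F) : Submodule F (ι → F) :=
  LinearMap.ker (Matrix.mulVecLin T - a • LinearMap.id)

omit [DecidableEq ι] in
theorem mem_eigSp (T : Matrix ι ι F) (a : F) (v : ι → F) :
    v ∈ eigSp T a ↔ T *ᵥ v = a • v := by
  unfold eigSp
  rw [LinearMap.mem_ker, LinearMap.sub_apply, LinearMap.smul_apply, LinearMap.id_apply,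
    Matrix.mulVecLin_apply, sub_eq_zero]

omit [DecidableEq ι] in
/-- eigenvectors of a similarity whose multiplier is not the square of the eigenvalue are
singular -/
theorem eigSp_singular (Q : QuadraticForm F (ι → F)) (T : Matrix ι ι F) (a μ : F)
    (hne : a * a - μ ≠ 0) (hμ : ∀ v, Q (T *ᵥ v) = μ * Q v) :
    ∀ v ∈ eigSp T a, Q v = 0 := by
  intro v hv
  rw [mem_eigSp] at hv
  have h1 := hμ v
  rw [hv, QuadraticMap.map_smul, smul_eq_mul] at h1
  have h2 : (a * a - μ) * Q v = 0 := by rw [sub_mul, h1, sub_self]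
  rcases mul_eq_zero.mp h2 with h | h
  · exact absurd h hne
  · exact h

theorem eigSp_sup_eq_top (h2 : (2 : F) ≠ 0) (T : Matrix ι ι F) (c : F) (hc : c ≠ 0)
    (hT : T * T = (c * c) • (1 : Matrix ι ι F)) : eigSp T c ⊔ eigSp T (-c) = ⊤ := by
  rw [eq_top_iff]
  intro v _
  have hTT : T *ᵥ (T *ᵥ v) = (c * c) • v := by
    rw [Matrix.mulVec_mulVec, hT, Matrix.smul_mulVec, Matrix.one_mulVec]
  have h2c : (2 * c : F) ≠ 0 := mul_ne_zero h2 hc
  rw [Submodule.mem_sup]
  refine ⟨(2 * c)⁻¹ • (c • v + T *ᵥ v), ?_, (2 * c)⁻¹ • (c • v - T *ᵥ v), ?_, ?_⟩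
  · apply Submodule.smul_mem
    rw [mem_eigSp, Matrix.mulVec_add, Matrix.mulVec_smul, hTT, smul_add, smul_smul]
    rw [add_comm]
  · apply Submodule.smul_mem
    rw [mem_eigSp, Matrix.mulVec_sub, Matrix.mulVec_smul, hTT, smul_sub, smul_smul]
    simp only [neg_mul, neg_smul]
    abel
  · rw [← smul_add]
    have : c • v + T *ᵥ v + (c • v - T *ᵥ v) = (2 * c) • v := by
      rw [mul_smul, two_smul]; abel
    rw [this, smul_smul, inv_mul_cancel₀ h2c, one_smul]

theorem gmap_eigSp_le (g : GL ι F) (a : F) :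
    gmap g (eigSp (g : Matrix ι ι F) a) ≤ eigSp (g : Matrix ι ι F) a := by
  rintro w ⟨v, hv, rfl⟩
  rw [SetLike.mem_coe, mem_eigSp] at hv
  rw [mem_eigSp, Matrix.mulVecLin_apply, hv, Matrix.mulVec_smul, hv]

end eig

section plus

variable {F : Type u} [Field F] [Fintype F] {m : ℕ}

set_option linter.unusedSectionVars false in
theorem mem_clsPlus_of_anti (h2 : (2 : F) ≠ 0) (t : ↥(Cfsg.Geo.quadSimilarityGroup (F := F) (Cfsg.quadFormPlus m F))) (c : F) (hc : c ≠ 0)
    (ht : ((t : GL (Fin m ⊕ Fin m) F) : Matrix (Fin m ⊕ Fin m) (Fin m ⊕ Fin m) F) *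
      ((t : GL (Fin m ⊕ Fin m) F) : Matrix (Fin m ⊕ Fin m) (Fin m ⊕ Fin m) F) = (c * c) • 1)
    (hμ : ∀ v, Cfsg.quadFormPlus m F
      (((t : GL (Fin m ⊕ Fin m) F) : Matrix (Fin m ⊕ Fin m) (Fin m ⊕ Fin m) F) *ᵥ v) =
        -(c * c) * Cfsg.quadFormPlus m F v) :
    t ∈ clsPlus m := by
  set T : Matrix (Fin m ⊕ Fin m) (Fin m ⊕ Fin m) F := ((t : GL (Fin m ⊕ Fin m) F) :
    Matrix (Fin m ⊕ Fin m) (Fin m ⊕ Fin m) F) with hTdef
  have hμ' : ∀ v, QPlus m F (T *ᵥ v) = -(c * c) * QPlus m F v := hμ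
  have hne : ∀ a : F, a * a = c * c → a * a - -(c * c) ≠ 0 := by
    intro a ha
    rw [ha, sub_neg_eq_add, ← two_mul]
    exact mul_ne_zero h2 (mul_ne_zero hc hc)
  have hfr : finrank F (Fin m ⊕ Fin m → F) = 2 * m := by
    rw [Module.finrank_fintype_fun_eq_card, card_plus_index]
  have hP : ∀ v ∈ eigSp T c, QPlus m F v = 0 :=
    eigSp_singular (QPlus m F) T c (-(c * c)) (hne c rfl) hμ'
  have hM : ∀ v ∈ eigSp T (-c), QPlus m F v = 0 :=
    eigSp_singular (QPlus m F) T (-c) (-(c * c)) (hne (-c) (by ring)) hμ'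
  have hPd : finrank F ↥(eigSp T c) ≤ m :=
    TF.TS.finrank_le (QPlus m F) QPlus_nondegenerate m hfr (W := eigSp T c) hP
  have hMd : finrank F ↥(eigSp T (-c)) ≤ m :=
    TF.TS.finrank_le (QPlus m F) QPlus_nondegenerate m hfr (W := eigSp T (-c)) hM
  have hsup := eigSp_sup_eq_top h2 T c hc ht
  have hdim := Submodule.finrank_sup_add_finrank_inf_eq (eigSp T c) (eigSp T (-c))
  rw [hsup, finrank_top, hfr] at hdim
  have hPm : finrank F ↥(eigSp T c) = m := by omega
  have hstab : gmap (t : GL (Fin m ⊕ Fin m) F) (eigSp T c) = eigSp T c := by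
    apply Submodule.eq_of_le_of_finrank_eq
    · exact gmap_eigSp_le (t : GL (Fin m ⊕ Fin m) F) c
    · rw [finrank_gmap]
  rw [mem_clsPlus_iff]
  change Cfsg.PreservesSingularClasses (⇑(QPlus m F)) T
  rw [psc_iff_even (QPlus m F) QPlus_nondegenerate m (card_plus_index m) (kerInr F m)
    kerInr_singular finrank_kerInr (t : GL (Fin m ⊕ Fin m) F) (-(c * c)) hμ' (eigSp T c) hP hPm,
    hstab, inf_idem, hPm, Nat.sub_self]
  exact Even.zero

end plus

end Cfsg.Agent.Lib.Helper63.S2718K
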