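import Mathlib
import Cfsg.Agent.Lib.Helper49.RSU3Defs
import Cfsg.Agent.Lib.Helper40.GUConj

set_option autoImplicit false
set_option linter.unusedSectionVars false
set_option linter.unusedVariables false

/-!
# K-RSU3 leaf L02 (keystone 228302, S2283): `bet μ + (bet μ)^q + 1 = 0` for `μ` of order `q + 1`
-/

namespace Cfsg.Agent.Lib.Helper63.RSU3

open Matrix Cfsg.Agent.Lib.Helper49.StSU Cfsg.Agent.Lib.Helper49.RSU3

variable {F : Type*} [Field F] [Fintype F] {q : ℕ}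

/-- basic facts about an element of order `q + 1`, `q ≥ 3` -/
theorem mu_facts (hq : 3 ≤ q) (μ : F) (hμ : orderOf μ = q + 1) :
    μ ≠ 0 ∧ μ ≠ 1 ∧ μ ≠ -1 ∧ μ ^ q = μ⁻¹ := by
  have hpow : μ ^ (q + 1) = 1 := by
    rw [← hμ]
    exact pow_orderOf_eq_one μ
  have h0 : μ ≠ 0 := by
    intro h
    rw [h, zero_pow (by omega)] at hpow
    exact zero_ne_one hpow
  have h1 : μ ≠ 1 := by
    intro h
    rw [h, orderOf_one] at hμ
    omega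
  have hm1 : μ ≠ -1 := by
    intro h
    have h2 : μ ^ 2 = 1 := by rw [h]; ring
    have := orderOf_le_of_pow_eq_one (by norm_num) h2
    omega
  refine ⟨h0, h1, hm1, ?_⟩
  rw [pow_succ] at hpow
  exact eq_inv_of_mul_eq_one_left hpow

/-- L02 -/
theorem val_bet (hq : 3 ≤ q) (hF : Fintype.card F = q ^ 2) (μ : F) (hμ : orderOf μ = q + 1) :
    Val q 1 (bet μ) := by
  obtain ⟨h0, h1, hm1, hinv⟩ := mu_facts hq μ hμ
  obtain ⟨φ, hφ, -, -⟩ := Cfsg.Agent.Lib.Helper40.GUConj.exists_frob hF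
  have hφμ : φ μ = μ⁻¹ := by rw [hφ, hinv]
  have e1 : μ - 1 ≠ 0 := sub_ne_zero.mpr h1
  have e2 : μ + 1 ≠ 0 := by
    intro h
    exact hm1 (eq_neg_of_add_eq_zero_left h)
  have hbq : bet μ ^ q = (2 * μ⁻¹ + 1) / ((μ⁻¹ - 1) * (μ⁻¹ + 1) ^ 3) := by
    rw [← hφ]
    unfold bet
    rw [map_div₀, map_mul, map_pow, map_add, map_sub, map_add, map_mul, map_one, hφμ]
    have : φ 2 = 2 := map_ofNat φ 2
    rw [this]
  have e5 : 1 - μ ≠ 0 := sub_ne_zero.mpr (Ne.symm h1)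
  have e6 : 1 + μ ≠ 0 := by rw [add_comm]; exact e2
  have e3 : μ⁻¹ - 1 ≠ 0 := by
    intro h
    apply h1
    have : μ⁻¹ = 1 := sub_eq_zero.mp h
    rw [inv_eq_one] at this
    exact this
  have e4 : μ⁻¹ + 1 ≠ 0 := by
    intro h
    apply hm1
    have : μ⁻¹ = -1 := eq_neg_of_add_eq_zero_left h
    rw [inv_eq_iff_eq_inv] at this
    rw [this]
    norm_num
  have key : (2 * μ⁻¹ + 1) / ((μ⁻¹ - 1) * (μ⁻¹ + 1) ^ 3) =
      μ ^ 3 * (μ + 2) / ((1 - μ) * (1 + μ) ^ 3) := by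
    have hd1 : (μ⁻¹ - 1) * (μ⁻¹ + 1) ^ 3 ≠ 0 := mul_ne_zero e3 (pow_ne_zero 3 e4)
    have hd2 : (1 - μ) * (1 + μ) ^ 3 ≠ 0 := mul_ne_zero e5 (pow_ne_zero 3 e6)
    rw [div_eq_div_iff hd1 hd2]
    have hi : μ⁻¹ * μ = 1 := inv_mul_cancel₀ h0
    have e7 : (μ⁻¹ - 1) * μ = 1 - μ := by rw [sub_mul, hi, one_mul]
    have e8 : (μ⁻¹ + 1) * μ = 1 + μ := by rw [add_mul, hi, one_mul]
    have e9 : (2 * μ⁻¹ + 1) * μ = 2 + μ := by rw [add_mul, mul_assoc, hi, one_mul, mul_one]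
    calc (2 * μ⁻¹ + 1) * ((1 - μ) * (1 + μ) ^ 3)
        = (2 * μ⁻¹ + 1) * (((μ⁻¹ - 1) * μ) * ((μ⁻¹ + 1) * μ) ^ 3) := by rw [e7, e8]
      _ = ((2 * μ⁻¹ + 1) * μ) * μ ^ 3 * ((μ⁻¹ - 1) * (μ⁻¹ + 1) ^ 3) := by ring
      _ = μ ^ 3 * (μ + 2) * ((μ⁻¹ - 1) * (μ⁻¹ + 1) ^ 3) := by rw [e9]; ring
  unfold Val
  rw [hbq, key, one_pow, mul_one]
  unfold bet
  field_simp
  ring

end Cfsg.Agent.Lib.Helper63.RSU3
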