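import Cfsg.Agent.Lib.Helper69.OPbDefs

/-!
# K-OPb-0 (keystone 598900, architect helper69): basics of `IsoCls`

`isoCls_refl`, `isoCls_symm`, `isoCls_trans`, `isoCls_polar`, `isoCls_finrank`, `isoCls_nonDeg`, `isoCls_sup`,
with the exact signatures of `notes/S5989_keystones.lean.txt` (LEAF 0).
-/

set_option autoImplicit false
set_option linter.unusedVariables false

namespace Cfsg.Agent.Lib.Helper63.OPb

open Module Cfsg.Agent.Lib.Helper98.Elus Cfsg.Agent.Lib.Helper98.Sy Cfsg.Agent.Lib.Helper98.Oh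
  Cfsg.Agent.Lib.Helper69.OPb

universe u
variable {F : Type u} [Field F] {V : Type u} [AddCommGroup V] [Module F V]

theorem isoCls_refl (B : LinearMap.BilinForm F V) (W : Submodule F V) : IsoCls B W W :=
  ⟨LinearEquiv.refl F W, fun _ => rfl⟩

theorem isoCls_symm {B : LinearMap.BilinForm F V} {W W' : Submodule F V} (h : IsoCls B W W') :
    IsoCls B W' W := by
  obtain ⟨e, he⟩ := h
  refine ⟨e.symm, fun w => ?_⟩
  have := he (e.symm w)
  rw [LinearEquiv.apply_symm_apply] at this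
  exact this.symm

theorem isoCls_trans {B : LinearMap.BilinForm F V} {W W' W'' : Submodule F V} (h : IsoCls B W W')
    (h' : IsoCls B W' W'') : IsoCls B W W'' := by
  obtain ⟨e, he⟩ := h
  obtain ⟨e', he'⟩ := h'
  refine ⟨e.trans e', fun w => ?_⟩
  rw [LinearEquiv.trans_apply, he', he]

/-- polarization: the equivalence preserves `B` (symmetric, `2 ≠ 0`) -/
theorem isoCls_polar (h2 : (2 : F) ≠ 0) {B : LinearMap.BilinForm F V} (hS : ∀ a b, B a b = B b a)
    {W W' : Submodule F V} (h : IsoCls B W W') :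
    ∃ e : W ≃ₗ[F] W', ∀ u v : W, B (e u : V) (e v : V) = B (u : V) (v : V) := by
  obtain ⟨e, he⟩ := h
  refine ⟨e, fun u v => ?_⟩
  have h1 := he (u + v)
  have hu := he u
  have hv := he v
  rw [map_add] at h1
  simp only [Submodule.coe_add, map_add, LinearMap.add_apply] at h1
  rw [hu, hv, hS (e v : V) (e u : V), hS (v : V) (u : V)] at h1
  have h3 : (2 : F) * B (e u : V) (e v : V) = 2 * B (u : V) (v : V) := by
    linear_combination h1
  exact mul_left_cancel₀ h2 h3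

theorem isoCls_finrank {B : LinearMap.BilinForm F V} {W W' : Submodule F V} (h : IsoCls B W W') :
    finrank F W = finrank F W' := by
  obtain ⟨e, -⟩ := h
  exact e.finrank_eq

theorem isoCls_nonDeg (h2 : (2 : F) ≠ 0) {B : LinearMap.BilinForm F V} (hS : ∀ a b, B a b = B b a)
    {W W' : Submodule F V} (h : IsoCls B W W') (hW' : NonDeg B W') : NonDeg B W := by
  obtain ⟨e, he⟩ := isoCls_polar h2 hS h
  intro u hu hu0
  have h0 : (e ⟨u, hu⟩ : V) = 0 := by
    apply hW' _ (e ⟨u, hu⟩).2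
    intro v' hv'
    have := he ⟨u, hu⟩ (e.symm ⟨v', hv'⟩)
    rw [LinearEquiv.apply_symm_apply] at this
    rw [this]
    exact hu0 _ (e.symm ⟨v', hv'⟩).2
  have h1 : e ⟨u, hu⟩ = 0 := Subtype.ext h0
  have h3 : (⟨u, hu⟩ : W) = 0 := by
    rwa [LinearEquiv.map_eq_zero_iff] at h1
  exact congrArg Subtype.val h3

/-- the sum map `W1 × W2 → W1 ⊔ W2` is an equivalence when `W1 ⊓ W2 = ⊥` -/
noncomputable def supEquiv (W1 W2 : Submodule F V) (hd : W1 ⊓ W2 = ⊥) :
    (W1 × W2) ≃ₗ[F] ↥(W1 ⊔ W2) :=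
  (LinearEquiv.ofInjective (W1.subtype.coprod W2.subtype) (by
    rw [← LinearMap.ker_eq_bot, LinearMap.ker_eq_bot']
    rintro ⟨a, b⟩ hab
    simp only [LinearMap.coprod_apply, Submodule.subtype_apply] at hab
    have ha : (a : V) ∈ W1 ⊓ W2 := by
      refine ⟨a.2, ?_⟩
      have : (a : V) = -(b : V) := eq_neg_of_add_eq_zero_left hab
      rw [this]
      exact W2.neg_mem b.2
    rw [hd, Submodule.mem_bot] at ha
    have hb : (b : V) = 0 := by rw [ha, zero_add] at hab; exact hab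
    exact Prod.ext (Subtype.ext ha) (Subtype.ext hb))).trans
  (LinearEquiv.ofEq _ _ (by
    rw [LinearMap.range_coprod, Submodule.range_subtype, Submodule.range_subtype]))

theorem supEquiv_coe (W1 W2 : Submodule F V) (hd : W1 ⊓ W2 = ⊥) (x : W1 × W2) :
    ((supEquiv W1 W2 hd x : ↥(W1 ⊔ W2)) : V) = (x.1 : V) + (x.2 : V) := by
  simp [supEquiv]

/-- orthogonal direct sums of isometric pieces are isometric -/
theorem isoCls_sup (h2 : (2 : F) ≠ 0) {B : LinearMap.BilinForm F V} (hS : ∀ a b, B a b = B b a)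
    {W1 W2 W1' W2' : Submodule F V} (hort : Ort B W1 W2) (hort' : Ort B W1' W2')
    (hd : W1 ⊓ W2 = ⊥) (hd' : W1' ⊓ W2' = ⊥) (h1 : IsoCls B W1 W1') (h2' : IsoCls B W2 W2') :
    IsoCls B (W1 ⊔ W2) (W1' ⊔ W2') := by
  obtain ⟨e1, he1⟩ := h1
  obtain ⟨e2, he2⟩ := h2'
  refine ⟨((supEquiv W1 W2 hd).symm.trans (e1.prodCongr e2)).trans (supEquiv W1' W2' hd'), fun w => ?_⟩
  obtain ⟨⟨a, b⟩, rfl⟩ := (supEquiv W1 W2 hd).surjective w
  simp only [LinearEquiv.trans_apply, LinearEquiv.symm_apply_apply, LinearEquiv.prodCongr_apply,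
    supEquiv_coe, map_add, LinearMap.add_apply]
  have o1 : B (e1 a : V) (e2 b : V) = 0 := hort' _ (e1 a).2 _ (e2 b).2
  have o2 : B (e2 b : V) (e1 a : V) = 0 := by rw [hS]; exact o1
  have o3 : B (a : V) (b : V) = 0 := hort _ a.2 _ b.2
  have o4 : B (b : V) (a : V) = 0 := by rw [hS]; exact o3
  rw [o1, o2, o3, o4, he1, he2]

end Cfsg.Agent.Lib.Helper63.OPb
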