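import Mathlib
import Cfsg.Prelude.Def_Involutions
import Cfsg.Agent.Lib.Helper60.AICDefs
import Cfsg.Agent.Lib.Helper28.BSW3
import Cfsg.Agent.S0001

/-!
# S2202 keystone K-C1 (pairing): a BSW group has no subgroup of odd order permuting its
involutions transitively.
-/

set_option autoImplicit false

namespace Cfsg.Agent.Lib.Helper63.AIC

open Subgroup Cfsg Cfsg.Agent.Lib.Helper60.AIC Cfsg.Agent.Lib.Helper41 Cfsg.Agent.Lib.Helper28

universe u

section base

variable {L : Type u} [Group L] [Finite L] (T : Sylow 2 L)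
  (hnc : ¬ IsCyclic (T : Subgroup L)) (hnn : ¬ (T : Subgroup L).Normal) (hC : BSWHyp L)
  (X : Subgroup L) (hX : Odd (Nat.card X))
  (htr : ∀ s t : L, orderOf s = 2 → orderOf t = 2 → ∃ d ∈ X, d * s * d⁻¹ = t)

include hX in
omit [Finite L] in
/-- an element of `X` of order dividing `2` is trivial -/
theorem eq_one_of_mem_of_sq {e : L} (heX : e ∈ X) (he : e ^ 2 = 1) : e = 1 := by
  have h1 : orderOf e ∣ 2 := orderOf_dvd_of_pow_eq_one he
  have h2 : orderOf e ∣ Nat.card X := by
    have := orderOf_dvd_natCard (⟨e, heX⟩ : X)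
    rwa [Subgroup.orderOf_mk] at this
  have h3 : Odd (orderOf e) := Odd.of_dvd_nat hX h2
  rcases (Nat.dvd_prime Nat.prime_two).1 h1 with h | h
  · exact orderOf_eq_one_iff.1 h
  · rw [h] at h3; exact absurd h3 (by decide)

include hnc hnn in
theorem exists_ne_one_mem : ∃ t₀ ∈ (T : Subgroup L), t₀ ≠ 1 := by
  have h4 := bsw_four_le_card T hnc hnn
  have hTne : (T : Subgroup L) ≠ ⊥ := by
    intro h
    have : Nat.card (T : Subgroup L) = 1 := by rw [h]; exact Subgroup.card_bot
    have h5 : Nat.card T = Nat.card (T : Subgroup L) := rfl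
    omega
  obtain ⟨a, ha⟩ := (Subgroup.ne_bot_iff_exists_ne_one).1 hTne
  exact ⟨a.1, a.2, fun h => ha (Subtype.ext h)⟩

include hnc hnn hC hX htr in
/-- the stabilizer of the base point in `X` has order `|T| - 1` -/
theorem card_base :
    Nat.card ↥(X ⊓ normalizer ((T : Subgroup L) : Set L)) = Nat.card T - 1 := by
  have hse := bsw_se T hnc hnn hC
  obtain ⟨t₀, ht₀T, ht₀1⟩ := exists_ne_one_mem T hnc hnn
  have ht₀ : orderOf t₀ = 2 := bsw_orderOf_eq_two T hnn hC ht₀T ht₀1
  rw [← card_subtype_mem_and_ne_one (T : Subgroup L)]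
  -- the orbit map
  have hconjT : ∀ d ∈ X ⊓ normalizer ((T : Subgroup L) : Set L),
      d * t₀ * d⁻¹ ∈ (T : Subgroup L) := fun d hd =>
    (Subgroup.mem_normalizer_iff.1 hd.2 t₀).1 ht₀T
  let φ : ↥(X ⊓ normalizer ((T : Subgroup L) : Set L)) →
      {t : L // t ∈ (T : Subgroup L) ∧ t ≠ 1} := fun d =>
    ⟨d.1 * t₀ * d.1⁻¹, hconjT d.1 d.2, fun h => ht₀1 (by
      have : t₀ = d.1⁻¹ * (d.1 * t₀ * d.1⁻¹) * d.1 := by group
      rw [this, h]; group)⟩
  apply Nat.card_congr
  refine Equiv.ofBijective φ ⟨?_, ?_⟩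
  · intro d d' h
    have h1 : d.1 * t₀ * d.1⁻¹ = d'.1 * t₀ * d'.1⁻¹ := congrArg Subtype.val h
    -- `e = d'⁻¹ d` centralizes `t₀`
    have he : d'.1⁻¹ * d.1 ∈ centralizer ({t₀} : Set L) := by
      rw [Subgroup.mem_centralizer_singleton_iff]
      have : d'.1⁻¹ * d.1 * t₀ = d'.1⁻¹ * (d.1 * t₀ * d.1⁻¹) * d.1 := by group
      rw [this, h1]; group
    rw [bsw_centralizer_eq T hnn hC ht₀T ht₀] at he
    have hsq := bsw_sq_eq_one T hnn hC _ he
    have heX : d'.1⁻¹ * d.1 ∈ X := X.mul_mem (X.inv_mem d'.2.1) d.2.1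
    have := eq_one_of_mem_of_sq X hX heX hsq
    apply Subtype.ext
    have h2 : d.1 = d'.1 * (d'.1⁻¹ * d.1) := by group
    rw [h2, this, mul_one]
  · rintro ⟨t, htT, ht1⟩
    have ht : orderOf t = 2 := bsw_orderOf_eq_two T hnn hC htT ht1
    obtain ⟨d, hdX, hd⟩ := htr t₀ t ht₀ ht
    have hdH : d ∈ normalizer ((T : Subgroup L) : Set L) :=
      se_mem_of_conj_mem hse ht₀ (Subgroup.le_normalizer ht₀T)
        (by rw [hd]; exact Subgroup.le_normalizer htT)
    exact ⟨⟨d, hdX, hdH⟩, Subtype.ext hd⟩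

include hnc hnn hC hX htr in
/-- the stabilizer of the base point in `X` fixes a second point -/
theorem exists_second_base :
    ∃ a : L, a ∉ normalizer ((T : Subgroup L) : Set L) ∧
      X ⊓ normalizer ((T : Subgroup L) : Set L) ≤ lc a (normalizer ((T : Subgroup L) : Set L)) := by
  have hcard := card_base T hnc hnn hC X hX htr
  have h4 := bsw_four_le_card T hnc hnn
  obtain ⟨g, hg⟩ := bsw_exists_not_mem T hnn
  obtain ⟨u, hu, huH, -, -⟩ := bsw_exists_invol_coset T hnc hnn hC hg
  obtain ⟨-, hcardH, hcompl⟩ := Cfsg.Agent.S1227.result T hnc hnn hC u hu huH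
  set HH := normalizer ((T : Subgroup L) : Set L) with hHH
  set N : Subgroup ↥HH := (T : Subgroup L).subgroupOf HH with hN
  have hNn : N.Normal := Subgroup.normal_in_normalizer
  have hcardN : Nat.card N = Nat.card T := by
    have : Nat.card N = Nat.card (T : Subgroup L) :=
      Nat.card_congr (Subgroup.subgroupOfEquivOfLe Subgroup.le_normalizer).toEquiv
    rw [this]
  have hidx : N.index = Nat.card T - 1 := by
    have h1 := N.index_mul_card
    rw [hcardN, hcardH] at h1
    have hpos : 0 < Nat.card T := by omega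
    have h2 : N.index * Nat.card T = (Nat.card T - 1) * Nat.card T := by rw [h1, mul_comm]
    exact Nat.eq_of_mul_eq_mul_right hpos h2
  have hcop : (Nat.card T).Coprime (Nat.card T - 1) :=
    (Nat.coprime_self_sub_right (by omega : 1 ≤ Nat.card T)).2 (Nat.coprime_one_right _)
  have hNcop : (Nat.card N).Coprime N.index := by rw [hcardN, hidx]; exact hcop
  have hsolv : Group.IsSolvable N := by
    apply Group.isSolvable_of_comm
    intro a b
    apply Subtype.ext
    apply Subtype.ext
    exact bsw_comm T hnn hC a.1.1 a.2 b.1.1 b.2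
  set K : Subgroup ↥HH := (X ⊓ HH).subgroupOf HH with hK
  have hcardK : Nat.card K = Nat.card T - 1 := by
    have : Nat.card K = Nat.card ↥(X ⊓ HH) :=
      Nat.card_congr (Subgroup.subgroupOfEquivOfLe inf_le_right).toEquiv
    rw [this, hcard]
  have hKc : Subgroup.IsComplement' N K := by
    apply Subgroup.isComplement'_of_coprime
    · rw [hcardN, hcardK, hcardH]
    · rw [hcardN, hcardK]; exact hcop
  obtain ⟨h, hh⟩ := Cfsg.Agent.S0001.result N hNcop (Or.inl hsolv) _ K hcompl.symm hKc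
  refine ⟨h.1 * u, ?_, ?_⟩
  · intro hmem
    apply huH
    have := HH.mul_mem (HH.inv_mem h.2) hmem
    simpa using this
  · intro x hx
    have hxK : (⟨x, hx.2⟩ : ↥HH) ∈ K := by
      rw [hK, Subgroup.mem_subgroupOf]; exact hx
    rw [← hh] at hxK
    obtain ⟨y, hy, hyx⟩ := hxK
    have hy' : (y : L) ∈ HH ⊓ lc u HH := Subgroup.mem_subgroupOf.1 hy
    have hyu : (y : L) ∈ lc u HH := hy'.2
    have hx' : x = h.1 * (y : L) * h.1⁻¹ := by
      have := congrArg Subtype.val hyx
      simpa using this.symm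
    rw [hx', lc_mul]
    exact conj_mem_lc hyu

include hX in
omit [Finite L] in
theorem odd_card_lc (g : L) : Odd (Nat.card ↥(lc g X)) := by
  rw [card_lc]; exact hX

include htr in
omit [Finite L] in
theorem htr_lc (g : L) :
    ∀ s t : L, orderOf s = 2 → orderOf t = 2 → ∃ d ∈ lc g X, d * s * d⁻¹ = t := by
  intro s t hs ht
  obtain ⟨d, hdX, hd⟩ := htr (g⁻¹ * s * g) (g⁻¹ * t * g)
    (by have := orderOf_conj_eq g⁻¹ s; rw [inv_inv] at this; rw [this, hs])
    (by have := orderOf_conj_eq g⁻¹ t; rw [inv_inv] at this; rw [this, ht])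
  refine ⟨g * d * g⁻¹, conj_mem_lc hdX, ?_⟩
  have : g * d * g⁻¹ * s * (g * d * g⁻¹)⁻¹ = g * (d * (g⁻¹ * s * g) * d⁻¹) * g⁻¹ := by group
  rw [this, hd]; group

omit [Finite L] in
theorem inf_lc_eq (g : L) (H : Subgroup L) : X ⊓ lc g H = lc g (lc g⁻¹ X ⊓ H) := by
  rw [lc_inf, lc_lc_inv]

include hnc hnn hC hX htr in
/-- the stabilizer in `X` of any point has order `|T| - 1` -/
theorem card_point (g : L) :
    Nat.card ↥(X ⊓ lc g (normalizer ((T : Subgroup L) : Set L))) = Nat.card T - 1 := by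
  rw [inf_lc_eq, card_lc]
  exact card_base T hnc hnn hC (lc g⁻¹ X) (odd_card_lc X hX g⁻¹) (htr_lc X htr g⁻¹)

include hnc hnn hC hX htr in
/-- the stabilizer in `X` of any point fixes a second point -/
theorem exists_second_point (g : L) :
    ∃ b : L, (QuotientGroup.mk b : L ⧸ normalizer ((T : Subgroup L) : Set L)) ≠ QuotientGroup.mk g ∧
      X ⊓ lc g (normalizer ((T : Subgroup L) : Set L)) ≤
        lc b (normalizer ((T : Subgroup L) : Set L)) := by
  obtain ⟨a, ha, hle⟩ := exists_second_base T hnc hnn hC (lc g⁻¹ X) (odd_card_lc X hX g⁻¹)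
    (htr_lc X htr g⁻¹)
  refine ⟨g * a, ?_, ?_⟩
  · intro h
    apply ha
    have h1 := QuotientGroup.eq.1 h.symm
    simpa using h1
  · rw [inf_lc_eq, lc_mul]
    exact lc_mono hle

end base

section main

variable {L : Type u} [Group L] [Finite L]

/-- K-C1 (pairing): a BSW group has no subgroup of odd order permuting its involutions
transitively. -/
theorem no_odd_transitive (T : Sylow 2 L)
    (hnc : ¬ IsCyclic (T : Subgroup L)) (hnn : ¬ (T : Subgroup L).Normal) (hC : BSWHyp L)
    (X : Subgroup L) (hX : Odd (Nat.card X))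
    (htr : ∀ s t : L, orderOf s = 2 → orderOf t = 2 → ∃ d ∈ X, d * s * d⁻¹ = t) : False := by
  classical
  set HH := normalizer ((T : Subgroup L) : Set L) with hHH
  have h4 := bsw_four_le_card T hnc hnn
  -- stabilizers in `X`
  have hcard : ∀ x : L ⧸ HH, Nat.card ↥(X ⊓ MulAction.stabilizer L x) = Nat.card T - 1 := by
    intro x
    induction x using QuotientGroup.induction_on with
    | H g =>
    rw [stabilizer_mk]
    exact card_point T hnc hnn hC X hX htr g
  have hsecond : ∀ x : L ⧸ HH, ∃ y : L ⧸ HH, y ≠ x ∧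
      X ⊓ MulAction.stabilizer L x ≤ MulAction.stabilizer L y := by
    intro x
    induction x using QuotientGroup.induction_on with
    | H g =>
    obtain ⟨b, hb, hle⟩ := exists_second_point T hnc hnn hC X hX htr g
    refine ⟨QuotientGroup.mk b, hb, ?_⟩
    rw [stabilizer_mk, stabilizer_mk]
    exact hle
  choose f hf1 hf2 using hsecond
  -- stabilizers of `x` and `f x` coincide
  have hSeq : ∀ x : L ⧸ HH, X ⊓ MulAction.stabilizer L x = X ⊓ MulAction.stabilizer L (f x) := by
    intro x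
    apply Subgroup.eq_of_le_of_card_ge
    · exact le_inf inf_le_left (hf2 x)
    · rw [hcard, hcard]
  -- `f` is an involution
  have hinv : Function.Involutive f := by
    intro x
    by_contra hne
    have hne' : x ≠ f (f x) := fun h => hne h.symm
    -- a nonidentity element of the stabilizer
    have hnb : X ⊓ MulAction.stabilizer L x ≠ ⊥ := by
      intro h
      have h1 := hcard x
      rw [h, Subgroup.card_bot] at h1
      omega
    obtain ⟨d, hd⟩ := (Subgroup.ne_bot_iff_exists_ne_one).1 hnb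
    have hd1 : (d : L) ≠ 1 := fun h => hd (Subtype.ext h)
    have hdx : (d : L) • x = x := MulAction.mem_stabilizer_iff.1 d.2.2
    have hdfx : (d : L) • f x = f x := MulAction.mem_stabilizer_iff.1 (hf2 x d.2)
    have hdffx : (d : L) • f (f x) = f (f x) := by
      have h1 : (d : L) ∈ X ⊓ MulAction.stabilizer L (f x) := by rw [← hSeq x]; exact d.2
      exact MulAction.mem_stabilizer_iff.1 (hf2 (f x) h1)
    exact hd1 (bsw_fix_three T hnc hnn hC (hf1 x).symm hne' (hf1 (f x)).symm hdx hdfx hdffx)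
  -- parity
  have := Fintype.ofFinite (L ⧸ HH)
  have hperm : (hinv.toPerm f) ^ 2 = 1 := by
    ext x
    simp [pow_two, hinv x]
  have h2 := Equiv.Perm.two_dvd_card_support hperm
  have hsupp : (hinv.toPerm f).support = Finset.univ := by
    ext x
    simp only [Equiv.Perm.mem_support, Function.Involutive.coe_toPerm, Finset.mem_univ, iff_true]
    exact hf1 x
  rw [hsupp, Finset.card_univ, ← Nat.card_eq_fintype_card, bsw_card_quotient T hnc hnn hC] at h2
  obtain ⟨k, hk⟩ := IsPGroup.iff_card.1 T.isPGroup'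
  have hk' : Nat.card T = 2 ^ k := hk
  have hk0 : k ≠ 0 := by
    rintro rfl
    rw [hk'] at h4
    norm_num at h4
  have h2' : 2 ∣ Nat.card T := by
    rw [hk']; exact dvd_pow_self 2 hk0
  omega

end main

end Cfsg.Agent.Lib.Helper63.AIC
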