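import Mathlib
import Cfsg.Prelude.Def_Solvable

/-!
# K-GAG pack (S4839), leaf 483902 G02: centralizers of nonidentity elements of `N` are `p`-groups
-/

set_option autoImplicit false
set_option linter.style.haveILetI false

namespace Cfsg.Agent.Lib.Helper63.Gag

variable {G : Type*} [Group G] [Finite G]

/-- G02 (MEDIUM): centralizers of nonidentity elements of `N` are `p`-groups. -/
theorem centralizer_isPGroup {p : ℕ} [Fact p.Prime] (N : Subgroup G) [N.Normal]
    (hNp : IsPGroup p N) (hcam : ∀ x : G, x ∉ N → ∀ n ∈ N, IsConj x (x * n))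
    (x : G) (hx : x ∈ N) (hx1 : x ≠ 1) :
    IsPGroup p (Subgroup.centralizer ({x} : Set G)) := by
  classical
  have hp : p.Prime := Fact.out
  set H : Subgroup G := Subgroup.centralizer ({x} : Set G) with hH
  -- the order of x is a power of p
  obtain ⟨a, ha⟩ := (IsPGroup.iff_orderOf.mp hNp) ⟨x, hx⟩
  rw [Subgroup.orderOf_mk] at ha
  -- all prime divisors of card H are p
  have hprime : ∀ {q : ℕ}, q.Prime → q ∣ Nat.card H → q = p := by
    intro q hq hqH
    by_contra hqp
    haveI : Fact q.Prime := ⟨hq⟩
    obtain ⟨y, hy⟩ := exists_prime_orderOf_dvd_card' (G := H) q hqH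
    have hyG : orderOf (y : G) = q := by rw [Subgroup.orderOf_coe, hy]
    -- y is not in N
    have hyN : (y : G) ∉ N := by
      intro hyN
      obtain ⟨k, hk⟩ := (IsPGroup.iff_orderOf.mp hNp) ⟨(y : G), hyN⟩
      rw [Subgroup.orderOf_mk, hyG] at hk
      rcases k with _ | k
      · rw [pow_zero] at hk; exact hq.one_lt.ne' hk
      · have : p ∣ q := by rw [hk]; exact dvd_pow_self p (Nat.succ_ne_zero k)
        exact hqp ((Nat.prime_dvd_prime_iff_eq hp hq).mp this).symm
    -- Camina: y ~ y x
    obtain ⟨c, hc⟩ := isConj_iff.mp (hcam (y : G) hyN x hx)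
    have hord : orderOf ((y : G) * x) = orderOf (y : G) := by
      rw [← hc]
      have := (MulAut.conj c).orderOf_eq (y : G)
      rwa [MulAut.conj_apply] at this
    -- y and x commute
    have hcomm : Commute (y : G) x := by
      have := (Subgroup.mem_centralizer_iff.mp y.2) x rfl
      exact this.symm
    have hcop : Nat.Coprime (orderOf (y : G)) (orderOf x) := by
      rw [hyG, ha]
      exact Nat.Coprime.pow_right a ((Nat.coprime_primes hq hp).mpr hqp)
    have hmul := hcomm.orderOf_mul_eq_mul_orderOf_of_coprime hcop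
    rw [hord, hyG] at hmul
    have hx1' : orderOf x = 1 := by
      have hq0 : 0 < q := hq.pos
      have : q * 1 = q * orderOf x := by rw [mul_one]; exact hmul
      exact (Nat.eq_of_mul_eq_mul_left hq0 this).symm
    exact hx1 (orderOf_eq_one_iff.mp hx1')
  have hcard : Nat.card H = p ^ (Nat.card H).primeFactorsList.length :=
    Nat.eq_prime_pow_of_unique_prime_dvd Nat.card_pos.ne' hprime
  exact IsPGroup.of_card hcard

end Cfsg.Agent.Lib.Helper63.Gag
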