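import Mathlib
import Cfsg.Prelude.Def_Characters
import Cfsg.Prelude.Def_Blocks
import Cfsg.Agent.Lib.Helper34.PFaithDefs
import Cfsg.Agent.Lib.Helper83.Linear

set_option autoImplicit false

/-!
# K-S4489-B: the number of twists of a faithful linear character of a group of order `p ^ a`
-/

namespace Cfsg.Agent.Lib.Helper63.PFaith

open Cfsg Cfsg.Agent.Lib.Helper34.PFaith

universe u

/-- **K-S4489-B** (faithful linear characters). -/
theorem pN_of_linear_faithful {G : Type u} [Group G] [Finite G] (p a : ℕ) (hp : p.Prime) (ha : 0 < a)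
    (hG : Nat.card G = p ^ a) {χ : G → ℂ} (hχ : IsCharacter G χ) (h1 : χ 1 = 1)
    (hfaith : ∀ g : G, χ g = 1 → g = 1) : pN p χ = (p - 1) * p ^ (a - 1) := by
  classical
  have hmul : ∀ x y : G, χ (x * y) = χ x * χ y :=
    fun x y => Cfsg.Agent.Lib.Helper83.char_deg_one_mul hχ h1 x y
  let f : G →* ℂ := { toFun := χ, map_one' := h1, map_mul' := hmul }
  have hfapp : ∀ g, f g = χ g := fun g => rfl
  have hinj : Function.Injective f := by
    intro x y hxy
    have hxy' : χ x = χ y := hxy
    have h2 : χ (x * y⁻¹) = 1 := by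
      rw [hmul, hxy', ← hmul, mul_inv_cancel, h1]
    have := hfaith _ h2
    exact mul_inv_eq_one.1 this
  have hcyc : IsCyclic G := isCyclic_of_injective_ringHom f hinj
  obtain ⟨g, hg⟩ := hcyc.exists_generator
  have hord : orderOf g = p ^ a := by rw [orderOf_eq_card_of_forall_mem_zpowers hg, hG]
  have key : ∀ k k' : ℕ, ptw k χ = ptw k' χ ↔ k ≡ k' [MOD p ^ a] := by
    intro k k'
    constructor
    · intro h
      have h2 := congrFun h g
      simp only [ptw_apply] at h2
      have h4 : g ^ k = g ^ k' := hinj h2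
      rw [← hord]
      exact pow_eq_pow_iff_modEq.1 h4
    · intro h
      funext x
      simp only [ptw_apply]
      congr 1
      rw [pow_eq_pow_iff_modEq]
      refine Nat.ModEq.of_dvd ?_ h
      rw [← hG]
      exact orderOf_dvd_natCard x
  have hpa : 0 < p ^ a := pow_pos hp.pos a
  have hcop : ∀ k : ℕ, (p ^ a).Coprime k ↔ ¬ p ∣ k := by
    intro k
    constructor
    · intro h hpk
      have : p ∣ Nat.gcd (p ^ a) k := Nat.dvd_gcd (dvd_pow_self p ha.ne') hpk
      rw [h] at this
      exact hp.one_lt.ne' (Nat.dvd_one.1 this)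
    · intro h
      exact Nat.Coprime.pow_left a ((Nat.Prime.coprime_iff_not_dvd hp).2 h)
  have hset : porbit p χ = (fun k : ℕ => ptw k χ) ''
      ((Finset.range (p ^ a)).filter (p ^ a).Coprime : Finset ℕ) := by
    ext φ
    constructor
    · rintro ⟨k, hk, rfl⟩
      refine ⟨k % p ^ a, ?_, ?_⟩
      · simp only [Finset.coe_filter, Finset.mem_range, Set.mem_ofPred_eq]
        refine ⟨Nat.mod_lt _ hpa, ?_⟩
        rw [hcop]
        intro hdiv
        apply hk
        have h3 : p ∣ p ^ a * (k / p ^ a) := Dvd.dvd.mul_right (dvd_pow_self p ha.ne') _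
        have h4 := Nat.dvd_add hdiv h3
        rwa [Nat.mod_add_div] at h4
      · exact (key _ _).2 (Nat.mod_modEq k (p ^ a))
    · rintro ⟨k, hk, rfl⟩
      simp only [Finset.coe_filter, Finset.mem_range, Set.mem_ofPred_eq] at hk
      exact ⟨k, (hcop k).1 hk.2, rfl⟩
  have hinjOn : Set.InjOn (fun k : ℕ => ptw k χ)
      ((Finset.range (p ^ a)).filter (p ^ a).Coprime : Finset ℕ) := by
    intro k hk k' hk' h
    simp only [Finset.coe_filter, Finset.mem_range, Set.mem_ofPred_eq] at hk hk'
    exact Nat.ModEq.eq_of_lt_of_lt ((key k k').1 h) hk.1 hk'.1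
  unfold pN
  rw [hset, Set.InjOn.ncard_image hinjOn, Set.ncard_coe_finset, ← Nat.totient_eq_card_coprime,
    Nat.totient_prime_pow hp ha, mul_comm]

end Cfsg.Agent.Lib.Helper63.PFaith
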