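import Mathlib
import Cfsg.Prelude.Def_GeometricClasses
import Cfsg.Agent.Lib.Helper51.SUMax2

set_option autoImplicit false

namespace Cfsg.Agent.Lib.Helper63.SUMax

open Cfsg Cfsg.Geo Matrix Cfsg.Agent.Lib.Helper08 Cfsg.Agent.Lib.Helper51
open scoped Matrix MatrixGroups commutatorElement

/-! ### an element of the second centre outside the centre -/

theorem exists_second_center {P : Type*} [Group P] [Finite P] {r : ℕ} (hr : r.Prime) (hP : IsPGroup r P)
    (hna : ∃ x y : P, x * y ≠ y * x) :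
    ∃ g : P, (∃ x : P, g * x ≠ x * g) ∧
      ∀ h x : P, (h * g * h⁻¹ * g⁻¹) * x = x * (h * g * h⁻¹ * g⁻¹) := by
  have : Fact r.Prime := ⟨hr⟩
  have hnil : Group.IsNilpotent P := hP.isNilpotent
  by_contra hcon
  push Not at hcon
  have h21 : Subgroup.upperCentralSeries P 2 ≤ Subgroup.upperCentralSeries P 1 := by
    intro g hg
    rw [Subgroup.upperCentralSeries_one, Subgroup.mem_center_iff]
    by_contra hgc
    push Not at hgc
    obtain ⟨x, hx⟩ := hgc
    obtain ⟨h, y, hy⟩ := hcon g ⟨x, fun e => hx e.symm⟩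
    apply hy
    have h1 : ⁅g, h⁆ ∈ Subgroup.upperCentralSeries P 1 := Subgroup.mem_upperCentralSeries_succ_iff.mp hg h
    rw [Subgroup.upperCentralSeries_one] at h1
    have h2 : (⁅g, h⁆)⁻¹ ∈ Subgroup.center P := Subgroup.inv_mem _ h1
    have e : h * g * h⁻¹ * g⁻¹ = (⁅g, h⁆)⁻¹ := by
      rw [commutatorElement_def]
      group
    rw [e]
    exact (Subgroup.mem_center_iff.mp h2 y).symm
  have hall : ∀ k : ℕ, Subgroup.upperCentralSeries P (k + 1) ≤ Subgroup.upperCentralSeries P 1 := by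
    intro k
    induction k with
    | zero => exact le_rfl
    | succ k ih =>
      intro g hg
      apply h21
      rw [Subgroup.mem_upperCentralSeries_succ_iff]
      intro y
      exact ih (Subgroup.mem_upperCentralSeries_succ_iff.mp hg y)
  obtain ⟨k, hk⟩ := hnil.nilpotent'
  have htop : Subgroup.upperCentralSeries P 1 = ⊤ := by
    rw [eq_top_iff, ← hk]
    rcases k with _ | k
    · exact Subgroup.upperCentralSeries_mono P (Nat.zero_le 1)
    · exact hall k
  obtain ⟨x, y, hxy⟩ := hna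
  apply hxy
  have hx : x ∈ Subgroup.center P := by
    rw [← Subgroup.upperCentralSeries_one, htop]
    exact Subgroup.mem_top x
  exact (Subgroup.mem_center_iff.mp hx y).symm

/-! ### the rank argument -/

theorem two_mul_finrank_le {F : Type*} [Field F] {n : ℕ} (C H : Matrix (Fin n) (Fin n) F)
    (hH : Function.Injective (Matrix.mulVecLin H)) (ζ : F) (hζ : ζ ≠ 1) (hHC : H * C = ζ • (C * H))
    (W₀ : Submodule F (Fin n → F)) (hW : ∀ v ∈ W₀, C *ᵥ v = v) :
    2 * Module.finrank F W₀ ≤ n := by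
  have hdisj : Disjoint W₀ (W₀.map (Matrix.mulVecLin H)) := by
    rw [Submodule.disjoint_def]
    intro v hv hv'
    obtain ⟨w, hw, rfl⟩ := hv'
    have h1 : H *ᵥ w = ζ • (H *ᵥ w) := by
      have e1 : (H * C) *ᵥ w = H *ᵥ w := by rw [← Matrix.mulVec_mulVec, hW w hw]
      have e2 : (ζ • (C * H)) *ᵥ w = ζ • (H *ᵥ w) := by
        rw [Matrix.smul_mulVec, ← Matrix.mulVec_mulVec]
        have := hW _ hv
        rw [Matrix.mulVecLin_apply] at this
        rw [this]
      calc H *ᵥ w = (H * C) *ᵥ w := e1.symm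
        _ = (ζ • (C * H)) *ᵥ w := by rw [hHC]
        _ = ζ • (H *ᵥ w) := e2
    rw [Matrix.mulVecLin_apply]
    have h2 : (1 - ζ) • (H *ᵥ w) = 0 := by
      rw [sub_smul, one_smul, ← h1, sub_self]
    rcases smul_eq_zero.mp h2 with h3 | h3
    · exact absurd (sub_eq_zero.mp h3).symm hζ
    · exact h3
  have h1 := Submodule.finrank_add_finrank_le_of_disjoint hdisj
  have h2 : Module.finrank F (W₀.map (Matrix.mulVecLin H)) = Module.finrank F W₀ :=
    (Submodule.equivMapOfInjective (Matrix.mulVecLin H) hH W₀).finrank_eq.symm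
  rw [h2, Module.finrank_fin_fun] at h1
  omega

/-- the kernel of a pair of functionals has codimension at most two -/
theorem le_finrank_ker_prod_add_two {F : Type*} [Field F] {n : ℕ} (L₁ L₂ : (Fin n → F) →ₗ[F] F) :
    n ≤ Module.finrank F (LinearMap.ker (L₁.prod L₂)) + 2 := by
  have h1 := LinearMap.finrank_range_add_finrank_ker (L₁.prod L₂)
  rw [Module.finrank_fin_fun] at h1
  have h2 : Module.finrank F (LinearMap.range (L₁.prod L₂)) ≤ 2 := by
    have := Submodule.finrank_le (LinearMap.range (L₁.prod L₂))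
    rw [Module.finrank_prod, Module.finrank_self] at this
    exact this
  omega

variable {F : Type*} [Field F] [Fintype F] {n q : ℕ}

local notation "hh" => hform (Fin n) F q

omit [Fintype F] in
theorem mat_ext' (A B : Matrix (Fin n) (Fin n) F) (h : ∀ v : Fin n → F, A *ᵥ v = B *ᵥ v) : A = B := by
  classical
  ext i j
  have := congrFun (h (Pi.single j 1)) i
  simpa using this

theorem span_isotropic_eq_top (hF : Fintype.card F = q ^ 2) (hn : 2 ≤ n) :
    Submodule.span F {z : Fin n → F | hh z z = 0} = ⊤ := by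
  by_contra hne
  obtain ⟨x, hx⟩ : ∃ x, x ∉ Submodule.span F {z : Fin n → F | hh z z = 0} := by
    by_contra hcon
    push Not at hcon
    exact hne (eq_top_iff.mpr fun x _ => hcon x)
  obtain ⟨u, hu, hxu⟩ := perp_sep hF _ x hx
  have hu0 : u ≠ 0 := by
    rintro rfl
    exact hxu (hform_zero_right'' hF x)
  obtain ⟨z, hz, hzu, -⟩ := exists_isotropic_two hF hn u u hu0 hu0
  exact hzu (hu z (Submodule.subset_span hz))

theorem exists_ne_zero_skew_pair (hF : Fintype.card F = q ^ 2) (β : F) :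
    ∃ a : F, a ≠ 0 ∧ a ^ q * β + a * β ^ q = 0 := by
  obtain ⟨s, hs0, hs⟩ := exists_skew_ne_zero hF
  by_cases hβ0 : β = 0
  · exact ⟨1, one_ne_zero, by rw [hβ0, zero_pow (q_ne_zero' hF)]; ring⟩
  · refine ⟨(s / β) ^ q, pow_ne_zero _ (div_ne_zero hs0 hβ0), ?_⟩
    rw [pow_q_pow_q' hF, div_pow]
    have hβq0 : β ^ q ≠ 0 := pow_ne_zero _ hβ0
    field_simp
    linear_combination hs

theorem scalar_of_isotropic_eigen (hF : Fintype.card F = q ^ 2) (hn : 2 ≤ n)
    (G : Matrix (Fin n) (Fin n) F)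
    (h : ∀ z : Fin n → F, hh z z = 0 → ∃ c : F, G *ᵥ z = c • z) :
    ∃ c : F, G = c • (1 : Matrix (Fin n) (Fin n) F) := by
  obtain ⟨z₀, hz₀, hz₀ne⟩ : ∃ z₀ : Fin n → F, hh z₀ z₀ = 0 ∧ z₀ ≠ 0 := by
    have hu : (fun _ => (1 : F) : Fin n → F) ≠ 0 := by
      intro h0
      have := congrFun h0 (⟨0, by omega⟩ : Fin n)
      simp at this
    obtain ⟨z, hz, hzu, -⟩ := exists_isotropic_two hF hn _ _ hu hu
    refine ⟨z, hz, ?_⟩
    rintro rfl
    exact hzu (hform_zero_left _)
  obtain ⟨c₀, hc₀⟩ := h z₀ hz₀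
  refine ⟨c₀, ?_⟩
  have key : ∀ z : Fin n → F, hh z z = 0 → G *ᵥ z = c₀ • z := by
    intro z hz
    obtain ⟨c, hc⟩ := h z hz
    by_cases hz0 : z = 0
    · rw [hz0, Matrix.mulVec_zero, smul_zero]
    by_cases hcc : c = c₀
    · rw [hc, hcc]
    exfalso
    obtain ⟨a, ha0, ha⟩ := exists_ne_zero_skew_pair hF (hh z₀ z)
    have hw : hh (z₀ + a • z) (z₀ + a • z) = 0 := by
      rw [hform_add_left, hform_add_right hF, hform_add_right hF, hform_smul_left, hform_smul_left,
        hform_smul_right, hform_smul_right, hz₀, hz, ← hform_conj hF z₀ z]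
      linear_combination ha
    obtain ⟨c', hc'⟩ := h _ hw
    rw [Matrix.mulVec_add, Matrix.mulVec_smul, hc₀, hc, smul_add] at hc'
    have e1 : (c₀ - c') • z₀ + (a * (c - c')) • z = 0 := by
      have h1 := sub_eq_zero.mpr hc'
      have h2 : (c₀ - c') • z₀ + (a * (c - c')) • z =
          c₀ • z₀ + a • c • z - (c' • z₀ + c' • a • z) := by module
      rw [h2, h1]
    have e2 : (c₀ * (c₀ - c')) • z₀ + (c * (a * (c - c'))) • z = 0 := by
      have h1 := congrArg (fun x => G *ᵥ x) e1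
      simp only [Matrix.mulVec_add, Matrix.mulVec_smul, hc₀, hc, Matrix.mulVec_zero, smul_smul] at h1
      rw [mul_comm c₀, mul_comm c]
      exact h1
    have e3 : ((c₀ - c) * (c₀ - c')) • z₀ = 0 := by
      have h1 : (c₀ * (c₀ - c')) • z₀ + (c * (a * (c - c'))) • z -
          c • ((c₀ - c') • z₀ + (a * (c - c')) • z) = 0 := by
        rw [e1, e2, smul_zero, sub_zero]
      rw [← h1, smul_add, smul_smul, smul_smul, sub_mul, sub_smul]
      abel
    have hc'0 : c₀ = c' := by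
      rcases smul_eq_zero.mp e3 with h1 | h1
      · rcases mul_eq_zero.mp h1 with h2 | h2
        · exact absurd (sub_eq_zero.mp h2).symm hcc
        · exact sub_eq_zero.mp h2
      · exact absurd h1 hz₀ne
    rw [← hc'0, sub_self, zero_smul, zero_add] at e1
    rcases smul_eq_zero.mp e1 with h1 | h1
    · rcases mul_eq_zero.mp h1 with h2 | h2
      · exact ha0 h2
      · exact hcc (sub_eq_zero.mp h2)
    · exact hz0 h1
  apply mat_ext'
  intro v
  have hv : v ∈ Submodule.span F {z : Fin n → F | hh z z = 0} := by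
    rw [span_isotropic_eq_top hF hn]
    exact Submodule.mem_top
  rw [Matrix.smul_mulVec, Matrix.one_mulVec]
  induction hv using Submodule.span_induction with
  | mem z hz => exact key z hz
  | zero => rw [Matrix.mulVec_zero, smul_zero]
  | add x y _ _ hx hy => rw [Matrix.mulVec_add, hx, hy, smul_add]
  | smul b x _ hx => rw [Matrix.mulVec_smul, hx, smul_comm]


/-! ### the commutator of a transvection with an element of the second centre -/

/-- the fixed space of `t g t⁻¹ g⁻¹` for a transvection `t` -/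
theorem exists_fixed_space (g t : GL (Fin n) F) (p : Fin n → F) (a : F)
    (ht : (t : Matrix (Fin n) (Fin n) F) = qrefl q p a) :
    ∃ W₀ : Submodule F (Fin n → F), n ≤ Module.finrank F W₀ + 2 ∧
      ∀ v ∈ W₀, ((t * g * t⁻¹ * g⁻¹ : GL (Fin n) F) : Matrix (Fin n) (Fin n) F) *ᵥ v = v := by
  set L₁ : (Fin n → F) →ₗ[F] F :=
    { toFun := fun v => hh v p
      map_add' := fun x y => hform_add_left x y p
      map_smul' := fun c x => by rw [hform_smul_left]; rfl } with hL₁
  set L₂ : (Fin n → F) →ₗ[F] F :=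
    L₁.comp (Matrix.mulVecLin ((g⁻¹ : GL (Fin n) F) : Matrix (Fin n) (Fin n) F)) with hL₂
  refine ⟨LinearMap.ker (L₁.prod L₂), le_finrank_ker_prod_add_two L₁ L₂, ?_⟩
  intro v hv
  rw [LinearMap.mem_ker] at hv
  have hv1 : L₁ v = 0 := congrArg Prod.fst hv
  have hv2 : L₂ v = 0 := congrArg Prod.snd hv
  have hv1' : hh v p = 0 := hv1
  have hv2' : hh (((g⁻¹ : GL (Fin n) F) : Matrix (Fin n) (Fin n) F) *ᵥ v) p = 0 := hv2
  have hTfix : ∀ u : Fin n → F, hh u p = 0 → (t : Matrix (Fin n) (Fin n) F) *ᵥ u = u := by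
    intro u hu
    rw [ht, qrefl_mulVec, hu, mul_zero, zero_smul, add_zero]
  have hTifix : ∀ u : Fin n → F, hh u p = 0 →
      ((t⁻¹ : GL (Fin n) F) : Matrix (Fin n) (Fin n) F) *ᵥ u = u := by
    intro u hu
    have h1 := gl_inv_act' t u
    rw [hTfix u hu] at h1
    exact h1
  rw [Units.val_mul, Units.val_mul, Units.val_mul, ← Matrix.mulVec_mulVec, ← Matrix.mulVec_mulVec,
    ← Matrix.mulVec_mulVec, hTifix _ hv2', gl_act_inv' g v, hTfix v hv1']

/-- a transvection normalising `R` commutes with an element of the second centre, in dimension `≥ 5` -/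
theorem comm_of_second_center (hn : 5 ≤ n) (R : Subgroup (GL (Fin n) F))
    (hscal : ∀ z ∈ R, (∀ x ∈ R, z * x = x * z) →
      ∃ c : F, (z : Matrix (Fin n) (Fin n) F) = c • (1 : Matrix (Fin n) (Fin n) F))
    (g : GL (Fin n) F) (hgR : g ∈ R)
    (hg2 : ∀ h ∈ R, ∃ ζ : F, (h : Matrix (Fin n) (Fin n) F) * (g : Matrix (Fin n) (Fin n) F) =
      ζ • ((g : Matrix (Fin n) (Fin n) F) * (h : Matrix (Fin n) (Fin n) F)))
    (t : GL (Fin n) F) (htN : t ∈ Subgroup.normalizer (R : Set (GL (Fin n) F)))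
    (W₀ : Submodule F (Fin n → F)) (hW₀ : n ≤ Module.finrank F W₀ + 2)
    (hfix : ∀ v ∈ W₀, ((t * g * t⁻¹ * g⁻¹ : GL (Fin n) F) : Matrix (Fin n) (Fin n) F) *ᵥ v = v) :
    t * g = g * t := by
  obtain ⟨c, hc⟩ : ∃ c : GL (Fin n) F, c = t * g * t⁻¹ * g⁻¹ := ⟨_, rfl⟩
  rw [← hc] at hfix
  have hcR : c ∈ R := by
    rw [hc]
    exact R.mul_mem ((Subgroup.mem_normalizer_iff.mp htN g).mp hgR) (R.inv_mem hgR)
  set G : Matrix (Fin n) (Fin n) F := (g : Matrix (Fin n) (Fin n) F) with hG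
  set Gi : Matrix (Fin n) (Fin n) F := ((g⁻¹ : GL (Fin n) F) : Matrix (Fin n) (Fin n) F) with hGi
  set T : Matrix (Fin n) (Fin n) F := (t : Matrix (Fin n) (Fin n) F) with hT
  set Ti : Matrix (Fin n) (Fin n) F := ((t⁻¹ : GL (Fin n) F) : Matrix (Fin n) (Fin n) F) with hTi
  have hGGi : G * Gi = 1 := by rw [hG, hGi, ← Units.val_mul, mul_inv_cancel, Units.val_one]
  have hGiG : Gi * G = 1 := by rw [hG, hGi, ← Units.val_mul, inv_mul_cancel, Units.val_one]
  have hcval : (c : Matrix (Fin n) (Fin n) F) = T * G * Ti * Gi := by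
    rw [hc, Units.val_mul, Units.val_mul, Units.val_mul]
  -- every `h ∈ R` commutes with `c` up to a scalar
  have hc2 : ∀ h ∈ R, ∃ ζ : F, (h : Matrix (Fin n) (Fin n) F) * (c : Matrix (Fin n) (Fin n) F) =
      ζ • ((c : Matrix (Fin n) (Fin n) F) * (h : Matrix (Fin n) (Fin n) F)) := by
    intro h hhR
    obtain ⟨ζ₁, hζ₁⟩ := hg2 h hhR
    have hh'R : t⁻¹ * h * t ∈ R := by
      have h1 := (Subgroup.mem_normalizer_iff.mp (Subgroup.inv_mem _ htN) h).mp hhR
      rwa [inv_inv] at h1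
    obtain ⟨ζ₂, hζ₂⟩ := hg2 _ hh'R
    set H : Matrix (Fin n) (Fin n) F := (h : Matrix (Fin n) (Fin n) F) with hH
    set H' : Matrix (Fin n) (Fin n) F := ((t⁻¹ * h * t : GL (Fin n) F) : Matrix (Fin n) (Fin n) F) with hH'
    have f3 : T * H' = H * T := by
      rw [hT, hH', hH, ← Units.val_mul, ← Units.val_mul]
      congr 1
      group
    have f4 : H' * Ti = Ti * H := by
      rw [hTi, hH', hH, ← Units.val_mul, ← Units.val_mul]
      congr 1
      group
    have hζ₁0 : ζ₁ ≠ 0 := by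
      rintro rfl
      rw [zero_smul] at hζ₁
      have h1 : H * G * Gi = 0 := by rw [hζ₁, Matrix.zero_mul]
      rw [Matrix.mul_assoc, hGGi, Matrix.mul_one] at h1
      have h2 : (h : Matrix (Fin n) (Fin n) F) * ((h⁻¹ : GL (Fin n) F) : Matrix (Fin n) (Fin n) F) = 1 := by
        rw [← Units.val_mul, mul_inv_cancel, Units.val_one]
      rw [← hH, h1, Matrix.zero_mul] at h2
      have hn0 : (⟨0, by omega⟩ : Fin n) = ⟨0, by omega⟩ := rfl
      have := congrFun (congrFun h2 (⟨0, by omega⟩ : Fin n)) (⟨0, by omega⟩ : Fin n)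
      simp at this
    have f1' : H * Gi = ζ₁⁻¹ • (Gi * H) := by
      have h1 : Gi * (H * G) * Gi = ζ₁ • (H * Gi) := by
        rw [hζ₁, Matrix.mul_smul, Matrix.smul_mul, ← Matrix.mul_assoc, hGiG, Matrix.one_mul]
      rw [Matrix.mul_assoc, Matrix.mul_assoc, hGGi, Matrix.mul_one] at h1
      rw [h1, smul_smul, inv_mul_cancel₀ hζ₁0, one_smul]
    refine ⟨ζ₂ * ζ₁⁻¹, ?_⟩
    rw [hcval]
    calc H * (T * G * Ti * Gi) = (H * T) * G * Ti * Gi := by simp only [Matrix.mul_assoc]
      _ = T * (H' * G) * Ti * Gi := by rw [← f3]; simp only [Matrix.mul_assoc]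
      _ = ζ₂ • (T * G * (H' * Ti) * Gi) := by
        rw [hζ₂]
        simp only [Matrix.mul_assoc, Matrix.mul_smul, Matrix.smul_mul]
      _ = ζ₂ • (T * G * Ti * (H * Gi)) := by rw [f4]; simp only [Matrix.mul_assoc]
      _ = (ζ₂ * ζ₁⁻¹) • (T * G * Ti * Gi * H) := by
        rw [f1']
        simp only [Matrix.mul_assoc, Matrix.mul_smul, smul_smul]
  -- the scalars are all `1`
  have hcomm : ∀ h ∈ R, c * h = h * c := by
    intro h hhR
    obtain ⟨ζ, hζ⟩ := hc2 h hhR
    by_cases hζ1 : ζ = 1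
    · rw [hζ1, one_smul] at hζ
      apply Units.ext
      rw [Units.val_mul, Units.val_mul, hζ]
    · exfalso
      have hinj : Function.Injective (Matrix.mulVecLin (h : Matrix (Fin n) (Fin n) F)) := by
        intro x y hxy
        rw [Matrix.mulVecLin_apply, Matrix.mulVecLin_apply] at hxy
        have := congrArg (fun v => ((h⁻¹ : GL (Fin n) F) : Matrix (Fin n) (Fin n) F) *ᵥ v) hxy
        simp only [gl_inv_act'] at this
        exact this
      have := two_mul_finrank_le (c : Matrix (Fin n) (Fin n) F) (h : Matrix (Fin n) (Fin n) F) hinj ζ hζ1 hζ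
        W₀ hfix
      omega
  obtain ⟨lam, hlam⟩ := hscal c hcR hcomm
  -- a nonzero fixed vector
  have hpos : 0 < Module.finrank F W₀ := by omega
  obtain ⟨v, hv0⟩ := Module.finrank_pos_iff_exists_ne_zero.mp hpos
  have h1 := hfix v v.2
  rw [hlam, Matrix.smul_mulVec, Matrix.one_mulVec] at h1
  have hlam1 : lam = 1 := by
    have h2 : (lam - 1) • (v : Fin n → F) = 0 := by rw [sub_smul, one_smul, h1, sub_self]
    rcases smul_eq_zero.mp h2 with h3 | h3
    · exact sub_eq_zero.mp h3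
    · exact absurd (Subtype.ext h3) hv0
  have hc1 : c = 1 := by
    apply Units.ext
    rw [hlam, hlam1, one_smul, Units.val_one]
  have h2 : t * g * t⁻¹ = g := by
    have := congrArg (· * g) hc1
    simpa [hc] using this
  calc t * g = t * g * t⁻¹ * t := by group
    _ = g * t := by rw [h2]

/-! ### the main theorem in dimension at least five -/

/-- K-SUMax-N6 in dimension `≥ 5`: `SU_n(q)` does not normalise an absolutely irreducible `r`-subgroup of `GL_n(q²)`
(no hypothesis on the structure of `R`, on `r` or on `(n, q)` beyond `n ≥ 5`). -/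
theorem su_not_le_normalizer_pgroup_of_five_le (hF : Fintype.card F = q ^ 2) (hn : 5 ≤ n) {r : ℕ}
    (R : Subgroup (GL (Fin n) F)) (hrP : r.Prime) (hRp : IsPGroup r R)
    (habs : ActsAbsolutelyIrreducibly (matrixSet R)) :
    ¬ GU n F q ⊓ specialLinear (Fin n) F ≤ subgroupNormalizer R := by
  classical
  intro hle
  have hscal : ∀ z ∈ R, (∀ x ∈ R, z * x = x * z) →
      ∃ c : F, (z : Matrix (Fin n) (Fin n) F) = c • (1 : Matrix (Fin n) (Fin n) F) := by
    intro z hz hzc
    apply habs.2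
    rintro s ⟨x, hx, rfl⟩
    have h1 := congrArg (fun y : GL (Fin n) F => (y : Matrix (Fin n) (Fin n) F)) (hzc x hx)
    simpa only [Units.val_mul] using h1
  have hna : ∃ x y : R, x * y ≠ y * x := by
    by_contra hcon
    push Not at hcon
    have hall : ∀ g ∈ R, ∃ c : F, (g : Matrix (Fin n) (Fin n) F) = c • (1 : Matrix (Fin n) (Fin n) F) :=
      fun g hg => hscal g hg (fun x hx => congrArg Subtype.val (hcon ⟨g, hg⟩ ⟨x, hx⟩))
    obtain ⟨c, hc⟩ := habs.2 (Matrix.single (⟨0, by omega⟩ : Fin n) (⟨1, by omega⟩ : Fin n) (1 : F)) (by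
      rintro s ⟨g, hg, rfl⟩
      obtain ⟨c, hc⟩ := hall g hg
      simp only [hc, Matrix.mul_smul, Matrix.smul_mul, Matrix.mul_one, Matrix.one_mul])
    have h1 := congrFun (congrFun hc (⟨0, by omega⟩ : Fin n)) (⟨1, by omega⟩ : Fin n)
    have hne : (⟨0, by omega⟩ : Fin n) ≠ ⟨1, by omega⟩ := by
      intro h; exact absurd (Fin.mk.inj_iff.mp h) (by norm_num)
    simp [hne] at h1
  obtain ⟨g', ⟨x', hgx'⟩, hg2'⟩ := exists_second_center hrP hRp hna
  obtain ⟨g, hg⟩ : ∃ g : GL (Fin n) F, g = (g' : GL (Fin n) F) := ⟨_, rfl⟩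
  have hgR : g ∈ R := by rw [hg]; exact g'.2
  have hg2 : ∀ h ∈ R, ∃ ζ : F, (h : Matrix (Fin n) (Fin n) F) * (g : Matrix (Fin n) (Fin n) F) =
      ζ • ((g : Matrix (Fin n) (Fin n) F) * (h : Matrix (Fin n) (Fin n) F)) := by
    intro h hhR
    obtain ⟨z, hz⟩ : ∃ z : GL (Fin n) F, z = h * g * h⁻¹ * g⁻¹ := ⟨_, rfl⟩
    have hzc : ∀ x ∈ R, z * x = x * z := by
      intro x hx
      rw [hz, hg]
      exact congrArg Subtype.val (hg2' ⟨h, hhR⟩ ⟨x, hx⟩)
    have hzR : z ∈ R := by
      rw [hz]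
      exact R.mul_mem (R.mul_mem (R.mul_mem hhR hgR) (R.inv_mem hhR)) (R.inv_mem hgR)
    obtain ⟨ζ, hζ⟩ := hscal z hzR hzc
    refine ⟨ζ, ?_⟩
    have e : h * g = z * (g * h) := by rw [hz]; group
    have h1 := congrArg (fun y : GL (Fin n) F => (y : Matrix (Fin n) (Fin n) F)) e
    simp only [Units.val_mul] at h1
    rw [h1, hζ, Matrix.smul_mul, Matrix.one_mul]
  -- every transvection commutes with `g`
  have hT : ∀ (p : Fin n → F) (a : F), hh p p = 0 → a + a ^ q = 0 →
      qrefl q p a * (g : Matrix (Fin n) (Fin n) F) = (g : Matrix (Fin n) (Fin n) F) * qrefl q p a := by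
    intro p a hp ha
    have hti : IsIsoMat q (qrefl q p a) := qrefl_iso_skew hF p hp a ha
    obtain ⟨t, htv⟩ : ∃ t : GL (Fin n) F, (t : Matrix (Fin n) (Fin n) F) = qrefl q p a :=
      ⟨(hti.isUnit hF).unit, rfl⟩
    have htSU : t ∈ GU n F q ⊓ specialLinear (Fin n) F :=
      (mem_GUSL_iff t).mpr ⟨by rw [htv]; exact hti, by rw [htv, det_qrefl', hp, mul_zero, add_zero]⟩
    have htN : t ∈ Subgroup.normalizer (R : Set (GL (Fin n) F)) := hle htSU
    obtain ⟨W₀, hW₀, hfix⟩ := exists_fixed_space (q := q) g t p a htv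
    have h1 := comm_of_second_center hn R hscal g hgR hg2 t htN W₀ hW₀ hfix
    have h2 := congrArg (fun y : GL (Fin n) F => (y : Matrix (Fin n) (Fin n) F)) h1
    simp only [Units.val_mul] at h2
    rw [← htv]
    exact h2
  -- every isotropic vector is an eigenvector of `g`
  have heig : ∀ z : Fin n → F, hh z z = 0 →
      ∃ c : F, (g : Matrix (Fin n) (Fin n) F) *ᵥ z = c • z := by
    intro z hz
    by_cases hz0 : z = 0
    · exact ⟨0, by rw [hz0, Matrix.mulVec_zero, smul_zero]⟩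
    obtain ⟨s, hs0, hs⟩ := exists_skew_ne_zero hF
    obtain ⟨x, -, hxz, -⟩ := exists_isotropic_two hF (by omega) z z hz0 hz0
    have h1 := congrArg (fun M : Matrix (Fin n) (Fin n) F => M *ᵥ x) (hT z s hz hs)
    simp only [← Matrix.mulVec_mulVec, qrefl_mulVec] at h1
    rw [Matrix.mulVec_add, Matrix.mulVec_smul] at h1
    have h2 : (s * hh ((g : Matrix (Fin n) (Fin n) F) *ᵥ x) z) • z =
        (s * hh x z) • ((g : Matrix (Fin n) (Fin n) F) *ᵥ z) := add_left_cancel h1
    refine ⟨(s * hh x z)⁻¹ * (s * hh ((g : Matrix (Fin n) (Fin n) F) *ᵥ x) z), ?_⟩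
    rw [mul_smul, h2, smul_smul, inv_mul_cancel₀ (mul_ne_zero hs0 hxz), one_smul]
  obtain ⟨c, hc⟩ := scalar_of_isotropic_eigen hF (by omega) (g : Matrix (Fin n) (Fin n) F) heig
  apply hgx'
  apply Subtype.ext
  apply Units.ext
  rw [Subgroup.coe_mul, Subgroup.coe_mul, Units.val_mul, Units.val_mul, ← hg, hc, Matrix.smul_mul,
    Matrix.mul_smul, Matrix.one_mul, Matrix.mul_one]

/-- K-SUMax-N6 with `hn : 5 ≤ n` (the hypotheses `hex`, `hsim`, `hrp` of the specification are not needed). -/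
theorem su_not_le_subgroupNormalizer_of_five_le (hF : Fintype.card F = q ^ 2) (hn : 5 ≤ n) {r : ℕ}
    (R : Subgroup (GL (Fin n) F)) (hR : IsSymplecticTypeGroup r R)
    (habs : ActsAbsolutelyIrreducibly (matrixSet R)) :
    ¬ GU n F q ⊓ specialLinear (Fin n) F ≤ subgroupNormalizer R :=
  su_not_le_normalizer_pgroup_of_five_le hF hn R hR.prime hR.pGroup habs

end Cfsg.Agent.Lib.Helper63.SUMax
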