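import Mathlib
import Cfsg.Agent.Lib.Helper38.CD3.Defs
import Cfsg.Agent.Lib.Helper83.CharMisc

set_option autoImplicit false

/-!
# K-CD3 leaf N6 (keystone 446006, S4460): `H'` commutative and `G / H'` with two degrees give `G''' = 1`
-/

namespace Cfsg.Agent.Lib.Helper63.CD3

open Cfsg Cfsg.Agent.Lib.Helper97

universe u

variable {G : Type u} [Group G] [Finite G]

/-- `TwoDeg G c` (any `c`) gives commutative derived subgroup -/
theorem n6_comm_commutator {Q : Type u} [Group Q] [Finite Q] {c : ℕ} (h : TwoDeg Q c) :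
    ∀ a ∈ commutator Q, ∀ b ∈ commutator Q, a * b = b * a := by
  by_cases hc : 2 ≤ c
  · exact TwoDeg.comm_commutator h hc
  · -- all characters are linear, `Q` is commutative
    have hlin : ∀ χ : IrrCharacter Q, charDegree (χ : Q → ℂ) = 1 := by
      intro χ
      rcases h χ with h1 | h1
      · exact h1
      · have hpos := Cfsg.Agent.Lib.Helper83.irr_charDegree_pos χ
        omega
    have hcomm : ∀ a b : Q, a * b = b * a := by
      by_contra hn
      obtain ⟨χ, hχ⟩ := Cfsg.Agent.Lib.Helper83.exists_nonlinear_of_not_comm hn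
      apply hχ
      rw [← Cfsg.Agent.Lib.Helper83.charDegree_cast
        (Cfsg.Agent.Lib.Helper83.IrrCharacter_isCharacter χ), hlin χ, Nat.cast_one]
    intro a _ b _
    exact hcomm a b

/-- N6 -/
theorem d3_of_twoDeg_quot (H : Subgroup G) [H.Normal]
    (hH : ∀ a ∈ commutator H, ∀ b ∈ commutator H, a * b = b * a) {f : ℕ}
    (hq : TwoDeg (G ⧸ ⁅H, H⁆) f) : derivedSeries G 3 = ⊥ := by
  -- the quotient has commutative derived subgroup
  have hc := n6_comm_commutator hq
  have h1 : derivedSeries (G ⧸ ⁅H, H⁆) 1 = commutator (G ⧸ ⁅H, H⁆) := by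
    rw [derivedSeries_succ, derivedSeries_zero, commutator_def]
  have h2 : derivedSeries (G ⧸ ⁅H, H⁆) 2 = ⊥ := by
    rw [derivedSeries_succ, h1, Subgroup.commutator_eq_bot_iff_le_centralizer]
    intro a ha
    rw [Subgroup.mem_centralizer_iff]
    intro b hb
    exact hc b hb a ha
  -- so `G'' ≤ H'`
  have hle : derivedSeries G 2 ≤ ⁅H, H⁆ := by
    have hmap := map_derivedSeries_le_derivedSeries (QuotientGroup.mk' ⁅H, H⁆) 2
    rw [h2, le_bot_iff, Subgroup.map_eq_bot_iff, QuotientGroup.ker_mk'] at hmap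
    exact hmap
  -- `H'` is commutative
  have hK : ⁅H, H⁆ = (commutator H).map H.subtype := by
    rw [commutator_def, Subgroup.map_commutator, ← MonoidHom.range_eq_map, Subgroup.range_subtype]
  have hKcomm : ∀ a ∈ ⁅H, H⁆, ∀ b ∈ ⁅H, H⁆, a * b = b * a := by
    intro a ha b hb
    rw [hK] at ha hb
    obtain ⟨a', ha', rfl⟩ := ha
    obtain ⟨b', hb', rfl⟩ := hb
    have := hH a' ha' b' hb'
    have h3 := congrArg H.subtype this
    simpa using h3
  have hKK : ⁅(⁅H, H⁆ : Subgroup G), ⁅H, H⁆⁆ = ⊥ := by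
    rw [Subgroup.commutator_eq_bot_iff_le_centralizer]
    intro a ha
    rw [Subgroup.mem_centralizer_iff]
    intro b hb
    exact hKcomm b hb a ha
  rw [derivedSeries_succ, eq_bot_iff, ← hKK]
  exact Subgroup.commutator_mono hle hle

end Cfsg.Agent.Lib.Helper63.CD3
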