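import Mathlib
import Cfsg.Prelude.Def_HallClasses
import Cfsg.Agent.Lib.Helper38.HallAlt.Defs

/-!
# K-HA-G5 `alt_intrans_step`: the intransitive step for Hall subgroups of alternating groups
-/

set_option autoImplicit false
open Cfsg
open scoped Pointwise

namespace Cfsg.Agent.Lib.Helper63.HallAlt

open Cfsg.Agent.Lib.Helper38.HallAlt

/-- a transposition of two points on the same side of `Δ` stabilizes `Δ` -/
theorem swap_mem_stabilizer {α : Type} [DecidableEq α] (Δ : Set α) {u v : α}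
    (h : u ∈ Δ ↔ v ∈ Δ) : Equiv.swap u v ∈ MulAction.stabilizer (Equiv.Perm α) Δ := by
  rw [MulAction.mem_stabilizer_iff]
  ext y
  rw [Set.mem_smul_set_iff_inv_smul_mem, Equiv.swap_inv, Equiv.Perm.smul_def]
  by_cases hyu : y = u
  · subst hyu
    rw [Equiv.swap_apply_left]
    exact h.symm
  · by_cases hyv : y = v
    · subst hyv
      rw [Equiv.swap_apply_right]
      exact h
    · rw [Equiv.swap_apply_of_ne_of_ne hyu hyv]

/-- **K-HA-G5.** Intransitive step for an orbit `Δ` of a Hall `π`-subgroup of the alternating group. -/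
theorem alt_intrans_step
    (hG1 : ∀ {α : Type} [Finite α] (Δ : Set α), Nat.card (MulAction.stabilizer (Equiv.Perm α) Δ) =
      (Δ.ncard).factorial * (Nat.card α - Δ.ncard).factorial)
    (hY : ∀ (π : Set ℕ), 2 ∈ π → ∀ {α : Type} [Finite α] (K : Subgroup (Equiv.Perm α)) (Δ : Set α),
      K ≤ MulAction.stabilizer (Equiv.Perm α) Δ → K ≤ altSub α →
      (∀ p : ℕ, p.Prime → p ∣ Nat.card K → p ∈ π) →
      (∀ p : ℕ, p.Prime → p ∈ π →
        padicValNat p ((Δ.ncard).factorial * (Nat.card α - Δ.ncard).factorial) ≤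
          padicValNat p (Nat.card K) + (if p = 2 then 1 else 0)) →
      (2 ≤ Nat.card α - Δ.ncard → IsEPiGroup π (Equiv.Perm ↥Δ)) ∧
      (2 ≤ Δ.ncard → IsEPiGroup π (Equiv.Perm ↥(Δᶜ : Set α))) ∧
      (Nat.card α - Δ.ncard ≤ 1 → AltE π ↥Δ) ∧
      (Δ.ncard ≤ 1 → AltE π ↥(Δᶜ : Set α)))
    (π : Set ℕ) (h2 : 2 ∈ π) {α : Type} [Finite α] (H : Subgroup (Equiv.Perm α)) (hH : AltHall π H) (x : α)
    (hx : MulAction.orbit ↥H x ≠ Set.univ) (h3 : 3 ≤ Nat.card α) :
    (2 ≤ Nat.card α - (MulAction.orbit ↥H x).ncard → IsEPiGroup π (Equiv.Perm ↥(MulAction.orbit ↥H x))) ∧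
    (2 ≤ (MulAction.orbit ↥H x).ncard → IsEPiGroup π (Equiv.Perm ↥((MulAction.orbit ↥H x)ᶜ : Set α))) ∧
    (Nat.card α - (MulAction.orbit ↥H x).ncard ≤ 1 → AltE π ↥(MulAction.orbit ↥H x)) ∧
    ((MulAction.orbit ↥H x).ncard ≤ 1 → AltE π ↥((MulAction.orbit ↥H x)ᶜ : Set α)) ∧
    (∀ p : ℕ, p.Prime → p ∈ π → ¬ p ∣ Nat.choose (Nat.card α) (MulAction.orbit ↥H x).ncard) ∧
    (∀ p : ℕ, p.Prime → p ∣ (MulAction.orbit ↥H x).ncard → p ∈ π) := by
  classical
  haveI : Fintype α := Fintype.ofFinite α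
  haveI : Nontrivial α := by
    rw [← Finite.one_lt_card_iff_nontrivial]; omega
  set Δ : Set α := MulAction.orbit ↥H x with hΔ
  set n := Nat.card α with hn
  set a := Δ.ncard with ha
  have han : a ≤ n := by
    rw [ha, hn, ← Set.ncard_univ]
    exact Set.ncard_le_ncard (Set.subset_univ _) Set.finite_univ
  -- `H` stabilizes `Δ`
  have hHS : H ≤ MulAction.stabilizer (Equiv.Perm α) Δ := by
    intro h hh
    rw [MulAction.mem_stabilizer_iff]
    ext y
    constructor
    · rintro ⟨z, hz, rfl⟩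
      obtain ⟨k, rfl⟩ := hz
      exact ⟨⟨h, hh⟩ * k, by simp [mul_smul]⟩
    · rintro ⟨k, rfl⟩
      refine ⟨(⟨h, hh⟩ : ↥H)⁻¹ • (k • x), ⟨(⟨h, hh⟩ : ↥H)⁻¹ * k, by simp [mul_smul]⟩, ?_⟩
      change h • ((⟨h, hh⟩ : ↥H)⁻¹ • (k • x)) = k • x
      have : h • ((⟨h, hh⟩ : ↥H)⁻¹ • (k • x)) = (⟨h, hh⟩ : ↥H) • ((⟨h, hh⟩ : ↥H)⁻¹ • (k • x)) := rfl
      rw [this, smul_inv_smul]
  have hHA : H ≤ altSub α := hH.1
  have hcardY := hG1 (α := α) Δ
  have hperm : Nat.card (Equiv.Perm α) = n.factorial := by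
    rw [Nat.card_eq_fintype_card, Fintype.card_perm, hn, Nat.card_eq_fintype_card]
  have hAcard : 2 * Nat.card (altSub α) = n.factorial := by
    rw [altSub_eq, two_mul_nat_card_alternatingGroup, hperm]
  have hAidx : (altSub α).index = 2 := by
    rw [altSub_eq]; exact alternatingGroup.index_eq_two
  have hn0 : n.factorial ≠ 0 := Nat.factorial_ne_zero n
  have hH0 : Nat.card H ≠ 0 := Nat.card_pos.ne'
  have hprod0 : a.factorial * (n - a).factorial ≠ 0 :=
    Nat.mul_ne_zero (Nat.factorial_ne_zero _) (Nat.factorial_ne_zero _)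
  have hfac : a.factorial * (n - a).factorial ∣ n.factorial :=
    Nat.factorial_mul_factorial_dvd_factorial han
  -- a transposition in the stabilizer
  obtain ⟨u, v, huv, hside⟩ : ∃ u v : α, u ≠ v ∧ (u ∈ Δ ↔ v ∈ Δ) := by
    by_cases h : 1 < a
    · obtain ⟨u, v, hu, hv, huv⟩ := (Set.one_lt_ncard_iff (Set.toFinite Δ)).mp h
      exact ⟨u, v, huv, by simp [hu, hv]⟩
    · have hc : 1 < (Δᶜ).ncard := by
        rw [Set.ncard_compl]; omega
      obtain ⟨u, v, hu, hv, huv⟩ := (Set.one_lt_ncard_iff (Set.toFinite Δᶜ)).mp hc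
      rw [Set.mem_compl_iff] at hu hv
      exact ⟨u, v, huv, by simp [hu, hv]⟩
  have hswY : Equiv.swap u v ∈ MulAction.stabilizer (Equiv.Perm α) Δ := swap_mem_stabilizer Δ hside
  have hswA : Equiv.swap u v ∉ altSub α := by
    rw [mem_altSub_iff, Equiv.Perm.sign_swap huv]; decide
  have hYA : ¬ MulAction.stabilizer (Equiv.Perm α) Δ ≤ altSub α := fun h => hswA (h hswY)
  have hrel : (altSub α).relIndex (MulAction.stabilizer (Equiv.Perm α) Δ) = 2 := by
    have h1 : (altSub α).relIndex (MulAction.stabilizer (Equiv.Perm α) Δ) ∣ 2 :=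
      hAidx ▸ Subgroup.relIndex_dvd_index_of_normal (altSub α) _
    have h2 : (altSub α).relIndex (MulAction.stabilizer (Equiv.Perm α) Δ) ≠ 1 :=
      fun h => hYA (Subgroup.relIndex_eq_one.mp h)
    rcases (Nat.dvd_prime Nat.prime_two).mp h1 with h | h
    · exact absurd h h2
    · exact h
  have hcardYA : Nat.card ↥(MulAction.stabilizer (Equiv.Perm α) Δ ⊓ altSub α) * 2 =
      Nat.card (MulAction.stabilizer (Equiv.Perm α) Δ) := by
    have := Subgroup.relIndex_mul_relIndex (H := ⊥)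
      (K := MulAction.stabilizer (Equiv.Perm α) Δ ⊓ altSub α)
      (L := MulAction.stabilizer (Equiv.Perm α) Δ) bot_le inf_le_left
    rwa [Subgroup.relIndex_bot_left, Subgroup.relIndex_bot_left, Subgroup.inf_relIndex_left, hrel]
      at this
  have hrel2 : Nat.card ↥(MulAction.stabilizer (Equiv.Perm α) Δ ⊓ altSub α) *
      (MulAction.stabilizer (Equiv.Perm α) Δ ⊓ altSub α).relIndex (altSub α) =
      Nat.card (altSub α) := by
    have := Subgroup.relIndex_mul_relIndex (H := ⊥)
      (K := MulAction.stabilizer (Equiv.Perm α) Δ ⊓ altSub α) (L := altSub α) bot_le inf_le_right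
    rwa [Subgroup.relIndex_bot_left, Subgroup.relIndex_bot_left] at this
  have hchoose : (MulAction.stabilizer (Equiv.Perm α) Δ ⊓ altSub α).relIndex (altSub α) =
      n.choose a := by
    have h1 : a.factorial * (n - a).factorial *
        (MulAction.stabilizer (Equiv.Perm α) Δ ⊓ altSub α).relIndex (altSub α) = n.factorial := by
      rw [← hcardY, ← hcardYA, ← hAcard, ← hrel2]; ring
    have h2 := Nat.choose_mul_factorial_mul_factorial han
    apply Nat.eq_of_mul_eq_mul_left (Nat.pos_of_ne_zero hprod0)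
    rw [h1, ← h2]; ring
  have hHrel : Nat.card H * H.relIndex (altSub α) = Nat.card (altSub α) := by
    have := Subgroup.relIndex_mul_relIndex (H := ⊥) (K := H) (L := altSub α) bot_le hHA
    rwa [Subgroup.relIndex_bot_left, Subgroup.relIndex_bot_left] at this
  have hrel0 : H.relIndex (altSub α) ≠ 0 := by
    intro h
    rw [h, mul_zero] at hHrel
    exact (Nat.card_pos (α := altSub α)).ne' hHrel.symm
  -- valuations
  have hval : ∀ p : ℕ, p.Prime → p ∈ π →
      padicValNat p (a.factorial * (n - a).factorial) ≤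
        padicValNat p (Nat.card H) + (if p = 2 then 1 else 0) := by
    intro p hp hpπ
    haveI := Fact.mk hp
    have h1 : padicValNat p (a.factorial * (n - a).factorial) ≤ padicValNat p n.factorial :=
      (padicValNat_dvd_iff_le hn0).mp (dvd_trans pow_padicValNat_dvd hfac)
    have h2' : padicValNat p n.factorial =
        padicValNat p (Nat.card H) + (if p = 2 then 1 else 0) := by
      rw [← hAcard, ← hHrel, padicValNat.mul two_ne_zero (Nat.mul_ne_zero hH0 hrel0),
        padicValNat.mul hH0 hrel0, padicValNat.eq_zero_of_not_dvd (hH.2.2 p hp hpπ), add_zero]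
      split_ifs with h
      · subst h
        rw [padicValNat_self]; ring
      · rw [padicValNat.eq_zero_of_not_dvd
          (fun hd => h ((Nat.prime_dvd_prime_iff_eq hp Nat.prime_two).mp hd))]
        ring
    omega
  obtain ⟨o1, o2, o3, o4⟩ := hY π h2 H Δ hHS hHA hH.2.1 hval
  refine ⟨o1, o2, o3, o4, ?_, ?_⟩
  · intro p hp hpπ hd
    apply hH.2.2 p hp hpπ
    rw [← Subgroup.relIndex_mul_relIndex (H := H)
      (K := MulAction.stabilizer (Equiv.Perm α) Δ ⊓ altSub α) (L := altSub α)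
      (le_inf hHS hHA) inf_le_right, hchoose]
    exact Dvd.dvd.mul_left hd _
  · intro p hp hpd
    apply hH.2.1 p hp
    refine dvd_trans hpd ?_
    have := MulAction.card_orbit_mul_card_stabilizer_eq_card_group (↥H) x
    rw [ha, hΔ, ← Nat.card_coe_set_eq]
    have h3' : Nat.card (MulAction.orbit ↥H x) * Nat.card (MulAction.stabilizer ↥H x) =
        Nat.card ↥H := by
      rw [Nat.card_eq_fintype_card, Nat.card_eq_fintype_card, Nat.card_eq_fintype_card]
      convert this
    exact Dvd.intro _ h3'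

end Cfsg.Agent.Lib.Helper63.HallAlt
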