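import Mathlib
import Cfsg.Prelude.Def_GeometricClasses
import Cfsg.Agent.Lib.Helper61.AschDefs
import Cfsg.Agent.Lib.Helper43.SpAschDefs
import Cfsg.Agent.Lib.Helper43.SpAschDefs2
import Cfsg.Agent.Lib.Helper60.AschE5Core
import Cfsg.Agent.Lib.Helper70.AschE1
import Cfsg.Agent.Lib.Helper05.AschE2
import Cfsg.Agent.Lib.Helper04.AschE3
import Cfsg.Agent.Lib.Helper53.SpAschG1
import Cfsg.Agent.Lib.Helper82.SpAschEh

/-!
# K-SpAsch-Ea (keystone 566223, architect helper43): the tensor-induced case for symplectic groups, structure.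

Enriched copy of `Helper60.Asch.geom_of_nonsimple_perfect_of_pos`: besides `K ≤ tensorWreathSubgroup m t e P` we export
that the factor sets are closed under adjoints, that `K` is transitive on them, and that every element of `N` is a
pure tensor in the coordinates `(e, P)`.
-/

set_option autoImplicit false

namespace Cfsg.Agent.Lib.Helper63.SpAsch

open Cfsg Cfsg.Geo Cfsg.Agent.Lib.Helper61.Asch Cfsg.Agent.Lib.Helper43.SpAsch Cfsg.Agent.Lib.Helper60.Asch
open scoped Matrix Kronecker MatrixGroups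

variable {F : Type*} [Field F] [Fintype F] {n : ℕ}

local notation "V" => (Fin n → F)
local notation "Mat" => Matrix (Fin n) (Fin n) F
local notation "Z" => scalars (Fin n) F

omit [Fintype F] in
/-- The matrix of `pureGL` at a family which is `X` in position `i` and `1` elsewhere is `pureAt m t i X`. -/
theorem pureGL_update_val (m t : ℕ) (i : Fin t) (X : GL (Fin m) F) :
    ((Cfsg.Agent.Lib.Helper82.SpAsch.pureGL m t (fun j => if j = i then X else 1) : GL (Fin t → Fin m) F) :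
      Matrix (Fin t → Fin m) (Fin t → Fin m) F) = pureAt m t i (X : Matrix (Fin m) (Fin m) F) := by
  classical
  ext u v
  rw [Cfsg.Agent.Lib.Helper82.SpAsch.pureGL_apply]
  unfold pureAt
  rw [← Finset.mul_prod_erase Finset.univ _ (Finset.mem_univ i)]
  simp only [if_true]
  have h1 : ∏ j ∈ Finset.univ.erase i,
      (((if j = i then X else 1 : GL (Fin m) F)) : Matrix (Fin m) (Fin m) F) (u j) (v j) =
      if ∀ j, j ≠ i → u j = v j then 1 else 0 := by
    have h2 : ∀ j ∈ Finset.univ.erase i,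
        (((if j = i then X else 1 : GL (Fin m) F)) : Matrix (Fin m) (Fin m) F) (u j) (v j) =
          if u j = v j then 1 else 0 := by
      intro j hj
      rw [if_neg (Finset.ne_of_mem_erase hj), Units.val_one, Matrix.one_apply]
    rw [Finset.prod_congr rfl h2]
    split_ifs with h
    · apply Finset.prod_eq_one
      intro j hj
      rw [if_pos (h j (Finset.ne_of_mem_erase hj))]
    · push Not at h
      obtain ⟨j, hji, hj⟩ := h
      apply Finset.prod_eq_zero (Finset.mem_erase.2 ⟨hji, Finset.mem_univ j⟩)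
      rw [if_neg hj]
  rw [h1]
  split_ifs <;> simp

/-- The structure theorem with the conclusion of E1 (central factors) as a hypothesis. -/
theorem exists_tensorWreath_structure_of {f : V → V → F} (hf : IsSymplecticForm f) (K N : Subgroup (GL (Fin n) F))
    (hn : 3 ≤ n) (hNΔ : N ≤ similarityGroup f)
    (hspan : spanAlg N = ⊤)
    (hE1 : ∃ (t : ℕ) (Q : Fin t → Subgroup (GL (Fin n) F)), 2 ≤ t ∧ (∀ i, Q i ≤ N) ∧ (∀ i, ¬ Q i ≤ Z) ∧
      (∀ i j, i ≠ j → ∀ x ∈ Q i, ∀ y ∈ Q j, x * y = y * x) ∧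
      N ≤ (⨆ i, Q i) ⊔ Z ∧
      (∀ k ∈ K, ∃ σ : Equiv.Perm (Fin t), ∀ i, ∀ x ∈ Q i, k * x * k⁻¹ ∈ Q (σ i)) ∧
      (∀ i j, ∃ k ∈ K, ∀ x ∈ Q i, k * x * k⁻¹ ∈ Q j)) :
    ∃ (m t : ℕ) (e : Fin n ≃ (Fin t → Fin m)) (P : GL (Fin n) F), 2 ≤ m ∧ 2 ≤ t ∧
      K ≤ tensorWreathSubgroup m t e P ∧ (∀ i, AdjClosedSet f (factorSet m t e P i)) ∧
      (∀ i j, ∃ k ∈ K, ∀ x ∈ factorSet m t e P i,
        (k : Mat) * x * ((k⁻¹ : GL (Fin n) F) : Mat) ∈ factorSet m t e P j) ∧
      (∀ g ∈ N, ∃ w : GL (Fin t → Fin m) F, IsPureTensor m t w ∧ g = P * glReindex e.symm w * P⁻¹) := by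
  classical
  obtain ⟨t, Q, ht, hQN, hQZ, hQcomm, hNQ, hperm, htrans⟩ := hE1
  have hn0 : 0 < n := by omega
  set A : Fin t → Subalgebra F Mat := fun i => spanAlg (Q i) with hA
  have hQA : ∀ i, matrixSet (Q i) ⊆ A i := fun i => Algebra.subset_adjoin
  -- elements of `A i` and `A j` commute
  have hAcomm : ∀ i j, i ≠ j → ∀ x ∈ A i, ∀ y ∈ A j, x * y = y * x := by
    intro i j hij
    apply commute_adjoin
    rintro _ ⟨g, hg, rfl⟩ _ ⟨h, hh, rfl⟩
    have h1 := hQcomm i j hij g hg h hh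
    rw [← Units.val_mul, ← Units.val_mul, h1]
  -- `N` lies in `unitsIn B` as soon as all `Q j` do
  have hNB : ∀ B : Subalgebra F Mat, (∀ j, matrixSet (Q j) ⊆ B) → N ≤ unitsIn B := by
    intro B hB
    exact hNQ.trans (sup_le (iSup_le fun j => le_unitsIn_of_matrixSet_subset _ _ (hB j))
      (scalars_le_unitsIn B))
  have hNirr : ActsIrreducibly (matrixSet N) := actsIrreducibly_of_spanAlg_eq_top N hspan
  -- `N` normalizes every `A i`
  have hNnorm : ∀ i, N ≤ subalgebraNormalizer (A i) := by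
    intro i
    refine hNQ.trans (sup_le (iSup_le fun j => ?_) ?_)
    · by_cases hji : j = i
      · subst hji
        exact (le_unitsIn_of_matrixSet_subset _ _ (hQA j)).trans (unitsIn_le_subalgebraNormalizer _)
      · refine (le_unitsIn_of_matrixSet_subset _ _ ?_).trans
          (unitsIn_centralizer_le_subalgebraNormalizer (A i))
        intro x hx
        rw [SetLike.mem_coe, Subalgebra.mem_centralizer_iff]
        intro y hy
        exact hAcomm i j (Ne.symm hji) y hy x (hQA j hx)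
    · exact (scalars_le_unitsIn (A i)).trans (unitsIn_le_subalgebraNormalizer _)
  have hNormAlg : ∀ i, NormAlg N (A i) := fun i k hk x hx => ((hNnorm i hk) x).1 hx
  have hss : ∀ i, IsSemisimpleModule (A i) V := fun i =>
    Cfsg.Agent.Lib.Helper42.Asch.isSemisimpleModule_of_normAlg N (A i) hNirr (hNormAlg i)
  have hiso : ∀ i, IsIsotypic (A i) V := by
    intro i
    refine Cfsg.Agent.Lib.Helper22.Asch.isIsotypic_of_generated N (A i) hNirr (hss i)
      {g | (∃ j, g ∈ Q j) ∨ g ∈ Z} ?_ ?_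
    · refine hNQ.trans (sup_le (iSup_le fun j => ?_) ?_)
      · intro g hg
        exact Subgroup.subset_closure (Or.inl ⟨j, hg⟩)
      · intro g hg
        exact Subgroup.subset_closure (Or.inr hg)
    · rintro g (⟨j, hg⟩ | hg)
      · by_cases hji : j = i
        · subst hji
          exact Or.inl (hQA j ⟨g, hg, rfl⟩)
        · right
          intro x hx
          exact hAcomm j i hji _ (hQA j ⟨g, hg, rfl⟩) x hx
      · right
        intro x hx
        rw [mem_scalars_iff] at hg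
        obtain ⟨c, hc⟩ := hg
        rw [hc, smul_mul_assoc, one_mul, mul_smul_comm, mul_one]
  have hsimple : ∀ i, IsSimpleRing (A i) := fun i =>
    Cfsg.Agent.Lib.Helper29.Asch.isSimpleRing_of_isIsotypic (A i) hn0 (hss i) (hiso i)
  have hcenter : ∀ i, Subalgebra.center F (A i) = ⊥ := by
    intro i
    rw [eq_bot_iff]
    intro c hc
    rw [Subalgebra.mem_center_iff] at hc
    have h1 : ∀ s ∈ matrixSet N, s * (c : Mat) = (c : Mat) * s := by
      have h2 : N ≤ unitsIn (Subalgebra.centralizer F {(c : Mat)}) := by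
        apply hNB
        intro j
        rintro _ ⟨g, hg, rfl⟩
        rw [SetLike.mem_coe, Subalgebra.mem_centralizer_iff]
        intro z hz
        rw [Set.mem_singleton_iff] at hz
        subst hz
        by_cases hji : j = i
        · subst hji
          have h3 := hc ⟨(g : Mat), hQA j ⟨g, hg, rfl⟩⟩
          exact (congrArg Subtype.val h3).symm
        · exact hAcomm i j (Ne.symm hji) c c.2 g (hQA j ⟨g, hg, rfl⟩)
      intro s hs
      have h3 := matrixSet_subset_of_le_unitsIn N _ h2 hs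
      rw [SetLike.mem_coe, Subalgebra.mem_centralizer_iff] at h3
      exact (h3 c rfl).symm
    obtain ⟨r, hr⟩ := eq_smul_one_of_commute N hspan c h1
    rw [Algebra.mem_bot]
    refine ⟨r, Subtype.ext ?_⟩
    rw [hr]
    simp [Algebra.algebraMap_eq_smul_one]
  have hB3 : ∀ i, ∃ a : ℕ, 0 < a ∧ Nonempty (Matrix (Fin a) (Fin a) F ≃ₐ[F] A i) := fun i => by
    have := hsimple i
    exact Cfsg.Agent.Lib.Helper29.Asch.exists_algEquiv_matrix_of_center_eq_bot (A i) (hcenter i)
  have hfr : ∀ i (a : ℕ), Nonempty (Matrix (Fin a) (Fin a) F ≃ₐ[F] A i) →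
      Module.finrank F (A i) = a * a := by
    rintro i a ⟨ψ⟩
    rw [← ψ.toLinearEquiv.finrank_eq, Module.finrank_matrix]
    simp
  -- conjugation by `k ∈ K` carrying `Q i` into `Q j` carries `A i` into `A j`
  have hconj : ∀ (i j : Fin t) (k : GL (Fin n) F), (∀ x ∈ Q i, k * x * k⁻¹ ∈ Q j) →
      ∀ x ∈ A i, (k : Mat) * x * ((k⁻¹ : GL (Fin n) F) : Mat) ∈ A j := by
    intro i j k hk
    apply conj_mem_of_adjoin
    rintro _ ⟨g, hg, rfl⟩
    exact hQA j ⟨k * g * k⁻¹, hk g hg, by simp [Units.val_mul]⟩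
  have hdim : ∀ i j, Module.finrank F (A i) ≤ Module.finrank F (A j) := by
    intro i j
    obtain ⟨k, -, hk⟩ := htrans i j
    have hc := hconj i j k hk
    let f : A i →ₗ[F] A j :=
      { toFun := fun x => ⟨(k : Mat) * x * ((k⁻¹ : GL (Fin n) F) : Mat), hc x x.2⟩
        map_add' := fun x y => by
          apply Subtype.ext
          simp [mul_add, add_mul]
        map_smul' := fun r x => by
          apply Subtype.ext
          simp }
    refine LinearMap.finrank_le_finrank_of_injective (f := f) ?_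
    intro x y hxy
    have h1 : (k : Mat) * x * ((k⁻¹ : GL (Fin n) F) : Mat) = (k : Mat) * y * ((k⁻¹ : GL (Fin n) F) : Mat) :=
      congrArg Subtype.val hxy
    apply Subtype.ext
    have h2 : ∀ z : Mat, ((k⁻¹ : GL (Fin n) F) : Mat) * ((k : Mat) * z * ((k⁻¹ : GL (Fin n) F) : Mat)) * (k : Mat)
        = z := by
      intro z
      simp only [mul_assoc, Units.inv_mul_cancel_left, Units.inv_mul, mul_one]
    rw [← h2 x, ← h2 y, h1]
  have i0 : Fin t := ⟨0, by omega⟩
  obtain ⟨m, hm, hψ0⟩ := hB3 i0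
  have hψ : ∀ i, Nonempty (Matrix (Fin m) (Fin m) F ≃ₐ[F] A i) := by
    intro i
    obtain ⟨a, ha, hψa⟩ := hB3 i
    have h1 : a * a = m * m := by
      rw [← hfr i a hψa, ← hfr i0 m hψ0]
      exact le_antisymm (hdim i i0) (hdim i0 i)
    have h2 : a = m := Nat.mul_self_inj.1 h1
    subst h2
    exact hψa
  choose ψ _ using fun i => exists_true_iff_nonempty.2 (hψ i)
  -- `m ≥ 2`
  have hm2 : 2 ≤ m := by
    by_contra hlt
    have hm1 : m = 1 := by omega
    subst hm1
    apply hQZ i0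
    intro g hg
    have hgA : (g : Mat) ∈ A i0 := hQA i0 ⟨g, hg, rfl⟩
    set y := (ψ i0).symm ⟨(g : Mat), hgA⟩ with hy
    have h1 : y = (y 0 0) • (1 : Matrix (Fin 1) (Fin 1) F) := by
      ext a b
      have ha : a = 0 := Subsingleton.elim _ _
      have hb : b = 0 := Subsingleton.elim _ _
      subst ha; subst hb
      simp
    have h2 : (g : Mat) = (y 0 0) • (1 : Mat) := by
      have h3 : ψ i0 y = ⟨(g : Mat), hgA⟩ := by rw [hy]; simp
      have h4 : ((ψ i0 y : A i0) : Mat) = (g : Mat) := by rw [h3]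
      rw [← h4, h1, map_smul, map_one]
      simp
    have h3 : y 0 0 ≠ 0 := by
      intro h0
      rw [h0, zero_smul] at h2
      have h4 : (g : Mat) * ((g⁻¹ : GL (Fin n) F) : Mat) = 1 := by
        rw [← Units.val_mul, mul_inv_cancel, Units.val_one]
      rw [h2, zero_mul] at h4
      have : Nonempty (Fin n) := ⟨⟨0, hn0⟩⟩
      exact zero_ne_one h4
    rw [mem_scalars_iff]
    exact ⟨Units.mk0 _ h3, h2⟩
  set φ : Fin t → (Matrix (Fin m) (Fin m) F →ₐ[F] Mat) := fun i => (A i).val.comp (ψ i).toAlgHom with hφdef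
  have hφmem : ∀ i x, φ i x ∈ A i := fun i x => (ψ i x).2
  have hφsurj : ∀ i, ∀ z ∈ A i, ∃ x, φ i x = z := by
    intro i z hz
    refine ⟨(ψ i).symm ⟨z, hz⟩, ?_⟩
    simp [hφdef]
  have hcommφ : ∀ i j, i ≠ j → ∀ x y, φ i x * φ j y = φ j y * φ i x := fun i j hij x y =>
    hAcomm i j hij _ (hφmem i x) _ (hφmem j y)
  have hgenφ : Algebra.adjoin F (⋃ i, Set.range (φ i)) = ⊤ := by
    rw [eq_top_iff, ← hspan]
    apply Algebra.adjoin_le
    apply matrixSet_subset_of_le_unitsIn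
    apply hNB
    intro j z hz
    obtain ⟨x, hx⟩ := hφsurj j z (hQA j hz)
    exact Algebra.subset_adjoin (Set.mem_iUnion.2 ⟨j, x, hx⟩)
  obtain ⟨e, P, hφ⟩ := Cfsg.Agent.Lib.Helper05.Asch.exists_tensor_basis_lam m t hn0 hm φ hcommφ hgenφ
  have hKle : K ≤ tensorWreathSubgroup m t e P := by
    intro k hk
    obtain ⟨σ, hσ⟩ := hperm k hk
    apply Cfsg.Agent.Lib.Helper04.Asch.mem_tensorWreathSubgroup_of_permutes m t hm (by omega) e P k σ
    intro i x
    have hφ4 : ∀ i x, φ i x = (P : Mat) * Matrix.reindex e.symm e.symm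
        (Cfsg.Agent.Lib.Helper04.Asch.pureAt m t i x) * ((P⁻¹ : GL (Fin n) F) : Mat) := hφ
    rw [← hφ4 i x]
    obtain ⟨y, hy⟩ := hφsurj (σ i) _ (hconj i (σ i) k (hσ i) _ (hφmem i x))
    exact ⟨y, by rw [← hφ4 (σ i) y, hy]⟩
  have hφ' : ∀ i x, φ i x = (P : Mat) * Matrix.reindex e.symm e.symm (pureAt m t i x) *
      ((P⁻¹ : GL (Fin n) F) : Mat) := hφ
  -- the factor sets are the algebras `A i`
  have hfs : ∀ i (z : Mat), z ∈ factorSet m t e P i ↔ z ∈ A i := by
    intro i z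
    constructor
    · rintro ⟨x, rfl⟩
      have h1 := hφmem i x
      rw [hφ' i x] at h1
      exact h1
    · intro hz
      obtain ⟨x, hx⟩ := hφsurj i z hz
      exact ⟨x, by rw [← hx, hφ' i x]⟩
  have hφinj : ∀ i, Function.Injective (φ i) := by
    intro i x y hxy
    have h1 : ψ i x = ψ i y := Subtype.ext hxy
    exact (ψ i).injective h1
  -- units of `A i` are pure tensors
  let Φ : (Fin t → GL (Fin m) F) →* GL (Fin n) F :=
    ((MulAut.conj P).toMonoidHom.comp (glReindex (F := F) e.symm).toMonoidHom).comp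
      (Cfsg.Agent.Lib.Helper82.SpAsch.pureGL m t)
  have hΦ : ∀ gs, Φ gs = P * glReindex e.symm (Cfsg.Agent.Lib.Helper82.SpAsch.pureGL m t gs) * P⁻¹ := by
    intro gs
    simp [Φ, MulAut.conj_apply]
  have hunit : ∀ i, unitsIn (A i) ≤ Φ.range := by
    rintro i g ⟨hg, hg'⟩
    obtain ⟨x, hx⟩ := hφsurj i _ hg
    obtain ⟨y, hy⟩ := hφsurj i _ hg'
    have hxy : x * y = 1 := by
      apply hφinj i
      rw [map_mul, hx, hy, map_one, ← Units.val_mul, mul_inv_cancel, Units.val_one]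
    have hyx : y * x = 1 := by
      apply hφinj i
      rw [map_mul, hx, hy, map_one, ← Units.val_mul, inv_mul_cancel, Units.val_one]
    refine ⟨fun j => if j = i then (⟨x, y, hxy, hyx⟩ : GL (Fin m) F) else 1, ?_⟩
    rw [hΦ]
    apply Units.ext
    rw [Units.val_mul, Units.val_mul, ← hx, hφ' i x]
    congr 2
    show Matrix.reindex e.symm e.symm _ = _
    rw [pureGL_update_val]
  have hNΦ : N ≤ Φ.range := by
    refine hNQ.trans (sup_le (iSup_le fun j => ?_) ?_)
    · exact (le_unitsIn_of_matrixSet_subset _ _ (hQA j)).trans (hunit j)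
    · exact (scalars_le_unitsIn (A i0)).trans (hunit i0)
  refine ⟨m, t, e, P, hm2, ht, hKle, ?_, ?_, ?_⟩
  · intro i k hk
    rw [hfs] at hk
    have hG1 := Cfsg.Agent.Lib.Helper53.SpAsch.isAdjointClosedFor_spanAlg hf.bilinear (Q i)
      ((hQN i).trans hNΔ)
    obtain ⟨k', hk', h⟩ := hG1 k hk
    exact ⟨k', (hfs i k').2 hk', h⟩
  · intro i j
    obtain ⟨k, hkK, hk⟩ := htrans i j
    refine ⟨k, hkK, fun x hx => ?_⟩
    rw [hfs] at hx ⊢
    exact hconj i j k hk x hx
  · intro g hg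
    obtain ⟨gs, hgs⟩ := hNΦ hg
    refine ⟨Cfsg.Agent.Lib.Helper82.SpAsch.pureGL m t gs,
      (Cfsg.Agent.Lib.Helper82.SpAsch.isPureTensor_iff_mem_range m t _).2 ⟨gs, rfl⟩, ?_⟩
    rw [← hgs, hΦ]

/-- **K-SpAsch-Ea**. -/
theorem exists_tensorWreath_structure {f : V → V → F} (hf : IsSymplecticForm f) (K N : Subgroup (GL (Fin n) F))
    (hn : 3 ≤ n) (hNΔ : N ≤ similarityGroup f) (hZN : Z ≤ N) (hNK : N ≤ K) (hKN : NormBy K N)
    (hspan : spanAlg N = ⊤) (hperf : ⁅N, N⁆ ⊔ Z = N)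
    (hmin : ∀ M : Subgroup (GL (Fin n) F), Z ≤ M → M ≤ N → NormBy K M → M = Z ∨ M = N)
    (hns : ∃ M : Subgroup (GL (Fin n) F), Z ≤ M ∧ M ≤ N ∧ NormBy N M ∧ M ≠ Z ∧ M ≠ N) :
    ∃ (m t : ℕ) (e : Fin n ≃ (Fin t → Fin m)) (P : GL (Fin n) F), 2 ≤ m ∧ 2 ≤ t ∧
      K ≤ tensorWreathSubgroup m t e P ∧ (∀ i, AdjClosedSet f (factorSet m t e P i)) ∧
      (∀ i j, ∃ k ∈ K, ∀ x ∈ factorSet m t e P i,
        (k : Mat) * x * ((k⁻¹ : GL (Fin n) F) : Mat) ∈ factorSet m t e P j) ∧
      (∀ g ∈ N, ∃ w : GL (Fin t → Fin m) F, IsPureTensor m t w ∧ g = P * glReindex e.symm w * P⁻¹) :=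
  exists_tensorWreath_structure_of hf K N hn hNΔ hspan
    (Cfsg.Agent.Lib.Helper70.Asch.exists_central_factors K N hZN hNK hKN hperf hmin hns)

end Cfsg.Agent.Lib.Helper63.SpAsch
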