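import Cfsg.Agent.Lib.Helper44.SpUTools

/-!
# K-SpU2-TV (keystone 566503, architect helper44): unitary transvections
`ut U u c = t_{u,c} t_{δu,-c/d}`: action, membership in `Sp`, commutation with `δ`.
-/

set_option autoImplicit false
set_option linter.unusedSimpArgs false
set_option linter.unusedVariables false
set_option linter.unusedSectionVars false

namespace Cfsg.Agent.Lib.Helper63.SpU

open Matrix Cfsg.Agent.Lib.Helper18 Cfsg.Agent.Lib.Helper11.SpMax Cfsg.Agent.Lib.Helper44.SpU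
open Cfsg.Agent.Lib.Helper43.UF

variable {F : Type*} [Field F] [Fintype F] {m : ℕ}

local notation "V" => (Fin m ⊕ Fin m → F)
local notation "ff" => Cfsg.sympForm m F
local notation "GLm" => Matrix.GeneralLinearGroup (Fin m ⊕ Fin m) F
local notation "Mat" => Matrix (Fin m ⊕ Fin m) (Fin m ⊕ Fin m) F

theorem ut_act (U : SData m F) (u : V) (hu : KI U u) (c : F) (y : V) :
    (ut U u c).1 *ᵥ y = y + (c * ff y u) • u - (c / U.d * ff y (U.δ *ᵥ u)) • (U.δ *ᵥ u) := by
  have h0 : ff (U.δ *ᵥ u) u = 0 := by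
    rw [sf_swap]
    unfold KI at hu
    rw [hu, neg_zero]
  unfold ut
  rw [gl_mul_act, tg_act, tg_act, sf_add_left, sf_smul_left, h0, mul_zero, add_zero]
  module

theorem ut_mem_spGL (U : SData m F) (u : V) (c : F) : ut U u c ∈ Cfsg.spGL m F :=
  Subgroup.mul_mem _ (tg_mem m u c) (tg_mem m _ _)

theorem ut_comm (U : SData m F) (u : V) (hu : KI U u) (c : F) :
    ((ut U u c : GLm) : Mat) * U.δ = U.δ * ((ut U u c : GLm) : Mat) := by
  apply Matrix.mulVec_injective
  funext x
  rw [← Matrix.mulVec_mulVec, ← Matrix.mulVec_mulVec, ut_act U u hu, ut_act U u hu,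
    Matrix.mulVec_sub, Matrix.mulVec_add, Matrix.mulVec_smul, Matrix.mulVec_smul, U.sq_apply,
    U.ff_δδ, U.skew]
  have hd := U.d_ne_zero
  have h1 : c / U.d * -(U.d * ff x u) = -(c * ff x u) := by
    field_simp
  rw [h1, smul_smul]
  have h2 : c / U.d * ff x (U.δ *ᵥ u) * U.d = c * ff x (U.δ *ᵥ u) := by
    field_simp
  rw [h2]
  module

end Cfsg.Agent.Lib.Helper63.SpU
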