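import Mathlib
import Cfsg.Agent.Lib.Helper49.SpInvDefs
import Cfsg.Agent.Lib.Helper18.SympWitt

/-!
# K-SpInv-2 (keystone 268002, architect helper49)

`|pointwise stabiliser of a totally isotropic W| * #isotropic s-frames = |Sp_2m(q)|` (orbit-stabiliser and Witt).
-/

set_option autoImplicit false

namespace Cfsg.Agent.Lib.Helper63.SpInv

open Matrix Cfsg.Agent.Lib.Helper49.SpInv

variable {F : Type*} [Field F]

/-- Elements of the symplectic group preserve `sympForm`. -/
theorem sympForm_mulVec_mulVec {m : ℕ} (g : Matrix.symplecticGroup (Fin m) F)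
    (u v : Fin m ⊕ Fin m → F) :
    Cfsg.sympForm m F ((g : Matrix (Fin m ⊕ Fin m) (Fin m ⊕ Fin m) F) *ᵥ u)
      ((g : Matrix (Fin m ⊕ Fin m) (Fin m ⊕ Fin m) F) *ᵥ v) = Cfsg.sympForm m F u v := by
  have h := SymplecticGroup.mem_iff'.1 g.2
  unfold Cfsg.sympForm
  rw [← vecMul_transpose, ← dotProduct_mulVec, mulVec_mulVec, mulVec_mulVec, h]

theorem mulVec_injective_of_symp {m : ℕ} (g : Matrix.symplecticGroup (Fin m) F) :
    Function.Injective fun v : Fin m ⊕ Fin m → F =>
      (g : Matrix (Fin m ⊕ Fin m) (Fin m ⊕ Fin m) F) *ᵥ v := by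
  intro u v huv
  have h1 : ((g⁻¹ * g : Matrix.symplecticGroup (Fin m) F) :
      Matrix (Fin m ⊕ Fin m) (Fin m ⊕ Fin m) F) = 1 := by
    rw [inv_mul_cancel]; rfl
  have h2 : ∀ w : Fin m ⊕ Fin m → F,
      ((g⁻¹ : Matrix.symplecticGroup (Fin m) F) : Matrix (Fin m ⊕ Fin m) (Fin m ⊕ Fin m) F) *ᵥ
        ((g : Matrix (Fin m ⊕ Fin m) (Fin m ⊕ Fin m) F) *ᵥ w) = w := by
    intro w
    rw [mulVec_mulVec]
    have h3 : ((g⁻¹ : Matrix.symplecticGroup (Fin m) F) : Matrix (Fin m ⊕ Fin m) (Fin m ⊕ Fin m) F) *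
        (g : Matrix (Fin m ⊕ Fin m) (Fin m ⊕ Fin m) F) = 1 := h1
    rw [h3, one_mulVec]
  have h4 := congrArg (fun w =>
    ((g⁻¹ : Matrix.symplecticGroup (Fin m) F) : Matrix (Fin m ⊕ Fin m) (Fin m ⊕ Fin m) F) *ᵥ w) huv
  simp only [h2] at h4
  exact h4

/-- The action of the symplectic group on isotropic frames. -/
@[instance_reducible]
noncomputable def frameAction (m s : ℕ) :
    MulAction (Matrix.symplecticGroup (Fin m) F) (IsoFrame m s F) where
  smul g v := ⟨fun i => (g : Matrix (Fin m ⊕ Fin m) (Fin m ⊕ Fin m) F) *ᵥ v.1 i, by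
    refine ⟨?_, fun i j => ?_⟩
    · have h1 : LinearIndependent F
          ((Matrix.mulVecLin (g : Matrix (Fin m ⊕ Fin m) (Fin m ⊕ Fin m) F)) ∘ v.1) := by
        apply v.2.1.map'
        rw [LinearMap.ker_eq_bot]
        intro a b hab
        exact mulVec_injective_of_symp g (by simpa using hab)
      exact h1
    · rw [sympForm_mulVec_mulVec]
      exact v.2.2 i j⟩
  one_smul v := by
    apply Subtype.ext
    funext i
    show ((1 : Matrix.symplecticGroup (Fin m) F) : Matrix (Fin m ⊕ Fin m) (Fin m ⊕ Fin m) F) *ᵥ v.1 i = v.1 i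
    have : ((1 : Matrix.symplecticGroup (Fin m) F) : Matrix (Fin m ⊕ Fin m) (Fin m ⊕ Fin m) F) = 1 := rfl
    rw [this, one_mulVec]
  mul_smul g h v := by
    apply Subtype.ext
    funext i
    show ((g * h : Matrix.symplecticGroup (Fin m) F) : Matrix (Fin m ⊕ Fin m) (Fin m ⊕ Fin m) F) *ᵥ v.1 i =
      (g : Matrix (Fin m ⊕ Fin m) (Fin m ⊕ Fin m) F) *ᵥ
        ((h : Matrix (Fin m ⊕ Fin m) (Fin m ⊕ Fin m) F) *ᵥ v.1 i)
    rw [mulVec_mulVec]
    rfl

/-- **K-SpInv-2**. -/
theorem card_pwStab_mul [Fintype F] {m s : ℕ} (W : Submodule F (Fin m ⊕ Fin m → F))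
    (hW : ∀ x ∈ W, ∀ y ∈ W, Cfsg.sympForm m F x y = 0) (hs : Module.finrank F W = s) :
    Nat.card (PwStab W) * Nat.card (IsoFrame m s F) =
      Nat.card (Matrix.symplecticGroup (Fin m) F) := by
  classical
  let _ : MulAction (Matrix.symplecticGroup (Fin m) F) (IsoFrame m s F) := frameAction m s
  have hsmul : ∀ (g : Matrix.symplecticGroup (Fin m) F) (v : IsoFrame m s F) (i : Fin s),
      (g • v).1 i = (g : Matrix (Fin m ⊕ Fin m) (Fin m ⊕ Fin m) F) *ᵥ v.1 i := fun _ _ _ => rfl
  -- the base frame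
  set b := Module.finBasisOfFinrankEq F W hs with hb
  have hli : LinearIndependent F (fun i => ((b i : W) : Fin m ⊕ Fin m → F)) :=
    b.linearIndependent.map' W.subtype (Submodule.ker_subtype W)
  let v₀ : IsoFrame m s F := ⟨fun i => ((b i : W) : Fin m ⊕ Fin m → F), hli,
    fun i j => hW _ (b i).2 _ (b j).2⟩
  have hspan : Submodule.span F (Set.range fun i => ((b i : W) : Fin m ⊕ Fin m → F)) = W := by
    have h1 : (Set.range fun i => ((b i : W) : Fin m ⊕ Fin m → F)) = W.subtype '' Set.range b := by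
      rw [← Set.range_comp]; rfl
    rw [h1, ← Submodule.map_span, b.span_eq, Submodule.map_top, Submodule.range_subtype]
  -- transitivity
  have horb : ∀ v : IsoFrame m s F, v ∈ MulAction.orbit (Matrix.symplecticGroup (Fin m) F) v₀ := by
    intro v
    obtain ⟨A, hA⟩ := Cfsg.Agent.Lib.Helper18.exists_symp_map_frame (fun i => ((b i : W) : Fin m ⊕ Fin m → F))
      v.1 hli v.2.1 (fun i j => by rw [hW _ (b i).2 _ (b j).2, v.2.2 i j])
    refine ⟨A, ?_⟩
    apply Subtype.ext
    funext i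
    exact hA i
  have horbcard : Nat.card (MulAction.orbit (Matrix.symplecticGroup (Fin m) F) v₀) =
      Nat.card (IsoFrame m s F) := by
    apply Nat.card_congr
    exact (Equiv.subtypeUnivEquiv horb)
  -- the stabiliser
  have hstab : Nat.card (MulAction.stabilizer (Matrix.symplecticGroup (Fin m) F) v₀) =
      Nat.card (PwStab W) := by
    apply Nat.card_congr
    unfold PwStab
    refine Equiv.subtypeEquivRight fun g => ?_
    rw [MulAction.mem_stabilizer_iff]
    constructor
    · intro hg w hw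
      have h1 : ∀ i, (g : Matrix (Fin m ⊕ Fin m) (Fin m ⊕ Fin m) F) *ᵥ ((b i : W) : Fin m ⊕ Fin m → F) =
          ((b i : W) : Fin m ⊕ Fin m → F) := by
        intro i
        have h2 := congrArg (fun v : IsoFrame m s F => v.1 i) hg
        exact h2
      rw [← hspan] at hw
      induction hw using Submodule.span_induction with
      | mem x hx =>
        obtain ⟨i, rfl⟩ := hx
        exact h1 i
      | zero => rw [mulVec_zero]
      | add x y _ _ hx hy => rw [mulVec_add, hx, hy]
      | smul c x _ hx => rw [mulVec_smul, hx]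
    · intro hg
      apply Subtype.ext
      funext i
      exact hg _ (b i).2
  have key := Nat.card_congr (MulAction.orbitProdStabilizerEquivGroup (Matrix.symplecticGroup (Fin m) F) v₀)
  rw [Nat.card_prod, horbcard, hstab] at key
  rw [mul_comm]
  exact key

end Cfsg.Agent.Lib.Helper63.SpInv
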