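import Mathlib
import Cfsg.Agent.Lib.Helper49.OInvDefs
import Cfsg.Agent.Lib.Helper43.Dickson
import Cfsg.Agent.Lib.Helper43.OrthModels
import Cfsg.Agent.Lib.Helper43.OmegaSimple2
import Cfsg.Agent.Lib.Helper08.QuadCount

/-!
# K-OInv-1a (keystone 268301, architect helper49): the number of singular `s`-frames of the hyperbolic
quadratic space `F^(2m)`.
-/

set_option autoImplicit false
set_option linter.unusedSectionVars false

namespace Cfsg.Agent.Lib.Helper63.OInv

open Matrix Cfsg.Agent.Lib.Helper49.SpInv Cfsg.Agent.Lib.Helper49.OInv Cfsg.Agent.Lib.Helper43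

section General

variable {F : Type*} [Field F] {V : Type*} [AddCommGroup V] [Module F V]

/-- The span of pairwise orthogonal vectors is totally isotropic for the polar form. -/
theorem polar_span_zero (Q : QuadraticForm F V) {s : ℕ} (v : Fin s → V)
    (h : ∀ i j, QuadraticMap.polar Q (v i) (v j) = 0) :
    ∀ x ∈ Submodule.span F (Set.range v), ∀ y ∈ Submodule.span F (Set.range v),
      QuadraticMap.polar Q x y = 0 := by
  have h1 : ∀ i, ∀ y ∈ Submodule.span F (Set.range v), QuadraticMap.polarBilin Q (v i) y = 0 := by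
    intro i y hy
    have hle : Submodule.span F (Set.range v) ≤ LinearMap.ker (QuadraticMap.polarBilin Q (v i)) := by
      rw [Submodule.span_le]
      rintro _ ⟨j, rfl⟩
      exact h i j
    exact hle hy
  intro x hx y hy
  have hle : Submodule.span F (Set.range v) ≤ LinearMap.ker ((QuadraticMap.polarBilin Q).flip y) := by
    rw [Submodule.span_le]
    rintro _ ⟨i, rfl⟩
    exact h1 i y hy
  exact hle hx

/-- The span of pairwise orthogonal singular vectors is totally singular. -/
theorem Q_span_zero (Q : QuadraticForm F V) {s : ℕ} (v : Fin s → V) (hQ : ∀ i, Q (v i) = 0)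
    (h : ∀ i j, QuadraticMap.polar Q (v i) (v j) = 0) :
    ∀ x ∈ Submodule.span F (Set.range v), Q x = 0 := by
  intro x hx
  induction hx using Submodule.span_induction with
  | mem x hx =>
    obtain ⟨i, rfl⟩ := hx
    exact hQ i
  | zero => exact QuadraticMap.map_zero Q
  | add x y hx hy hx0 hy0 =>
    have h1 := QuadraticMap.map_add Q x y
    rw [h1, hx0, hy0, polar_span_zero Q v h x hx y hy]
    simp
  | smul a x _ hx0 =>
    rw [QuadraticMap.map_smul, hx0, smul_zero]

end General

section Fibre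

variable {F : Type*} [Field F] [Fintype F] {ι : Type} [Fintype ι] [DecidableEq ι]

omit [Fintype F] in
/-- Witt: the isometry group is transitive on singular frames. -/
theorem exists_isometry_frame (Q : QuadraticForm F (ι → F))
    (hQ : (QuadraticMap.polarBilin Q).Nondegenerate) {s : ℕ} (u v : Fin s → (ι → F))
    (hu : LinearIndependent F u) (hv : LinearIndependent F v)
    (hQu : ∀ i, Q (u i) = 0) (hQv : ∀ i, Q (v i) = 0)
    (hpu : ∀ i j, QuadraticMap.polar Q (u i) (u j) = 0)
    (hpv : ∀ i j, QuadraticMap.polar Q (v i) (v j) = 0) :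
    ∃ g : ↥(Cfsg.isometryGroup F ⇑Q), ∀ i, linOf Q g (u i) = v i := by
  set b := Module.Basis.span hu with hb
  obtain ⟨f, hf⟩ := LinearMap.exists_extend (b.constr F v : _ →ₗ[F] (ι → F))
  have hbi : ∀ i, ((b i : Submodule.span F (Set.range u)) : ι → F) = u i :=
    fun i => congrArg Subtype.val (Module.Basis.span_apply hu i)
  have hfu : ∀ i, f (u i) = v i := by
    intro i
    have h1 := congrArg (fun φ => φ (b i)) hf
    simp only [LinearMap.comp_apply, Submodule.subtype_apply, Module.Basis.constr_basis] at h1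
    rw [hbi] at h1
    exact h1
  have hfsum : ∀ c : Fin s → F, f (∑ i, c i • u i) = ∑ i, c i • v i := by
    intro c
    rw [map_sum]
    exact Finset.sum_congr rfl fun i _ => by rw [map_smul, hfu]
  have hmem : ∀ x ∈ Submodule.span F (Set.range u), ∃ c : Fin s → F, x = ∑ i, c i • u i := by
    intro x hx
    obtain ⟨c, hc⟩ := (Submodule.mem_span_range_iff_exists_fun F).1 hx
    exact ⟨c, hc.symm⟩
  obtain ⟨g, hg⟩ := witt_O Q hQ (Submodule.span F (Set.range u)) f
    (by
      intro x hx
      obtain ⟨c, rfl⟩ := hmem x hx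
      rw [hfsum, Q_span_zero Q u hQu hpu _ hx]
      apply Q_span_zero Q v hQv hpv
      exact Submodule.sum_mem _ fun i _ => Submodule.smul_mem _ _
        (Submodule.subset_span (Set.mem_range_self i)))
    (by
      intro x hx h0
      obtain ⟨c, rfl⟩ := hmem x hx
      rw [hfsum] at h0
      have hc := Fintype.linearIndependent_iff.1 hv c h0
      apply Finset.sum_eq_zero
      intro i _
      rw [hc i, zero_smul])
  refine ⟨g, fun i => ?_⟩
  rw [hg _ (Submodule.subset_span (Set.mem_range_self i)), hfu]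

/-- The fibre of the restriction map over a frame `v`. -/
def Fib (Q : QuadraticForm F (ι → F)) {s : ℕ} (v : Fin s → (ι → F)) : Type _ :=
  {w : ι → F // Q w = 0 ∧ (∀ i, QuadraticMap.polar Q (v i) w = 0) ∧
    w ∉ Submodule.span F (Set.range v)}

instance (Q : QuadraticForm F (ι → F)) {s : ℕ} (v : Fin s → (ι → F)) : Finite (Fib Q v) := by
  unfold Fib; infer_instance

omit [Fintype F] in
theorem linOf_polar (Q : QuadraticForm F (ι → F)) (g : ↥(Cfsg.isometryGroup F ⇑Q)) (x y : ι → F) :
    QuadraticMap.polar Q (linOf Q g x) (linOf Q g y) = QuadraticMap.polar Q x y := by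
  unfold QuadraticMap.polar
  rw [← map_add, linOf_isometry, linOf_isometry, linOf_isometry]

theorem card_fib_le (Q : QuadraticForm F (ι → F)) {s : ℕ} (u v : Fin s → (ι → F))
    (g : ↥(Cfsg.isometryGroup F ⇑Q)) (hg : ∀ i, linOf Q g (u i) = v i) :
    Nat.card (Fib Q u) ≤ Nat.card (Fib Q v) := by
  have hinj : Function.Injective (linOf Q g) := by
    intro x y hxy
    rw [← linOf_inv_apply Q g x, ← linOf_inv_apply Q g y, hxy]
  have hspan : Submodule.span F (Set.range v) =
      (Submodule.span F (Set.range u)).map (linOf Q g) := by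
    rw [Submodule.map_span, ← Set.range_comp]
    congr 2
    funext i
    exact (hg i).symm
  have hmap : ∀ w : Fib Q u, Q (linOf Q g w.1) = 0 ∧
      (∀ i, QuadraticMap.polar Q (v i) (linOf Q g w.1) = 0) ∧
      linOf Q g w.1 ∉ Submodule.span F (Set.range v) := by
    intro w
    refine ⟨?_, ?_, ?_⟩
    · rw [linOf_isometry]; exact w.2.1
    · intro i
      rw [← hg i, linOf_polar]; exact w.2.2.1 i
    · intro hmem
      rw [hspan] at hmem
      obtain ⟨x, hx, hxw⟩ := hmem
      rw [hinj hxw] at hx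
      exact w.2.2.2 hx
  refine Nat.card_le_card_of_injective
    (fun w : Fib Q u => (⟨linOf Q g w.1, hmap w⟩ : Fib Q v)) ?_
  intro w w' h
  apply Subtype.ext
  exact hinj (congrArg Subtype.val h)

end Fibre


section Standard

variable {F : Type*} [Field F] [Fintype F]

theorem polar_plus_eq (m : ℕ) (x y : Fin m ⊕ Fin m → F) :
    QuadraticMap.polar (Cfsg.quadFormPlus m F) x y =
      ∑ k : Fin m, (x (Sum.inl k) * y (Sum.inr k) + y (Sum.inl k) * x (Sum.inr k)) := by
  simp only [QuadraticMap.polar, Cfsg.quadFormPlus, Pi.add_apply, ← Finset.sum_sub_distrib]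
  refine Finset.sum_congr rfl fun i _ => ?_
  ring

/-- the standard singular frame `e_i = Pi.single (inl i) 1`, `i < s`, in dimension `2 (s + d)`. -/
def stdFrame (s d : ℕ) : Fin s → (Fin (s + d) ⊕ Fin (s + d) → F) :=
  fun i => Pi.single (Sum.inl (Fin.castAdd d i)) 1

theorem stdFrame_li (s d : ℕ) : LinearIndependent F (stdFrame (F := F) s d) := by
  have h := Pi.linearIndependent_single_one (Fin (s + d) ⊕ Fin (s + d)) F
  exact h.comp (fun i : Fin s => (Sum.inl (Fin.castAdd d i) : Fin (s + d) ⊕ Fin (s + d)))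
    (fun i j hij => Fin.castAdd_injective s d (Sum.inl_injective hij))

theorem stdFrame_Q (s d : ℕ) (i : Fin s) : Cfsg.quadFormPlus (s + d) F (stdFrame s d i) = 0 := by
  unfold Cfsg.quadFormPlus stdFrame
  apply Finset.sum_eq_zero
  intro k _
  simp

theorem stdFrame_polar (s d : ℕ) (i : Fin s) (w : Fin (s + d) ⊕ Fin (s + d) → F) :
    QuadraticMap.polar (Cfsg.quadFormPlus (s + d) F) (stdFrame s d i) w =
      w (Sum.inr (Fin.castAdd d i)) := by
  rw [polar_plus_eq]
  unfold stdFrame
  simp [Pi.single_apply]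

/-- vectors orthogonal to the standard frame. -/
def VS (F : Type*) [Field F] (s d : ℕ) : Type _ :=
  {w : Fin (s + d) ⊕ Fin (s + d) → F // ∀ i : Fin s, w (Sum.inr (Fin.castAdd d i)) = 0}

/-- coordinates on `VS`. -/
def vsEquiv (s d : ℕ) : VS F s d ≃ (Fin d → F) × (Fin d → F) × (Fin s → F) where
  toFun w := (fun j => w.1 (Sum.inl (Fin.natAdd s j)), fun j => w.1 (Sum.inr (Fin.natAdd s j)),
    fun i => w.1 (Sum.inl (Fin.castAdd d i)))
  invFun p := ⟨Sum.elim (fun k => Fin.addCases (motive := fun _ => F) p.2.2 p.1 k)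
    (fun k => Fin.addCases (motive := fun _ => F) (fun _ => 0) p.2.1 k), fun i => by simp⟩
  left_inv w := by
    apply Subtype.ext
    funext k
    rcases k with k | k
    · refine Fin.addCases (fun i => ?_) (fun j => ?_) k <;> simp
    · refine Fin.addCases (fun i => ?_) (fun j => ?_) k
      · simp [w.2 i]
      · simp
  right_inv p := by
    obtain ⟨x, y, a⟩ := p
    simp

theorem vs_Q (s d : ℕ) (w : VS F s d) :
    Cfsg.quadFormPlus (s + d) F w.1 =
      ∑ j, (vsEquiv s d w).1 j * (vsEquiv s d w).2.1 j + (fun _ : Fin s → F => (0 : F)) (vsEquiv s d w).2.2 := by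
  unfold Cfsg.quadFormPlus
  rw [Fin.sum_univ_add]
  have h1 : ∑ i : Fin s, w.1 (Sum.inl (Fin.castAdd d i)) * w.1 (Sum.inr (Fin.castAdd d i)) = 0 := by
    apply Finset.sum_eq_zero
    intro i _
    rw [w.2 i, mul_zero]
  rw [h1, zero_add, add_zero]
  rfl

end Standard


section Count

variable {F : Type*} [Field F] [Fintype F]

/-- the number of singular vectors orthogonal to the standard frame. -/
theorem card_vs_zeros {q : ℕ} (hF : Fintype.card F = q) (s d : ℕ) :
    Nat.card {w : VS F s d // Cfsg.quadFormPlus (s + d) F w.1 = 0} =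
      q ^ d * q ^ s + (q ^ d - 1) * (q ^ (d - 1) * q ^ s) := by
  classical
  have h := Cfsg.Agent.Lib.Helper08.natCard_zeros_of_equiv (F := F) (ι := Fin d)
    (A := Fin s → F) (V := VS F s d) (fun w => Cfsg.quadFormPlus (s + d) F w.1) (fun _ => 0)
    (vsEquiv s d) (vs_Q s d)
  rw [h]
  have h1 : Nat.card {a : Fin s → F // (0 : F) = 0} = q ^ s := by
    rw [Nat.card_congr (Equiv.subtypeUnivEquiv (fun _ => rfl)), Nat.card_eq_fintype_card,
      Fintype.card_fun, Fintype.card_fin, hF]
  rw [h1, Fintype.card_fin, Fintype.card_fun, Fintype.card_fin, hF]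

/-- the fibre over the standard frame. -/
theorem card_fib_std {q : ℕ} (hF : Fintype.card F = q) (s d : ℕ) :
    Nat.card (Fib (qfPlus (s + d) F) (stdFrame (F := F) s d)) =
      q ^ s * ((q ^ d - 1) * (q ^ (d - 1) + 1)) := by
  classical
  set S := Submodule.span F (Set.range (stdFrame (F := F) s d)) with hS
  set K : Set (Fin (s + d) ⊕ Fin (s + d) → F) :=
    {w | Cfsg.quadFormPlus (s + d) F w = 0 ∧ ∀ i : Fin s, w (Sum.inr (Fin.castAdd d i)) = 0} with hK
  have hpol : ∀ i j, QuadraticMap.polar (qfPlus (s + d) F) (stdFrame (F := F) s d i)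
      (stdFrame s d j) = 0 := by
    intro i j
    show QuadraticMap.polar (Cfsg.quadFormPlus (s + d) F) _ _ = 0
    rw [stdFrame_polar]
    unfold stdFrame
    simp
  have hSK : (S : Set (Fin (s + d) ⊕ Fin (s + d) → F)) ⊆ K := by
    intro w hw
    refine ⟨?_, fun i => ?_⟩
    · exact Q_span_zero (qfPlus (s + d) F) (stdFrame s d) (fun i => stdFrame_Q s d i) hpol w hw
    · rw [← stdFrame_polar s d i w]
      exact polar_span_zero (qfPlus (s + d) F) (stdFrame s d) hpol _
        (Submodule.subset_span (Set.mem_range_self i)) w hw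
  have hcS : Nat.card S = q ^ s := by
    rw [Module.natCard_eq_pow_finrank (K := F), Nat.card_eq_fintype_card, hF, hS,
      finrank_span_eq_card (stdFrame_li s d), Fintype.card_fin]
  have hcK : Nat.card K = q ^ d * q ^ s + (q ^ d - 1) * (q ^ (d - 1) * q ^ s) := by
    rw [← card_vs_zeros hF s d]
    apply Nat.card_congr
    refine (Equiv.subtypeEquivRight (fun w => ?_)).trans
      (Equiv.subtypeSubtypeEquivSubtypeInter
        (fun w : Fin (s + d) ⊕ Fin (s + d) → F => ∀ i : Fin s, w (Sum.inr (Fin.castAdd d i)) = 0)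
        (fun w => Cfsg.quadFormPlus (s + d) F w = 0)).symm
    rw [hK, Set.mem_ofPred_eq]
    exact and_comm
  have e : Fib (qfPlus (s + d) F) (stdFrame (F := F) s d) ≃
      ↥(K \ (S : Set (Fin (s + d) ⊕ Fin (s + d) → F))) :=
    Equiv.subtypeEquivRight (fun w => by
      rw [Set.mem_sdiff, hK, Set.mem_ofPred_eq, SetLike.mem_coe, and_assoc]
      refine and_congr Iff.rfl (and_congr ?_ Iff.rfl)
      refine forall_congr' fun i => ?_
      rw [← stdFrame_polar s d i w]
      rfl)
  rw [Nat.card_congr e, Nat.card_coe_set_eq, Set.ncard_sdiff hSK (Set.toFinite _),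
    ← Nat.card_coe_set_eq, ← Nat.card_coe_set_eq]
  show Nat.card K - Nat.card S = _
  rw [hcK, hcS]
  have h1 : 1 ≤ q ^ d := Nat.one_le_pow _ _ (by rw [← hF]; exact Fintype.card_pos)
  obtain ⟨a, ha⟩ : ∃ a, q ^ d = a + 1 := ⟨q ^ d - 1, by omega⟩
  rw [ha, Nat.add_sub_cancel]
  have h2 : (a + 1) * q ^ s + a * (q ^ (d - 1) * q ^ s) - q ^ s =
      a * q ^ s + a * (q ^ (d - 1) * q ^ s) := by
    have : (a + 1) * q ^ s = a * q ^ s + q ^ s := by ring
    omega
  rw [h2]
  ring

end Count


section Main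

variable {F : Type*} [Field F] [Fintype F]

instance instFiniteQFrame (m : ℕ) {n : ℕ} (c : Fin n → F) : Finite (QFrame m F c) := by
  unfold QFrame; infer_instance

/-- all fibres have the size of the fibre over the standard frame. -/
theorem card_fib_eq {q : ℕ} (hF : Fintype.card F = q) (s d : ℕ)
    (v : QFrame (s + d) F (0 : Fin s → F)) :
    Nat.card (Fib (qfPlus (s + d) F) v.1) = q ^ s * ((q ^ d - 1) * (q ^ (d - 1) + 1)) := by
  rw [← card_fib_std hF s d]
  have hnd := qfPlus_nondegenerate (s + d) F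
  have hQv : ∀ i, qfPlus (s + d) F (v.1 i) = 0 := fun i => v.2.2.1 i
  have hpv : ∀ i j, QuadraticMap.polar (qfPlus (s + d) F) (v.1 i) (v.1 j) = 0 := v.2.2.2
  have hQe : ∀ i, qfPlus (s + d) F (stdFrame (F := F) s d i) = 0 := fun i => stdFrame_Q s d i
  have hpe : ∀ i j, QuadraticMap.polar (qfPlus (s + d) F) (stdFrame (F := F) s d i)
      (stdFrame s d j) = 0 := by
    intro i j
    show QuadraticMap.polar (Cfsg.quadFormPlus (s + d) F) _ _ = 0
    rw [stdFrame_polar]
    unfold stdFrame
    simp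
  obtain ⟨g, hg⟩ := exists_isometry_frame (qfPlus (s + d) F) hnd v.1 (stdFrame s d) v.2.1
    (stdFrame_li s d) hQv hQe hpv hpe
  obtain ⟨g', hg'⟩ := exists_isometry_frame (qfPlus (s + d) F) hnd (stdFrame s d) v.1
    (stdFrame_li s d) v.2.1 hQe hQv hpe hpv
  exact le_antisymm (card_fib_le _ _ _ g hg) (card_fib_le _ _ _ g' hg')

theorem init_li' {s : ℕ} {V : Type*} [AddCommGroup V] [Module F V] (u : Fin (s + 1) → V)
    (hu : LinearIndependent F u) :
    LinearIndependent F (Fin.init u : Fin s → V) ∧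
      u (Fin.last s) ∉ Submodule.span F (Set.range (Fin.init u : Fin s → V)) := by
  have := linearIndependent_finSnoc (K := F) (v := (Fin.init u : Fin s → V))
    (x := u (Fin.last s))
  rw [Fin.snoc_init_self] at this
  exact this.mp hu

theorem polar_self_of_Q_zero (m : ℕ) (w : Fin m ⊕ Fin m → F) (hw : Cfsg.quadFormPlus m F w = 0) :
    QuadraticMap.polar (Cfsg.quadFormPlus m F) w w = 0 := by
  rw [polar_plus_eq]
  unfold Cfsg.quadFormPlus at hw
  have : ∑ k : Fin m, (w (Sum.inl k) * w (Sum.inr k) + w (Sum.inl k) * w (Sum.inr k)) =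
      ∑ k : Fin m, w (Sum.inl k) * w (Sum.inr k) + ∑ k : Fin m, w (Sum.inl k) * w (Sum.inr k) :=
    Finset.sum_add_distrib
  rw [this, hw, add_zero]

theorem polar_comm' (m : ℕ) (x y : Fin m ⊕ Fin m → F) :
    QuadraticMap.polar (Cfsg.quadFormPlus m F) x y =
      QuadraticMap.polar (Cfsg.quadFormPlus m F) y x :=
  QuadraticMap.polar_comm _ x y

theorem snoc_frame {m s : ℕ} (v : Fin s → (Fin m ⊕ Fin m → F)) (w : Fin m ⊕ Fin m → F)
    (hQv : ∀ i, Cfsg.quadFormPlus m F (v i) = (0 : Fin s → F) i)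
    (hv : ∀ i j, QuadraticMap.polar (Cfsg.quadFormPlus m F) (v i) (v j) = 0)
    (hQw : Cfsg.quadFormPlus m F w = 0)
    (hw : ∀ i, QuadraticMap.polar (Cfsg.quadFormPlus m F) (v i) w = 0) :
    (∀ i, Cfsg.quadFormPlus m F ((Fin.snoc v w : Fin (s + 1) → (Fin m ⊕ Fin m → F)) i) =
      (0 : Fin (s + 1) → F) i) ∧
    ∀ i j, QuadraticMap.polar (Cfsg.quadFormPlus m F)
      ((Fin.snoc v w : Fin (s + 1) → (Fin m ⊕ Fin m → F)) i)
      ((Fin.snoc v w : Fin (s + 1) → (Fin m ⊕ Fin m → F)) j) = 0 := by
  refine ⟨fun i => ?_, fun i j => ?_⟩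
  · induction i using Fin.lastCases with
    | last => rw [Fin.snoc_last]; exact hQw
    | cast i => rw [Fin.snoc_castSucc]; exact hQv i
  · induction i using Fin.lastCases with
    | last =>
      induction j using Fin.lastCases with
      | last => rw [Fin.snoc_last]; exact polar_self_of_Q_zero m w hQw
      | cast j => rw [Fin.snoc_last, Fin.snoc_castSucc, polar_comm']; exact hw j
    | cast i =>
      induction j using Fin.lastCases with
      | last => rw [Fin.snoc_last, Fin.snoc_castSucc]; exact hw i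
      | cast j => rw [Fin.snoc_castSucc, Fin.snoc_castSucc]; exact hv i j

/-- splitting off the last vector of a singular frame. -/
noncomputable def succEquivQ (m s : ℕ) : QFrame m F (0 : Fin (s + 1) → F) ≃
    {x : QFrame m F (0 : Fin s → F) × (Fin m ⊕ Fin m → F) //
      Cfsg.quadFormPlus m F x.2 = 0 ∧
      (∀ i, QuadraticMap.polar (Cfsg.quadFormPlus m F) (x.1.1 i) x.2 = 0) ∧
        x.2 ∉ Submodule.span F (Set.range x.1.1)} where
  toFun u := ⟨((Subtype.mk (Fin.init u.1 : Fin s → (Fin m ⊕ Fin m → F))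
      ⟨(init_li' u.1 u.2.1).1, fun i => u.2.2.1 i.castSucc,
        fun i j => u.2.2.2 i.castSucc j.castSucc⟩ : QFrame m F (0 : Fin s → F)),
      u.1 (Fin.last s)),
    u.2.2.1 (Fin.last s), fun i => u.2.2.2 i.castSucc (Fin.last s), (init_li' u.1 u.2.1).2⟩
  invFun x := (Subtype.mk (Fin.snoc x.1.1.1 x.1.2 : Fin (s + 1) → (Fin m ⊕ Fin m → F))
      ⟨linearIndependent_finSnoc.mpr ⟨x.1.1.2.1, x.2.2.2⟩,
        snoc_frame x.1.1.1 x.1.2 x.1.1.2.2.1 x.1.1.2.2.2 x.2.1 x.2.2.1⟩ :
        QFrame m F (0 : Fin (s + 1) → F))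
  left_inv u := Subtype.ext (Fin.snoc_init_self u.1)
  right_inv x := by
    apply Subtype.ext
    apply Prod.ext
    · apply Subtype.ext
      exact Fin.init_snoc (α := fun _ => Fin m ⊕ Fin m → F) x.1.2 x.1.1.1
    · exact Fin.snoc_last (α := fun _ => Fin m ⊕ Fin m → F) x.1.2 x.1.1.1

theorem card_sFrame_aux {q : ℕ} (hF : Fintype.card F = q) (s : ℕ) :
    ∀ m : ℕ, s ≤ m → Nat.card (QFrame m F (0 : Fin s → F)) = sFrameCount q m s := by
  induction s with
  | zero =>
    intro m _
    unfold sFrameCount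
    simp only [Finset.range_zero, Finset.prod_empty]
    have : Unique (QFrame m F (0 : Fin 0 → F)) :=
      ⟨⟨(Subtype.mk (fun i => i.elim0) ⟨linearIndependent_empty_type, fun i => i.elim0,
        fun i => i.elim0⟩ : QFrame m F (0 : Fin 0 → F))⟩,
        fun a => Subtype.ext (funext fun i => i.elim0)⟩
    exact Nat.card_unique
  | succ s ih =>
    intro m hm
    have ih' := ih m (by omega)
    obtain ⟨d, rfl⟩ : ∃ d, m = s + d := ⟨m - s, by omega⟩
    have hcount : sFrameCount q (s + d) (s + 1) =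
        sFrameCount q (s + d) s * (q ^ s * ((q ^ d - 1) * (q ^ (d - 1) + 1))) := by
      unfold sFrameCount
      rw [Finset.prod_range_succ]
      have h1 : s + d - s = d := by omega
      rw [h1]
    rw [hcount, ← ih']
    have := Fintype.ofFinite (QFrame (s + d) F (0 : Fin s → F))
    rw [Nat.card_congr (succEquivQ (s + d) s),
      Nat.card_congr (Equiv.subtypeProdEquivSigmaSubtype
        (fun (a : QFrame (s + d) F (0 : Fin s → F)) (b : Fin (s + d) ⊕ Fin (s + d) → F) =>
          Cfsg.quadFormPlus (s + d) F b = 0 ∧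
          (∀ i, QuadraticMap.polar (Cfsg.quadFormPlus (s + d) F) (a.1 i) b = 0) ∧
            b ∉ Submodule.span F (Set.range a.1))),
      Nat.card_sigma]
    have hfib : ∀ a : QFrame (s + d) F (0 : Fin s → F),
        Nat.card {b : Fin (s + d) ⊕ Fin (s + d) → F // Cfsg.quadFormPlus (s + d) F b = 0 ∧
          (∀ i, QuadraticMap.polar (Cfsg.quadFormPlus (s + d) F) (a.1 i) b = 0) ∧
            b ∉ Submodule.span F (Set.range a.1)} = q ^ s * ((q ^ d - 1) * (q ^ (d - 1) + 1)) :=
      fun a => card_fib_eq hF s d a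
    rw [Finset.sum_congr rfl (fun a _ => hfib a)]
    rw [Finset.sum_const, Finset.card_univ, smul_eq_mul, Nat.card_eq_fintype_card]

/-- **K-OInv-1a**. -/
theorem card_sFrame [CharP F 2] {q : ℕ} (hF : Fintype.card F = q) (m s : ℕ) (hs : s ≤ m) :
    Nat.card (QFrame m F (0 : Fin s → F)) = sFrameCount q m s :=
  card_sFrame_aux hF s m hs

end Main

end Cfsg.Agent.Lib.Helper63.OInv
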