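import Mathlib
import Cfsg.Agent.Lib.Helper49.RSU3Defs

set_option autoImplicit false
set_option linter.unusedSectionVars false
set_option linter.unusedVariables false

/-!
# K-RSU3 leaf L07 (keystone 228307, S2283): `xM q 1 b` is regular unipotent
-/

namespace Cfsg.Agent.Lib.Helper63.RSU3

open Matrix Cfsg.Agent.Lib.Helper49.StSU Cfsg.Agent.Lib.Helper49.RSU3

variable {F : Type*} [Field F] [Fintype F] {q : ℕ}

/-- L07 -/
theorem regular_x (b : F) : (xM q 1 b - 1) ^ 3 = 0 ∧ (xM q 1 b - 1) ^ 2 ≠ 0 := by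
  have hM : xM q (1 : F) b - 1 = !![0, 1, b; 0, 0, -1; 0, 0, 0] := by
    unfold xM
    ext i j
    fin_cases i <;> fin_cases j <;> simp
  have h2 : (!![0, 1, b; 0, 0, -1; 0, 0, 0] : Matrix (Fin 3) (Fin 3) F) ^ 2 =
      !![0, 0, -1; 0, 0, 0; 0, 0, 0] := by
    rw [pow_two]
    ext i j
    fin_cases i <;> fin_cases j <;> simp [Matrix.mul_apply, Fin.sum_univ_three]
  have h3 : (!![0, 1, b; 0, 0, -1; 0, 0, 0] : Matrix (Fin 3) (Fin 3) F) ^ 3 = 0 := by
    rw [pow_succ, h2]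
    ext i j
    fin_cases i <;> fin_cases j <;> simp [Matrix.mul_apply, Fin.sum_univ_three]
  rw [hM]
  refine ⟨h3, ?_⟩
  rw [h2]
  intro h
  have := congrFun (congrFun h 0) 2
  simp at this

end Cfsg.Agent.Lib.Helper63.RSU3
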