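import Cfsg.Agent.Lib.Helper49.StSpDefs

/-!
# K-StSp-M1 (keystone 254508, S2545, architect helper49): the elements of `N = ⟨S⟩ T` are monomial
-/

set_option autoImplicit false
set_option linter.unusedSectionVars false
set_option linter.unusedVariables false

namespace Cfsg.Agent.Lib.Helper63.StSp

open Cfsg Cfsg.Agent.Lib.Helper49.StSp

variable {m : ℕ} {F : Type*} [Field F]

theorem monWith_one : MonWith m F (1 : SpG m F) 1 := by
  refine ⟨fun a b => ?_, fun a => rfl⟩
  show (1 : Matrix (Fin m ⊕ Fin m) (Fin m ⊕ Fin m) F) a b ≠ 0 ↔ a = b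
  rw [Matrix.one_apply]
  split_ifs with h
  · exact ⟨fun _ => h, fun _ => one_ne_zero⟩
  · exact ⟨fun h0 => absurd rfl h0, fun h1 => absurd h1 h⟩

theorem monWith_mul {n n' : SpG m F} {σ σ' : Equiv.Perm (Fin m ⊕ Fin m)}
    (h : MonWith m F n σ) (h' : MonWith m F n' σ') : MonWith m F (n * n') (σ * σ') := by
  refine ⟨fun a b => ?_, fun a => ?_⟩
  · show ((n.1 : Matrix (Fin m ⊕ Fin m) (Fin m ⊕ Fin m) F) * n'.1) a b ≠ 0 ↔ a = σ (σ' b)
    rw [Matrix.mul_apply]
    have e1 : ∑ c, (n.1 : Matrix (Fin m ⊕ Fin m) (Fin m ⊕ Fin m) F) a c *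
        (n'.1 : Matrix (Fin m ⊕ Fin m) (Fin m ⊕ Fin m) F) c b =
        (n.1 : Matrix (Fin m ⊕ Fin m) (Fin m ⊕ Fin m) F) a (σ' b) *
          (n'.1 : Matrix (Fin m ⊕ Fin m) (Fin m ⊕ Fin m) F) (σ' b) b := by
      refine Finset.sum_eq_single (σ' b) (fun c _ hc => ?_) (fun hb => absurd (Finset.mem_univ _) hb)
      have h0 : (n'.1 : Matrix (Fin m ⊕ Fin m) (Fin m ⊕ Fin m) F) c b = 0 := by
        by_contra h0
        exact hc ((h'.1 c b).1 h0)
      rw [h0, mul_zero]
    rw [e1]
    have h1 : (n'.1 : Matrix (Fin m ⊕ Fin m) (Fin m ⊕ Fin m) F) (σ' b) b ≠ 0 := (h'.1 _ _).2 rfl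
    rw [← h.1 a (σ' b)]
    constructor
    · intro h2 h3
      exact h2 (by rw [h3, zero_mul])
    · intro h2
      exact mul_ne_zero h2 h1
  · show σ (σ' a.swap) = (σ (σ' a)).swap
    rw [h'.2, h.2]

theorem monWith_inv {n : SpG m F} {σ : Equiv.Perm (Fin m ⊕ Fin m)}
    (h : MonWith m F n σ) : MonWith m F n⁻¹ σ⁻¹ := by
  have key : ((n⁻¹ : SpG m F).1 : Matrix (Fin m ⊕ Fin m) (Fin m ⊕ Fin m) F) * n.1 = 1 := by
    have h1 : n⁻¹ * n = 1 := inv_mul_cancel n
    exact congrArg Subtype.val h1
  have ent : ∀ a b, ((n⁻¹ : SpG m F).1 : Matrix (Fin m ⊕ Fin m) (Fin m ⊕ Fin m) F) a (σ b) *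
      (n.1 : Matrix (Fin m ⊕ Fin m) (Fin m ⊕ Fin m) F) (σ b) b =
      (1 : Matrix (Fin m ⊕ Fin m) (Fin m ⊕ Fin m) F) a b := by
    intro a b
    have hc := congrFun (congrFun key a) b
    rw [Matrix.mul_apply] at hc
    rw [← hc]
    symm
    refine Finset.sum_eq_single (σ b) (fun c _ hc' => ?_) (fun hb => absurd (Finset.mem_univ _) hb)
    have h0 : (n.1 : Matrix (Fin m ⊕ Fin m) (Fin m ⊕ Fin m) F) c b = 0 := by
      by_contra h0
      exact hc' ((h.1 c b).1 h0)
    rw [h0, mul_zero]
  refine ⟨fun a c => ?_, fun a => ?_⟩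
  · -- write `c = σ b`
    obtain ⟨b, rfl⟩ := σ.surjective c
    have h1 : (n.1 : Matrix (Fin m ⊕ Fin m) (Fin m ⊕ Fin m) F) (σ b) b ≠ 0 := (h.1 _ _).2 rfl
    have h2 := ent a b
    rw [Matrix.one_apply] at h2
    rw [Equiv.Perm.coe_inv, Equiv.symm_apply_apply]
    constructor
    · intro h3
      by_contra hab
      rw [if_neg hab] at h2
      rcases mul_eq_zero.1 h2 with h4 | h4
      · exact h3 h4
      · exact h1 h4
    · intro hab h3
      rw [if_pos hab, h3, zero_mul] at h2
      exact zero_ne_one h2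
  · apply σ.injective
    rw [h.2]
    simp only [Equiv.Perm.coe_inv, Equiv.apply_symm_apply]

/-- diagonal symplectic matrices are monomial -/
theorem monWith_of_mem_T {t : SpG m F} (ht : t ∈ Tsub m F) : MonWith m F t 1 := by
  rw [mem_Tsub_iff] at ht
  refine ⟨fun a b => ?_, fun a => rfl⟩
  show (t.1 : Matrix (Fin m ⊕ Fin m) (Fin m ⊕ Fin m) F) a b ≠ 0 ↔ a = b
  constructor
  · intro h
    by_contra hab
    exact h (ht a b hab)
  · rintro rfl h0
    have key : (t.1 : Matrix (Fin m ⊕ Fin m) (Fin m ⊕ Fin m) F) * (t⁻¹ : SpG m F).1 = 1 := by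
      have h1 : t * t⁻¹ = 1 := mul_inv_cancel t
      exact congrArg Subtype.val h1
    have hc := congrFun (congrFun key a) a
    rw [Matrix.mul_apply, Matrix.one_apply_eq] at hc
    have : ∑ c, (t.1 : Matrix (Fin m ⊕ Fin m) (Fin m ⊕ Fin m) F) a c *
        ((t⁻¹ : SpG m F).1 : Matrix (Fin m ⊕ Fin m) (Fin m ⊕ Fin m) F) c a = 0 := by
      refine Finset.sum_eq_zero fun c _ => ?_
      by_cases hca : a = c
      · subst hca
        rw [h0, zero_mul]
      · rw [ht a c hca, zero_mul]
    rw [this] at hc
    exact zero_ne_one hc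

theorem monWith_sShort (i j : Fin m) :
    MonWith m F (sShort m F i j) (Equiv.sumCongr (Equiv.swap i j) (Equiv.swap i j)) := by
  refine ⟨fun a b => ?_, fun a => ?_⟩
  · show sShortMat m F i j a b ≠ 0 ↔ _
    unfold sShortMat
    rcases a with a | a <;> rcases b with b | b
    · simp only [Matrix.fromBlocks_apply₁₁, Equiv.Perm.permMatrix, PEquiv.toMatrix_apply,
        Equiv.toPEquiv_apply, Option.mem_def, Option.some.injEq, Equiv.sumCongr_apply, Sum.map_inl,
        Sum.inl.injEq]
      split_ifs with h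
      · exact ⟨fun _ => by rw [← h, Equiv.swap_apply_self], fun _ => one_ne_zero⟩
      · exact ⟨fun h0 => absurd rfl h0, fun h1 => absurd (by rw [h1, Equiv.swap_apply_self]) h⟩
    · simp
    · simp
    · simp only [Matrix.fromBlocks_apply₂₂, Equiv.Perm.permMatrix, PEquiv.toMatrix_apply,
        Equiv.toPEquiv_apply, Option.mem_def, Option.some.injEq, Equiv.sumCongr_apply, Sum.map_inr,
        Sum.inr.injEq]
      split_ifs with h
      · exact ⟨fun _ => by rw [← h, Equiv.swap_apply_self], fun _ => one_ne_zero⟩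
      · exact ⟨fun h0 => absurd rfl h0, fun h1 => absurd (by rw [h1, Equiv.swap_apply_self]) h⟩
  · rcases a with a | a <;> simp

theorem monWith_cSign (k : Fin m) :
    MonWith m F (cSign m F k) (Equiv.swap (Sum.inl k) (Sum.inr k)) := by
  refine ⟨fun a b => ?_, fun a => ?_⟩
  · show cSignMat m F k a b ≠ 0 ↔ _
    unfold cSignMat
    rcases a with a | a <;> rcases b with b | b
    · simp only [Matrix.fromBlocks_apply₁₁, Matrix.diagonal_apply]
      by_cases hab : a = b
      · subst hab
        by_cases hak : a = k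
        · subst hak
          simp [Equiv.swap_apply_left]
        · have : Equiv.swap (Sum.inl k : Fin m ⊕ Fin m) (Sum.inr k) (Sum.inl a) = Sum.inl a :=
            Equiv.swap_apply_of_ne_of_ne (by simpa using hak) (by simp)
          simp [hak, this]
      · rw [if_neg hab]
        simp only [ne_eq, not_true_eq_false, false_iff]
        intro h
        by_cases hbk : b = k
        · subst hbk
          rw [Equiv.swap_apply_left] at h
          simp at h
        · have : Equiv.swap (Sum.inl k : Fin m ⊕ Fin m) (Sum.inr k) (Sum.inl b) = Sum.inl b :=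
            Equiv.swap_apply_of_ne_of_ne (by simpa using hbk) (by simp)
          rw [this] at h
          exact hab (Sum.inl.inj h)
    · simp only [Matrix.fromBlocks_apply₁₂, Matrix.neg_apply, Matrix.diagonal_apply]
      by_cases hab : a = b
      · subst hab
        by_cases hak : a = k
        · subst hak
          simp [Equiv.swap_apply_right]
        · have : Equiv.swap (Sum.inl k : Fin m ⊕ Fin m) (Sum.inr k) (Sum.inr a) = Sum.inr a :=
            Equiv.swap_apply_of_ne_of_ne (by simp) (by simpa using hak)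
          simp [hak, this]
      · rw [if_neg hab]
        simp only [neg_zero, ne_eq, not_true_eq_false, false_iff]
        intro h
        by_cases hbk : b = k
        · subst hbk
          rw [Equiv.swap_apply_right] at h
          exact hab (Sum.inl.inj h)
        · have : Equiv.swap (Sum.inl k : Fin m ⊕ Fin m) (Sum.inr k) (Sum.inr b) = Sum.inr b :=
            Equiv.swap_apply_of_ne_of_ne (by simp) (by simpa using hbk)
          rw [this] at h
          simp at h
    · simp only [Matrix.fromBlocks_apply₂₁, Matrix.diagonal_apply]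
      by_cases hab : a = b
      · subst hab
        by_cases hak : a = k
        · subst hak
          simp [Equiv.swap_apply_left]
        · have : Equiv.swap (Sum.inl k : Fin m ⊕ Fin m) (Sum.inr k) (Sum.inl a) = Sum.inl a :=
            Equiv.swap_apply_of_ne_of_ne (by simpa using hak) (by simp)
          simp [hak, this]
      · rw [if_neg hab]
        simp only [ne_eq, not_true_eq_false, false_iff]
        intro h
        by_cases hbk : b = k
        · subst hbk
          rw [Equiv.swap_apply_left] at h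
          exact hab (Sum.inr.inj h)
        · have : Equiv.swap (Sum.inl k : Fin m ⊕ Fin m) (Sum.inr k) (Sum.inl b) = Sum.inl b :=
            Equiv.swap_apply_of_ne_of_ne (by simpa using hbk) (by simp)
          rw [this] at h
          simp at h
    · simp only [Matrix.fromBlocks_apply₂₂, Matrix.diagonal_apply]
      by_cases hab : a = b
      · subst hab
        by_cases hak : a = k
        · subst hak
          simp [Equiv.swap_apply_right]
        · have : Equiv.swap (Sum.inl k : Fin m ⊕ Fin m) (Sum.inr k) (Sum.inr a) = Sum.inr a :=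
            Equiv.swap_apply_of_ne_of_ne (by simp) (by simpa using hak)
          simp [hak, this]
      · rw [if_neg hab]
        simp only [ne_eq, not_true_eq_false, false_iff]
        intro h
        by_cases hbk : b = k
        · subst hbk
          rw [Equiv.swap_apply_right] at h
          simp at h
        · have : Equiv.swap (Sum.inl k : Fin m ⊕ Fin m) (Sum.inr k) (Sum.inr b) = Sum.inr b :=
            Equiv.swap_apply_of_ne_of_ne (by simp) (by simpa using hbk)
          rw [this] at h
          exact hab (Sum.inr.inj h)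
  · rcases a with a | a
    · by_cases hak : a = k
      · subst hak
        simp [Equiv.swap_apply_left, Equiv.swap_apply_right]
      · have h1 : Equiv.swap (Sum.inl k : Fin m ⊕ Fin m) (Sum.inr k) (Sum.inl a) = Sum.inl a :=
          Equiv.swap_apply_of_ne_of_ne (by simpa using hak) (by simp)
        have h2 : Equiv.swap (Sum.inl k : Fin m ⊕ Fin m) (Sum.inr k) (Sum.inr a) = Sum.inr a :=
          Equiv.swap_apply_of_ne_of_ne (by simp) (by simpa using hak)
        simp [h1, h2]
    · by_cases hak : a = k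
      · subst hak
        simp [Equiv.swap_apply_left, Equiv.swap_apply_right]
      · have h1 : Equiv.swap (Sum.inl k : Fin m ⊕ Fin m) (Sum.inr k) (Sum.inl a) = Sum.inl a :=
          Equiv.swap_apply_of_ne_of_ne (by simpa using hak) (by simp)
        have h2 : Equiv.swap (Sum.inl k : Fin m ⊕ Fin m) (Sum.inr k) (Sum.inr a) = Sum.inr a :=
          Equiv.swap_apply_of_ne_of_ne (by simp) (by simpa using hak)
        simp [h1, h2]

/-- the subgroup of monomial elements -/
def monSub (m : ℕ) (F : Type*) [Field F] : Subgroup (SpG m F) where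
  carrier := {n | ∃ σ : Equiv.Perm (Fin m ⊕ Fin m), MonWith m F n σ}
  mul_mem' := by
    rintro a b ⟨σ, h⟩ ⟨σ', h'⟩
    exact ⟨σ * σ', monWith_mul h h'⟩
  one_mem' := ⟨1, monWith_one⟩
  inv_mem' := by
    rintro a ⟨σ, h⟩
    exact ⟨σ⁻¹, monWith_inv h⟩

/-- **LEAF M1 (254508).** -/
theorem exists_monWith (n : SpG m F) (hn : n ∈ Nsub m F) :
    ∃ σ : Equiv.Perm (Fin m ⊕ Fin m), MonWith m F n σ := by
  have hle : Nsub m F ≤ monSub m F := by
    unfold Nsub
    apply sup_le
    · rw [Subgroup.closure_le]
      rintro s (⟨i, hi, rfl⟩ | ⟨hm, rfl⟩)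
      · exact ⟨_, monWith_sShort i (nxt i hi)⟩
      · exact ⟨_, monWith_cSign (lastF hm)⟩
    · intro t ht
      exact ⟨1, monWith_of_mem_T ht⟩
  exact hle hn

end Cfsg.Agent.Lib.Helper63.StSp
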