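import Cfsg.Agent.Lib.Helper63.OPb0
import Cfsg.Agent.Lib.Helper98.Oh1
import Cfsg.Agent.Lib.Helper43.WittQuad

/-!
# K-OPb-14 (keystone 598914, architect helper69), ROUTE A: `r ∣ |Ω|` forces `(dim V) % c ≤ m`

Core lemma `mod_le_of_dvd_card_core` with LEAF 1 (`exists_sub_isoCls`) as a hypothesis `hL1`.
Fixed points of an isometry of order `r` + Witt's lemma (`Helper43.witt_quad_aux`).
-/

set_option autoImplicit false
set_option linter.unusedVariables false
set_option linter.unusedSectionVars false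

namespace Cfsg.Agent.Lib.Helper63.OPb

open Module Cfsg.Agent.Lib.Helper98.Elus Cfsg.Agent.Lib.Helper98.Sy Cfsg.Agent.Lib.Helper98.Oh
  Cfsg.Agent.Lib.Helper69.OPb Cfsg.Agent.Lib.Helper98

universe u
variable {F : Type u} [Field F] {V : Type u} [AddCommGroup V] [Module F V]

/-- the quadratic form `v ↦ B v v / 2` -/
noncomputable def qAll (B : LinearMap.BilinForm F V) : QuadraticForm F V :=
  (2⁻¹ : F) • LinearMap.BilinMap.toQuadraticMap B

theorem qAll_apply (B : LinearMap.BilinForm F V) (v : V) : qAll B v = 2⁻¹ * B v v := by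
  change (2⁻¹ : F) • (LinearMap.BilinMap.toQuadraticMap B) v = _
  rw [LinearMap.BilinMap.toQuadraticMap_apply, smul_eq_mul]

theorem polarBilin_qAll (h2 : (2 : F) ≠ 0) (B : LinearMap.BilinForm F V)
    (hS : ∀ a b, B a b = B b a) (x y : V) :
    QuadraticMap.polarBilin (qAll B) x y = B x y := by
  rw [QuadraticMap.polarBilin_apply_apply]
  unfold QuadraticMap.polar
  rw [qAll_apply, qAll_apply, qAll_apply, map_add, map_add, LinearMap.add_apply,
    LinearMap.add_apply, hS y x]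
  field_simp
  ring

theorem nondegenerate_qAll (h2 : (2 : F) ≠ 0) (B : LinearMap.BilinForm F V)
    (hS : ∀ a b, B a b = B b a) (hV : NonDeg B ⊤) :
    (QuadraticMap.polarBilin (qAll B)).Nondegenerate := by
  constructor
  · intro x hx
    apply hV x Submodule.mem_top
    intro y _
    have := hx y
    rwa [polarBilin_qAll h2 B hS] at this
  · intro x hx
    apply hV x Submodule.mem_top
    intro y _
    have := hx y
    rw [polarBilin_qAll h2 B hS, hS] at this
    exact this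

/-- Witt extension: an isometry between two subspaces of the nondegenerate `V'` extends to an
isometry of `V` fixing `V'^⊥` pointwise -/
theorem exists_iso_map [FiniteDimensional F V] (h2 : (2 : F) ≠ 0) (B : LinearMap.BilinForm F V)
    (hS : ∀ a b, B a b = B b a) (hV : NonDeg B ⊤)
    (V' : Submodule F V) (hV' : NonDeg B V') (W W' : Submodule F V) (hW : W ≤ V') (hW' : W' ≤ V')
    (h : IsoCls B W W') :
    ∃ g : V ≃ₗ[F] V, (∀ u v, B (g u) (g v) = B u v) ∧ (∀ x ∈ B.orthogonal V', g x = x) ∧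
      W.map (g : V →ₗ[F] V) = W' := by
  classical
  have hR := Os.isRefl_of_symm hS
  obtain ⟨e, he⟩ := h
  obtain ⟨P, hP⟩ : ∃ P, P = B.orthogonal V' := ⟨_, rfl⟩
  have hc : IsCompl V' P := by rw [hP]; exact Os.isCompl_orth hR V' hV'
  have hort : ∀ v ∈ V', ∀ x ∈ P, B v x = 0 := by
    intro v hv x hx
    rw [hP] at hx
    exact LinearMap.BilinForm.mem_orthogonal_iff.mp hx v hv
  have hort' : ∀ v ∈ V', ∀ x ∈ P, B x v = 0 := fun v hv x hx => by rw [hS]; exact hort v hv x hx
  obtain ⟨f₀, hf₀⟩ := LinearMap.exists_extend (W'.subtype.comp (e : W →ₗ[F] W'))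
  have hf₀W : ∀ w : W, f₀ w = (e w : V) := by
    intro w
    have := congrArg (fun l => l w) hf₀
    simpa using this
  obtain ⟨f, hf⟩ : ∃ f : V →ₗ[F] V,
      f = f₀.comp (V'.subtype.comp (Submodule.projectionOnto V' P hc)) +
        P.subtype.comp (Submodule.projectionOnto P V' hc.symm) := ⟨_, rfl⟩
  have hfU : ∀ (w : V) (hw : w ∈ W) (x : V), x ∈ P → f (w + x) = (e ⟨w, hw⟩ : V) + x := by
    intro w hw x hx
    have h1 : Submodule.projectionOnto V' P hc (w + x) = ⟨w, hW hw⟩ := by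
      rw [map_add, Submodule.projectionOnto_apply_of_mem_right hc hx, add_zero]
      exact Submodule.projectionOnto_apply_of_mem_left hc (hW hw)
    have h2' : Submodule.projectionOnto P V' hc.symm (w + x) = ⟨x, hx⟩ := by
      rw [map_add, Submodule.projectionOnto_apply_of_mem_right hc.symm (hW hw), zero_add]
      exact Submodule.projectionOnto_apply_of_mem_left hc.symm hx
    rw [hf]
    simp only [LinearMap.add_apply, LinearMap.comp_apply, h1, h2', Submodule.subtype_apply]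
    rw [hf₀W ⟨w, hw⟩]
  have hUmem : ∀ u ∈ W ⊔ P, ∃ (w : V) (hw : w ∈ W) (x : V), x ∈ P ∧ u = w + x := by
    intro u hu
    obtain ⟨w, hw, x, hx, rfl⟩ := Submodule.mem_sup.mp hu
    exact ⟨w, hw, x, hx, rfl⟩
  have hiso : ∀ u ∈ W ⊔ P, qAll B (f u) = qAll B u := by
    intro u hu
    obtain ⟨w, hw, x, hx, rfl⟩ := hUmem u hu
    rw [hfU w hw x hx, qAll_apply, qAll_apply]
    have h1 := he ⟨w, hw⟩
    have hew : (e ⟨w, hw⟩ : V) ∈ V' := hW' (e ⟨w, hw⟩).2
    simp only [map_add, LinearMap.add_apply]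
    rw [h1, hort _ hew x hx, hort' _ hew x hx, hort w (hW hw) x hx, hort' w (hW hw) x hx]
  have hinj : ∀ u ∈ W ⊔ P, f u = 0 → u = 0 := by
    intro u hu hfu
    obtain ⟨w, hw, x, hx, rfl⟩ := hUmem u hu
    rw [hfU w hw x hx] at hfu
    have hew : (e ⟨w, hw⟩ : V) ∈ V' := hW' (e ⟨w, hw⟩).2
    have hewP : (e ⟨w, hw⟩ : V) ∈ P := by
      have : (e ⟨w, hw⟩ : V) = -x := eq_neg_of_add_eq_zero_left hfu
      rw [this]
      exact P.neg_mem hx
    have h0 : (e ⟨w, hw⟩ : V) = 0 := by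
      have : (e ⟨w, hw⟩ : V) ∈ V' ⊓ P := ⟨hew, hewP⟩
      rw [hc.inf_eq_bot] at this
      exact (Submodule.mem_bot F).mp this
    have hx0 : x = 0 := by rw [h0, zero_add] at hfu; exact hfu
    have hw0 : (⟨w, hw⟩ : W) = 0 := by
      have : e ⟨w, hw⟩ = 0 := Subtype.ext h0
      exact e.map_eq_zero_iff.mp this
    have hw0' : w = 0 := congrArg Subtype.val hw0
    rw [hw0', hx0, add_zero]
  obtain ⟨g, hg1, hg2⟩ := Cfsg.Agent.Lib.Helper43.witt_quad_aux (qAll B)
    (nondegenerate_qAll h2 B hS hV) _ (W ⊔ P) rfl f hiso hinj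
  refine ⟨g, ?_, ?_, ?_⟩
  · intro u v
    have := Cfsg.Agent.Lib.Helper43.polar_of_isometry (qAll B) (g : V →ₗ[F] V) hg1 u v
    rw [polarBilin_qAll h2 B hS, polarBilin_qAll h2 B hS] at this
    exact this
  · intro x hx
    rw [← hP] at hx
    have := hfU 0 W.zero_mem x hx
    rw [zero_add] at this
    rw [hg2 x (Submodule.mem_sup_right hx), this]
    have h0 : (⟨0, W.zero_mem⟩ : W) = 0 := rfl
    rw [h0, map_zero, Submodule.coe_zero, zero_add]
  · have hgW : ∀ (w : V) (hw : w ∈ W), g w = (e ⟨w, hw⟩ : V) := by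
      intro w hw
      have := hfU w hw 0 P.zero_mem
      rw [add_zero, add_zero] at this
      rw [hg2 w (Submodule.mem_sup_left hw), this]
    apply le_antisymm
    · rintro _ ⟨w, hw, rfl⟩
      have := hgW w hw
      simp only [LinearEquiv.coe_coe]
      rw [this]
      exact (e ⟨w, hw⟩).2
    · intro w' hw'
      refine ⟨(e.symm ⟨w', hw'⟩ : V), (e.symm ⟨w', hw'⟩).2, ?_⟩
      simp only [LinearEquiv.coe_coe]
      rw [hgW _ (e.symm ⟨w', hw'⟩).2]
      simp

/-- the isometries of `V` fixing `V'^⊥` pointwise -/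
def fixGroup (B : LinearMap.BilinForm F V) (V' : Submodule F V) : Subgroup (V ≃ₗ[F] V) where
  carrier := {g | (∀ u v, B (g u) (g v) = B u v) ∧ ∀ x ∈ B.orthogonal V', g x = x}
  mul_mem' := by
    rintro a b ⟨ha1, ha2⟩ ⟨hb1, hb2⟩
    refine ⟨fun u v => ?_, fun x hx => ?_⟩
    · rw [LinearEquiv.mul_apply, LinearEquiv.mul_apply, ha1, hb1]
    · rw [LinearEquiv.mul_apply, hb2 x hx, ha2 x hx]
  one_mem' := ⟨fun u v => rfl, fun x _ => rfl⟩
  inv_mem' := by
    rintro a ⟨ha1, ha2⟩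
    refine ⟨fun u v => ?_, fun x hx => ?_⟩
    · have := ha1 (a⁻¹ u) (a⁻¹ v)
      rw [← this]
      simp
    · have := ha2 x hx
      conv_lhs => rw [← this]
      simp

theorem mem_fixGroup (B : LinearMap.BilinForm F V) (V' : Submodule F V) (g : V ≃ₗ[F] V) :
    g ∈ fixGroup B V' ↔ (∀ u v, B (g u) (g v) = B u v) ∧ ∀ x ∈ B.orthogonal V', g x = x :=
  Iff.rfl

/-- the members of the class of `W₀` inside `V'` -/
def omegaSet (B : LinearMap.BilinForm F V) (W₀ V' : Submodule F V) : Set (Submodule F V) :=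
  {W | W ≤ V' ∧ NonDeg B W ∧ IsoCls B W W₀}

/-- a vector orthogonal to `V'^⊥` lies in the nondegenerate `V'` -/
theorem mem_of_orth_orth [FiniteDimensional F V] (B : LinearMap.BilinForm F V)
    (hS : ∀ a b, B a b = B b a) (hV : NonDeg B ⊤) (V' : Submodule F V) (hV' : NonDeg B V')
    (v : V) (hv : ∀ x ∈ B.orthogonal V', B v x = 0) : v ∈ V' := by
  have hR := Os.isRefl_of_symm hS
  have hc : IsCompl V' (B.orthogonal V') := Os.isCompl_orth hR V' hV'
  obtain ⟨-, -, hPnd, -⟩ := Os.compl_props hR V' ⊤ hV' le_top hV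
  rw [inf_top_eq] at hPnd
  have hv' : v ∈ V' ⊔ B.orthogonal V' := by rw [hc.sup_eq_top]; exact Submodule.mem_top
  obtain ⟨a, ha, b, hb, rfl⟩ := Submodule.mem_sup.mp hv'
  have hb0 : b = 0 := by
    apply hPnd b hb
    intro x hx
    have := hv x hx
    rw [map_add, LinearMap.add_apply, LinearMap.BilinForm.mem_orthogonal_iff.mp hx a ha,
      zero_add] at this
    exact this
  rw [hb0, add_zero]
  exact ha

/-- elements of `fixGroup` preserve `V'` -/
theorem apply_mem_of_mem_fixGroup [FiniteDimensional F V] (B : LinearMap.BilinForm F V)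
    (hS : ∀ a b, B a b = B b a) (hV : NonDeg B ⊤) (V' : Submodule F V) (hV' : NonDeg B V')
    (g : V ≃ₗ[F] V) (hg : g ∈ fixGroup B V') (v : V) (hv : v ∈ V') : g v ∈ V' := by
  apply mem_of_orth_orth B hS hV V' hV'
  intro x hx
  have h1 := hg.1 v x
  rw [hg.2 x hx] at h1
  rw [h1]
  exact LinearMap.BilinForm.mem_orthogonal_iff.mp hx v hv

theorem map_mem_omegaSet [FiniteDimensional F V] (B : LinearMap.BilinForm F V)
    (hS : ∀ a b, B a b = B b a) (hV : NonDeg B ⊤) (W₀ V' : Submodule F V) (hV' : NonDeg B V')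
    (g : V ≃ₗ[F] V) (hg : g ∈ fixGroup B V') (W : Submodule F V) (hW : W ∈ omegaSet B W₀ V') :
    W.map (g : V →ₗ[F] V) ∈ omegaSet B W₀ V' := by
  obtain ⟨hWle, hWnd, hWiso⟩ := hW
  refine ⟨?_, ?_, ?_⟩
  · rintro _ ⟨w, hw, rfl⟩
    exact apply_mem_of_mem_fixGroup B hS hV V' hV' g hg w (hWle hw)
  · rintro _ ⟨w, hw, rfl⟩ hall
    have hw0 : w = 0 := by
      apply hWnd w hw
      intro w' hw'
      have := hall (g w') ⟨w', hw', rfl⟩
      simp only [LinearEquiv.coe_coe] at this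
      rw [hg.1] at this
      exact this
    rw [hw0, map_zero]
  · refine isoCls_trans ?_ hWiso
    apply isoCls_symm
    refine ⟨g.submoduleMap W, fun w => ?_⟩
    rw [LinearEquiv.submoduleMap_apply, hg.1]

/-- linear automorphisms act on subspaces -/
@[reducible] def mapAction : MulAction (V ≃ₗ[F] V) (Submodule F V) where
  smul g W := W.map (g : V →ₗ[F] V)
  one_smul W := Submodule.map_id W
  mul_smul g h W := by
    change W.map ((g * h : V ≃ₗ[F] V) : V →ₗ[F] V) =
      (W.map (h : V →ₗ[F] V)).map (g : V →ₗ[F] V)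
    rw [← Submodule.map_comp]
    rfl

attribute [local instance] mapAction

theorem smul_def' (g : V ≃ₗ[F] V) (W : Submodule F V) : g • W = W.map (g : V →ₗ[F] V) := rfl

/-- the class of `W₀` inside `V'` as a sub-action of `fixGroup B V'` -/
def omegaSub [FiniteDimensional F V] (B : LinearMap.BilinForm F V)
    (hS : ∀ a b, B a b = B b a) (hV : NonDeg B ⊤) (W₀ V' : Submodule F V) (hV' : NonDeg B V') :
    SubMulAction (fixGroup B V') (Submodule F V) where
  carrier := omegaSet B W₀ V'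
  smul_mem' := fun g W hW => map_mem_omegaSet B hS hV W₀ V' hV' g.1 g.2 W hW

theorem map_eq_of_fix (y : V →ₗ[F] V) (W : Submodule F V) (h : ∀ w ∈ W, y w = w) :
    W.map y = W := by
  ext x
  constructor
  · rintro ⟨w, hw, rfl⟩
    rw [h w hw]
    exact hw
  · intro hx
    exact ⟨x, hx, h x hx⟩

section Main

variable [Fintype F] (h2 : (2 : F) ≠ 0) [FiniteDimensional F V]
  (B : LinearMap.BilinForm F V) (hS : ∀ a b, B a b = B b a) (hV : NonDeg B ⊤)
  (p f : ℕ) [Fact p.Prime] (hF : Fintype.card F = p ^ f)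
  (r : ℕ) [Fact r.Prime] (hpr : p ≠ r) (hr2 : r ≠ 2) (hrF : (r : F) ≠ 0)
include h2 hS hV hF hpr hr2 hrF

/-- an invariant nondegenerate subspace of dimension `< c` is fixed pointwise -/
theorem le_V0_of_small (y : V →ₗ[F] V) (hy : y ^ r = 1) (hiso : Iso B y)
    (W : Submodule F V) (hW : Inv y W) (hWnd : NonDeg B W)
    (hlt : finrank F W < cOf (orderOf ((Fintype.card F : ℕ) : ZMod r))) : W ≤ V0 y := by
  have hR := Os.isRefl_of_symm hS
  obtain ⟨hnd0, hnd1⟩ := nonDeg_inf_parts_refl hR r hrF y hy hiso W hWnd hW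
  have hsum := finrank_inf_V0_add_inf_V1 r hrF y hy W hW
  obtain ⟨⟨s, hs⟩, -⟩ := type_of_le_V1 h2 B hS hV p f hF r hpr hr2 hrF y hy hiso _ (W ⊓ V1 r y)
    rfl inf_le_right (hW.inf (inv_V1 r y)) hnd1
  have h1 : finrank F ↥(W ⊓ V1 r y) ≤ finrank F W := Submodule.finrank_mono inf_le_left
  have h0 : finrank F ↥(W ⊓ V1 r y) = 0 := by
    rcases Nat.eq_zero_or_pos s with h | h
    · rw [hs, h, mul_zero]
    · exfalso
      have : cOf (orderOf ((Fintype.card F : ℕ) : ZMod r)) ≤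
          cOf (orderOf ((Fintype.card F : ℕ) : ZMod r)) * s := Nat.le_mul_of_pos_right _ h
      omega
  have : W ⊓ V0 y = W := Submodule.eq_of_le_of_finrank_eq inf_le_left (by omega)
  rw [← this]
  exact inf_le_right

/-- the core induction of ROUTE A -/
theorem not_dvd_card_omegaSet (m : ℕ) (W₀ : Submodule F V) (hW₀d : finrank F W₀ = m)
    (hmc : m < cOf (orderOf ((Fintype.card F : ℕ) : ZMod r)))
    (hL1 : ∀ U : Submodule F V, NonDeg B U → finrank F W₀ < finrank F U →
      ∃ W : Submodule F V, W ≤ U ∧ NonDeg B W ∧ IsoCls B W W₀)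
    (k : ℕ) (hk : m < k) :
    ∀ n : ℕ, ∀ V' : Submodule F V, finrank F V' = n → NonDeg B V' →
      n % cOf (orderOf ((Fintype.card F : ℕ) : ZMod r)) = k →
      ¬ r ∣ Nat.card ↥(omegaSet B W₀ V') := by
  classical
  have hr : r.Prime := Fact.out
  have hR := Os.isRefl_of_symm hS
  have : Finite V := Module.finite_of_finite F
  have : Finite (V ≃ₗ[F] V) :=
    Finite.of_injective (fun e : V ≃ₗ[F] V => (e : V → V)) DFunLike.coe_injective
  intro n
  induction n using Nat.strong_induction_on with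
  | _ n ih =>
  intro V' hn hV' hnk hdvd
  have hkn : k ≤ n := by rw [← hnk]; exact Nat.mod_le _ _
  obtain ⟨W₁, hW₁le, hW₁nd, hW₁iso⟩ := hL1 V' hV' (by rw [hW₀d, hn]; omega)
  obtain ⟨S, hSdef⟩ : ∃ S, S = omegaSub B hS hV W₀ V' hV' := ⟨_, rfl⟩
  have hmemS : ∀ W : Submodule F V, W ∈ S ↔ W ∈ omegaSet B W₀ V' := by
    intro W; rw [hSdef]; exact Iff.rfl
  have : MulAction.IsPretransitive (fixGroup B V') S := ⟨by
    rintro ⟨W, hW⟩ ⟨W', hW'⟩
    have hW2 := (hmemS W).mp hW
    have hW2' := (hmemS W').mp hW'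
    obtain ⟨g, hg1, hg2, hg3⟩ := exists_iso_map h2 B hS hV V' hV' W W' hW2.1 hW2'.1
      (isoCls_trans hW2.2.2 (isoCls_symm hW2'.2.2))
    exact ⟨⟨g, hg1, hg2⟩, Subtype.ext hg3⟩⟩
  have hcardS : Nat.card S = Nat.card ↥(omegaSet B W₀ V') :=
    Nat.card_congr (Equiv.subtypeEquivRight hmemS)
  have hdvd' : r ∣ Nat.card S := by rw [hcardS]; exact hdvd
  have hdvdG : r ∣ Nat.card (fixGroup B V') := by
    have h1 := MulAction.index_stabilizer_of_transitive (fixGroup B V')
      (⟨W₁, (hmemS W₁).mpr ⟨hW₁le, hW₁nd, hW₁iso⟩⟩ : S)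
    have h3 := Subgroup.index_dvd_card (MulAction.stabilizer (fixGroup B V')
      (⟨W₁, (hmemS W₁).mpr ⟨hW₁le, hW₁nd, hW₁iso⟩⟩ : S))
    rw [h1] at h3
    exact dvd_trans hdvd' h3
  obtain ⟨z, hz⟩ := exists_prime_orderOf_dvd_card' r hdvdG
  obtain ⟨zE, hzE⟩ : ∃ zE : V ≃ₗ[F] V, zE = (z : V ≃ₗ[F] V) := ⟨_, rfl⟩
  obtain ⟨zL, hzL⟩ : ∃ zL : V →ₗ[F] V, zL = (zE : V →ₗ[F] V) := ⟨_, rfl⟩
  have hzLa : ∀ v, zL v = zE v := fun v => by rw [hzL]; rfl
  have hzmem : zE ∈ fixGroup B V' := by rw [hzE]; exact z.2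
  have hzr : zL ^ r = 1 := by
    have h1 : z ^ r = 1 := by rw [← hz]; exact pow_orderOf_eq_one z
    have h3 : zE ^ r = 1 := by
      have := congrArg Subtype.val h1
      rw [hzE]
      simpa using this
    have h4 := congrArg (LinearEquiv.automorphismGroup.toLinearMapMonoidHom (R := F) (M := V)) h3
    rw [map_pow, map_one] at h4
    rw [hzL]
    exact h4
  have hziso : Iso B zL := fun u v => by rw [hzLa, hzLa]; exact hzmem.1 u v
  have hzfix : ∀ x ∈ B.orthogonal V', zL x = x := fun x hx => by rw [hzLa]; exact hzmem.2 x hx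
  have hzinv : Inv zL V' := fun v hv => by
    rw [hzLa]; exact apply_mem_of_mem_fixGroup B hS hV V' hV' zE hzmem v hv
  obtain ⟨hnd0, hnd1⟩ := nonDeg_inf_parts_refl hR r hrF zL hzr hziso V' hV' hzinv
  have hsum := finrank_inf_V0_add_inf_V1 r hrF zL hzr V' hzinv
  obtain ⟨⟨s, hs⟩, -⟩ := type_of_le_V1 h2 B hS hV p f hF r hpr hr2 hrF zL hzr hziso _
    (V' ⊓ V1 r zL) rfl inf_le_right (hzinv.inf (inv_V1 r zL)) hnd1
  have hpos : 0 < finrank F ↥(V' ⊓ V1 r zL) := by
    by_contra h0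
    have h0' : finrank F ↥(V' ⊓ V1 r zL) = 0 := by omega
    have hle : V' ≤ V0 zL := by
      have : V' ⊓ V0 zL = V' := Submodule.eq_of_le_of_finrank_eq inf_le_left (by omega)
      rw [← this]
      exact inf_le_right
    have hz1 : z = 1 := by
      apply Subtype.ext
      apply LinearEquiv.ext
      intro v
      have hc : IsCompl V' (B.orthogonal V') := Os.isCompl_orth hR V' hV'
      have hv : v ∈ V' ⊔ B.orthogonal V' := by rw [hc.sup_eq_top]; exact Submodule.mem_top
      obtain ⟨a, ha, b, hb, rfl⟩ := Submodule.mem_sup.mp hv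
      have h1 : (z : V ≃ₗ[F] V) (a + b) = a + b := by
        rw [← hzE, ← hzLa, map_add, (mem_V0 zL a).mp (hle ha), hzfix b hb]
      rw [h1]
      rfl
    rw [hz1, orderOf_one] at hz
    exact hr.one_lt.ne hz
  obtain ⟨V'', hV''⟩ : ∃ V'' : Submodule F V, V'' = V' ⊓ V0 zL := ⟨_, rfl⟩
  rw [← hV''] at hnd0 hsum
  have hlt : finrank F V'' < n := by omega
  have hmod : finrank F V'' % cOf (orderOf ((Fintype.card F : ℕ) : ZMod r)) = k := by
    rw [← hnk, ← hn, ← hsum, hs, Nat.add_mul_mod_self_left]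
  have hIH := ih (finrank F V'') hlt V'' rfl hnd0 hmod
  have hP : IsPGroup r (Subgroup.zpowers z) :=
    IsPGroup.of_card (n := 1) (by rw [Nat.card_zpowers, hz, pow_one])
  have : Finite S := Finite.of_injective (fun x : S => (x : Submodule F V)) Subtype.val_injective
  have hcong := hP.card_modEq_card_fixedPoints S
  have hfixcard : Nat.card (MulAction.fixedPoints (Subgroup.zpowers z) S) =
      Nat.card ↥(omegaSet B W₀ V'') := by
    apply Nat.card_congr
    have hmemW : ∀ W : ↥(omegaSet B W₀ V''), W.1 ∈ S := by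
      intro W
      refine (hmemS W.1).mpr ⟨le_trans W.2.1 ?_, W.2.2.1, W.2.2.2⟩
      rw [hV'']
      exact inf_le_left
    refine
      { toFun := fun x => ⟨x.1.1, ?_⟩
        invFun := fun W => ⟨⟨W.1, hmemW W⟩, ?_⟩
        left_inv := fun x => rfl
        right_inv := fun W => rfl }
    · have hWΩ := (hmemS x.1.1).mp x.1.2
      have hfix := x.2 ⟨z, Subgroup.mem_zpowers z⟩
      have hmap : (x.1.1 : Submodule F V).map zL = x.1.1 := by
        have := congrArg Subtype.val hfix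
        rw [hzL, hzE]
        exact this
      have hWinv : Inv zL x.1.1 := by
        intro w hw
        rw [← hmap]
        exact ⟨w, hw, rfl⟩
      have hWd : finrank F (x.1.1 : Submodule F V) = m := by
        rw [isoCls_finrank hWΩ.2.2, hW₀d]
      have hle := le_V0_of_small h2 B hS hV p f hF r hpr hr2 hrF zL hzr hziso x.1.1 hWinv hWΩ.2.1
        (by rw [hWd]; exact hmc)
      refine ⟨?_, hWΩ.2.1, hWΩ.2.2⟩
      rw [hV'']
      exact le_inf hWΩ.1 hle
    · intro g
      have hWV0 : W.1 ≤ V0 zL := by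
        refine le_trans W.2.1 ?_
        rw [hV'']
        exact inf_le_right
      have hzstab : z ∈ MulAction.stabilizer (fixGroup B V') (⟨W.1, hmemW W⟩ : S) := by
        rw [MulAction.mem_stabilizer_iff]
        apply Subtype.ext
        have := map_eq_of_fix zL W.1 (fun w hw => (mem_V0 zL w).mp (hWV0 hw))
        rw [hzL, hzE] at this
        exact this
      exact (Subgroup.zpowers_le.mpr hzstab) g.2
  apply hIH
  rw [← hfixcard]
  exact (Nat.modEq_zero_iff_dvd.mp (hcong.symm.trans (Nat.modEq_zero_iff_dvd.mpr hdvd')))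

/-- LEAF 14 with LEAF 1 (`exists_sub_isoCls`) as the hypothesis `hL1` -/
theorem mod_le_of_dvd_card_core (m : ℕ) (W₀ : Submodule F V) (hW₀d : finrank F W₀ = m)
    (hmc : m < cOf (orderOf ((Fintype.card F : ℕ) : ZMod r)))
    (hL1 : ∀ U : Submodule F V, NonDeg B U → finrank F W₀ < finrank F U →
      ∃ W : Submodule F V, W ≤ U ∧ NonDeg B W ∧ IsoCls B W W₀)
    (hr : r ∣ Nat.card {W : Submodule F V // NonDeg B W ∧ IsoCls B W W₀}) :
    finrank F V % cOf (orderOf ((Fintype.card F : ℕ) : ZMod r)) ≤ m := by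
  by_contra hcon
  push Not at hcon
  have h := not_dvd_card_omegaSet h2 B hS hV p f hF r hpr hr2 hrF m W₀ hW₀d hmc hL1 _ hcon
    (finrank F V) ⊤ (finrank_top F V) hV rfl
  apply h
  have hcard : Nat.card ↥(omegaSet B W₀ ⊤) =
      Nat.card {W : Submodule F V // NonDeg B W ∧ IsoCls B W W₀} :=
    Nat.card_congr (Equiv.subtypeEquivRight
      (fun W => ⟨fun h => ⟨h.2.1, h.2.2⟩, fun h => ⟨le_top, h.1, h.2⟩⟩))
  rw [hcard]
  exact hr

end Main

end Cfsg.Agent.Lib.Helper63.OPb
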