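import Cfsg.Agent.Lib.Helper63.OTsTwoA
import Cfsg.Agent.Lib.Helper63.OPb14

/-!
# K-OTs-TA (keystone 597330, sub-architect helper50): abstract involutory isometries of a symmetric
bilinear form (`2 ≠ 0`) and invariant totally isotropic subspaces; exact spec signature.
Derived from `Helper63.OTsTwoA` with `Q v = B v v / 2`.
-/

set_option autoImplicit false
set_option linter.unusedVariables false
set_option linter.unusedSectionVars false

namespace Cfsg.Agent.Lib.Helper63.OTs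

open Module Cfsg.Agent.Lib.Helper98.Elus Cfsg.Agent.Lib.Helper98.Sy Cfsg.Agent.Lib.Helper98.Oh

universe u
variable {F : Type u} [Field F] {V : Type u} [AddCommGroup V] [Module F V]

theorem ker_add_one_eq_V1 (y : V →ₗ[F] V) : LinearMap.ker (y + 1) = V1 2 y := by
  ext v
  rw [LinearMap.mem_ker, mem_V1_two_iff, LinearMap.add_apply, Module.End.one_apply]
  constructor
  · intro h
    exact eq_neg_of_add_eq_zero_left h
  · intro h
    rw [h, neg_add_cancel]

/-- LEAF TA (597330). -/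
theorem exists_fixed_ts_invol_even [Fintype F] [FiniteDimensional F V] {B : LinearMap.BilinForm F V}
    (hS : ∀ x y, B x y = B y x) (h2 : (2 : F) ≠ 0) (hV : NonDeg B ⊤) (y : V →ₗ[F] V)
    (hy : y * y = 1) (hiso : Iso B y) (d m : ℕ) (hd : finrank F V = 2 * d)
    (heven : Even (finrank F (LinearMap.ker (y + 1))))
    (hcase : m + 2 ≤ d ∨ (m + 1 ≤ d ∧ ¬ Plus B ⊤) ∨
      (m ≤ d ∧ Plus B ⊤ ∧ ∃ X : Submodule F V, X ≤ LinearMap.ker (y + 1) ∧ Ort B X X ∧
        2 * finrank F X = finrank F (LinearMap.ker (y + 1)))) :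
    ∃ W : Submodule F V, Inv y W ∧ Ort B W W ∧ finrank F W = m := by
  obtain ⟨Q, hQ⟩ : ∃ Q : QuadraticForm F V, Q = Cfsg.Agent.Lib.Helper63.OPb.qAll B := ⟨_, rfl⟩
  have hB : QuadraticMap.polarBilin Q = B := by
    ext a b
    rw [hQ]
    exact Cfsg.Agent.Lib.Helper63.OPb.polarBilin_qAll h2 B hS a b
  have hV' : NonDeg (QuadraticMap.polarBilin Q) ⊤ := by rw [hB]; exact hV
  have hy' : y ^ 2 = 1 := by rw [pow_two]; exact hy
  have hiso' : Cfsg.Agent.Lib.Helper99.OTs.QIso Q y := by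
    intro v
    rw [hQ, Cfsg.Agent.Lib.Helper63.OPb.qAll_apply, Cfsg.Agent.Lib.Helper63.OPb.qAll_apply, hiso]
  rw [ker_add_one_eq_V1] at heven hcase
  obtain ⟨-, -, -, -, -, hsum⟩ := invol_parts h2 Q hV' y hy' hiso'
  have he0 : Even (finrank F (V0 y)) := by
    obtain ⟨b', hb'⟩ := heven
    exact ⟨d - b', by omega⟩
  have hplus := plusOn_top_iff_invol h2 Q hV' y hy' hiso' he0 heven
  have hPB : ∀ U : Submodule F V, Cfsg.Agent.Lib.Helper99.OTs.PlusOn Q U ↔ Plus B U := by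
    intro U
    rw [plusOn_iff_plus h2 Q U, hB]
  obtain ⟨c1, c2, c3⟩ := exists_fixed_ts_typeA h2 Q hV' y hy' hiso' d hd heven m
  have hfin : (∃ W : Submodule F V, Inv y W ∧ Cfsg.Agent.Lib.Helper99.OTs.TS Q W ∧ finrank F W = m) →
      ∃ W : Submodule F V, Inv y W ∧ Ort B W W ∧ finrank F W = m := by
    rintro ⟨W, hW1, hW2, hW3⟩
    refine ⟨W, hW1, ?_, hW3⟩
    have := hW2.ort
    rw [hB] at this
    exact this
  apply hfin
  rcases hcase with h | ⟨h, hnp⟩ | ⟨h, hp, X, hXle, hX, hXd⟩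
  · exact c1 h
  · apply c2 _ h
    by_contra hcon
    push Not at hcon
    apply hnp
    rw [← hPB]
    exact hplus.mpr ⟨fun h' => absurd h' hcon.1, fun h' => absurd h' hcon.2⟩
  · have hP1 : Cfsg.Agent.Lib.Helper99.OTs.PlusOn Q (V1 2 y) := by
      refine ⟨X, hXle, ts_of_ort h2 Q X ?_, hXd⟩
      rw [hB]
      exact hX
    have hPt : Cfsg.Agent.Lib.Helper99.OTs.PlusOn Q ⊤ := (hPB ⊤).mpr hp
    exact c3 ((hplus.mp hPt).mpr hP1) hP1 h

end Cfsg.Agent.Lib.Helper63.OTs
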