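import Mathlib

set_option autoImplicit false

namespace Cfsg.Agent.Lib.Helper63

open Equiv

/-- element orders of a product are the lcms of element orders of the factors -/
theorem range_orderOf_prod {α β : Type*} [Monoid α] [Monoid β] :
    Set.range (orderOf : α × β → ℕ) =
      Set.image2 Nat.lcm (Set.range (orderOf : α → ℕ)) (Set.range (orderOf : β → ℕ)) := by
  ext n
  simp only [Set.mem_range, Set.mem_image2, Prod.exists, Prod.orderOf]
  constructor
  · rintro ⟨a, b, rfl⟩; exact ⟨_, ⟨a, rfl⟩, _, ⟨b, rfl⟩, rfl⟩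
  · rintro ⟨_, ⟨a, rfl⟩, _, ⟨b, rfl⟩, rfl⟩; exact ⟨a, b, rfl⟩

set_option maxRecDepth 100000 in
theorem a5_pow : ∀ g : Perm (Fin 5), Perm.sign g = 1 → g ^ 2 = 1 ∨ g ^ 3 = 1 ∨ g ^ 5 = 1 := by
  decide +kernel

set_option maxRecDepth 1000000 in
set_option maxHeartbeats 4000000 in
theorem a6_pow : ∀ g : Perm (Fin 6), Perm.sign g = 1 → g ^ 4 = 1 ∨ g ^ 3 = 1 ∨ g ^ 5 = 1 := by
  decide +kernel

theorem orderOf_mem_of_pow_prime {M : Type*} [Monoid M] (x : M) (p : ℕ) (hp : p.Prime)
    (h : x ^ p = 1) : orderOf x = 1 ∨ orderOf x = p :=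
  (Nat.dvd_prime hp).mp (orderOf_dvd_of_pow_eq_one h)

theorem exists_alt_of_perm {n : ℕ} (g : Perm (Fin n)) (hg : Perm.sign g = 1) (k : ℕ)
    (hk : orderOf g = k) : k ∈ Set.range (orderOf : alternatingGroup (Fin n) → ℕ) :=
  ⟨⟨g, Perm.mem_alternatingGroup.mpr hg⟩, by rw [← hk, ← Subgroup.orderOf_coe]⟩

theorem spec_A5 : Set.range (orderOf : alternatingGroup (Fin 5) → ℕ) = {1, 2, 3, 5} := by
  apply Set.Subset.antisymm
  · rintro _ ⟨g, rfl⟩
    have hg : Perm.sign (g : Perm (Fin 5)) = 1 := Perm.mem_alternatingGroup.mp g.2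
    rw [← Subgroup.orderOf_coe]
    simp only [Set.mem_insert_iff, Set.mem_singleton_iff]
    rcases a5_pow g hg with h | h | h
    · rcases orderOf_mem_of_pow_prime _ 2 Nat.prime_two h with h | h <;> simp [h]
    · rcases orderOf_mem_of_pow_prime _ 3 Nat.prime_three h with h | h <;> simp [h]
    · rcases orderOf_mem_of_pow_prime _ 5 Nat.prime_five h with h | h <;> simp [h]
  · intro k hk
    simp only [Set.mem_insert_iff, Set.mem_singleton_iff] at hk
    rcases hk with rfl | rfl | rfl | rfl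
    · exact ⟨1, orderOf_one⟩
    · refine exists_alt_of_perm (swap 0 1 * swap 2 3) (by decide) 2 ?_
      exact orderOf_eq_prime (by decide) (by decide)
    · refine exists_alt_of_perm (swap 0 1 * swap 1 2) (by decide) 3 ?_
      have : Fact (Nat.Prime 3) := ⟨Nat.prime_three⟩
      exact orderOf_eq_prime (by decide) (by decide)
    · refine exists_alt_of_perm (swap 0 1 * swap 1 2 * swap 2 3 * swap 3 4) (by decide) 5 ?_
      have : Fact (Nat.Prime 5) := ⟨Nat.prime_five⟩
      exact orderOf_eq_prime (by decide) (by decide)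

theorem spec_A6 : Set.range (orderOf : alternatingGroup (Fin 6) → ℕ) = {1, 2, 3, 4, 5} := by
  apply Set.Subset.antisymm
  · rintro _ ⟨g, rfl⟩
    have hg : Perm.sign (g : Perm (Fin 6)) = 1 := Perm.mem_alternatingGroup.mp g.2
    rw [← Subgroup.orderOf_coe]
    simp only [Set.mem_insert_iff, Set.mem_singleton_iff]
    rcases a6_pow g hg with h | h | h
    · have h4 : orderOf (g : Perm (Fin 6)) ∣ 2 ^ 2 := orderOf_dvd_of_pow_eq_one h
      rw [Nat.dvd_prime_pow Nat.prime_two] at h4
      obtain ⟨k, hk, h4⟩ := h4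
      interval_cases k <;> simp [h4]
    · rcases orderOf_mem_of_pow_prime _ 3 Nat.prime_three h with h | h <;> simp [h]
    · rcases orderOf_mem_of_pow_prime _ 5 Nat.prime_five h with h | h <;> simp [h]
  · intro k hk
    simp only [Set.mem_insert_iff, Set.mem_singleton_iff] at hk
    rcases hk with rfl | rfl | rfl | rfl | rfl
    · exact ⟨1, orderOf_one⟩
    · refine exists_alt_of_perm (swap 0 1 * swap 2 3) (by decide) 2 ?_
      exact orderOf_eq_prime (by decide) (by decide)
    · refine exists_alt_of_perm (swap 0 1 * swap 1 2) (by decide) 3 ?_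
      have : Fact (Nat.Prime 3) := ⟨Nat.prime_three⟩
      exact orderOf_eq_prime (by decide) (by decide)
    · refine exists_alt_of_perm (swap 0 1 * swap 1 2 * swap 2 3 * swap 4 5) (by decide) 4 ?_
      have : orderOf (swap (0 : Fin 6) 1 * swap 1 2 * swap 2 3 * swap 4 5) = 2 ^ 2 :=
        orderOf_eq_prime_pow (by decide) (by decide)
      simpa using this
    · refine exists_alt_of_perm (swap 0 1 * swap 1 2 * swap 2 3 * swap 3 4) (by decide) 5 ?_
      have : Fact (Nat.Prime 5) := ⟨Nat.prime_five⟩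
      exact orderOf_eq_prime (by decide) (by decide)

end Cfsg.Agent.Lib.Helper63
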