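import Cfsg.Agent.Lib.Helper49.OElDefs
import Cfsg.Agent.Lib.Helper50.SumForm
import Cfsg.Agent.Lib.Helper50.GeoBridge
import Cfsg.Agent.Lib.Helper50.OmegaAdjust
import Cfsg.Agent.Lib.Helper50.PlusForm
import Cfsg.Agent.Lib.Helper50.ElusiveUnip
import Cfsg.Agent.Lib.Helper50.MinusParam
import Cfsg.Agent.Lib.Helper50.MinusPres

/-!
# K-OEl-X (keystone 598820, architect helper49): the involution of type `a_(d-1)` of `Ω⁻_(2d)(q)`,
`q` even, `d` odd: `x = diag([[1, P], [0, 1]], 1)` with `P` a fixed point free involutory permutation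
matrix of size `d - 1`.
-/

set_option autoImplicit false
set_option linter.unusedSectionVars false
set_option linter.unusedVariables false

namespace Cfsg.Agent.Lib.Helper63.OEl

open Module Matrix Cfsg.Agent.Lib.Helper98.Elus Cfsg.Agent.Lib.Helper98.Sy Cfsg.Agent.Lib.Helper38.OhP
  Cfsg.Agent.Lib.Helper49.OEl Cfsg.Agent.Lib.Helper50

universe u
variable {F : Type u} [Field F] {m : ℕ}

/-- the block matrix `diag(unipMat π, 1)` -/
def xMat (π : Fin m → Fin m) :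
    Matrix ((Fin m ⊕ Fin m) ⊕ Fin 2) ((Fin m ⊕ Fin m) ⊕ Fin 2) F :=
  Matrix.fromBlocks (unipMat π) 0 0 1

theorem xMat_mulVec (π : Fin m → Fin m) (v : (Fin m ⊕ Fin m) ⊕ Fin 2 → F) :
    xMat π *ᵥ v = Sum.elim (Sum.elim (fun i => v (Sum.inl (Sum.inl i)) + v (Sum.inl (Sum.inr (π i))))
      (fun i => v (Sum.inl (Sum.inr i)))) (fun k => v (Sum.inr k)) := by
  unfold xMat
  rw [Matrix.fromBlocks_mulVec, unipMat_mulVec]
  funext j
  rcases j with (i | i) | k <;> simp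

theorem xMat_mul_self [CharP F 2] (π : Fin m → Fin m) : xMat (F := F) π * xMat π = 1 := by
  unfold xMat
  rw [Matrix.fromBlocks_multiply, unipMat_mul_self]
  simp [Matrix.fromBlocks_one]

/-- the involution as an element of the general linear group -/
def xGL [CharP F 2] (π : Fin m → Fin m) : GL ((Fin m ⊕ Fin m) ⊕ Fin 2) F :=
  ⟨xMat π, xMat π, xMat_mul_self π, xMat_mul_self π⟩

theorem xGL_val [CharP F 2] (π : Fin m → Fin m) :
    ((xGL (F := F) π : GL ((Fin m ⊕ Fin m) ⊕ Fin 2) F) :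
      Matrix ((Fin m ⊕ Fin m) ⊕ Fin 2) ((Fin m ⊕ Fin m) ⊕ Fin 2) F) = xMat π := rfl

theorem xMat_sub_one_mulVec (π : Fin m → Fin m) (v : (Fin m ⊕ Fin m) ⊕ Fin 2 → F) :
    (xMat π - 1) *ᵥ v = Sum.elim (Sum.elim (fun i => v (Sum.inl (Sum.inr (π i)))) (fun _ => 0))
      (fun _ => 0) := by
  rw [Matrix.sub_mulVec, Matrix.one_mulVec, xMat_mulVec]
  funext j
  rcases j with (i | i) | k <;> simp

theorem quadFormMinus_xMat [CharP F 2] (π : Fin m → Fin m) (hπ2 : ∀ i, π (π i) = i)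
    (hπ : ∀ i, π i ≠ i) (a b : F) (v : (Fin m ⊕ Fin m) ⊕ Fin 2 → F) :
    Cfsg.quadFormMinus m F a b (xMat π *ᵥ v) = Cfsg.quadFormMinus m F a b v := by
  rw [xMat_mulVec]
  unfold Cfsg.quadFormMinus
  simp only [Sum.elim_inl, Sum.elim_inr, add_mul, Finset.sum_add_distrib]
  rw [sum_perm_mul_self_eq_zero π hπ2 hπ (fun i => v (Sum.inl (Sum.inr i))), add_zero]

/-- all coordinates except the first block -/
def llSet (m : ℕ) : Set ((Fin m ⊕ Fin m) ⊕ Fin 2) := {j | ∀ i : Fin m, j ≠ Sum.inl (Sum.inl i)}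

theorem finrank_coordSub_llSet : finrank F (coordSub (F := F) (llSet m)) = m := by
  classical
  rw [finrank_coordSub]
  have e : Fin m ≃ {j : (Fin m ⊕ Fin m) ⊕ Fin 2 // j ∉ llSet m} :=
    Equiv.ofBijective (fun i => ⟨Sum.inl (Sum.inl i), fun h => h i rfl⟩) (by
      constructor
      · intro i i' h
        have := congrArg Subtype.val h
        exact Sum.inl.inj (Sum.inl.inj this)
      · rintro ⟨j, hj⟩
        unfold llSet at hj
        simp only [Set.mem_ofPred_eq, not_forall, not_not] at hj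
        obtain ⟨i, rfl⟩ := hj
        exact ⟨i, rfl⟩)
  rw [← Fintype.card_congr e, Fintype.card_fin]

theorem range_xMat_sub_one (π : Fin m → Fin m) (hπ2 : ∀ i, π (π i) = i) :
    LinearMap.range (xMat (F := F) π - 1).mulVecLin = coordSub (llSet m) := by
  ext w
  constructor
  · rintro ⟨v, rfl⟩
    intro j hj
    rw [Matrix.mulVecLin_apply, xMat_sub_one_mulVec]
    rcases j with (i | i) | k
    · exact absurd rfl (hj i)
    · rfl
    · rfl
  · intro hw
    refine ⟨Sum.elim (Sum.elim (fun _ => 0) (fun k => w (Sum.inl (Sum.inl (π k))))) (fun _ => 0), ?_⟩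
    rw [Matrix.mulVecLin_apply, xMat_sub_one_mulVec]
    funext j
    rcases j with (i | i) | k
    · simp [hπ2]
    · simpa using (hw (Sum.inl (Sum.inr i)) (by intro i' h; simp at h)).symm
    · simpa using (hw (Sum.inr k) (by intro i' h; simp at h)).symm

theorem rank_xMat_sub_one (π : Fin m → Fin m) (hπ2 : ∀ i, π (π i) = i) :
    (xMat (F := F) π - 1).rank = m := by
  show finrank F (LinearMap.range (xMat (F := F) π - 1).mulVecLin) = m
  rw [range_xMat_sub_one π hπ2, finrank_coordSub_llSet]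

theorem toLin'_sub_one_eq' {ι : Type} [Fintype ι] [DecidableEq ι] (A : Matrix ι ι F) :
    (Matrix.toLin' A - 1 : (ι → F) →ₗ[F] (ι → F)) = (A - 1).mulVecLin := by
  apply LinearMap.ext
  intro v
  rw [LinearMap.sub_apply, Matrix.toLin'_apply, Module.End.one_apply, Matrix.mulVecLin_apply,
    Matrix.sub_mulVec, Matrix.one_mulVec]

/-- **K-OEl-X (598820)** -/
theorem exists_a_invol_minus [Fintype F] [CharP F 2] (d : ℕ) (hd : Odd d) (hd4 : 4 ≤ d) (a b : F)
    (hab : ∀ x y : F, x ^ 2 + a * x * y + b * y ^ 2 = 0 → x = 0 ∧ y = 0) :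
    ∃ x : GL ((Fin (d - 1) ⊕ Fin (d - 1)) ⊕ Fin 2) F, x ∈ Cfsg.Geo.omegaGL (Cfsg.quadFormMinus (d - 1) F a b) ∧
      (x : Matrix ((Fin (d - 1) ⊕ Fin (d - 1)) ⊕ Fin 2) ((Fin (d - 1) ⊕ Fin (d - 1)) ⊕ Fin 2) F) *
        (x : Matrix ((Fin (d - 1) ⊕ Fin (d - 1)) ⊕ Fin 2) ((Fin (d - 1) ⊕ Fin (d - 1)) ⊕ Fin 2) F) = 1 ∧
      (∀ z : F, (x : Matrix ((Fin (d - 1) ⊕ Fin (d - 1)) ⊕ Fin 2) ((Fin (d - 1) ⊕ Fin (d - 1)) ⊕ Fin 2) F) ≠
        z • (1 : Matrix ((Fin (d - 1) ⊕ Fin (d - 1)) ⊕ Fin 2) ((Fin (d - 1) ⊕ Fin (d - 1)) ⊕ Fin 2) F)) ∧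
      ∃ R0 : Submodule F ((Fin (d - 1) ⊕ Fin (d - 1)) ⊕ Fin 2 → F), (∀ v ∈ R0, QM d F a b v = 0) ∧
        (∀ v, (Matrix.toLin' (x : Matrix ((Fin (d - 1) ⊕ Fin (d - 1)) ⊕ Fin 2) ((Fin (d - 1) ⊕ Fin (d - 1)) ⊕ Fin 2) F) - 1) v ∈ R0) ∧
        R0 ≤ LinearMap.ker (Matrix.toLin' (x : Matrix ((Fin (d - 1) ⊕ Fin (d - 1)) ⊕ Fin 2) ((Fin (d - 1) ⊕ Fin (d - 1)) ⊕ Fin 2) F) - 1) ∧
        finrank F (LinearMap.ker (Matrix.toLin' (x : Matrix ((Fin (d - 1) ⊕ Fin (d - 1)) ⊕ Fin 2) ((Fin (d - 1) ⊕ Fin (d - 1)) ⊕ Fin 2) F) - 1)) ≤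
          finrank F R0 + 2 := by
  classical
  have hme : Even (d - 1) := by
    obtain ⟨k, hk⟩ := hd
    exact ⟨k, by omega⟩
  obtain ⟨π, hπ2, hπ⟩ := exists_fpf_involution hme
  have hiso : xGL (F := F) π ∈ Cfsg.isometryGroup F (⇑(QMinus (d - 1) F a b)) := by
    rw [Cfsg.Agent.Lib.Helper19.mem_isometryGroup_iff]
    intro v
    rw [xGL_val]
    exact quadFormMinus_xMat π hπ2 hπ a b v
  have h24 : Fintype.card F ≠ 2 ∨ Fintype.card ((Fin (d - 1) ⊕ Fin (d - 1)) ⊕ Fin 2) ≠ 4 := by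
    right
    rw [Fintype.card_sum, Fintype.card_sum, Fintype.card_fin, Fintype.card_fin]
    omega
  refine ⟨xGL π, ?_, ?_, ?_, coordSub (llSet (d - 1)), ?_, ?_, ?_, ?_⟩
  · have hΩ : (⟨xGL π, hiso⟩ : ↥(Cfsg.isometryGroup F (⇑(QMinus (d - 1) F a b)))) ∈
        Cfsg.Omega F (⇑(QMinus (d - 1) F a b)) := by
      rw [mem_Omega_iff_even_rank' (QMinus (d - 1) F a b) (QMinus_nondegenerate (d - 1) a b hab) h24]
      show Even (xMat (F := F) π - 1).rank
      rw [rank_xMat_sub_one π hπ2]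
      exact hme
    exact coe_mem_omegaGL _ _ hΩ
  · rw [xGL_val, xMat_mul_self]
  · intro z hz
    rw [xGL_val] at hz
    have i : Fin (d - 1) := ⟨0, by omega⟩
    have h1 := congrFun (congrFun hz (Sum.inl (Sum.inl i))) (Sum.inl (Sum.inr (π i)))
    simp [xMat, unipMat, permMat] at h1
  · intro v hv
    show Cfsg.quadFormMinus (d - 1) F a b v = 0
    unfold Cfsg.quadFormMinus
    have h1 : ∀ i, v (Sum.inl (Sum.inr i)) = 0 := fun i => hv _ (by intro i' h; simp at h)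
    have h2 : ∀ k, v (Sum.inr k) = 0 := fun k => hv _ (by intro i' h; simp at h)
    simp [h1, h2]
  · intro v
    rw [xGL_val, toLin'_sub_one_eq', ← range_xMat_sub_one π hπ2]
    exact LinearMap.mem_range_self _ v
  · intro v hv
    rw [LinearMap.mem_ker, xGL_val, toLin'_sub_one_eq', Matrix.mulVecLin_apply, xMat_sub_one_mulVec]
    have h1 : ∀ i, v (Sum.inl (Sum.inr i)) = 0 := fun i => hv _ (by intro i' h; simp at h)
    funext j
    rcases j with (i | i) | k <;> simp [h1]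
  · rw [xGL_val, toLin'_sub_one_eq']
    have h := LinearMap.finrank_range_add_finrank_ker (xMat (F := F) π - 1).mulVecLin
    rw [range_xMat_sub_one π hπ2, finrank_coordSub_llSet, Module.finrank_fintype_fun_eq_card,
      Fintype.card_sum, Fintype.card_sum, Fintype.card_fin, Fintype.card_fin] at h
    rw [finrank_coordSub_llSet]
    omega

end Cfsg.Agent.Lib.Helper63.OEl
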