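import Mathlib
import Cfsg.Agent.Lib.Helper53.StOmDefs
import Cfsg.Agent.Lib.Helper90.StOmR0a

/-!
# K-StOm pack (S2549), leaf F1P (254905, helper63): `decomp_perm`

`g ∈ B ⇒ g = g' * x_{ε_i - ε_{i+1}}(t)` with `g' ∈ B` and `s g' s⁻¹ ∈ B`, where `s` is the
reflection `e_i ↔ e_{i+1}`, `f_i ↔ f_{i+1}`.  Port of `Helper56.StOF1P` (pack K-StO) to the
block upper triangular setting of `quadFormMinus`.  The matrix of `xPerm` (leaf R0b) is re-proved
locally (`f1p_mat_xPerm`).
-/

set_option autoImplicit false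
set_option linter.unusedSectionVars false
set_option linter.unusedSimpArgs false
set_option linter.unusedVariables false

namespace Cfsg.Agent.Lib.Helper63.StOm

open Cfsg Cfsg.Agent.Lib.Helper53.StOm Matrix

variable {m : ℕ} {F : Type*} [Field F] {a b : F}

/-! ### the matrix of `xPerm` -/

theorem f1p_xPermMat_mulVec (i j : Fin m) (t : F) (u : MI m → F) :
    xPermMat m F i j t *ᵥ u = fun x => u x + (if x = eI i then t * u (eI j) else 0)
        - (if x = fI j then t * u (fI i) else 0) := by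
  funext x
  unfold xPermMat
  simp only [Matrix.add_mulVec, Matrix.sub_mulVec, Matrix.one_mulVec, Matrix.single_mulVec,
    Pi.add_apply, Pi.sub_apply, Function.update_apply, Pi.zero_apply]

theorem f1p_xPermMat_mul_neg (i j : Fin m) (hij : i ≠ j) (t : F) :
    xPermMat m F i j t * xPermMat m F i j (-t) = 1 := by
  rw [Matrix.ext_iff_mulVec]
  intro u
  rw [← Matrix.mulVec_mulVec, Matrix.one_mulVec, f1p_xPermMat_mulVec, f1p_xPermMat_mulVec]
  funext x
  have hji : j ≠ i := hij.symm
  rcases x with (x | x) | x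
  · by_cases h : x = i
    · subst h; simp [hji]
    · simp [h]
  · by_cases h : x = j
    · subst h; simp [hij]
    · simp [h]
  · simp

theorem f1p_quad_xPermMat (i j : Fin m) (hij : i ≠ j) (t : F) (u : MI m → F) :
    Cfsg.quadFormMinus m F a b (xPermMat m F i j t *ᵥ u) = Cfsg.quadFormMinus m F a b u := by
  rw [f1p_xPermMat_mulVec]
  unfold Cfsg.quadFormMinus
  have hji : j ≠ i := hij.symm
  have h1 : ∀ k : Fin m,
      ((u (Sum.inl (Sum.inl k)) + (if (Sum.inl (Sum.inl k) : MI m) = eI i then t * u (eI j) else 0)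
        - (if (Sum.inl (Sum.inl k) : MI m) = fI j then t * u (fI i) else 0)) *
      (u (Sum.inl (Sum.inr k)) + (if (Sum.inl (Sum.inr k) : MI m) = eI i then t * u (eI j) else 0)
        - (if (Sum.inl (Sum.inr k) : MI m) = fI j then t * u (fI i) else 0)))
      = u (Sum.inl (Sum.inl k)) * u (Sum.inl (Sum.inr k))
        + (if k = i then t * u (eI j) * u (fI i) else 0)
        - (if k = j then t * u (fI i) * u (eI j) else 0) := by
    intro k
    by_cases h : k = i
    · subst h; simp [hij]; ring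
    · by_cases h' : k = j
      · subst h'; simp [hji]; ring
      · simp [h, h']
  simp only [h1, Finset.sum_sub_distrib, Finset.sum_add_distrib, Finset.sum_ite_eq',
    Finset.mem_univ, if_true]
  simp
  ring

/-- local copy of leaf R0b -/
theorem f1p_mat_xPerm (i j : Fin m) (hij : i ≠ j) (t : F) :
    mat (xPerm m F a b i j t) = xPermMat m F i j t := by
  unfold xPerm
  refine mat_ofMat _ (exists_of_isometry (xPermMat m F i j t) (xPermMat m F i j (-t))
    (f1p_xPermMat_mul_neg i j hij t) ?_ (f1p_quad_xPermMat i j hij t))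
  have := f1p_xPermMat_mul_neg (F := F) i j hij (-t)
  rwa [neg_neg] at this

theorem f1p_xPerm_mul_neg (i j : Fin m) (hij : i ≠ j) (t : F) :
    xPerm m F a b i j (-t) * xPerm m F a b i j t = 1 := by
  apply mat_injective
  rw [mat_mul, f1p_mat_xPerm i j hij, f1p_mat_xPerm i j hij, mat_one]
  have := f1p_xPermMat_mul_neg (F := F) i j hij (-t)
  rwa [neg_neg] at this

theorem f1p_xPerm_mem_B (i j : Fin m) (hij : i.val < j.val) (t : F) :
    xPerm m F a b i j t ∈ Bsub m F a b := by
  have hne : i ≠ j := fun e => by rw [e] at hij; exact lt_irrefl _ hij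
  rw [mem_Bsub_iff]
  intro x y hxy
  rw [f1p_mat_xPerm i j hne]
  unfold xPermMat
  have h1 : x ≠ y := by
    intro h; rw [h] at hxy; exact lt_irrefl _ hxy
  rw [Matrix.sub_apply, Matrix.add_apply, Matrix.one_apply_ne h1, Matrix.single_apply,
    Matrix.single_apply, zero_add]
  have h2 : ¬ (eI i = x ∧ eI j = y) := by
    rintro ⟨rfl, rfl⟩
    simp only [pos] at hxy
    omega
  have h3 : ¬ (fI j = x ∧ fI i = y) := by
    rintro ⟨rfl, rfl⟩
    simp only [pos] at hxy
    have := i.2; have := j.2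
    omega
  rw [if_neg h2, if_neg h3, sub_zero]

/-- entry `(x, e_j)` of `M * xPermMat i j s` -/
theorem f1p_mul_xPermMat_apply (M : Matrix (MI m) (MI m) F) (i j : Fin m) (s : F) (x : MI m) :
    (M * xPermMat m F i j s) x (eI j) = M x (eI j) + M x (eI i) * s := by
  unfold xPermMat
  rw [Matrix.mul_sub, Matrix.mul_add, Matrix.mul_one, Matrix.sub_apply, Matrix.add_apply,
    Matrix.mul_single_apply_same, Matrix.mul_single_apply_of_ne _ _ _ _ _ (by simp), sub_zero]

/-! ### diagonal entries of elements of `B` at the `e_i` -/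

theorem f1p_diag_ne_zero (g : OG m F a b) (hg : g ∈ Bsub m F a b) (i : Fin m) :
    mat g (eI i) (eI i) ≠ 0 := by
  have hB := (mem_Bsub_iff g).1 hg
  have hB' := (mem_Bsub_iff g⁻¹).1 ((Bsub m F a b).inv_mem hg)
  have h1 : (mat g * mat g⁻¹) (eI i) (eI i) = 1 := by rw [mat_mul_mat_inv, Matrix.one_apply_eq]
  rw [Matrix.mul_apply, Finset.sum_eq_single (eI i)] at h1
  · intro h0
    rw [h0, zero_mul] at h1
    exact zero_ne_one h1
  · intro c _ hc
    have hne : pos m c ≠ pos m (eI i) := by
      intro e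
      rcases pos_eq_imp m c (eI i) e with h | ⟨_, h⟩
      · exact hc h
      · simp only [pos] at h
        have := i.2
        omega
    rcases lt_or_gt_of_ne hne with h | h
    · rw [hB (eI i) c h, zero_mul]
    · rw [hB' c (eI i) h, mul_zero]
  · intro h; exact absurd (Finset.mem_univ _) h

/-! ### the polar form -/

theorem f1p_polar (v w : MI m → F) :
    Cfsg.quadFormMinus m F a b (v + w) = Cfsg.quadFormMinus m F a b v +
      Cfsg.quadFormMinus m F a b w +
      ((2 * v (zI 0) * w (zI 0) + a * (v (zI 0) * w (zI 1) + w (zI 0) * v (zI 1)) +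
          2 * b * v (zI 1) * w (zI 1)) +
        ∑ k : Fin m, (v (eI k) * w (fI k) + w (eI k) * v (fI k))) := by
  unfold Cfsg.quadFormMinus
  simp only [Pi.add_apply]
  have h : ∀ k : Fin m,
      (v (Sum.inl (Sum.inl k)) + w (Sum.inl (Sum.inl k))) *
        (v (Sum.inl (Sum.inr k)) + w (Sum.inl (Sum.inr k))) =
      v (Sum.inl (Sum.inl k)) * v (Sum.inl (Sum.inr k)) +
        w (Sum.inl (Sum.inl k)) * w (Sum.inl (Sum.inr k)) +
        (v (eI k) * w (fI k) + w (eI k) * v (fI k)) := by
    intro k; ring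
  simp only [h, Finset.sum_add_distrib]
  ring

/-- the Gram relation of the columns `e_j`, `f_i` (`i ≠ j`) of an isometry -/
theorem f1p_gram (g : OG m F a b) (i j : Fin m) (hne : i ≠ j) :
    (2 * mat g (zI 0) (eI j) * mat g (zI 0) (fI i) +
        a * (mat g (zI 0) (eI j) * mat g (zI 1) (fI i) +
          mat g (zI 0) (fI i) * mat g (zI 1) (eI j)) +
        2 * b * mat g (zI 1) (eI j) * mat g (zI 1) (fI i)) +
      ∑ k : Fin m, (mat g (eI k) (eI j) * mat g (fI k) (fI i) +
        mat g (eI k) (fI i) * mat g (fI k) (eI j)) = 0 := by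
  have hu : mat g *ᵥ (Pi.single (eI j) 1 : MI m → F) = fun x => mat g x (eI j) := by
    rw [Matrix.mulVec_single_one]; rfl
  have hw : mat g *ᵥ (Pi.single (fI i) 1 : MI m → F) = fun x => mat g x (fI i) := by
    rw [Matrix.mulVec_single_one]; rfl
  have e1 := quad_mulVec g ((Pi.single (eI j) 1 : MI m → F) + Pi.single (fI i) 1)
  rw [Matrix.mulVec_add, f1p_polar, f1p_polar, quad_mulVec, quad_mulVec] at e1
  have e2 := add_left_cancel e1
  rw [hu, hw] at e2
  rw [e2]
  have h1 : ∀ l : Fin 2, (Pi.single (eI j) (1 : F) : MI m → F) (zI l) = 0 := by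
    intro l
    rw [Pi.single_apply, if_neg (by simp)]
  rw [h1, h1]
  have hsum : ∑ k : Fin m, ((Pi.single (eI j) (1 : F) : MI m → F) (eI k) *
      (Pi.single (fI i) (1 : F) : MI m → F) (fI k) +
      (Pi.single (fI i) (1 : F) : MI m → F) (eI k) *
        (Pi.single (eI j) (1 : F) : MI m → F) (fI k)) = 0 := by
    apply Finset.sum_eq_zero
    intro k _
    have h2 : (Pi.single (fI i) (1 : F) : MI m → F) (eI k) = 0 := by
      rw [Pi.single_apply, if_neg (by simp)]
    rw [h2, zero_mul, add_zero]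
    by_cases hk : k = j
    · subst hk
      have h3 : (Pi.single (fI i) (1 : F) : MI m → F) (fI k) = 0 := by
        rw [Pi.single_apply, if_neg]
        intro e
        exact hne (Sum.inr.inj (Sum.inl.inj e)).symm
      rw [h3, mul_zero]
    · have h3 : (Pi.single (eI j) (1 : F) : MI m → F) (eI k) = 0 := by
        rw [Pi.single_apply, if_neg]
        intro e
        exact hk (Sum.inl.inj (Sum.inl.inj e))
      rw [h3, zero_mul]
  rw [hsum]
  ring

/-- for `g ∈ B` with `g(e_i, e_{i+1}) = 0` also `g(f_{i+1}, f_i) = 0` -/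
theorem f1p_lower_zero (g : OG m F a b) (hg : g ∈ Bsub m F a b) (i j : Fin m)
    (hij : j.val = i.val + 1)
    (h0 : mat g (eI i) (eI j) = 0) : mat g (fI j) (fI i) = 0 := by
  have hB := (mem_Bsub_iff g).1 hg
  have hne : i ≠ j := by
    intro e; rw [e] at hij; omega
  have h := f1p_gram g i j hne
  have hz : ∀ l : Fin 2, mat g (zI l) (eI j) = 0 := by
    intro l
    apply hB; simp only [pos]; exact j.2
  rw [hz, hz, Finset.sum_eq_single j] at h
  · have h1 : mat g (fI j) (eI j) = 0 := by
      apply hB; simp only [pos]; have := j.2; omega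
    rw [h1] at h
    have h' : mat g (eI j) (eI j) * mat g (fI j) (fI i) = 0 := by
      linear_combination h
    rcases mul_eq_zero.1 h' with h'' | h''
    · exact absurd h'' (f1p_diag_ne_zero g hg j)
    · exact h''
  · intro k _ hk
    have h1 : mat g (fI k) (eI j) = 0 := by
      apply hB; simp only [pos]; have := j.2; have := k.2; omega
    rw [h1, mul_zero, add_zero]
    have hkv : k.val ≠ j.val := fun e => hk (Fin.ext e)
    by_cases hki : k = i
    · rw [hki, h0, zero_mul]
    · have hkv' : k.val ≠ i.val := fun e => hki (Fin.ext e)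
      rcases lt_or_gt_of_ne hkv with hlt | hlt
      · have h2 : mat g (fI k) (fI i) = 0 := by
          apply hB; simp only [pos]; have := i.2; have := k.2; omega
        rw [h2, mul_zero]
      · have h2 : mat g (eI k) (eI j) = 0 := by
          apply hB; simp only [pos]; exact hlt
        rw [h2, zero_mul]
  · intro h'; exact absurd (Finset.mem_univ j) h'

/-! ### conjugation by the reflection -/

theorem f1p_swapE_swapE (i j : Fin m) (x : MI m) : swapE m i j (swapE m i j x) = x := by
  rcases x with (x | x) | x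
  · show eI (Equiv.swap i j (Equiv.swap i j x)) = eI x
    rw [Equiv.swap_apply_self]
  · show fI (Equiv.swap i j (Equiv.swap i j x)) = fI x
    rw [Equiv.swap_apply_self]
  · rfl

theorem f1p_swapE_symm (i j : Fin m) (x : MI m) : (swapE m i j).symm x = swapE m i j x := by
  rw [Equiv.symm_apply_eq, f1p_swapE_swapE]

theorem f1p_sPerm_mul_self (i j : Fin m) : sPerm m F a b i j * sPerm m F a b i j = 1 := by
  apply mat_injective
  rw [mat_mul, Cfsg.Agent.Lib.Helper90.StOm.mat_sPerm, mat_one]
  unfold sPermMat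
  rw [← Matrix.permMatrix_mul]
  have h : swapE m i j * swapE m i j = 1 := by
    apply Equiv.ext
    intro x
    exact f1p_swapE_swapE i j x
  rw [h, Matrix.permMatrix_one]

theorem f1p_sPerm_inv (i j : Fin m) : (sPerm m F a b i j)⁻¹ = sPerm m F a b i j :=
  inv_eq_of_mul_eq_one_right (f1p_sPerm_mul_self i j)

theorem f1p_conj_apply (i j : Fin m) (M : Matrix (MI m) (MI m) F) (x y : MI m) :
    (sPermMat m F i j * M * sPermMat m F i j) x y = M (swapE m i j x) (swapE m i j y) := by
  unfold sPermMat Equiv.Perm.permMatrix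
  rw [PEquiv.toMatrix_toPEquiv_mul, PEquiv.mul_toMatrix_toPEquiv]
  simp only [Matrix.submatrix_apply, id_eq]
  rw [f1p_swapE_symm]

theorem f1p_cases (i j : Fin m) (hij : j.val = i.val + 1) (x : MI m) :
    (pos m (swapE m i j x) = pos m x ∧ pos m x ≠ i.val ∧ pos m x ≠ i.val + 1 ∧
        pos m x ≠ 2 * m - i.val - 1 ∧ pos m x ≠ 2 * m - i.val) ∨
      (swapE m i j x = eI j ∧ pos m x = i.val ∧ pos m (swapE m i j x) = i.val + 1) ∨
      (swapE m i j x = eI i ∧ pos m x = i.val + 1 ∧ pos m (swapE m i j x) = i.val) ∨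
      (swapE m i j x = fI j ∧ pos m x = 2 * m - i.val ∧
        pos m (swapE m i j x) = 2 * m - i.val - 1) ∨
      (swapE m i j x = fI i ∧ pos m x = 2 * m - i.val - 1 ∧
        pos m (swapE m i j x) = 2 * m - i.val) := by
  have hi := i.2
  have hj := j.2
  rcases x with (x | x) | x
  · have hx := x.2
    have e : swapE m i j (Sum.inl (Sum.inl x)) = eI (Equiv.swap i j x) := rfl
    by_cases h1 : x = i
    · right; left
      subst h1
      rw [e, Equiv.swap_apply_left]
      refine ⟨rfl, ?_, ?_⟩ <;> (simp only [pos] <;> omega)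
    · by_cases h2 : x = j
      · right; right; left
        subst h2
        rw [e, Equiv.swap_apply_right]
        refine ⟨rfl, ?_, ?_⟩ <;> (simp only [pos] <;> omega)
      · left
        rw [e, Equiv.swap_apply_of_ne_of_ne h1 h2]
        have h1' : x.val ≠ i.val := fun h => h1 (Fin.ext h)
        have h2' : x.val ≠ j.val := fun h => h2 (Fin.ext h)
        refine ⟨rfl, ?_, ?_, ?_, ?_⟩ <;> (simp only [pos] <;> omega)
  · have hx := x.2
    have e : swapE m i j (Sum.inl (Sum.inr x)) = fI (Equiv.swap i j x) := rfl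
    by_cases h1 : x = i
    · right; right; right; left
      subst h1
      rw [e, Equiv.swap_apply_left]
      refine ⟨rfl, ?_, ?_⟩ <;> (simp only [pos] <;> omega)
    · by_cases h2 : x = j
      · right; right; right; right
        subst h2
        rw [e, Equiv.swap_apply_right]
        refine ⟨rfl, ?_, ?_⟩ <;> (simp only [pos] <;> omega)
      · left
        rw [e, Equiv.swap_apply_of_ne_of_ne h1 h2]
        have h1' : x.val ≠ i.val := fun h => h1 (Fin.ext h)
        have h2' : x.val ≠ j.val := fun h => h2 (Fin.ext h)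
        refine ⟨rfl, ?_, ?_, ?_, ?_⟩ <;> (simp only [pos] <;> omega)
  · left
    refine ⟨rfl, ?_, ?_, ?_, ?_⟩ <;> (simp only [pos] <;> omega)

theorem f1p_decomp_aux (i j : Fin m) (hjv : j.val = i.val + 1) (g : OG m F a b)
    (hg : g ∈ Bsub m F a b) :
    ∃ g' ∈ Bsub m F a b, ∃ t : F, g = g' * xPerm m F a b i j t ∧
      sPerm m F a b i j * g' * (sPerm m F a b i j)⁻¹ ∈ Bsub m F a b := by
  have hij : i ≠ j := by
    intro e; rw [e] at hjv; omega
  have hd := f1p_diag_ne_zero g hg i
  obtain ⟨t, ht⟩ : ∃ t : F, t = mat g (eI i) (eI j) / mat g (eI i) (eI i) := ⟨_, rfl⟩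
  have hinv := f1p_xPerm_mul_neg (F := F) (a := a) (b := b) i j hij t
  have hg' : g * xPerm m F a b i j (-t) ∈ Bsub m F a b :=
    (Bsub m F a b).mul_mem hg (f1p_xPerm_mem_B i j (by omega) _)
  have hB := (mem_Bsub_iff _).1 hg'
  have hz : mat (g * xPerm m F a b i j (-t)) (eI i) (eI j) = 0 := by
    rw [mat_mul, f1p_mat_xPerm i j hij, f1p_mul_xPermMat_apply, ht]
    field_simp
    ring
  have hz' := f1p_lower_zero _ hg' i j hjv hz
  refine ⟨g * xPerm m F a b i j (-t), hg', t, ?_, ?_⟩
  · rw [mul_assoc, hinv, mul_one]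
  · rw [f1p_sPerm_inv, mem_Bsub_iff]
    intro x y hxy
    rw [mat_mul, mat_mul, Cfsg.Agent.Lib.Helper90.StOm.mat_sPerm, f1p_conj_apply]
    by_cases hlt : pos m (swapE m i j y) < pos m (swapE m i j x)
    · exact hB _ _ hlt
    · have hi := i.2
      have hj := j.2
      rcases f1p_cases i j hjv x with ⟨ha1, ha2, ha3, ha4, ha5⟩ | ⟨ha1, ha2, ha3⟩ |
          ⟨ha1, ha2, ha3⟩ | ⟨ha1, ha2, ha3⟩ | ⟨ha1, ha2, ha3⟩ <;>
        rcases f1p_cases i j hjv y with ⟨hc1, hc2, hc3, hc4, hc5⟩ | ⟨hc1, hc2, hc3⟩ |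
          ⟨hc1, hc2, hc3⟩ | ⟨hc1, hc2, hc3⟩ | ⟨hc1, hc2, hc3⟩ <;>
        first
          | (exfalso; omega)
          | (rw [ha1, hc1]; exact hz)
          | (rw [ha1, hc1]; exact hz')

/-- **K-StOm-F1P** -/
theorem decomp_perm (i : Fin m) (hi : i.val + 1 < m) (g : OG m F a b) (hg : g ∈ Bsub m F a b) :
    ∃ g' ∈ Bsub m F a b, ∃ t : F, g = g' * xPerm m F a b i (nxt i hi) t ∧
      sPerm m F a b i (nxt i hi) * g' * (sPerm m F a b i (nxt i hi))⁻¹ ∈ Bsub m F a b :=
  f1p_decomp_aux i (nxt i hi) rfl g hg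

end Cfsg.Agent.Lib.Helper63.StOm

#print axioms Cfsg.Agent.Lib.Helper63.StOm.decomp_perm
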