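import Mathlib
import Cfsg.Prelude.Def_GeometricClasses
import Cfsg.Prelude.Def_ClassicalGeometry
import Cfsg.Agent.Lib.Helper72.OQFDefs
import Cfsg.Agent.Lib.Helper79.SpUTools

/-!
# K-OQF-M0 (keystone 597702, architect helper72): a quadratic field subalgebra `K` of the matrix
algebra over a finite field of odd order contains `θ` with `θ² = δ` for a given nonsquare `δ`, and
`K = {s + t θ}`.
-/

set_option autoImplicit false

namespace Cfsg.Agent.Lib.Helper63.OQF

open Cfsg Cfsg.Geo Cfsg.Agent.Lib.Helper72.OQF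
open scoped Matrix MatrixGroups

variable {F : Type*} [Field F] {ι : Type} [Fintype ι] [DecidableEq ι]

/-- the quotient of two nonsquares of a finite field is a square -/
theorem isSquare_div_of_not_isSquare [Fintype F] {x y : F} (hx : ¬ IsSquare x) (hy : ¬ IsSquare y) :
    IsSquare (x / y) := by
  classical
  have hx0 : x ≠ 0 := fun h => hx (by rw [h]; exact IsSquare.zero)
  have hy0 : y ≠ 0 := fun h => hy (by rw [h]; exact IsSquare.zero)
  rw [← quadraticChar_one_iff_isSquare (div_ne_zero hx0 hy0), div_eq_mul_inv, map_mul,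
    quadraticChar_neg_one_iff_not_isSquare.mpr hx]
  have hy1 : quadraticChar F y = -1 := quadraticChar_neg_one_iff_not_isSquare.mpr hy
  have hyi : quadraticChar F y⁻¹ = -1 := by
    have h1 : quadraticChar F y * quadraticChar F y⁻¹ = 1 := by
      rw [← map_mul, mul_inv_cancel₀ hy0, map_one]
    rw [hy1] at h1
    linarith
  rw [hyi]
  norm_num

/-- `K = {s + t θ}` as soon as `θ ∈ K` is not a scalar -/
theorem genBy_of_nonscalar (K : Subalgebra F (Matrix ι ι F)) (hK : IsFieldSubalgebra 2 K)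
    (θ : Matrix ι ι F) (hθ : θ ∈ K) (hns : ∀ c : F, θ ≠ c • (1 : Matrix ι ι F)) : GenBy K θ := by
  classical
  intro a
  constructor
  · intro ha
    have : Module.Finite F K :=
      Module.finite_of_finrank_pos (by rw [hK.finrank_eq]; norm_num)
    have hnt : Nontrivial K :=
      Module.nontrivial_of_finrank_pos (R := F) (by rw [hK.finrank_eq]; norm_num)
    have h1 : (1 : K) ≠ 0 := one_ne_zero
    have hli : LinearIndependent F ![(1 : K), ⟨θ, hθ⟩] := by
      rw [LinearIndependent.pair_iff]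
      intro s t hst
      have hst' : s • (1 : Matrix ι ι F) + t • θ = 0 := by
        have := congrArg Subtype.val hst
        simpa using this
      have ht : t = 0 := by
        by_contra ht
        apply hns (-(t⁻¹ * s))
        have h3 : t • θ = -(s • (1 : Matrix ι ι F)) := eq_neg_of_add_eq_zero_right hst'
        calc θ = t⁻¹ • (t • θ) := by rw [smul_smul, inv_mul_cancel₀ ht, one_smul]
          _ = -(t⁻¹ * s) • (1 : Matrix ι ι F) := by rw [h3, smul_neg, smul_smul, neg_smul]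
      refine ⟨?_, ht⟩
      rw [ht, zero_smul, add_zero] at hst
      rcases smul_eq_zero.mp hst with h | h
      · exact h
      · exact absurd h h1
    have hspan := hli.span_eq_top_of_card_eq_finrank' (by rw [hK.finrank_eq]; simp)
    have hmem : (⟨a, ha⟩ : K) ∈ Submodule.span F (Set.range ![(1 : K), ⟨θ, hθ⟩]) := by
      rw [hspan]; exact Submodule.mem_top
    have hrange : Set.range ![(1 : K), ⟨θ, hθ⟩] = {(1 : K), ⟨θ, hθ⟩} := by
      ext x
      simp only [Matrix.range_cons, Matrix.range_empty, Set.union_empty, Set.mem_union,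
        Set.mem_singleton_iff, Set.mem_insert_iff]
    rw [hrange] at hmem
    obtain ⟨s, t, hst⟩ := Submodule.mem_span_pair.mp hmem
    refine ⟨s, t, ?_⟩
    have := congrArg Subtype.val hst
    simpa using this.symm
  · rintro ⟨s, t, rfl⟩
    exact K.add_mem (K.smul_mem K.one_mem s) (K.smul_mem hθ t)

/-- K-OQF-M0 (597702). -/
theorem exists_theta [Fintype F] (hodd : Odd (Fintype.card F)) (K : Subalgebra F (Matrix ι ι F))
    (hK : IsFieldSubalgebra 2 K) (δ : F) (hδ : ¬ IsSquare δ) :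
    ∃ θ ∈ K, θ * θ = δ • (1 : Matrix ι ι F) ∧ GenBy K θ := by
  classical
  have hchar : ringChar F ≠ 2 := by
    intro h
    have := FiniteField.even_card_of_char_two h
    rcases hodd with ⟨k, hk⟩
    omega
  have h2 : (2 : F) ≠ 0 := Ring.two_ne_zero hchar
  have hδ0 : δ ≠ 0 := fun h => hδ (by rw [h]; exact IsSquare.zero)
  obtain ⟨η, hηK, hηns⟩ := Cfsg.Agent.Lib.Helper79.SpU.exists_nonscalar K hK
  obtain ⟨s, d', hrel⟩ := Cfsg.Agent.Lib.Helper79.SpU.exists_quad_rel K hK η hηK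
  obtain ⟨θ₁, hθ₁⟩ : ∃ θ₁ : Matrix ι ι F, θ₁ = (2 : F) • η - s • (1 : Matrix ι ι F) := ⟨_, rfl⟩
  have hθ₁K : θ₁ ∈ K := by
    rw [hθ₁]
    exact K.sub_mem (K.smul_mem hηK _) (K.smul_mem K.one_mem _)
  obtain ⟨Δ, hΔ⟩ : ∃ Δ : F, Δ = s * s - 4 * d' := ⟨_, rfl⟩
  have hsq : θ₁ * θ₁ = Δ • (1 : Matrix ι ι F) := by
    rw [hθ₁, hΔ]
    simp only [sub_mul, mul_sub, smul_mul_assoc, mul_smul_comm, mul_one, one_mul, hrel, smul_sub,
      smul_smul, sub_smul]
    module
  have hθ₁ns : ∀ c : F, θ₁ ≠ c • (1 : Matrix ι ι F) := by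
    intro c hc
    apply hηns ((2 : F)⁻¹ * (c + s))
    have h3 : (2 : F) • η = (c + s) • (1 : Matrix ι ι F) := by
      rw [add_smul, ← hc, hθ₁]
      abel
    calc η = (2 : F)⁻¹ • ((2 : F) • η) := by rw [smul_smul, inv_mul_cancel₀ h2, one_smul]
      _ = ((2 : F)⁻¹ * (c + s)) • (1 : Matrix ι ι F) := by rw [h3, smul_smul]
  have hΔns : ¬ IsSquare Δ := by
    rintro ⟨c, hc⟩
    have hmem : θ₁ - c • (1 : Matrix ι ι F) ∈ K := K.sub_mem hθ₁K (K.smul_mem K.one_mem _)
    have hprod : (θ₁ - c • (1 : Matrix ι ι F)) * (θ₁ + c • (1 : Matrix ι ι F)) = 0 := by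
      simp only [sub_mul, mul_add, smul_mul_assoc, mul_smul_comm, mul_one, one_mul, hsq, hc]
      module
    rcases Cfsg.Agent.Lib.Helper79.SpU.eq_zero_of_mul_eq_zero' hK hmem hprod with h | h
    · exact hθ₁ns c (sub_eq_zero.mp h)
    · apply hθ₁ns (-c)
      rw [neg_smul]
      exact eq_neg_of_add_eq_zero_left h
  obtain ⟨c, hc⟩ := isSquare_div_of_not_isSquare hΔns hδ
  have hΔ0 : Δ ≠ 0 := fun h => hΔns (by rw [h]; exact IsSquare.zero)
  have hc0 : c ≠ 0 := by
    rintro rfl
    rw [mul_zero] at hc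
    exact (div_ne_zero hΔ0 hδ0) hc
  have hΔc : Δ = c * c * δ := by
    rw [← hc, div_mul_cancel₀ _ hδ0]
  refine ⟨c⁻¹ • θ₁, K.smul_mem hθ₁K _, ?_, ?_⟩
  · rw [smul_mul_assoc, mul_smul_comm, hsq, smul_smul, smul_smul, hΔc]
    congr 1
    field_simp
  · apply genBy_of_nonscalar K hK _ (K.smul_mem hθ₁K _)
    intro e he
    apply hθ₁ns (c * e)
    calc θ₁ = c • (c⁻¹ • θ₁) := by rw [smul_smul, mul_inv_cancel₀ hc0, one_smul]
      _ = (c * e) • (1 : Matrix ι ι F) := by rw [he, smul_smul]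

end Cfsg.Agent.Lib.Helper63.OQF
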