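import Mathlib
import Cfsg.Agent.Lib.Helper05.A10Defs

/-!
# K-A10-B5 (keystone 348907, S3489, architect helper5): witnesses in `K` for every element order
-/

set_option autoImplicit false

namespace Cfsg.Agent.Lib.Helper63.A10Iso

open Matrix Cfsg.Agent.Lib.Helper05.A10Iso

theorem gA_mem_K : gA ∈ K := Subgroup.subset_closure (by simp)
theorem gB_mem_K : gB ∈ K := Subgroup.subset_closure (by simp)

theorem cyc8_matA : matA ^ 4 + 1 = (0 : M4) := by decide +kernel
theorem cyc10_matB : matB ^ 4 - matB ^ 3 + matB ^ 2 - matB + 1 = (0 : M4) := by decide +kernel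
theorem cyc12_w : (matB * matB * matA) ^ 4 - (matB * matB * matA) ^ 2 + 1 = (0 : M4) := by
  decide +kernel
theorem cyc3_w : (matB * matA * matA) ^ 2 + matB * matA * matA + 1 = (0 : M4) := by decide +kernel
theorem cyc5_w : (matB * matB) ^ 4 + (matB * matB) ^ 3 + (matB * matB) ^ 2 + matB * matB + 1 =
    (0 : M4) := by decide +kernel
theorem cyc6_w : (matA ^ 4 * (matB * matA * matA)) ^ 2 - matA ^ 4 * (matB * matA * matA) + 1 =
    (0 : M4) := by decide +kernel
theorem cyc4_w : (matA ^ 2) ^ 2 + 1 = (0 : M4) := by decide +kernel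

/-- **LEAF B5 (348907).** -/
theorem K_witnesses : ∀ m ∈ orders, ∃ k ∈ K, cyc m ((k : GL4) : M4) = 0 := by
  have hA := gA_mem_K
  have hB := gB_mem_K
  intro m hm
  simp only [orders, Finset.mem_insert, Finset.mem_singleton] at hm
  rcases hm with rfl | rfl | rfl | rfl | rfl | rfl | rfl | rfl | rfl
  · exact ⟨1, K.one_mem, by simp [cyc]⟩
  · refine ⟨gA ^ 4, K.pow_mem hA 4, ?_⟩
    rw [Units.val_pow_eq_pow_val]
    show matA ^ 4 + 1 = 0
    exact cyc8_matA
  · refine ⟨gB * gA * gA, K.mul_mem (K.mul_mem hB hA) hA, ?_⟩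
    rw [Units.val_mul, Units.val_mul]
    show (matB * matA * matA) ^ 2 + matB * matA * matA + 1 = 0
    exact cyc3_w
  · refine ⟨gA ^ 2, K.pow_mem hA 2, ?_⟩
    rw [Units.val_pow_eq_pow_val]
    show (matA ^ 2) ^ 2 + 1 = 0
    exact cyc4_w
  · refine ⟨gB * gB, K.mul_mem hB hB, ?_⟩
    rw [Units.val_mul]
    show (matB * matB) ^ 4 + (matB * matB) ^ 3 + (matB * matB) ^ 2 + matB * matB + 1 = 0
    exact cyc5_w
  · refine ⟨gA ^ 4 * (gB * gA * gA), K.mul_mem (K.pow_mem hA 4) (K.mul_mem (K.mul_mem hB hA) hA), ?_⟩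
    rw [Units.val_mul, Units.val_mul, Units.val_mul, Units.val_pow_eq_pow_val]
    show (matA ^ 4 * (matB * matA * matA)) ^ 2 - matA ^ 4 * (matB * matA * matA) + 1 = 0
    exact cyc6_w
  · refine ⟨gA, hA, ?_⟩
    show matA ^ 4 + 1 = 0
    exact cyc8_matA
  · refine ⟨gB, hB, ?_⟩
    show matB ^ 4 - matB ^ 3 + matB ^ 2 - matB + 1 = 0
    exact cyc10_matB
  · refine ⟨gB * gB * gA, K.mul_mem (K.mul_mem hB hB) hA, ?_⟩
    rw [Units.val_mul, Units.val_mul]
    show (matB * matB * matA) ^ 4 - (matB * matB * matA) ^ 2 + 1 = 0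
    exact cyc12_w

end Cfsg.Agent.Lib.Helper63.A10Iso
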