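import Mathlib
import Cfsg.Agent.Lib.Helper16.BG134Ctx
import Cfsg.Agent.Lib.Helper13.BG12B
import Cfsg.Agent.Lib.Helper55.SylowIn
import Cfsg.Agent.Lib.Helper55.Basic
import Cfsg.Agent.Lib.Helper71.BG10Hall
import Cfsg.Agent.Lib.Helper33.PGroupBasic
import Cfsg.Agent.Lib.Helper91.BG125e
import Cfsg.Agent.S1350
import Cfsg.Agent.S1417
import Cfsg.Agent.S1418

set_option autoImplicit false

/-! Bender–Glauberman Lemma 13.4, step (D4) of the D-block: in the 13.4 context no prime divisor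
of `|C_{M_σ}(P)|` lies in `τ₂(H)`. -/

namespace Cfsg.Agent.Lib.Helper63.BG134

open Cfsg Cfsg.Agent.Lib.Helper55 Cfsg.Agent.Lib.Helper16.BG134

variable {G : Type*} [Group G] [Finite G]

/-- A nontrivial subgroup `Q` normalized by a `q`-group `N ≥ Q` contains a subgroup of order `q`
that is centralized by `N`. -/
theorem exists_central_prime_subgroup {q : ℕ} [Fact q.Prime] {Q N : Subgroup G}
    (hN : IsPGroup q N) (hQN : Q ≤ N) (hnorm : N ≤ Subgroup.normalizer (Q : Set G))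
    (hQ : Q ≠ ⊥) :
    ∃ X : Subgroup G, X ≤ Q ∧ Nat.card X = q ∧ N ≤ Subgroup.centralizer (X : Set G) := by
  have hqp : q.Prime := Fact.out
  have : (Q.subgroupOf N).Normal := (Subgroup.normal_subgroupOf_iff_le_normalizer hQN).mpr hnorm
  have hne : Q.subgroupOf N ≠ ⊥ := by
    intro h
    apply hQ
    rw [Subgroup.subgroupOf_eq_bot] at h
    exact (disjoint_of_le_iff_left_eq_bot hQN).mp h
  obtain ⟨z, hzQ, hzc, hz1⟩ :=
    Cfsg.Agent.Lib.Helper33.exists_mem_center_of_normal hN (Q.subgroupOf N) hne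
  have hgQ : (z : G) ∈ Q := hzQ
  have hg1 : (z : G) ≠ 1 := fun h => hz1 (Subtype.ext h)
  have hgc : (z : G) ∈ Subgroup.centralizer (N : Set G) := by
    rw [Subgroup.mem_centralizer_iff]
    intro h hh
    have := (Subgroup.mem_center_iff.mp hzc) ⟨h, hh⟩
    exact congrArg Subtype.val this
  obtain ⟨k, hk⟩ := (IsPGroup.iff_orderOf.mp hN) z
  have hk' : orderOf (z : G) = q ^ k := by rw [← hk, Subgroup.orderOf_coe]
  have hk0 : k ≠ 0 := by
    rintro rfl
    rw [pow_zero, orderOf_eq_one_iff] at hk'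
    exact hg1 hk'
  obtain ⟨j, rfl⟩ := Nat.exists_eq_succ_of_ne_zero hk0
  set x : G := (z : G) ^ (q ^ j) with hx
  have hxo : orderOf x = q := by
    rw [hx, orderOf_pow_of_dvd (pow_ne_zero _ hqp.ne_zero) (by rw [hk']; exact pow_dvd_pow q (Nat.le_succ j)),
      hk', pow_succ, Nat.mul_div_cancel_left _ (pow_pos hqp.pos j)]
  refine ⟨Subgroup.zpowers x, ?_, ?_, ?_⟩
  · rw [Subgroup.zpowers_le]
    exact Subgroup.pow_mem _ hgQ _
  · rw [Nat.card_zpowers, hxo]
  · rw [Subgroup.le_centralizer_iff, Subgroup.zpowers_le]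
    exact Subgroup.pow_mem _ hgc _

variable {M E P R H : Subgroup G} {p : ℕ}

/-- (D4) In the 13.4 context no prime divisor of `|C_{M_σ}(P)|` lies in `τ₂(H)`. -/
theorem q_not_mem_tau2 (c : Ctx M E P R H p) (hnc : ∀ g : G, cj g M ≠ H) (hpσ : p ∈ sigma H)
    (hK : sigmaCore M ⊓ H = sigmaCore M ⊓ Subgroup.centralizer (P : Set G))
    {q : ℕ} (hq : q.Prime) (hqC : q ∣ Nat.card ↥(sigmaCore M ⊓ Subgroup.centralizer (P : Set G))) :
    q ∉ tau2 H := by
  intro hqτ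
  have : Fact q.Prime := ⟨hq⟩
  have hpp : p.Prime := c.hp.1
  have : Fact p.Prime := ⟨hpp⟩
  have hG := c.hG
  have hHallM := (Cfsg.Agent.S1350.result hG M c.hM).1
  have hHallH := (Cfsg.Agent.S1350.result hG H c.hH).1
  have hCH : sigmaCore M ⊓ Subgroup.centralizer (P : Set G) ≤ H := by
    rw [← hK]; exact inf_le_right
  have hCS : sigmaCore M ⊓ Subgroup.centralizer (P : Set G) ≤ sigmaCore M := inf_le_left
  have hCP : sigmaCore M ⊓ Subgroup.centralizer (P : Set G) ≤ Subgroup.centralizer (P : Set G) :=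
    inf_le_right
  -- facts on `P`
  have hPp : IsPGroup p P := IsPGroup.of_card (n := 1) (by rw [c.hP, pow_one])
  have hPH : P ≤ H := Subgroup.le_normalizer.trans c.hNP
  have hPM : P ≤ M := c.hPE.trans c.hE.1
  have hPσ : P ≤ sigmaCore H :=
    Cfsg.Agent.Lib.Helper91.BG125.le_sigmaCore_of_mem_sigma hG c.hH hpσ hPp hPH
  have hP1 : P ≠ ⊥ := by
    intro h
    have h2 := c.hP
    rw [h, Subgroup.card_bot] at h2
    exact hpp.ne_one h2.symm
  -- a Sylow `q`-subgroup `Q` of `C`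
  obtain ⟨Q, hQ, -⟩ := exists_isSylowIn_ge (p := q)
    (K := sigmaCore M ⊓ Subgroup.centralizer (P : Set G)) (Z := ⊥) bot_le IsPGroup.of_bot
  have hQ1 : Q ≠ ⊥ := Cfsg.Agent.Lib.Helper71.BG10.sylow_ne_bot hqC hQ
  have hQC : Q ≤ sigmaCore M ⊓ Subgroup.centralizer (P : Set G) := hQ.1
  have hQq : IsPGroup q Q := hQ.2.1
  have hQH : Q ≤ H := hQC.trans hCH
  have hqσH : q ∉ sigma H := hqτ.2.1
  have hQprimes : ∀ r : ℕ, r.Prime → r ∣ Nat.card Q → r ∉ sigma H := by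
    intro r hr hrd
    obtain ⟨n, hn⟩ := IsPGroup.iff_card.mp hQq
    rw [hn] at hrd
    have : r = q := (Nat.prime_dvd_prime_iff_eq hr hq).mp (hr.dvd_of_dvd_pow hrd)
    rw [this]; exact hqσH
  obtain ⟨EH, hEH, hQE⟩ :=
    Cfsg.Agent.Lib.Helper13.BG12.exists_complIn_ge hG c.hH hHallH hQH hQprimes
  obtain ⟨A, hAE, hAel, hAcard⟩ :=
    Cfsg.Agent.Lib.Helper13.BG12.exists_elemAb_sq_le_compl hG c.hH hHallH hqτ hEH
  obtain ⟨⟨hEN, hXA⟩, -, hcent⟩ :=
    Cfsg.Agent.S1418.result hG H c.hH EH hEH q hqτ A ⟨hAE, hAel, hAcard⟩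
  -- subgroups of order `q` of `Q` have their centralizer in `H`
  have hkey : ∀ X : Subgroup G, X ≤ Q → Nat.card X = q →
      Subgroup.centralizer (X : Set G) ≤ H := by
    intro X hXQ hXc
    have hXA' : X ≤ A := hXA X (hXQ.trans hQE) hXc
    refine (hcent X hXA' hXc ?_).1
    intro hbot
    apply hP1
    have h2 : P ≤ sigmaCore H ⊓ Subgroup.centralizer (X : Set G) := by
      refine le_inf hPσ ?_
      rw [Subgroup.le_centralizer_iff]
      exact (hXQ.trans hQC).trans hCP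
    rw [hbot] at h2
    exact le_bot_iff.mp h2
  -- `Q` is a Sylow `q`-subgroup of `M_σ`
  obtain ⟨QM, hQM, hQQM⟩ := exists_isSylowIn_ge (p := q) (K := sigmaCore M) (hQC.trans hCS) hQq
  have hQMeq : QM = Q := by
    refine hQ.eq_of_normalizer_le hQM.2.1 hQQM ?_
    have hNq : IsPGroup q ↥(QM ⊓ Subgroup.normalizer (Q : Set G)) := hQM.2.1.to_le inf_le_left
    have hQN : Q ≤ QM ⊓ Subgroup.normalizer (Q : Set G) := le_inf hQQM Subgroup.le_normalizer
    obtain ⟨X, hXQ, hXc, hNX⟩ := exists_central_prime_subgroup hNq hQN inf_le_right hQ1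
    have hNH : QM ⊓ Subgroup.normalizer (Q : Set G) ≤ H := hNX.trans (hkey X hXQ hXc)
    rw [← hK]
    exact le_inf (inf_le_left.trans hQM.1) hNH
  rw [hQMeq] at hQM
  -- `q ∈ σ(M)`, so `Q` is a Sylow `q`-subgroup of `M` and of `G`
  have hqσM : q ∈ sigma M := hHallM.2.1 q hq (hqC.trans (Subgroup.card_dvd_of_le hCS))
  have hQSM : IsSylowIn q M Q := by
    refine ⟨hQM.1.trans hHallM.1, hQq, ?_⟩
    intro T' hT'M hT'q hle
    exact hQM.2.2 T'
      (Cfsg.Agent.Lib.Helper91.BG125.le_sigmaCore_of_mem_sigma hG c.hM hqσM hT'q hT'M) hT'q hle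
  obtain ⟨S, hS⟩ := hQq.exists_le_sylow
  have hSQ : (S : Subgroup G) = Q :=
    hQSM.eq_of_normalizer_le S.isPGroup' hS
      (inf_le_right.trans (Cfsg.Agent.Lib.Helper71.BG10.sigma_normalizer_le hqσM hQSM))
  have hQSE : IsSylowIn q EH Q := by
    rw [← hSQ]
    exact isSylowIn_of_sylow_le S (by rw [hSQ]; exact hQE)
  -- `A ≤ Q ≤ M`
  have hAq : IsPGroup q A := IsPGroup.of_card (n := 2) hAcard
  have hAQ : A ≤ Q := hQSE.normal_le hAE hAq hEN
  have hAH : A ≤ H := hAE.trans hEH.1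
  have h17 := Cfsg.Agent.S1417.result hG H c.hH q hqτ A ⟨hAH, hAel, hAcard⟩
  have hMH : M ≠ H := by
    have h2 := hnc 1
    rwa [cj_one] at h2
  have hbot := h17.2.2.2.2.1 M c.hM hMH (hAQ.trans ((hQC.trans hCS).trans hHallM.1))
  apply hP1
  have h3 : P ≤ sigmaCore H ⊓ M := le_inf hPσ hPM
  rw [hbot] at h3
  exact le_bot_iff.mp h3

end Cfsg.Agent.Lib.Helper63.BG134
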