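import Mathlib
import Cfsg.Prelude.Def_OddOrderLocal
import Cfsg.Agent.S1407
import Cfsg.Agent.Lib.Helper13.BG12A
import Cfsg.Agent.Lib.Helper20.UniqueInvolution
import Cfsg.Agent.Lib.Helper55.Uniq2

set_option autoImplicit false

/-! Bender–Glauberman 13.4, input (Z) from S1407: for `u ∈ τ₁(H)` and `U ≤ H` of order `u`, the
`p`-subgroups of `C_{H_α}(U)` are cyclic. -/

namespace Cfsg.Agent.Lib.Helper63.BG134

open Cfsg

variable {G : Type*} [Group G] [Finite G]

theorem isCyclic_inf_centralizer_of_tau1 (hG : IsMinSimpleOddOrder G) {H : Subgroup G}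
    (hH : IsCoatom H) {u : ℕ} (hu : u ∈ tau1 H) {U : Subgroup G} (hUH : U ≤ H)
    (hUc : Nat.card U = u) {p : ℕ} [Fact p.Prime] {S : Subgroup G} (hS : S ≤ alphaCore H)
    (hSp : IsPGroup p S) : IsCyclic ↥(S ⊓ Subgroup.centralizer (U : Set G)) := by
  by_cases hα : alphaCore H = ⊥
  · have h1 : S ⊓ Subgroup.centralizer (U : Set G) = ⊥ := by
      rw [eq_bot_iff, ← hα]; exact inf_le_left.trans hS
    rw [h1]
    infer_instance
  obtain ⟨hup, huσ, hud, -, hur⟩ := hu
  have : Fact u.Prime := ⟨hup⟩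
  have hUu : IsPGroup u U := IsPGroup.of_card (n := 1) (by rw [hUc, pow_one])
  have hU1 : U ≠ ⊥ := by
    intro h
    rw [h, Subgroup.card_bot] at hUc
    exact hup.ne_one hUc.symm
  have hu2 : u ≠ 2 := Cfsg.Agent.Lib.Helper55.ms_prime_ne_two hG hUu hU1
  -- a Sylow `u`-subgroup of `H` containing `U`
  obtain ⟨P, hP⟩ := (hUu.comap_of_injective H.subtype H.subtype_injective :
    IsPGroup u (U.subgroupOf H)).exists_le_sylow
  obtain ⟨x, hxc, hxo, hZ, -⟩ := Cfsg.Agent.S1407.result hG H hH hα u hud huσ P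
  have hQH : (P : Subgroup H).map H.subtype ≤ H := Subgroup.map_subtype_le _
  have hQu : IsPGroup u ↥((P : Subgroup H).map H.subtype) := P.isPGroup'.map _
  have hUQ : U ≤ (P : Subgroup H).map H.subtype := by
    intro y hy
    exact ⟨⟨y, hUH hy⟩, hP (Subgroup.mem_subgroupOf.mpr hy), rfl⟩
  have hxQ : x ∈ (P : Subgroup H).map H.subtype := by
    obtain ⟨y, hy, rfl⟩ := hxc
    obtain ⟨z, -, rfl⟩ := hy
    exact ⟨(z : H), z.2, rfl⟩
  have hQc : IsCyclic ↥((P : Subgroup H).map H.subtype) :=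
    Cfsg.Agent.Lib.Helper13.BG12.isCyclic_of_pRankLE_one hu2 hur hQH hQu
  have hxU : x ∈ U := by
    have hcard : Nat.card (U.subgroupOf ((P : Subgroup H).map H.subtype)) =
        Nat.card ((Subgroup.zpowers x).subgroupOf ((P : Subgroup H).map H.subtype)) := by
      rw [Nat.card_congr (Subgroup.subgroupOfEquivOfLe hUQ).toEquiv,
        Nat.card_congr (Subgroup.subgroupOfEquivOfLe (Subgroup.zpowers_le.mpr hxQ)).toEquiv,
        hUc, Nat.card_zpowers, hxo]
    have heq := Cfsg.Agent.Lib.Helper20.subgroup_eq_of_card_eq_of_isCyclic _ _ hcard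
    have hx' : (⟨x, hxQ⟩ : ↥((P : Subgroup H).map H.subtype)) ∈
        (Subgroup.zpowers x).subgroupOf ((P : Subgroup H).map H.subtype) :=
      Subgroup.mem_subgroupOf.mpr (Subgroup.mem_zpowers x)
    rw [← heq] at hx'
    exact Subgroup.mem_subgroupOf.mp hx'
  -- containment in the Z-group
  have hle : S ⊓ Subgroup.centralizer (U : Set G) ≤
      alphaCore H ⊓ Subgroup.centralizer ({x} : Set G) :=
    inf_le_inf hS (Subgroup.centralizer_le (Set.singleton_subset_iff.mpr hxU))
  have hTp : IsPGroup p ((S ⊓ Subgroup.centralizer (U : Set G)).subgroupOf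
      (alphaCore H ⊓ Subgroup.centralizer ({x} : Set G))) :=
    (hSp.to_le inf_le_left).comap_of_injective (Subgroup.subtype _) (Subgroup.subtype_injective _)
  obtain ⟨R, hR⟩ := hTp.exists_le_sylow
  have hRc : IsCyclic ↥(R : Subgroup ↥(alphaCore H ⊓ Subgroup.centralizer ({x} : Set G))) :=
    hZ.isZGroup p Fact.out R
  let f : ↥(S ⊓ Subgroup.centralizer (U : Set G)) →*
      ↥(R : Subgroup ↥(alphaCore H ⊓ Subgroup.centralizer ({x} : Set G))) :=
    (Subgroup.inclusion hR).comp (Subgroup.subgroupOfEquivOfLe hle).symm.toMonoidHom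
  have hf : Function.Injective f := by
    intro a b hab
    have h1 := Subgroup.inclusion_injective hR hab
    exact (Subgroup.subgroupOfEquivOfLe hle).symm.injective h1
  exact isCyclic_of_injective f hf

end Cfsg.Agent.Lib.Helper63.BG134
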