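import Mathlib
import Cfsg.Agent.Lib.Helper70.BQSDefs

/-! K-BQS-B10 (S3912 pack, architect helper70). -/

set_option autoImplicit false

namespace Cfsg.Agent.Lib.Helper63.BQS

open Cfsg Cfsg.Agent.Lib.Helper70.BQS

/-- B10 (EASY-MEDIUM). `card M = 2` gives `m ∈ M` of order 2; every `s ≠ 1` in the elementary abelian `S` has
order 2, so `s ∈ M` by `h9`; hence `S ≤ M` and `card S ∣ 2 ∣ 8`. -/
theorem card_dvd_eight_of_elementary {G : Type*} [Group G] [Finite G] (M : Subgroup G) [M.Normal]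
    (hM2 : Nat.card ↥M = 2) (h9 : ∀ a : G, (∃ m ∈ M, orderOf m = orderOf a) → a ∈ M)
    (S : Sylow 2 G) (hS : Cfsg.IsElementaryAbelian 2 (S : Subgroup G)) :
    Nat.card ↥(S : Subgroup G) ∣ 8 := by
  have hSM : (S : Subgroup G) ≤ M := by
    intro s hs
    by_cases hs1 : s = 1
    · rw [hs1]; exact M.one_mem
    · have hs2 : s ^ 2 = 1 := hS.2 s hs
      have hos : orderOf s = 2 := orderOf_eq_prime hs2 hs1
      -- element of order 2 in M
      have : Fact (Nat.Prime 2) := ⟨Nat.prime_two⟩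
      obtain ⟨m, hm⟩ := exists_prime_orderOf_dvd_card' (G := ↥M) 2 (by rw [hM2])
      apply h9
      refine ⟨(m : G), m.2, ?_⟩
      rw [hos, Subgroup.orderOf_coe, hm]
  have hdvd : Nat.card ↥(S : Subgroup G) ∣ Nat.card ↥M := Subgroup.card_dvd_of_le hSM
  rw [hM2] at hdvd
  exact hdvd.trans (by norm_num)

end Cfsg.Agent.Lib.Helper63.BQS
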