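import Mathlib
import Cfsg.Agent.Lib.Helper70.BQSDefs

/-! K-BQS-B2 (S3912 pack, architect helper70): abelian lifts of order `f (card A)` give property B for `G ⧸ M`. -/

set_option autoImplicit false

namespace Cfsg.Agent.Lib.Helper63.BQS

open Cfsg Cfsg.Agent.Lib.Helper70.BQS

/-- B2 (EASY-MEDIUM). If every abelian subgroup `A` of `G ⧸ M` has an abelian lift `A0` (`A0.map mk = A`) whose
order is a function of `card A` only, then `G ⧸ M` has property B. -/
theorem propB_quot_of_lifts {G : Type*} [Group G] [Finite G] (hB : PropB G) (M : Subgroup G) [M.Normal]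
    (f : ℕ → ℕ)
    (hlift : ∀ A : Subgroup (G ⧸ M), IsMulCommutative ↥A →
      ∃ A0 : Subgroup G, IsMulCommutative ↥A0 ∧ A0.map (QuotientGroup.mk' M) = A ∧
        Nat.card ↥A0 = f (Nat.card ↥A)) : PropB (G ⧸ M) := by
  intro A B hA hBc hcard
  obtain ⟨A0, hA0c, hA0m, hA0card⟩ := hlift A hA
  obtain ⟨B0, hB0c, hB0m, hB0card⟩ := hlift B hBc
  have hc : Nat.card ↥A0 = Nat.card ↥B0 := by rw [hA0card, hB0card, hcard]
  obtain ⟨g, hg⟩ := hB A0 B0 hA0c hB0c hc
  refine ⟨(QuotientGroup.mk' M) g, ?_⟩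
  rw [← hB0m, ← hA0m, hg, Subgroup.map_map, Subgroup.map_map]
  congr 1

end Cfsg.Agent.Lib.Helper63.BQS
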