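import Mathlib
import Cfsg.Agent.Lib.Helper38.CD3.Defs
import Cfsg.Agent.S0887
import Cfsg.Agent.Lib.Helper22.BlockRegular
import Cfsg.Agent.Lib.Helper83.Quotient

set_option autoImplicit false

/-!
# K-CD3 leaf N1 (keystone 446001, S4460): the degrees of a normal `p`-complement are the `p'`-parts
-/

namespace Cfsg.Agent.Lib.Helper63.CD3

open Cfsg Cfsg.Agent.Lib.Helper97 Cfsg.Agent.Lib.Helper38.CD3

universe u

variable {G : Type u} [Group G] [Finite G]

/-- arithmetic: `d ∣ c`, `c / d ∣ p ^ k`, `d` prime to `p`: `d` is the `p'`-part of `c` -/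
theorem n1_arith {p : ℕ} (hp : p.Prime) {c d k : ℕ} (hc : 0 < c) (hdc : d ∣ c)
    (hq : c / d ∣ p ^ k) (hcop : d.Coprime p) : d = c / p ^ c.factorization p := by
  obtain ⟨i, _, hi⟩ := (Nat.dvd_prime_pow hp).mp hq
  have hd0 : d ≠ 0 := by
    rintro rfl
    rw [zero_dvd_iff] at hdc
    omega
  have hcd : c = d * p ^ i := by
    rw [← hi, Nat.mul_div_cancel' hdc]
  have hnd : ¬ p ∣ d := by
    intro h
    have := Nat.Coprime.eq_one_of_dvd hcop.symm h
    exact hp.one_lt.ne' this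
  have hfac : c.factorization p = i := by
    rw [hcd, Nat.factorization_mul hd0 (pow_ne_zero i hp.ne_zero), Finsupp.add_apply,
      Nat.factorization_eq_zero_of_not_dvd hnd, zero_add, hp.factorization_pow,
      Finsupp.single_eq_same]
  rw [hfac, hcd, Nat.mul_div_cancel _ (pow_pos hp.pos i)]

/-- N1 -/
theorem threeDeg_compl {m n : ℕ} (h : ThreeDeg G m n) (p : ℕ) (hp : p.Prime)
    (H : Subgroup G) [H.Normal] (hcop : (Nat.card H).Coprime p)
    (hidx : ∃ k : ℕ, H.index = p ^ k) :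
    ThreeDeg H (m / p ^ m.factorization p) (n / p ^ n.factorization p) := by
  classical
  letI : Fintype G := Fintype.ofFinite G
  letI : Fintype H := Fintype.ofFinite H
  obtain ⟨k, hk⟩ := hidx
  intro θ
  obtain ⟨χ, hχ⟩ := Cfsg.Agent.Lib.Helper22.exists_irr_over H θ
  have hc1 : (χ : G → ℂ) 1 = (charDegree (χ : G → ℂ) : ℂ) :=
    (Cfsg.Agent.Lib.Helper83.charDegree_cast
      (Cfsg.Agent.Lib.Helper83.IrrCharacter_isCharacter χ)).symm
  have hd1 : (θ : H → ℂ) 1 = (charDegree (θ : H → ℂ) : ℂ) :=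
    (Cfsg.Agent.Lib.Helper83.charDegree_cast
      (Cfsg.Agent.Lib.Helper83.IrrCharacter_isCharacter θ)).symm
  obtain ⟨hdc, hq⟩ := Cfsg.Agent.S0887.result H (χ : G → ℂ) χ.2 (θ : H → ℂ) θ.2 hχ
    (charDegree (χ : G → ℂ)) (charDegree (θ : H → ℂ)) hc1 hd1
  rw [hk] at hq
  have hdH : charDegree (θ : H → ℂ) ∣ Nat.card H :=
    Cfsg.Agent.Lib.Helper83.irr_charDegree_dvd_card θ
  have hdcop : (charDegree (θ : H → ℂ)).Coprime p := Nat.Coprime.coprime_dvd_left hdH hcop
  have hcpos : 0 < charDegree (χ : G → ℂ) := Cfsg.Agent.Lib.Helper83.irr_charDegree_pos χ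
  have hd := n1_arith hp hcpos hdc hq hdcop
  rcases h χ with h1 | h1 | h1
  · left
    rw [h1] at hdc
    exact Nat.dvd_one.mp hdc
  · right; left
    rw [h1] at hd
    exact hd
  · right; right
    rw [h1] at hd
    exact hd

end Cfsg.Agent.Lib.Helper63.CD3
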