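import Mathlib
import Cfsg.Agent.Lib.Helper38.CD3.Defs
import Cfsg.Agent.Lib.Helper83.OneNonlinear

set_option autoImplicit false

/-!
# K-CD3 leaf N2 (keystone 446002, S4460): characters of `G / H'` have `p`-power degree (Ito)
-/

namespace Cfsg.Agent.Lib.Helper63.CD3

open Cfsg Cfsg.Agent.Lib.Helper97
open scoped commutatorElement

universe u

variable {G : Type u} [Group G] [Finite G]

/-- N2 -/
theorem ppow_degree_quot (p : ℕ) (hp : p.Prime) (H : Subgroup G) [H.Normal]
    (hidx : ∃ k : ℕ, H.index = p ^ k) (χ : IrrCharacter (G ⧸ ⁅H, H⁆)) :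
    ∃ j : ℕ, charDegree (χ : G ⧸ ⁅H, H⁆ → ℂ) = p ^ j := by
  obtain ⟨k, hk⟩ := hidx
  set K : Subgroup G := ⁅H, H⁆ with hKdef
  have hKH : K ≤ H := Subgroup.commutator_le_right H H
  set A : Subgroup (G ⧸ K) := H.map (QuotientGroup.mk' K) with hA
  have hAn : A.Normal := Subgroup.Normal.map inferInstance _ (QuotientGroup.mk'_surjective K)
  -- `A` is commutative
  have hAcomm : ∀ a ∈ A, ∀ b ∈ A, a * b = b * a := by
    rintro _ ⟨a, ha, rfl⟩ _ ⟨b, hb, rfl⟩
    show (QuotientGroup.mk' K a) * (QuotientGroup.mk' K b) =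
      (QuotientGroup.mk' K b) * (QuotientGroup.mk' K a)
    rw [← map_mul, ← map_mul]
    apply (QuotientGroup.eq).mpr
    -- (a * b)⁻¹ * (b * a) ∈ K
    have : (a * b)⁻¹ * (b * a) = ⁅b⁻¹, a⁻¹⁆ := by
      rw [commutatorElement_def]
      group
    rw [this]
    exact Subgroup.commutator_mem_commutator (H.inv_mem hb) (H.inv_mem ha)
  -- the index
  have hindex : A.index = H.index := by
    rw [hA]
    exact Subgroup.index_map_eq H (QuotientGroup.mk'_surjective K)
      (by rw [QuotientGroup.ker_mk']; exact hKH)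
  have hdvd := Cfsg.Agent.Lib.Helper83.ito_charDegree χ A hAcomm
  rw [hindex, hk] at hdvd
  obtain ⟨j, _, hj⟩ := (Nat.dvd_prime_pow hp).mp hdvd
  exact ⟨j, hj⟩

end Cfsg.Agent.Lib.Helper63.CD3
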