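import Mathlib
import Cfsg.Agent.Lib.Helper03.FrobAct

/-!
# Coprime action of a `p`-group on an abelian `p'`-group: the fixed-point product inequality

Part A: basic tools (restricted actions, decomposition, norm map).
-/

set_option autoImplicit false

namespace Cfsg.Agent.Lib.Helper63.CopIneq

open Cfsg.Agent.Lib.Helper03.FrobAct

universe u w

section basic

variable {Γ : Type w} [Group Γ] {V : Type u} [Group V]

theorem mem_fixedPts_zpowers (c : Γ →* MulAut V) (x : Γ) (v : V) :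
    v ∈ fixedPts c (Subgroup.zpowers x) ↔ c x v = v := by
  constructor
  · intro h
    exact h x (Subgroup.mem_zpowers x)
  · intro h y hy
    obtain ⟨k, rfl⟩ := Subgroup.mem_zpowers_iff.mp hy
    rw [map_zpow]
    have h1 : c x ∈ MulAction.stabilizer (MulAut V) v := by
      rw [MulAction.mem_stabilizer_iff, MulAut.smul_def]
      exact h
    have h2 := Subgroup.zpow_mem _ h1 k
    rw [MulAction.mem_stabilizer_iff, MulAut.smul_def] at h2
    exact h2

theorem mem_fixedPts_top (c : Γ →* MulAut V) (v : V) :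
    v ∈ fixedPts c ⊤ ↔ ∀ g : Γ, c g v = v := by
  constructor
  · intro h g
    exact h g (Subgroup.mem_top g)
  · intro h g _
    exact h g

/-- restriction of an action to an invariant subgroup -/
def resAct (c : Γ →* MulAut V) (U : Subgroup V) (hU : ∀ g : Γ, ∀ u ∈ U, c g u ∈ U) :
    Γ →* MulAut U where
  toFun g :=
    { toFun := fun u => ⟨c g u, hU g u u.2⟩
      invFun := fun u => ⟨c g⁻¹ u, hU g⁻¹ u u.2⟩
      left_inv := by
        intro u
        apply Subtype.ext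
        change c g⁻¹ (c g u) = u
        rw [map_inv, MulAut.inv_apply_self]
      right_inv := by
        intro u
        apply Subtype.ext
        change c g (c g⁻¹ u) = u
        rw [map_inv, MulAut.apply_inv_self]
      map_mul' := by
        intro a b
        apply Subtype.ext
        change c g ((a : V) * (b : V)) = c g a * c g b
        rw [map_mul] }
  map_one' := by
    ext u
    change ((c 1) (u : V)) = u
    rw [map_one]
    rfl
  map_mul' := by
    intro a b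
    ext u
    change (c (a * b)) (u : V) = c a (c b u)
    rw [map_mul]
    rfl

theorem resAct_apply (c : Γ →* MulAut V) (U : Subgroup V) (hU : ∀ g : Γ, ∀ u ∈ U, c g u ∈ U)
    (g : Γ) (u : U) : ((resAct c U hU g u : U) : V) = c g u := rfl

end basic

section decomp

variable {Γ : Type w} [Group Γ] {V : Type u} [CommGroup V]

theorem eq_of_mul_eq_mul_of_disjoint {U₀ U₁ : Subgroup V} (hdisj : U₀ ⊓ U₁ = ⊥)
    {a a' b b' : V} (ha : a ∈ U₀) (ha' : a' ∈ U₀) (hb : b ∈ U₁) (hb' : b' ∈ U₁)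
    (h : a * b = a' * b') : a = a' ∧ b = b' := by
  have h1 : a'⁻¹ * a = b' * b⁻¹ := by
    calc a'⁻¹ * a = a'⁻¹ * (a * b) * b⁻¹ := by group
      _ = a'⁻¹ * (a' * b') * b⁻¹ := by rw [h]
      _ = b' * b⁻¹ := by group
  have h2 : a'⁻¹ * a ∈ U₀ ⊓ U₁ := by
    refine ⟨U₀.mul_mem (U₀.inv_mem ha') ha, ?_⟩
    rw [h1]
    exact U₁.mul_mem hb' (U₁.inv_mem hb)
  rw [hdisj, Subgroup.mem_bot] at h2
  have h3 : a = a' := by
    calc a = a' * (a'⁻¹ * a) := by group
      _ = a' := by rw [h2, mul_one]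
  refine ⟨h3, ?_⟩
  rw [h3] at h
  exact mul_left_cancel h

theorem card_fixedPts_decomp (c : Γ →* MulAut V) (U₀ U₁ : Subgroup V)
    (h₀ : ∀ g : Γ, ∀ u ∈ U₀, c g u ∈ U₀) (h₁ : ∀ g : Γ, ∀ u ∈ U₁, c g u ∈ U₁)
    (hdisj : U₀ ⊓ U₁ = ⊥) (hsup : U₀ ⊔ U₁ = ⊤) (Y : Subgroup Γ) :
    Nat.card (fixedPts c Y) =
      Nat.card (fixedPts (resAct c U₀ h₀) Y) * Nat.card (fixedPts (resAct c U₁ h₁) Y) := by
  rw [← Nat.card_prod]
  symm
  apply Nat.card_congr
  refine Equiv.ofBijective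
    (fun ab => ⟨((ab.1 : U₀) : V) * ((ab.2 : U₁) : V), ?_⟩) ⟨?_, ?_⟩
  · intro y hy
    rw [map_mul]
    have ha : c y ((ab.1 : U₀) : V) = ((ab.1 : U₀) : V) := congrArg Subtype.val (ab.1.2 y hy)
    have hb : c y ((ab.2 : U₁) : V) = ((ab.2 : U₁) : V) := congrArg Subtype.val (ab.2.2 y hy)
    rw [ha, hb]
  · rintro ⟨a, b⟩ ⟨a', b'⟩ h
    have h' : ((a : U₀) : V) * ((b : U₁) : V) = ((a' : U₀) : V) * ((b' : U₁) : V) :=
      congrArg Subtype.val h
    obtain ⟨e1, e2⟩ := eq_of_mul_eq_mul_of_disjoint hdisj a.1.2 a'.1.2 b.1.2 b'.1.2 h'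
    exact Prod.ext (Subtype.ext (Subtype.ext e1)) (Subtype.ext (Subtype.ext e2))
  · rintro ⟨v, hv⟩
    have hv' : v ∈ U₀ ⊔ U₁ := hsup ▸ Subgroup.mem_top v
    obtain ⟨a, ha, b, hb, rfl⟩ := Subgroup.mem_sup.mp hv'
    have key : ∀ y ∈ Y, c y a = a ∧ c y b = b := by
      intro y hy
      have h1 := hv y hy
      rw [map_mul] at h1
      exact eq_of_mul_eq_mul_of_disjoint hdisj (h₀ y a ha) ha (h₁ y b hb) hb h1
    refine ⟨(⟨⟨a, ha⟩, fun y hy => Subtype.ext (key y hy).1⟩,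
      ⟨⟨b, hb⟩, fun y hy => Subtype.ext (key y hy).2⟩), rfl⟩

theorem card_decomp (U₀ U₁ : Subgroup V) [Finite V] (hdisj : U₀ ⊓ U₁ = ⊥) (hsup : U₀ ⊔ U₁ = ⊤) :
    Nat.card V = Nat.card U₀ * Nat.card U₁ := by
  rw [← Nat.card_prod]
  symm
  apply Nat.card_congr
  refine Equiv.ofBijective (fun ab => ((ab.1 : U₀) : V) * ((ab.2 : U₁) : V)) ⟨?_, ?_⟩
  · rintro ⟨a, b⟩ ⟨a', b'⟩ h
    obtain ⟨e1, e2⟩ := eq_of_mul_eq_mul_of_disjoint hdisj a.2 a'.2 b.2 b'.2 h
    exact Prod.ext (Subtype.ext e1) (Subtype.ext e2)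
  · intro v
    have hv' : v ∈ U₀ ⊔ U₁ := hsup ▸ Subgroup.mem_top v
    obtain ⟨a, ha, b, hb, rfl⟩ := Subgroup.mem_sup.mp hv'
    exact ⟨(⟨a, ha⟩, ⟨b, hb⟩), rfl⟩

end decomp

section norm

variable {V : Type u} [CommGroup V]

/-- the norm map `v ↦ ∏_{k<p} e^k v` -/
def nrm (p : ℕ) (e : MulAut V) : V →* V where
  toFun v := ∏ k ∈ Finset.range p, (e ^ k) v
  map_one' := by simp
  map_mul' a b := by simp [Finset.prod_mul_distrib]

theorem nrm_apply (p : ℕ) (e : MulAut V) (v : V) :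
    nrm p e v = ∏ k ∈ Finset.range p, (e ^ k) v := rfl

theorem nrm_fixed (p : ℕ) (e : MulAut V) (he : e ^ p = 1) (v : V) :
    e (nrm p e v) = nrm p e v := by
  rw [nrm_apply, map_prod]
  have h1 : ∀ k, e ((e ^ k) v) = (e ^ (k + 1)) v := by
    intro k
    rw [pow_succ']
    rfl
  simp_rw [h1]
  have h2 := Finset.prod_range_succ' (fun k => (e ^ k) v) p
  have h3 := Finset.prod_range_succ (fun k => (e ^ k) v) p
  rw [h3] at h2
  simp only [he, pow_zero] at h2
  exact (mul_right_cancel h2).symm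

theorem nrm_of_fixed (p : ℕ) (e : MulAut V) (v : V) (hv : e v = v) : nrm p e v = v ^ p := by
  rw [nrm_apply]
  have h1 : ∀ k : ℕ, (e ^ k) v = v := by
    intro k
    induction k with
    | zero => rfl
    | succ k ih =>
      rw [pow_succ]
      change (e ^ k) (e v) = v
      rw [hv, ih]
  simp_rw [h1]
  rw [Finset.prod_const, Finset.card_range]

theorem nrm_comm (p : ℕ) (e g : MulAut V) (hc : e * g = g * e) (v : V) :
    nrm p e (g v) = g (nrm p e v) := by
  rw [nrm_apply, nrm_apply, map_prod]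
  refine Finset.prod_congr rfl (fun k _ => ?_)
  have h1 : e ^ k * g = g * e ^ k := (Commute.pow_left (show Commute e g from hc) k).eq
  change (e ^ k * g) v = (g * e ^ k) v
  rw [h1]

theorem eq_one_of_pow_eq_one [Finite V] {p : ℕ} (hcop : (Nat.card V).Coprime p) {v : V}
    (hv : v ^ p = 1) : v = 1 := by
  have h1 : orderOf v ∣ p := orderOf_dvd_of_pow_eq_one hv
  have h2 : orderOf v ∣ Nat.card V := orderOf_dvd_natCard v
  have h3 : orderOf v ∣ 1 := by
    have := Nat.dvd_gcd h2 h1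
    rwa [hcop] at this
  exact orderOf_eq_one_iff.mp (Nat.dvd_one.mp h3)

/-- a fixed-point-free automorphism with `e ^ p = 1` has trivial norm -/
theorem nrm_eq_one_of_fpf (p : ℕ) (e : MulAut V) (he : e ^ p = 1)
    (hfpf : ∀ w : V, e w = w → w = 1) (v : V) : nrm p e v = 1 :=
  hfpf _ (nrm_fixed p e he v)

/-- the fixed points of an automorphism -/
def fixOf (e : MulAut V) : Subgroup V where
  carrier := {v | e v = v}
  mul_mem' := by
    intro a b ha hb
    change e (a * b) = a * b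
    rw [map_mul, ha, hb]
  one_mem' := map_one e
  inv_mem' := by
    intro a ha
    change e a⁻¹ = a⁻¹
    rw [map_inv, ha]

theorem mem_fixOf (e : MulAut V) (v : V) : v ∈ fixOf e ↔ e v = v := Iff.rfl

theorem fixOf_inf_ker [Finite V] {p : ℕ} (hcop : (Nat.card V).Coprime p) (e : MulAut V) :
    fixOf e ⊓ (nrm p e).ker = ⊥ := by
  rw [eq_bot_iff]
  rintro v ⟨h1, h2⟩
  rw [Subgroup.mem_bot]
  have h3 : nrm p e v = 1 := h2
  rw [nrm_of_fixed p e v h1] at h3
  exact eq_one_of_pow_eq_one hcop h3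

theorem fixOf_sup_ker [Finite V] {p : ℕ} (hcop : (Nat.card V).Coprime p) (e : MulAut V)
    (he : e ^ p = 1) : fixOf e ⊔ (nrm p e).ker = ⊤ := by
  rw [eq_top_iff]
  intro v _
  obtain ⟨w, rfl⟩ : ∃ w : V, w ^ p = v := (powCoprime hcop).surjective v
  have h1 : nrm p e w ∈ fixOf e := nrm_fixed p e he w
  have h2 : w ^ p * (nrm p e w)⁻¹ ∈ (nrm p e).ker := by
    rw [MonoidHom.mem_ker, map_mul, map_inv, map_pow, nrm_of_fixed p e _ h1, mul_inv_cancel]
  have h3 : w ^ p = nrm p e w * (w ^ p * (nrm p e w)⁻¹) := by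
    rw [mul_comm (w ^ p), mul_inv_cancel_left]
  rw [h3]
  exact Subgroup.mul_mem_sup h1 h2

end norm

end Cfsg.Agent.Lib.Helper63.CopIneq
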