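import Mathlib
import Cfsg.Agent.Lib.Helper63.CopIneqA

/-!
# Coprime action inequality, part B: the fixed-point-free central element case
-/

set_option autoImplicit false

namespace Cfsg.Agent.Lib.Helper63.CopIneq

open Cfsg.Agent.Lib.Helper03.FrobAct

universe u w

section fpf

variable {W : Type u} [CommGroup W]

theorem pow_fixed {e : MulAut W} {w : W} (h : e w = w) (k : ℕ) : (e ^ k) w = w := by
  induction k with
  | zero => rfl
  | succ k ih =>
    rw [pow_succ]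
    change (e ^ k) (e w) = w
    rw [h, ih]

theorem fpf_pow {p : ℕ} [Fact p.Prime] (e : MulAut W) (he : e ^ p = 1)
    (hfpf : ∀ w : W, e w = w → w = 1) {d : ℕ} (hd0 : 0 < d) (hdp : d < p) (w : W)
    (hw : (e ^ d) w = w) : w = 1 := by
  have hp := (Fact.out : p.Prime)
  have hcop : d.Coprime p := (Nat.coprime_of_lt_prime hd0.ne' hdp hp).symm
  obtain ⟨m, -, hm⟩ := Nat.exists_mul_mod_eq_one_of_coprime hcop hp.one_lt
  have h1 : ((e ^ d) ^ m) w = w := pow_fixed hw m
  rw [← pow_mul, pow_eq_pow_mod (d * m) he, hm, pow_one] at h1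
  exact hfpf w h1

theorem div_pow_eq_one {p : ℕ} (e : MulAut W) (he : e ^ p = 1) (i j : ℕ) :
    (e ^ i * (e ^ j)⁻¹) ^ p = 1 := by
  have hc : Commute (e ^ i) ((e ^ j)⁻¹) := ((Commute.refl e).pow_pow i j).inv_right
  rw [hc.mul_pow, ← pow_mul, inv_pow, ← pow_mul, mul_comm i p, mul_comm j p, pow_mul, pow_mul, he,
    one_pow, one_pow, inv_one, mul_one]

theorem fpf_div {p : ℕ} [Fact p.Prime] (e : MulAut W) (he : e ^ p = 1)
    (hfpf : ∀ w : W, e w = w → w = 1) {i j : ℕ} (hi : i < p) (hj : j < p) (hij : i ≠ j) (w : W)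
    (hw : (e ^ i * (e ^ j)⁻¹) w = w) : w = 1 := by
  set w' := (e ^ j)⁻¹ w with hw'
  have h0 : (e ^ j) w' = w := MulAut.apply_inv_self _ _ _
  have h1 : (e ^ i) w' = (e ^ j) w' := by
    rw [h0]
    exact hw
  have hw'1 : w' = 1 := by
    rcases lt_or_gt_of_ne hij with h | h
    · have h2 : e ^ j = e ^ i * e ^ (j - i) := by
        rw [← pow_add]
        congr 1
        omega
      rw [h2] at h1
      have h3 : w' = (e ^ (j - i)) w' := (e ^ i).injective h1
      exact fpf_pow e he hfpf (by omega) (by omega) w' h3.symm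
    · have h2 : e ^ i = e ^ j * e ^ (i - j) := by
        rw [← pow_add]
        congr 1
        omega
      rw [h2] at h1
      have h3 : (e ^ (i - j)) w' = w' := (e ^ j).injective h1
      exact fpf_pow e he hfpf (by omega) (by omega) w' h3
  rw [← h0, hw'1, map_one]

theorem pow_apply_eq {a g : MulAut W} (hc : a * g = g * a) {w : W} (h : a w = g w) (k : ℕ) :
    (a ^ k) w = (g ^ k) w := by
  induction k with
  | zero => rfl
  | succ k ih =>
    have hc' : a ^ k * g = g * a ^ k := (Commute.pow_left (show Commute a g from hc) k).eq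
    calc (a ^ (k + 1)) w = (a ^ k) (a w) := by rw [pow_succ]; rfl
      _ = (a ^ k * g) w := by rw [h]; rfl
      _ = g ((a ^ k) w) := by rw [hc']; rfl
      _ = g ((g ^ k) w) := by rw [ih]
      _ = (g ^ (k + 1)) w := by rw [pow_succ']; rfl

theorem indep_key [Finite W] {p : ℕ} [Fact p.Prime] (hcop : (Nat.card W).Coprime p)
    (a e : MulAut W) (hae : a * e = e * a) (he : e ^ p = 1) (hfpf : ∀ w : W, e w = w → w = 1)
    (u : Fin p → W) (hu : ∀ j : Fin p, (a * e ^ (j : ℕ)) (u j) = u j) (hprod : ∏ j, u j = 1)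
    (i : Fin p) : u i = 1 := by
  have hcae : Commute a e := hae
  have heig : ∀ j : Fin p, a (u j) = ((e ^ (j : ℕ))⁻¹) (u j) := by
    intro j
    have hc : a * e ^ (j : ℕ) = e ^ (j : ℕ) * a := (hcae.pow_right j).eq
    have h1 := hu j
    rw [hc] at h1
    have h2 : (e ^ (j : ℕ)) (a (u j)) = u j := h1
    calc a (u j) = (e ^ (j : ℕ))⁻¹ ((e ^ (j : ℕ)) (a (u j))) := (MulAut.inv_apply_self _ _ _).symm
      _ = (e ^ (j : ℕ))⁻¹ (u j) := by rw [h2]
  have hT : ∀ k : ℕ, ∏ j : Fin p, ((e ^ (i : ℕ) * (e ^ (j : ℕ))⁻¹) ^ k) (u j) = 1 := by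
    intro k
    have h1 : ((e ^ (i : ℕ)) ^ k * a ^ k) (∏ j, u j) = 1 := by rw [hprod, map_one]
    rw [map_prod] at h1
    rw [← h1]
    refine Finset.prod_congr rfl (fun j _ => ?_)
    have hcj : Commute (e ^ (i : ℕ)) ((e ^ (j : ℕ))⁻¹) :=
      ((Commute.refl e).pow_pow i j).inv_right
    have hcaj : a * (e ^ (j : ℕ))⁻¹ = (e ^ (j : ℕ))⁻¹ * a := ((hcae.pow_right j).inv_right).eq
    rw [hcj.mul_pow]
    change ((e ^ (i : ℕ)) ^ k) ((((e ^ (j : ℕ))⁻¹) ^ k) (u j)) =
      ((e ^ (i : ℕ)) ^ k) ((a ^ k) (u j))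
    rw [pow_apply_eq hcaj (heig j) k]
  have h2 : ∏ j : Fin p, nrm p (e ^ (i : ℕ) * (e ^ (j : ℕ))⁻¹) (u j) = 1 := by
    simp_rw [nrm_apply]
    rw [Finset.prod_comm]
    exact Finset.prod_eq_one (fun k _ => hT k)
  rw [Finset.prod_eq_single i] at h2
  · rw [mul_inv_cancel, nrm_of_fixed p 1 (u i) rfl] at h2
    exact eq_one_of_pow_eq_one hcop h2
  · intro j _ hji
    exact nrm_eq_one_of_fpf p _ (div_pow_eq_one e he i j)
      (fun w hw => fpf_div e he hfpf i.2 j.2 (fun h => hji (Fin.ext h.symm)) w hw) (u j)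
  · intro h
    exact absurd (Finset.mem_univ i) h

theorem prod_card_fixed_le [Finite W] {Γ : Type w} [Group Γ] {p : ℕ} [Fact p.Prime]
    (hcop : (Nat.card W).Coprime p) (c : Γ →* MulAut W) (z : Γ)
    (hfpf : ∀ w : W, c z w = w → w = 1) (hzp : c z ^ p = 1)
    (hcomm : ∀ g : Γ, c z * c g = c g * c z) (y : Γ) :
    ∏ j : Fin p, Nat.card (fixedPts c (Subgroup.zpowers (y * z ^ (j : ℕ)))) ≤ Nat.card W := by
  rw [← Nat.card_pi]
  let Φ : (∀ j : Fin p, fixedPts c (Subgroup.zpowers (y * z ^ (j : ℕ)))) →* W :=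
    { toFun := fun u => ∏ j, ((u j : W))
      map_one' := by simp
      map_mul' := by
        intro u v
        simp [Finset.prod_mul_distrib] }
  apply Nat.card_le_card_of_injective Φ
  rw [injective_iff_map_eq_one]
  intro u hu
  funext i
  apply Subtype.ext
  refine indep_key hcop (c y) (c z) (hcomm y).symm hzp hfpf (fun j => (u j : W)) ?_ hu i
  intro j
  have := (mem_fixedPts_zpowers c _ _).1 (u j).2
  rw [map_mul, map_pow] at this
  exact this

theorem fpf_ineq [Finite W] {Γ : Type w} [Group Γ] [Fintype Γ] {p : ℕ} [Fact p.Prime]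
    (hcop : (Nat.card W).Coprime p) (c : Γ →* MulAut W) (z : Γ)
    (hfpf : ∀ w : W, c z w = w → w = 1) (hzp : c z ^ p = 1)
    (hcomm : ∀ g : Γ, c z * c g = c g * c z) :
    ∏ x : Γ, Nat.card (fixedPts c (Subgroup.zpowers x)) ^ p ≤ Nat.card W ^ Nat.card Γ := by
  set f : Γ → ℕ := fun x => Nat.card (fixedPts c (Subgroup.zpowers x)) with hf
  have h1 : ∏ x : Γ, f x ^ p = ∏ x : Γ, ∏ j : Fin p, f (x * z ^ (j : ℕ)) := by
    rw [Finset.prod_comm]
    have h2 : ∀ j : Fin p, ∏ x : Γ, f (x * z ^ (j : ℕ)) = ∏ x : Γ, f x := fun j =>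
      Equiv.prod_comp (Equiv.mulRight (z ^ (j : ℕ))) f
    rw [Finset.prod_congr rfl (fun j _ => h2 j), Finset.prod_const, Finset.card_univ,
      Fintype.card_fin, Finset.prod_pow]
  change ∏ x : Γ, f x ^ p ≤ _
  rw [h1]
  calc ∏ x : Γ, ∏ j : Fin p, f (x * z ^ (j : ℕ)) ≤ ∏ _x : Γ, Nat.card W :=
        Finset.prod_le_prod (fun _ _ => Nat.zero_le _)
          (fun x _ => prod_card_fixed_le hcop c z hfpf hzp hcomm x)
    _ = Nat.card W ^ Nat.card Γ := by
        rw [Finset.prod_const, Finset.card_univ, ← Nat.card_eq_fintype_card]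

end fpf

end Cfsg.Agent.Lib.Helper63.CopIneq
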