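import Mathlib
import Cfsg.Agent.Lib.Helper63.CopIneqB

/-!
# Coprime action inequality, part C: the abelian case and the solvable case
-/

set_option autoImplicit false

namespace Cfsg.Agent.Lib.Helper63.CopIneq

open Cfsg.Agent.Lib.Helper03.FrobAct

universe u w

section abelian

variable {Γ : Type w} [Group Γ] {p : ℕ} [Fact p.Prime]

theorem exists_central_elt [Finite Γ] (hΓ : IsPGroup p Γ) {V : Type u} [Group V] [Finite V]
    (c : Γ →* MulAut V) (hne : ∃ g, c g ≠ 1) :
    ∃ z : Γ, c z ≠ 1 ∧ c z ^ p = 1 ∧ ∀ g, c z * c g = c g * c z := by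
  have hR : IsPGroup p c.range := hΓ.of_surjective c.rangeRestrict c.rangeRestrict_surjective
  haveI : Nontrivial c.range := by
    obtain ⟨g, hg⟩ := hne
    exact ⟨⟨⟨c g, ⟨g, rfl⟩⟩, 1, fun h => hg (congrArg Subtype.val h)⟩⟩
  have hZ : Nontrivial (Subgroup.center c.range) := hR.center_nontrivial
  obtain ⟨n, hn⟩ := (hR.to_subgroup (Subgroup.center c.range)).exists_card_eq
  have hn0 : n ≠ 0 := by
    rintro rfl
    rw [pow_zero] at hn
    exact (Finite.one_lt_card_iff_nontrivial.mpr hZ).ne' hn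
  have hdvd : p ∣ Nat.card (Subgroup.center c.range) := by
    rw [hn]
    exact dvd_pow_self p hn0
  obtain ⟨t, ht⟩ := exists_prime_orderOf_dvd_card' p hdvd
  obtain ⟨z, hz⟩ : ∃ z, c z = ((t : c.range) : MulAut V) := (t : c.range).2
  have htp : ((t : c.range) : MulAut V) ^ p = 1 := by
    have h1 := pow_orderOf_eq_one t
    rw [ht] at h1
    have h2 := congrArg (fun x : Subgroup.center c.range => ((x : c.range) : MulAut V)) h1
    simpa using h2
  refine ⟨z, ?_, ?_, ?_⟩
  · rw [hz]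
    intro h
    have h1 : t = 1 := Subtype.ext (Subtype.ext h)
    rw [h1, orderOf_one] at ht
    exact (Fact.out : p.Prime).one_lt.ne' ht.symm
  · rw [hz]
    exact htp
  · intro g
    rw [hz]
    have h1 := Subgroup.mem_center_iff.mp t.2 ⟨c g, ⟨g, rfl⟩⟩
    exact (congrArg Subtype.val h1).symm

theorem ab_ineq [Fintype Γ] (hΓ : IsPGroup p Γ) :
    ∀ (n : ℕ) (V : Type u) [CommGroup V] [Finite V], Nat.card V = n → (Nat.card V).Coprime p →
      ∀ c : Γ →* MulAut V,
        ∏ x : Γ, Nat.card (fixedPts c (Subgroup.zpowers x)) ^ p ≤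
          Nat.card V ^ Nat.card Γ * Nat.card (fixedPts c ⊤) ^ ((p - 1) * Nat.card Γ) := by
  intro n
  induction n using Nat.strong_induction_on with
  | _ n ih =>
  intro V _ _ hn hcop c
  have hp1 : 1 ≤ p := (Fact.out : p.Prime).one_le
  by_cases hne : ∃ g, c g ≠ 1
  swap
  · push Not at hne
    have h1 : ∀ Y : Subgroup Γ, fixedPts c Y = ⊤ := by
      intro Y
      rw [eq_top_iff]
      intro v _ y _
      rw [hne y]
      rfl
    simp_rw [h1]
    rw [Subgroup.card_top, Finset.prod_const, Finset.card_univ, ← pow_mul, ← pow_add,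
      ← Nat.card_eq_fintype_card]
    apply le_of_eq
    congr 1
    obtain ⟨q, rfl⟩ : ∃ q, p = q + 1 := ⟨p - 1, by omega⟩
    simp only [Nat.add_sub_cancel]
    ring
  obtain ⟨z, hz1, hzp, hzc⟩ := exists_central_elt hΓ c hne
  set e := c z with he
  have h₀ : ∀ g : Γ, ∀ u ∈ fixOf e, c g u ∈ fixOf e := by
    intro g u hu
    change e (c g u) = c g u
    have h1 : (e * c g) u = (c g * e) u := by rw [hzc g]
    calc e (c g u) = (e * c g) u := rfl
      _ = (c g * e) u := h1
      _ = c g (e u) := rfl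
      _ = c g u := by rw [show e u = u from hu]
  have h₁ : ∀ g : Γ, ∀ u ∈ (nrm p e).ker, c g u ∈ (nrm p e).ker := by
    intro g u hu
    rw [MonoidHom.mem_ker] at hu ⊢
    rw [nrm_comm p e (c g) (hzc g) u, hu, map_one]
  have hdisj := fixOf_inf_ker hcop e
  have hsup := fixOf_sup_ker hcop e hzp
  have hdec := card_fixedPts_decomp c (fixOf e) (nrm p e).ker h₀ h₁ hdisj hsup
  have hcard := card_decomp (fixOf e) (nrm p e).ker hdisj hsup
  have hV₀ne : fixOf e ≠ ⊤ := by
    intro h
    apply hz1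
    ext v
    have : v ∈ fixOf e := h ▸ Subgroup.mem_top v
    exact this
  have hlt : Nat.card (fixOf e) < n := by
    rw [← hn]
    exact (Subgroup.card_le_card_group (fixOf e)).lt_of_ne
      (fun h => hV₀ne ((Subgroup.card_eq_iff_eq_top (fixOf e)).mp h))
  have hcop₀ : (Nat.card (fixOf e)).Coprime p :=
    Nat.Coprime.coprime_dvd_left (Subgroup.card_subgroup_dvd_card _) hcop
  have hcop₁ : (Nat.card (nrm p e).ker).Coprime p :=
    Nat.Coprime.coprime_dvd_left (Subgroup.card_subgroup_dvd_card _) hcop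
  have hI₀ := ih (Nat.card (fixOf e)) hlt (fixOf e) rfl hcop₀ (resAct c (fixOf e) h₀)
  have hfpf₁ : ∀ w : (nrm p e).ker, resAct c (nrm p e).ker h₁ z w = w → w = 1 := by
    intro w hw
    have h1 : e (w : V) = w := congrArg Subtype.val hw
    have h2 : (w : V) ∈ fixOf e ⊓ (nrm p e).ker := ⟨h1, w.2⟩
    rw [hdisj, Subgroup.mem_bot] at h2
    exact Subtype.ext h2
  have hzp₁ : resAct c (nrm p e).ker h₁ z ^ p = 1 := by
    rw [← map_pow]
    ext w
    change c (z ^ p) (w : V) = w
    rw [map_pow, hzp]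
    rfl
  have hcomm₁ : ∀ g : Γ, resAct c (nrm p e).ker h₁ z * resAct c (nrm p e).ker h₁ g =
      resAct c (nrm p e).ker h₁ g * resAct c (nrm p e).ker h₁ z := by
    intro g
    rw [← map_mul, ← map_mul]
    ext w
    change c (z * g) (w : V) = c (g * z) (w : V)
    rw [map_mul, map_mul, hzc g]
  have hI₁ := fpf_ineq hcop₁ (resAct c (nrm p e).ker h₁) z hfpf₁ hzp₁ hcomm₁
  have hF₁ : 1 ≤ Nat.card (fixedPts (resAct c (nrm p e).ker h₁) ⊤) := Nat.card_pos
  simp_rw [hdec, mul_pow]
  rw [Finset.prod_mul_distrib, hcard, mul_pow]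
  calc (∏ x : Γ, Nat.card (fixedPts (resAct c (fixOf e) h₀) (Subgroup.zpowers x)) ^ p) *
        (∏ x : Γ, Nat.card (fixedPts (resAct c (nrm p e).ker h₁) (Subgroup.zpowers x)) ^ p)
      ≤ (Nat.card (fixOf e) ^ Nat.card Γ *
          Nat.card (fixedPts (resAct c (fixOf e) h₀) ⊤) ^ ((p - 1) * Nat.card Γ)) *
        (Nat.card (nrm p e).ker ^ Nat.card Γ * 1) := by
        rw [mul_one]
        exact Nat.mul_le_mul hI₀ hI₁
    _ ≤ (Nat.card (fixOf e) ^ Nat.card Γ *
          Nat.card (fixedPts (resAct c (fixOf e) h₀) ⊤) ^ ((p - 1) * Nat.card Γ)) *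
        (Nat.card (nrm p e).ker ^ Nat.card Γ *
          Nat.card (fixedPts (resAct c (nrm p e).ker h₁) ⊤) ^ ((p - 1) * Nat.card Γ)) := by
        apply Nat.mul_le_mul_left
        apply Nat.mul_le_mul_left
        exact Nat.one_le_pow _ _ hF₁
    _ = _ := by ring

end abelian

section solvable

variable {Γ : Type w} [Group Γ] {p : ℕ} [Fact p.Prime]

theorem solv_ineq [Fintype Γ] (hΓ : IsPGroup p Γ) :
    ∀ (n : ℕ) (H : Type u) [Group H] [Finite H], Nat.card H = n → Group.IsSolvable H →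
      (Nat.card H).Coprime p → ∀ c : Γ →* MulAut H,
        ∏ x : Γ, Nat.card (fixedPts c (Subgroup.zpowers x)) ^ p ≤
          Nat.card H ^ Nat.card Γ * Nat.card (fixedPts c ⊤) ^ ((p - 1) * Nat.card Γ) := by
  intro n
  induction n using Nat.strong_induction_on with
  | _ n ih =>
  intro H _ _ hn hs hcop c
  by_cases hH : Nontrivial H
  swap
  · have hsub : Subsingleton H := not_nontrivial_iff_subsingleton.mp hH
    have h1 : ∀ K : Subgroup H, Nat.card K = 1 := fun K => Nat.card_unique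
    have h2 : Nat.card H = 1 := Nat.card_unique
    simp_rw [h1]
    rw [h2]
    simp
  obtain ⟨N, q, hNchar, hq, hNne, hNc, hNexp⟩ := exists_char_elem_abelian hs
  have hNn : N.Normal := inferInstance
  have hcardH : Nat.card (H ⧸ N) * Nat.card N = Nat.card H :=
    (Subgroup.card_eq_card_quotient_mul_card_subgroup N).symm
  have hN1 : 1 < Nat.card N := by
    rw [Finite.one_lt_card_iff_nontrivial]
    exact (Subgroup.nontrivial_iff_ne_bot N).mpr hNne
  have hNdvd : Nat.card N ∣ Nat.card H := Subgroup.card_subgroup_dvd_card N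
  have hQdvd : Nat.card (H ⧸ N) ∣ Nat.card H := ⟨Nat.card N, hcardH.symm⟩
  have hcopN : (Nat.card N).Coprime p := Nat.Coprime.coprime_dvd_left hNdvd hcop
  have hcopY : ∀ Y : Subgroup Γ, (Nat.card N).Coprime (Nat.card Y) := by
    intro Y
    obtain ⟨k, hk⟩ := (hΓ.to_subgroup Y).exists_card_eq
    rw [hk]
    exact Nat.Coprime.pow_right k hcopN
  have hM := fun Y : Subgroup Γ => card_fixedPts_mul c N hNc Y (hcopY Y)
  have hqpos : 0 < Nat.card (H ⧸ N) := Nat.card_pos
  have hlt : Nat.card (H ⧸ N) < n := by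
    rw [← hn, ← hcardH]
    exact lt_mul_of_one_lt_right hqpos hN1
  have hQ := ih (Nat.card (H ⧸ N)) hlt (H ⧸ N) rfl inferInstance
    (Nat.Coprime.coprime_dvd_left hQdvd hcop) (quotAct c N)
  have hNf : ∏ x : Γ, Nat.card (fixedPts (subAct c N) (Subgroup.zpowers x)) ^ p ≤
      Nat.card N ^ Nat.card Γ *
        Nat.card (fixedPts (subAct c N) ⊤) ^ ((p - 1) * Nat.card Γ) := by
    letI instN : CommGroup N :=
      { (inferInstance : Group N) with
        mul_comm := fun a b => Subtype.ext (hNc a a.2 b b.2) }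
    exact ab_ineq hΓ (Nat.card N) ↥N rfl hcopN (subAct c N)
  simp_rw [hM, mul_pow]
  rw [Finset.prod_mul_distrib, ← hcardH, mul_pow]
  calc (∏ x : Γ, Nat.card (fixedPts (subAct c N) (Subgroup.zpowers x)) ^ p) *
        (∏ x : Γ, Nat.card (fixedPts (quotAct c N) (Subgroup.zpowers x)) ^ p)
      ≤ (Nat.card N ^ Nat.card Γ *
          Nat.card (fixedPts (subAct c N) ⊤) ^ ((p - 1) * Nat.card Γ)) *
        (Nat.card (H ⧸ N) ^ Nat.card Γ *
          Nat.card (fixedPts (quotAct c N) ⊤) ^ ((p - 1) * Nat.card Γ)) :=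
        Nat.mul_le_mul hNf hQ
    _ = _ := by ring

end solvable

end Cfsg.Agent.Lib.Helper63.CopIneq
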