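import Mathlib
import Cfsg.Agent.Lib.Helper63.CopIneqC
import Cfsg.Agent.Lib.Helper29.Wielandt2

/-!
# Coprime action inequality, part D: internal form for an arbitrary `p'`-group
-/

set_option autoImplicit false

namespace Cfsg.Agent.Lib.Helper63.CopIneq

open Cfsg.Agent.Lib.Helper03.FrobAct
open Cfsg.Agent.Lib.Helper01 (IsSylowIn)

universe u w

section sylow

variable {H : Type*} [Group H] [Finite H] {p : ℕ} [hp : Fact p.Prime]

theorem isSylowIn_inf_centralizer_self {B : Subgroup H} (hB : IsPGroup p B) (q : ℕ)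
    [Fact q.Prime] (K : Subgroup H) (hK : (Nat.card K).Coprime p)
    (hBK : B ≤ Subgroup.normalizer (K : Set H)) (Q : Subgroup H) (hQ : IsSylowIn q Q K)
    (hBQ : B ≤ Subgroup.normalizer (Q : Set H)) :
    IsSylowIn q (Q ⊓ Subgroup.centralizer (B : Set H))
      (K ⊓ Subgroup.centralizer (B : Set H)) := by
  set KB := K ⊓ Subgroup.centralizer (B : Set H) with hKB
  have hBKB : B ≤ Subgroup.normalizer (KB : Set H) :=
    (le_inf hBK (Subgroup.le_normalizer.trans
      (Cfsg.Agent.Lib.Helper15.normalizer_le_normalizer_centralizer B))).trans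
      Subgroup.inf_normalizer_le_normalizer_inf
  have hcopK : (Nat.card B).Coprime (Nat.card K) := by
    obtain ⟨k, hk⟩ := hB.exists_card_eq
    rw [hk]
    exact (Nat.Coprime.pow_right k hK).symm
  have hcopKB : (Nat.card B).Coprime (Nat.card KB) :=
    Nat.Coprime.coprime_dvd_right (Subgroup.card_dvd_of_le inf_le_left) hcopK
  have hsolv : Group.IsSolvable ↥B := by
    haveI := hB.isNilpotent
    infer_instance
  obtain ⟨S, hS, hBS⟩ := Cfsg.Agent.Lib.Helper01.exists_invariant_isSylowIn q hBKB hcopKB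
    (Or.inl hsolv)
  obtain ⟨Q', hQ', hSQ', hBQ'⟩ := Cfsg.Agent.Lib.Helper01.exists_invariant_isSylowIn_ge q hBK
    hcopK (Or.inl hsolv) (hS.1.trans inf_le_left) hS.2.1 hBS
  obtain ⟨c, hc, hcQ⟩ := Cfsg.Agent.Lib.Helper01.exists_centralizer_conj hBK hcopK
    (Or.inl hsolv) hBQ' hBQ (hQ'.exists_conj hQ)
  have hcQ' : Q'.map (MulAut.conj c).toMonoidHom = Q := hcQ
  have hcKB : c ∈ KB := ⟨hc.1, hc.2⟩
  have hS' := hS.conj (a := c) (Subgroup.le_normalizer hcKB)
  have hS'' : IsSylowIn q (S.map (MulAut.conj c).toMonoidHom) KB := hS'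
  have hle1 : S.map (MulAut.conj c).toMonoidHom ≤ Q ⊓ Subgroup.centralizer (B : Set H) := by
    refine le_inf ?_ (hS''.1.trans inf_le_right)
    rw [← hcQ']
    exact Subgroup.map_mono hSQ'
  have hle2 : Q ⊓ Subgroup.centralizer (B : Set H) ≤ KB := inf_le_inf_right _ hQ.1
  have heq := Cfsg.Agent.Lib.Helper29.eq_of_isSylowIn_le hS'' hle1 hle2
    (hQ.2.1.to_le inf_le_left)
  rw [heq]
  exact hS''

theorem card_eq_pow_factorization {T : Type*} [Group T] [Finite T] {q : ℕ} [Fact q.Prime]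
    (hT : IsPGroup q T) : Nat.card T = q ^ (Nat.card T).factorization q := by
  obtain ⟨n, hn⟩ := hT.exists_card_eq
  rw [hn, Nat.Prime.factorization_pow Fact.out, Finsupp.single_eq_same]

end sylow

section bridge

variable {G : Type u} [Group G] {Γ : Type w} [Group Γ]

/-- the conjugation action of `Γ` (through `φ`) on a normalized subgroup -/
def conjAct (φ : Γ →* G) (Q : Subgroup G)
    (hφQ : ∀ g : Γ, φ g ∈ Subgroup.normalizer (Q : Set G)) : Γ →* MulAut Q :=
  Q.normalizerMonoidHom.comp (φ.codRestrict (Subgroup.normalizer (Q : Set G)) hφQ)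

theorem conjAct_apply (φ : Γ →* G) (Q : Subgroup G)
    (hφQ : ∀ g : Γ, φ g ∈ Subgroup.normalizer (Q : Set G)) (g : Γ) (s : Q) :
    ((conjAct φ Q hφQ g s : Q) : G) = φ g * s * (φ g)⁻¹ := rfl

theorem map_fixedPts_conjAct (φ : Γ →* G) (Q : Subgroup G)
    (hφQ : ∀ g : Γ, φ g ∈ Subgroup.normalizer (Q : Set G)) (Y : Subgroup Γ) :
    (fixedPts (conjAct φ Q hφQ) Y).map Q.subtype =
      Q ⊓ Subgroup.centralizer ((Y.map φ : Subgroup G) : Set G) := by
  ext s
  rw [Subgroup.mem_inf, Subgroup.mem_centralizer_iff, Subgroup.mem_map]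
  constructor
  · rintro ⟨⟨s, hs⟩, hfix, rfl⟩
    refine ⟨hs, ?_⟩
    rintro _ ⟨y, hy, rfl⟩
    have h1 : φ y * s * (φ y)⁻¹ = s := congrArg Subtype.val (hfix y hy)
    exact mul_inv_eq_iff_eq_mul.mp h1
  · rintro ⟨hsQ, hcent⟩
    refine ⟨⟨s, hsQ⟩, ?_, rfl⟩
    intro y hy
    apply Subtype.ext
    change φ y * s * (φ y)⁻¹ = s
    rw [hcent (φ y) (Subgroup.mem_map_of_mem φ hy)]
    group

theorem card_fixedPts_conjAct (φ : Γ →* G) (Q : Subgroup G)
    (hφQ : ∀ g : Γ, φ g ∈ Subgroup.normalizer (Q : Set G)) (Y : Subgroup Γ) :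
    Nat.card (fixedPts (conjAct φ Q hφQ) Y) =
      Nat.card (Q ⊓ Subgroup.centralizer ((Y.map φ : Subgroup G) : Set G) : Subgroup G) := by
  rw [← map_fixedPts_conjAct φ Q hφQ Y, Subgroup.card_map_of_injective Q.subtype_injective]

theorem solv_int_ineq [Finite G] [Fintype Γ] {p : ℕ} [Fact p.Prime] (hΓ : IsPGroup p Γ)
    (φ : Γ →* G) (Q : Subgroup G) (hs : Group.IsSolvable Q) (hQ : (Nat.card Q).Coprime p)
    (hφQ : ∀ g : Γ, φ g ∈ Subgroup.normalizer (Q : Set G)) :
    ∏ x : Γ, Nat.card (Q ⊓ Subgroup.centralizer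
        ((Subgroup.zpowers (φ x) : Subgroup G) : Set G) : Subgroup G) ^ p ≤
      Nat.card Q ^ Nat.card Γ *
        Nat.card (Q ⊓ Subgroup.centralizer ((φ.range : Subgroup G) : Set G) : Subgroup G) ^
          ((p - 1) * Nat.card Γ) := by
  have h := solv_ineq hΓ (Nat.card Q) ↥Q rfl hs hQ (conjAct φ Q hφQ)
  simp_rw [card_fixedPts_conjAct, MonoidHom.map_zpowers, ← MonoidHom.range_eq_map] at h
  exact h

/-- **The fixed-point product inequality** (as a divisibility) for a `p`-group `Γ` acting through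
`φ` by conjugation on a `p'`-subgroup `K`. -/
theorem int_ineq [Finite G] [Fintype Γ] {p : ℕ} [Fact p.Prime] (hΓ : IsPGroup p Γ)
    (φ : Γ →* G) (K : Subgroup G) (hK : (Nat.card K).Coprime p)
    (hφK : ∀ g : Γ, φ g ∈ Subgroup.normalizer (K : Set G)) :
    ∏ x : Γ, Nat.card (K ⊓ Subgroup.centralizer
        ((Subgroup.zpowers (φ x) : Subgroup G) : Set G) : Subgroup G) ^ p ∣
      Nat.card K ^ Nat.card Γ *
        Nat.card (K ⊓ Subgroup.centralizer ((φ.range : Subgroup G) : Set G) : Subgroup G) ^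
          ((p - 1) * Nat.card Γ) := by
  have hpos : ∀ T : Subgroup G, Nat.card T ≠ 0 := fun T => Nat.card_pos.ne'
  rw [← Nat.factorization_prime_le_iff_dvd
    (Finset.prod_ne_zero_iff.mpr (fun x _ => pow_ne_zero _ (hpos _)))
    (mul_ne_zero (pow_ne_zero _ (hpos _)) (pow_ne_zero _ (hpos _)))]
  intro q hq
  haveI : Fact q.Prime := ⟨hq⟩
  rw [Nat.factorization_prod_apply (fun x _ => pow_ne_zero _ (hpos _)),
    Nat.factorization_mul (pow_ne_zero _ (hpos _)) (pow_ne_zero _ (hpos _)), Finsupp.add_apply,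
    Nat.factorization_pow, Nat.factorization_pow, Finsupp.smul_apply, Finsupp.smul_apply]
  simp_rw [Nat.factorization_pow, Finsupp.smul_apply]
  set A := φ.range with hAdef
  have hA : IsPGroup p A := hΓ.of_surjective φ.rangeRestrict φ.rangeRestrict_surjective
  have hAK : A ≤ Subgroup.normalizer (K : Set G) := by
    rintro _ ⟨g, rfl⟩
    exact hφK g
  have hcop : (Nat.card A).Coprime (Nat.card K) := by
    obtain ⟨k, hk⟩ := hA.exists_card_eq
    rw [hk]
    exact (Nat.Coprime.pow_right k hK).symm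
  have hsolvA : Group.IsSolvable ↥A := by
    haveI := hA.isNilpotent
    infer_instance
  obtain ⟨Q, hQ, hAQ⟩ := Cfsg.Agent.Lib.Helper01.exists_invariant_isSylowIn q hAK hcop
    (Or.inl hsolvA)
  have hφQ : ∀ g : Γ, φ g ∈ Subgroup.normalizer (Q : Set G) := fun g => hAQ ⟨g, rfl⟩
  have hQsolv : Group.IsSolvable ↥Q := by
    haveI := hQ.2.1.isNilpotent
    infer_instance
  have hQcop : (Nat.card Q).Coprime p :=
    Nat.Coprime.coprime_dvd_left (Subgroup.card_dvd_of_le hQ.1) hK
  have hD1 := solv_int_ineq hΓ φ Q hQsolv hQcop hφQ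
  have hS : ∀ B : Subgroup G, B ≤ A →
      IsSylowIn q (Q ⊓ Subgroup.centralizer (B : Set G)) (K ⊓ Subgroup.centralizer (B : Set G)) :=
    fun B hB => isSylowIn_inf_centralizer_self (hA.to_le hB) q K hK (hB.trans hAK) Q hQ
      (hB.trans hAQ)
  have hzle : ∀ x : Γ, Subgroup.zpowers (φ x) ≤ A := fun x =>
    (Subgroup.zpowers_le).mpr ⟨x, rfl⟩
  have hvx : ∀ x : Γ, (Nat.card (K ⊓ Subgroup.centralizer
      ((Subgroup.zpowers (φ x) : Subgroup G) : Set G) : Subgroup G)).factorization q =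
      (Nat.card (Q ⊓ Subgroup.centralizer
      ((Subgroup.zpowers (φ x) : Subgroup G) : Set G) : Subgroup G)).factorization q := fun x =>
    Cfsg.Agent.Lib.Helper29.factorization_card_of_isSylowIn (hS _ (hzle x))
  have hv0 := Cfsg.Agent.Lib.Helper29.factorization_card_of_isSylowIn (hS A le_rfl)
  have hvK := Cfsg.Agent.Lib.Helper29.factorization_card_of_isSylowIn hQ
  simp_rw [hvx]
  rw [hv0, hvK]
  have hqx : ∀ x : Γ, Nat.card (Q ⊓ Subgroup.centralizer
      ((Subgroup.zpowers (φ x) : Subgroup G) : Set G) : Subgroup G) =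
      q ^ (Nat.card (Q ⊓ Subgroup.centralizer
      ((Subgroup.zpowers (φ x) : Subgroup G) : Set G) : Subgroup G)).factorization q := fun x =>
    card_eq_pow_factorization (hQ.2.1.to_le inf_le_left)
  have hq0 : Nat.card (Q ⊓ Subgroup.centralizer ((A : Subgroup G) : Set G) : Subgroup G) =
      q ^ (Nat.card (Q ⊓ Subgroup.centralizer
        ((A : Subgroup G) : Set G) : Subgroup G)).factorization q :=
    card_eq_pow_factorization (hQ.2.1.to_le inf_le_left)
  have hqK : Nat.card Q = q ^ (Nat.card Q).factorization q := card_eq_pow_factorization hQ.2.1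
  rw [Finset.prod_congr rfl (fun x _ => by rw [hqx x]), hq0, hqK] at hD1
  simp_rw [← pow_mul] at hD1
  rw [Finset.prod_pow_eq_pow_sum, ← pow_add] at hD1
  have h := (Nat.pow_le_pow_iff_right hq.one_lt).mp hD1
  simp only [smul_eq_mul]
  calc ∑ x : Γ, p * (Nat.card (Q ⊓ Subgroup.centralizer
        ((Subgroup.zpowers (φ x) : Subgroup G) : Set G) : Subgroup G)).factorization q
      = ∑ x : Γ, (Nat.card (Q ⊓ Subgroup.centralizer
        ((Subgroup.zpowers (φ x) : Subgroup G) : Set G) : Subgroup G)).factorization q * p :=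
        Finset.sum_congr rfl (fun x _ => mul_comm _ _)
    _ ≤ _ := h
    _ = _ := by ring

end bridge

end Cfsg.Agent.Lib.Helper63.CopIneq
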