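import Mathlib

set_option autoImplicit false
set_option linter.unusedSectionVars false

/-!
# Counting group elements by the fibres of a coset-like map

If `φ : G → Ω` has `φ g = φ g' ↔ g⁻¹ * g' ∈ N`, and `A ⊆ range φ`, then
`#{g | φ g ∈ A} = #A * #N`.  Applications: conjugates of a subgroup, Sylow subgroups.
-/

namespace Cfsg.Agent.Lib.Helper63.FiberCount

open Classical

variable {G : Type*} [Group G]

theorem card_fiber_mem [Finite G] {Ω : Type*} (φ : G → Ω) (N : Subgroup G)
    (hφ : ∀ g g' : G, φ g = φ g' ↔ g⁻¹ * g' ∈ N) (A : Set Ω)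
    (hA : ∀ a ∈ A, ∃ g : G, φ g = a) :
    Nat.card {g : G // φ g ∈ A} = Nat.card A * Nat.card N := by
  have hAfin : A.Finite := by
    apply Set.Finite.subset (Set.finite_range φ)
    intro a ha
    obtain ⟨g, hg⟩ := hA a ha
    exact ⟨g, hg⟩
  have : Finite A := hAfin
  let _ : Fintype A := Fintype.ofFinite _
  let f : {g : G // φ g ∈ A} → A := fun g => ⟨φ g.1, g.2⟩
  have h1 : Nat.card {g : G // φ g ∈ A} = Nat.card (Σ a : A, {y : {g : G // φ g ∈ A} // f y = a}) :=
    Nat.card_congr (Equiv.sigmaFiberEquiv f).symm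
  rw [h1, Nat.card_sigma]
  have h2 : ∀ a : A, Nat.card {y : {g : G // φ g ∈ A} // f y = a} = Nat.card N := by
    intro a
    obtain ⟨g₀, hg₀⟩ := hA a.1 a.2
    apply Nat.card_congr
    refine ⟨fun y => ⟨g₀⁻¹ * y.1.1, ?_⟩, fun s => ⟨⟨g₀ * s.1, ?_⟩, ?_⟩, ?_, ?_⟩
    · rw [← hφ]
      have := y.2
      have h3 : φ y.1.1 = a.1 := congrArg Subtype.val this
      rw [hg₀, h3]
    · have h3 : φ g₀ = φ (g₀ * s.1) := by
        rw [hφ]
        simp
      rw [← h3, hg₀]
      exact a.2
    · apply Subtype.ext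
      show φ (g₀ * s.1) = a.1
      have h3 : φ g₀ = φ (g₀ * s.1) := by
        rw [hφ]
        simp
      rw [← h3, hg₀]
    · intro y
      apply Subtype.ext
      apply Subtype.ext
      show g₀ * (g₀⁻¹ * y.1.1) = y.1.1
      group
    · intro s
      apply Subtype.ext
      show g₀⁻¹ * (g₀ * s.1) = s.1
      group
  rw [Finset.sum_congr rfl (fun a _ => h2 a), Finset.sum_const, Finset.card_univ,
    smul_eq_mul, ← Nat.card_eq_fintype_card]

theorem mem_map_conj {H : Subgroup G} {g x : G} :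
    x ∈ H.map (MulAut.conj g).toMonoidHom ↔ g⁻¹ * x * g ∈ H := by
  rw [Subgroup.mem_map]
  constructor
  · rintro ⟨y, hy, rfl⟩
    have : g⁻¹ * ((MulAut.conj g).toMonoidHom y) * g = y := by
      simp only [MulEquiv.coe_toMonoidHom, MulAut.conj_apply]
      group
    rwa [this]
  · intro h
    refine ⟨_, h, ?_⟩
    simp only [MulEquiv.coe_toMonoidHom, MulAut.conj_apply]
    group

theorem map_conj_eq_iff (H : Subgroup G) (g g' : G) :
    H.map (MulAut.conj g).toMonoidHom = H.map (MulAut.conj g').toMonoidHom ↔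
      g⁻¹ * g' ∈ Subgroup.normalizer (H : Set G) := by
  rw [Subgroup.mem_normalizer_iff]
  constructor
  · intro h x
    have h1 : g' * x * g'⁻¹ ∈ H.map (MulAut.conj g).toMonoidHom ↔
        g' * x * g'⁻¹ ∈ H.map (MulAut.conj g').toMonoidHom := by rw [h]
    rw [mem_map_conj, mem_map_conj] at h1
    have e1 : g'⁻¹ * (g' * x * g'⁻¹) * g' = x := by group
    have e2 : g⁻¹ * (g' * x * g'⁻¹) * g = g⁻¹ * g' * x * (g⁻¹ * g')⁻¹ := by group
    rw [e1, e2] at h1
    exact h1.symm
  · intro h
    ext x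
    rw [mem_map_conj, mem_map_conj]
    have h1 := h (g'⁻¹ * x * g')
    have e2 : g⁻¹ * g' * (g'⁻¹ * x * g') * (g⁻¹ * g')⁻¹ = g⁻¹ * x * g := by group
    rw [e2] at h1
    exact h1.symm

/-- the number of `g` conjugating `H` into `P`, counted through the conjugates of `H` -/
theorem card_conj_le [Finite G] (H P : Subgroup G) :
    Nat.card {g : G // H.map (MulAut.conj g).toMonoidHom ≤ P} =
      Nat.card {K : Subgroup G // K ≤ P ∧ ∃ g : G, K = H.map (MulAut.conj g).toMonoidHom} *
        Nat.card ↥(Subgroup.normalizer (H : Set G)) := by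
  have h := card_fiber_mem (fun g : G => H.map (MulAut.conj g).toMonoidHom)
    (Subgroup.normalizer (H : Set G)) (map_conj_eq_iff H)
    {K : Subgroup G | K ≤ P ∧ ∃ g : G, K = H.map (MulAut.conj g).toMonoidHom}
    (by
      rintro a ⟨_, g, rfl⟩
      exact ⟨g, rfl⟩)
  have h2 : Nat.card {g : G // H.map (MulAut.conj g).toMonoidHom ≤ P} =
      Nat.card {g : G // (fun g : G => H.map (MulAut.conj g).toMonoidHom) g ∈
        {K : Subgroup G | K ≤ P ∧ ∃ g : G, K = H.map (MulAut.conj g).toMonoidHom}} := by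
    apply Nat.card_congr
    apply Equiv.subtypeEquivRight
    intro g
    constructor
    · intro hg
      exact ⟨hg, g, rfl⟩
    · intro hg
      exact hg.1
  rw [h2, h]
  rfl

variable [Finite G] {p : ℕ} [Fact p.Prime]

theorem sylow_smul_eq_iff (P : Sylow p G) (g g' : G) :
    g • P = g' • P ↔ g⁻¹ * g' ∈ Subgroup.normalizer ((P : Subgroup G) : Set G) := by
  have hst : MulAction.stabilizer G P = Subgroup.normalizer ((P : Subgroup G) : Set G) :=
    Sylow.stabilizer_eq_normalizer P
  rw [← hst, MulAction.mem_stabilizer_iff, mul_smul, inv_smul_eq_iff]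
  exact eq_comm

theorem mem_sylow_smul {P : Sylow p G} {g x : G} :
    x ∈ ((g • P : Sylow p G) : Subgroup G) ↔ g⁻¹ * x * g ∈ (P : Subgroup G) := by
  rw [Sylow.coe_subgroup_smul, Subgroup.mem_pointwise_smul_iff_inv_smul_mem, MulAut.smul_def,
    MulAut.conj_inv_apply]

/-- the number of `g` with `H ≤ g • P`, counted through the Sylow subgroups containing `H` -/
theorem card_le_sylow_smul (H : Subgroup G) (P : Sylow p G) :
    Nat.card {g : G // H ≤ ((g • P : Sylow p G) : Subgroup G)} =
      Nat.card {Q : Sylow p G // H ≤ (Q : Subgroup G)} *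
        Nat.card ↥(Subgroup.normalizer ((P : Subgroup G) : Set G)) := by
  have h := card_fiber_mem (fun g : G => g • P)
    (Subgroup.normalizer ((P : Subgroup G) : Set G)) (sylow_smul_eq_iff P)
    {Q : Sylow p G | H ≤ (Q : Subgroup G)}
    (by
      intro Q _
      exact MulAction.exists_smul_eq G P Q)
  exact h

/-- double counting: Sylow subgroups over `H` against conjugates of `H` inside `P` -/
theorem card_sylow_mul_eq (H : Subgroup G) (P : Sylow p G) :
    Nat.card {Q : Sylow p G // H ≤ (Q : Subgroup G)} *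
        Nat.card ↥(Subgroup.normalizer ((P : Subgroup G) : Set G)) =
      Nat.card {K : Subgroup G // K ≤ (P : Subgroup G) ∧
          ∃ g : G, K = H.map (MulAut.conj g).toMonoidHom} *
        Nat.card ↥(Subgroup.normalizer (H : Set G)) := by
  rw [← card_le_sylow_smul H P, ← card_conj_le H (P : Subgroup G)]
  apply Nat.card_congr
  refine ⟨fun g => ⟨g.1⁻¹, ?_⟩, fun g => ⟨g.1⁻¹, ?_⟩, ?_, ?_⟩
  · intro x hx
    rw [mem_map_conj] at hx
    have := g.2 hx
    rw [mem_sylow_smul] at this
    have e : g.1⁻¹ * (g.1⁻¹⁻¹ * x * g.1⁻¹) * g.1 = x := by group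
    rwa [e] at this
  · intro x hx
    rw [mem_sylow_smul]
    apply g.2
    rw [mem_map_conj]
    have e : g.1⁻¹ * (g.1⁻¹⁻¹ * x * g.1⁻¹) * g.1 = x := by group
    rwa [e]
  · intro g
    apply Subtype.ext
    show g.1⁻¹⁻¹ = g.1
    group
  · intro g
    apply Subtype.ext
    show g.1⁻¹⁻¹ = g.1
    group

end Cfsg.Agent.Lib.Helper63.FiberCount
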