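import Mathlib
import Cfsg.Agent.Lib.Helper63.FiberCount

/-!
# Counting `p`-elements through Sylow subgroups, and the AM-GM step
-/

set_option autoImplicit false

namespace Cfsg.Agent.Lib.Helper63.PElts

open Classical

section amgm

theorem amgm_nat {ι : Type*} [Fintype ι] [Nonempty ι] (L : ι → ℕ) (hL : ∀ i, 0 < L i)
    (n u : ℕ) (hu : (u : ℝ) = n * ∑ i, ((L i : ℝ))⁻¹) :
    (Fintype.card ι * n) ^ Fintype.card ι ≤ u ^ Fintype.card ι * ∏ i, L i := by
  have hm0' : 0 < Fintype.card ι := Fintype.card_pos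
  have hz : ∀ i ∈ (Finset.univ : Finset ι), (0 : ℝ) < (L i : ℝ) := fun i _ => by
    exact_mod_cast hL i
  have hS : 0 < ∑ i, ((L i : ℝ))⁻¹ :=
    Finset.sum_pos (fun i hi => inv_pos.2 (hz i hi)) Finset.univ_nonempty
  have hw' : (0 : ℝ) < ∑ _i : ι, (1 : ℝ) := by
    rw [Finset.sum_const, Finset.card_univ, nsmul_eq_mul, mul_one]
    exact_mod_cast hm0'
  have h := Real.harm_mean_le_geom_mean Finset.univ Finset.univ_nonempty (fun _ => (1 : ℝ))
    (fun i => (L i : ℝ)) (fun _ _ => one_pos) hw' hz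
  simp only [Finset.sum_const, Finset.card_univ, nsmul_eq_mul, mul_one, one_div,
    Real.rpow_one] at h
  set m := Fintype.card ι with hm
  have hm0 : 0 < m := hm0'
  have hPi : (0 : ℝ) ≤ ∏ i, (L i : ℝ) := Finset.prod_nonneg (fun i hi => (hz i hi).le)
  have h2 : ((m : ℝ) / ∑ i, ((L i : ℝ))⁻¹) ^ m ≤ ∏ i, (L i : ℝ) := by
    calc ((m : ℝ) / ∑ i, ((L i : ℝ))⁻¹) ^ m
        ≤ ((∏ i, (L i : ℝ)) ^ ((m : ℝ)⁻¹)) ^ m :=
          pow_le_pow_left₀ (div_nonneg (Nat.cast_nonneg m) hS.le) h m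
      _ = ∏ i, (L i : ℝ) := by
          rw [← Real.rpow_natCast, ← Real.rpow_mul hPi,
            inv_mul_cancel₀ (by exact_mod_cast hm0.ne'), Real.rpow_one]
  rw [div_pow, div_le_iff₀ (pow_pos hS m)] at h2
  have h3 : ((m * n : ℕ) : ℝ) ^ m ≤ ((u ^ m * ∏ i, L i : ℕ) : ℝ) := by
    push_cast
    rw [hu, mul_pow, mul_pow]
    calc (m : ℝ) ^ m * (n : ℝ) ^ m
        ≤ ((∏ i, (L i : ℝ)) * (∑ i, ((L i : ℝ))⁻¹) ^ m) * (n : ℝ) ^ m :=
          mul_le_mul_of_nonneg_right h2 (pow_nonneg (Nat.cast_nonneg n) m)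
      _ = _ := by ring
  exact_mod_cast h3

end amgm

section count

variable {G : Type*} [Group G] [Finite G] (p : ℕ) [Fact p.Prime]

/-- the number of Sylow `p`-subgroups containing `g` -/
noncomputable def lam (g : G) : ℕ := Nat.card {Q : Sylow p G // g ∈ (Q : Subgroup G)}

theorem lam_pos_iff (g : G) : 0 < lam p g ↔ ∃ k : ℕ, orderOf g = p ^ k := by
  rw [lam, Nat.card_pos_iff]
  constructor
  · rintro ⟨⟨Q, hQ⟩, _⟩
    obtain ⟨k, hk⟩ := (IsPGroup.iff_orderOf.mp Q.isPGroup') ⟨g, hQ⟩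
    refine ⟨k, ?_⟩
    rw [← hk]
    exact (Subgroup.orderOf_mk g hQ).symm
  · rintro ⟨k, hk⟩
    have hz : IsPGroup p (Subgroup.zpowers g) := by
      apply IsPGroup.of_card (n := k)
      rw [Nat.card_zpowers, hk]
    obtain ⟨Q, hQ⟩ := hz.exists_le_sylow
    exact ⟨⟨⟨Q, hQ (Subgroup.mem_zpowers g)⟩⟩, inferInstance⟩

theorem lam_conj (c g : G) : lam p (c * g * c⁻¹) = lam p g := by
  unfold lam
  apply Nat.card_congr
  refine ⟨fun Q => ⟨c⁻¹ • Q.1, ?_⟩, fun Q => ⟨c • Q.1, ?_⟩, ?_, ?_⟩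
  · rw [FiberCount.mem_sylow_smul]
    simpa [mul_assoc] using Q.2
  · rw [FiberCount.mem_sylow_smul]
    have e : c⁻¹ * (c * g * c⁻¹) * c = g := by group
    rw [e]
    exact Q.2
  · intro Q
    apply Subtype.ext
    exact smul_inv_smul c Q.1
  · intro Q
    apply Subtype.ext
    exact inv_smul_smul c Q.1

theorem card_pelts_eq [Fintype G] (P : Sylow p G) :
    (Nat.card {g : G // ∃ k : ℕ, orderOf g = p ^ k} : ℝ) =
      Nat.card (Sylow p G) * ∑ x : (P : Subgroup G), ((lam p (x : G) : ℝ))⁻¹ := by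
  haveI : Fintype (Sylow p G) := Fintype.ofFinite _
  have h1 : (Nat.card {g : G // ∃ k : ℕ, orderOf g = p ^ k} : ℝ) =
      ∑ g : G, ∑ Q : Sylow p G, if g ∈ (Q : Subgroup G) then ((lam p g : ℝ))⁻¹ else 0 := by
    rw [Nat.card_eq_fintype_card, Fintype.card_subtype, Finset.card_filter]
    push_cast
    refine Finset.sum_congr rfl (fun g _ => ?_)
    rw [Finset.sum_ite, Finset.sum_const, Finset.sum_const_zero, add_zero, nsmul_eq_mul]
    have hc : (Finset.univ.filter (fun Q : Sylow p G => g ∈ (Q : Subgroup G))).card =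
        lam p g := by
      rw [lam, Nat.card_eq_fintype_card, Fintype.card_subtype]
    rw [hc]
    split_ifs with hg
    · have : (lam p g : ℝ) ≠ 0 := by
        exact_mod_cast ((lam_pos_iff p g).2 hg).ne'
      rw [mul_inv_cancel₀ this]
    · have : lam p g = 0 := by
        by_contra h
        exact hg ((lam_pos_iff p g).1 (Nat.pos_of_ne_zero h))
      rw [this]
      simp
  rw [h1, Finset.sum_comm]
  have h2 : ∀ Q : Sylow p G,
      ∑ g : G, (if g ∈ (Q : Subgroup G) then ((lam p g : ℝ))⁻¹ else 0) =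
        ∑ x : (P : Subgroup G), ((lam p (x : G) : ℝ))⁻¹ := by
    intro Q
    obtain ⟨c, rfl⟩ := MulAction.exists_smul_eq G P Q
    rw [← Equiv.sum_comp (MulAut.conj c).toEquiv]
    have h3 : ∀ g : G,
        (if (MulAut.conj c).toEquiv g ∈ ((c • P : Sylow p G) : Subgroup G) then
          ((lam p ((MulAut.conj c).toEquiv g) : ℝ))⁻¹ else 0) =
        if g ∈ (P : Subgroup G) then ((lam p g : ℝ))⁻¹ else 0 := by
      intro g
      have e1 : (MulAut.conj c).toEquiv g = c * g * c⁻¹ := rfl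
      rw [e1, lam_conj]
      have e2 : c * g * c⁻¹ ∈ ((c • P : Sylow p G) : Subgroup G) ↔ g ∈ (P : Subgroup G) := by
        rw [FiberCount.mem_sylow_smul]
        have e : c⁻¹ * (c * g * c⁻¹) * c = g := by group
        rw [e]
      simp only [e2]
    rw [Finset.sum_congr rfl (fun g _ => h3 g), ← Finset.sum_filter]
    exact Finset.sum_subtype (Finset.univ.filter (· ∈ (P : Subgroup G))) (by simp) _
  rw [Finset.sum_congr rfl (fun Q _ => h2 Q), Finset.sum_const, Finset.card_univ, nsmul_eq_mul,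
    Nat.card_eq_fintype_card]

end count

end Cfsg.Agent.Lib.Helper63.PElts
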