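import Mathlib

set_option autoImplicit false

namespace Cfsg.Agent.Lib.Helper63

/-- K-S5289-E: in a cyclic group of order `p ^ (m + 1)` generated by `g`, the elements of order dividing `p` lie in the
subgroup generated by `g ^ p ^ m`, and that subgroup lies in every nontrivial subgroup. -/
theorem zpowers_prime_pow_facts {G : Type*} [Group G] {p m : ℕ} [Fact p.Prime] (g : G)
    (hg : orderOf g = p ^ (m + 1)) :
    (∀ u ∈ Subgroup.zpowers g, u ^ p = 1 → u ∈ Subgroup.zpowers (g ^ p ^ m)) ∧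
    (∀ u ∈ Subgroup.zpowers g, u ≠ 1 → g ^ p ^ m ∈ Subgroup.zpowers u) := by
  have hp : p.Prime := Fact.out
  have hp0 : (p : ℤ) ≠ 0 := by exact_mod_cast hp.ne_zero
  constructor
  · rintro u ⟨k, rfl⟩ hu
    have h1 : g ^ (k * (p : ℤ)) = 1 := by
      rw [zpow_mul, zpow_natCast]
      exact hu
    have h2 : ((orderOf g : ℕ) : ℤ) ∣ k * (p : ℤ) := orderOf_dvd_iff_zpow_eq_one.mpr h1
    rw [hg] at h2
    have h3 : ((p : ℤ) ^ m) * (p : ℤ) ∣ k * (p : ℤ) := by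
      have e : ((p ^ (m + 1) : ℕ) : ℤ) = ((p : ℤ) ^ m) * (p : ℤ) := by
        push_cast
        ring
      rw [← e]
      exact h2
    have h4 : ((p : ℤ) ^ m) ∣ k := (mul_dvd_mul_iff_right hp0).mp h3
    obtain ⟨j, rfl⟩ := h4
    refine ⟨j, ?_⟩
    show (g ^ p ^ m) ^ j = g ^ ((p : ℤ) ^ m * j)
    rw [zpow_mul]
    congr 1
    rw [← zpow_natCast]
    congr 1
  · rintro u ⟨k, rfl⟩ hu
    set d : ℕ := Int.gcd k ((p ^ (m + 1) : ℕ) : ℤ) with hd
    have hd1 : d ∣ p ^ (m + 1) := by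
      have : ((d : ℕ) : ℤ) ∣ ((p ^ (m + 1) : ℕ) : ℤ) := Int.gcd_dvd_right k _
      exact Int.natCast_dvd_natCast.mp this
    have hd2 : (d : ℤ) ∣ k := Int.gcd_dvd_left k _
    obtain ⟨j, hj, hdj⟩ := (Nat.dvd_prime_pow hp).mp hd1
    have hjm : j ≤ m := by
      by_contra hcon
      have hj' : j = m + 1 := by omega
      apply hu
      have h5 : ((orderOf g : ℕ) : ℤ) ∣ k := by
        rw [hg, ← hj', ← hdj]
        exact hd2
      exact orderOf_dvd_iff_zpow_eq_one.mp h5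
    -- Bezout
    have hbez : (d : ℤ) = k * Int.gcdA k ((p ^ (m + 1) : ℕ) : ℤ) +
        ((p ^ (m + 1) : ℕ) : ℤ) * Int.gcdB k ((p ^ (m + 1) : ℕ) : ℤ) := Int.gcd_eq_gcd_ab k _
    have hgd : g ^ d = (g ^ k) ^ Int.gcdA k ((p ^ (m + 1) : ℕ) : ℤ) := by
      rw [← zpow_natCast, hbez, zpow_add, zpow_mul, zpow_mul, zpow_natCast, ← hg, pow_orderOf_eq_one, one_zpow,
        mul_one]
    refine ⟨Int.gcdA k ((p ^ (m + 1) : ℕ) : ℤ) * ((p ^ (m - j) : ℕ) : ℤ), ?_⟩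
    show (g ^ k) ^ (Int.gcdA k ((p ^ (m + 1) : ℕ) : ℤ) * ((p ^ (m - j) : ℕ) : ℤ)) = g ^ p ^ m
    rw [zpow_mul, ← hgd, zpow_natCast, hdj, ← pow_mul, ← pow_add]
    congr 2
    omega

end Cfsg.Agent.Lib.Helper63
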