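import Mathlib
import Cfsg.Agent.Lib.Helper63.MinNormalDecomp
import Cfsg.Agent.Lib.Helper72.Basic

set_option autoImplicit false

namespace Cfsg.Agent.Lib.Helper63

open MulAction Subgroup

section Der

variable {G : Type*} [Group G] {Ω : Type*} [MulAction G Ω]

/-- `g` is a derangement -/
def IsDer (g : G) : Prop := ∀ ω : Ω, g • ω ≠ ω

theorem IsDer.conj {g : G} (hg : IsDer (Ω := Ω) g) (x : G) : IsDer (Ω := Ω) (x * g * x⁻¹) := by
  intro ω h
  apply hg (x⁻¹ • ω)
  rw [mul_smul, mul_smul] at h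
  have := congrArg (fun z => x⁻¹ • z) h
  simp only [inv_smul_smul] at this
  exact this

theorem IsDer.ne_one [Nonempty Ω] {g : G} (hg : IsDer (Ω := Ω) g) : g ≠ 1 := by
  rintro rfl
  obtain ⟨ω⟩ := (inferInstance : Nonempty Ω)
  exact hg ω (one_smul _ _)

variable [Finite G] [Finite Ω]

/-- Jordan: a transitive subgroup on at least two points contains a derangement -/
theorem exists_isDer_of_transitive (S : Subgroup G) (hS : ∀ x y : Ω, ∃ s ∈ S, s • x = y)
    (hΩ : Nontrivial Ω) : ∃ s ∈ S, IsDer (Ω := Ω) s := by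
  by_contra hcon
  push Not at hcon
  have hpt : IsPretransitive S Ω := by
    constructor
    intro x y
    obtain ⟨s, hs, h⟩ := hS x y
    exact ⟨⟨s, hs⟩, h⟩
  have : Subsingleton Ω := by
    apply Cfsg.Agent.Lib.Helper72.subsingleton_of_forall_exists_fixed (G := S) (X := Ω)
    intro s
    have := hcon s.1 s.2
    unfold IsDer at this
    push Not at this
    obtain ⟨ω, hω⟩ := this
    exact ⟨ω, hω⟩
  exact not_subsingleton Ω this

omit [Finite Ω] in
/-- an element of `T` with no `T`-conjugate inside the proper subgroup `P` -/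
theorem exists_not_conj_mem (T P : Subgroup G) (hPT : P ≤ T) (hne : P ≠ T) :
    ∃ t ∈ T, ∀ u ∈ T, u * t * u⁻¹ ∉ P := by
  by_contra hcon
  push Not at hcon
  let Q : Subgroup T := P.subgroupOf T
  have hsub : Subsingleton (T ⧸ Q) := by
    apply Cfsg.Agent.Lib.Helper72.subsingleton_of_forall_exists_fixed (G := T) (X := T ⧸ Q)
    intro t
    obtain ⟨u, hu, hmem⟩ := hcon t.1 t.2
    refine ⟨((⟨u, hu⟩ : T)⁻¹ : T), ?_⟩
    rw [MulAction.Quotient.smul_mk, QuotientGroup.eq]
    change ((t * (⟨u, hu⟩ : T)⁻¹)⁻¹ * (⟨u, hu⟩ : T)⁻¹ : T) ∈ P.subgroupOf T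
    rw [Subgroup.mem_subgroupOf]
    have e : (((t * (⟨u, hu⟩ : T)⁻¹)⁻¹ * (⟨u, hu⟩ : T)⁻¹ : T) : G) = u * (t : G)⁻¹ * u⁻¹ := by
      simp [mul_assoc]
    rw [e]
    have : u * (t : G)⁻¹ * u⁻¹ = (u * t * u⁻¹)⁻¹ := by group
    rw [this]
    exact P.inv_mem hmem
  apply hne
  apply le_antisymm hPT
  intro t ht
  have := hsub.elim (QuotientGroup.mk (⟨t, ht⟩ : T) : T ⧸ Q) (QuotientGroup.mk (1 : T))
  rw [QuotientGroup.eq] at this
  have h' : ((⟨t, ht⟩ : T)⁻¹ * 1 : T) ∈ P.subgroupOf T := this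
  rw [Subgroup.mem_subgroupOf] at h'
  have e : (((⟨t, ht⟩ : T)⁻¹ * 1 : T) : G) = t⁻¹ := by simp
  rw [e] at h'
  have := P.inv_mem h'
  simpa using this

end Der

section Sharp

variable {G : Type*} [Group G] [Finite G] {Ω : Type*} [MulAction G Ω] [Finite Ω]

/-- in a sharply 2-transitive group, two derangements agreeing at a point coincide -/
theorem isDer_unique_of_sharp (h2 : IsMultiplyPretransitive G Ω 2)
    (hsharp : ∀ g : G, g ≠ 1 → ∀ a b : Ω, a ≠ b → g • a = a → g • b ≠ b)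
    {d d' : G} (hd : IsDer (Ω := Ω) d) (hd' : IsDer (Ω := Ω) d') (α : Ω) (h : d • α = d' • α) :
    d' = d := by
  classical
  set β := d • α with hβ
  have hβα : β ≠ α := hd α
  let A := {γ : Ω // γ ≠ α ∧ γ ≠ β}
  let B := {y : G // y • α = α ∧ y ≠ 1}
  have hdinv : ∀ γ : Ω, d⁻¹ • γ ≠ γ := by
    intro γ hγ
    apply hd γ
    rw [inv_smul_eq_iff] at hγ
    exact hγ.symm
  -- the map f
  have hex : ∀ γ : A, ∃ y : G, y • α = α ∧ y • γ.1 = d⁻¹ • γ.1 := by
    intro γ
    have h1 : α ≠ γ.1 := γ.2.1.symm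
    have h2' : α ≠ d⁻¹ • γ.1 := by
      intro hcon
      apply γ.2.2
      rw [eq_inv_smul_iff] at hcon
      rw [← hcon]
    exact exists_smul_pair h2 h1 h2'
  choose yf hyf1 hyf2 using hex
  have hyf_ne : ∀ γ : A, yf γ ≠ 1 := by
    intro γ hcon
    have := hyf2 γ
    rw [hcon, one_smul] at this
    exact hdinv _ this.symm
  let f : A → B := fun γ => ⟨yf γ, hyf1 γ, hyf_ne γ⟩
  have hdy : ∀ y : G, y • α = α → d * y ≠ 1 := by
    intro y hy hcon
    have : (d * y) • α = α := by rw [hcon, one_smul]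
    rw [mul_smul, hy] at this
    exact hβα this
  have hf : Function.Injective f := by
    intro γ γ' hγ
    have hy : yf γ = yf γ' := congrArg Subtype.val hγ
    by_contra hne
    have hne' : γ.1 ≠ γ'.1 := fun h => hne (Subtype.ext h)
    have e1 : (d * yf γ) • γ.1 = γ.1 := by rw [mul_smul, hyf2, smul_inv_smul]
    have e2 : (d * yf γ) • γ'.1 = γ'.1 := by rw [hy, mul_smul, hyf2, smul_inv_smul]
    exact hsharp _ (hdy _ (hyf1 γ)) _ _ hne' e1 e2
  -- the map g
  have hg1 : ∀ y : B, y.1 • β ≠ α := by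
    intro y hcon
    have : y.1 • β = y.1 • α := by rw [hcon, y.2.1]
    exact hβα (smul_left_cancel _ this)
  have hg2 : ∀ y : B, y.1 • β ≠ β := by
    intro y
    exact hsharp y.1 y.2.2 α β hβα.symm y.2.1
  let g : B → A := fun y => ⟨y.1 • β, hg1 y, hg2 y⟩
  have hg : Function.Injective g := by
    intro y y' hy
    have hy' : y.1 • β = y'.1 • β := congrArg Subtype.val hy
    apply Subtype.ext
    by_contra hne
    have hne1 : y'.1⁻¹ * y.1 ≠ 1 := by
      intro hcon
      apply hne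
      have : y.1 = y'.1 * (y'.1⁻¹ * y.1) := by group
      rw [this, hcon, mul_one]
    have e1 : (y'.1⁻¹ * y.1) • α = α := by
      rw [mul_smul, y.2.1, inv_smul_eq_iff, y'.2.1]
    have e2 : (y'.1⁻¹ * y.1) • β = β := by
      rw [mul_smul, hy', inv_smul_smul]
    exact hsharp _ hne1 α β hβα.symm e1 e2
  have hfin : Finite B := Finite.of_injective _ (Subtype.val_injective)
  have hbij := hf.bijective_of_nat_card_le (Nat.card_le_card_of_injective g hg)
  -- conclusion
  set x := d⁻¹ * d' with hx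
  have hxα : x • α = α := by
    rw [hx, mul_smul, ← h, hβ, inv_smul_smul]
  by_contra hne
  have hx1 : x ≠ 1 := by
    intro hcon
    apply hne
    have : d' = d * x := by rw [hx]; group
    rw [this, hcon, mul_one]
  obtain ⟨γ, hγ⟩ := hbij.2 ⟨x, hxα, hx1⟩
  have hxy : yf γ = x := congrArg Subtype.val hγ
  have := hyf2 γ
  rw [hxy] at this
  apply hd' γ.1
  have e : d' = d * x := by rw [hx]; group
  rw [e, mul_smul, this, smul_inv_smul]

end Sharp

end Cfsg.Agent.Lib.Helper63
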