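import Mathlib
import Cfsg.Agent.Lib.Helper63.Derangement

set_option autoImplicit false

namespace Cfsg.Agent.Lib.Helper63

open MulAction Subgroup

section OneClass

variable {G : Type*} [Group G] [Finite G] {Ω : Type*} [MulAction G Ω]

/-- if all nonidentity elements of `S` are derangements and derangements form a single class,
then `S` is a `p`-group, so has nontrivial centre -/
theorem center_ne_bot_of_all_der (hD : ∀ g h : G, IsDer (Ω := Ω) g → IsDer (Ω := Ω) h →
    ∃ x : G, x * g * x⁻¹ = h) (S : Subgroup G) (hS : S ≠ ⊥)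
    (hder : ∀ s ∈ S, s ≠ 1 → IsDer (Ω := Ω) s) : S ⊓ centralizer (S : Set G) ≠ ⊥ := by
  classical
  have hSnt : Nontrivial S := by
    rw [Subgroup.nontrivial_iff_ne_bot]; exact hS
  obtain ⟨p, hp, hpd⟩ : ∃ p : ℕ, p.Prime ∧ p ∣ Nat.card S := by
    have h1 : Nat.card S ≠ 1 := by
      intro h
      rw [Subgroup.card_eq_one] at h
      exact hS h
    exact ⟨(Nat.card S).minFac, Nat.minFac_prime h1, Nat.minFac_dvd _⟩
  have : Fact p.Prime := ⟨hp⟩
  obtain ⟨x0, hx0⟩ := exists_prime_orderOf_dvd_card' (G := S) p hpd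
  have hx01 : (x0 : G) ≠ 1 := by
    intro h
    have : x0 = 1 := Subtype.ext h
    rw [this, orderOf_one] at hx0
    exact hp.one_lt.ne hx0
  have hx0ord : orderOf (x0 : G) = p := by
    rw [Subgroup.orderOf_coe]; exact hx0
  have hpow : ∀ s ∈ S, s ^ p = 1 := by
    intro s hs
    by_cases hs1 : s = 1
    · rw [hs1, one_pow]
    · obtain ⟨g, hg⟩ := hD _ _ (hder x0.1 x0.2 hx01) (hder s hs hs1)
      rw [← hg]
      have : (g * (x0 : G) * g⁻¹) ^ p = g * (x0 : G) ^ p * g⁻¹ := conj_pow
      rw [this, ← hx0ord, pow_orderOf_eq_one]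
      group
  have hpgroup : IsPGroup p S := by
    intro t
    refine ⟨1, ?_⟩
    rw [pow_one]
    apply Subtype.ext
    rw [Subgroup.coe_pow, Subgroup.coe_one]
    exact hpow t.1 t.2
  have hcnt := hpgroup.center_nontrivial
  obtain ⟨z, hz1⟩ := exists_ne (1 : Subgroup.center S)
  intro h
  apply hz1
  have hzmem : ((z : S) : G) ∈ S ⊓ centralizer (S : Set G) := by
    refine Subgroup.mem_inf.mpr ⟨(z : S).2, ?_⟩
    rw [Subgroup.mem_centralizer_iff]
    intro t ht
    have := (Subgroup.mem_center_iff.mp z.2) ⟨t, ht⟩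
    exact congrArg Subtype.val this
  rw [h, Subgroup.mem_bot] at hzmem
  apply Subtype.ext
  apply Subtype.ext
  exact hzmem

variable [Finite Ω]

/-- the abelian case: a regular abelian normal subgroup containing all derangements, which form
one class, forces sharp 2-transitivity -/
theorem sharp_of_abelian_normal [FaithfulSMul G Ω]
    (hD : ∀ g h : G, IsDer (Ω := Ω) g → IsDer (Ω := Ω) h → ∃ x : G, x * g * x⁻¹ = h)
    (N : Subgroup G) [hNn : N.Normal] (htr : ∀ x y : Ω, ∃ n ∈ N, n • x = y)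
    (hab : ∀ x ∈ N, ∀ y ∈ N, x * y = y * x) (hDN : ∀ g : G, IsDer (Ω := Ω) g → g ∈ N) :
    IsMultiplyPretransitive G Ω 2 ∧
      ∀ g : G, g ≠ 1 → ∀ a b : Ω, a ≠ b → g • a = a → g • b ≠ b := by
  classical
  have hsr : ∀ n ∈ N, ∀ a : Ω, n • a = a → n = 1 := by
    intro n hn a hna
    exact eq_one_of_commute_transitive N htr (fun t ht => hab t ht n hn) hna
  have hder : ∀ n ∈ N, n ≠ 1 → IsDer (Ω := Ω) n := by
    intro n hn hn1 ω hω
    exact hn1 (hsr n hn ω hω)
  constructor
  · rw [is_two_pretransitive_iff]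
    intro a b c d hab' hcd
    obtain ⟨x, hx, hxa⟩ := htr a b
    obtain ⟨y, hy, hyc⟩ := htr c d
    have hx1 : x ≠ 1 := by
      rintro rfl; rw [one_smul] at hxa; exact hab' hxa
    have hy1 : y ≠ 1 := by
      rintro rfl; rw [one_smul] at hyc; exact hcd hyc
    obtain ⟨h, hh⟩ := hD x y (hder x hx hx1) (hder y hy hy1)
    obtain ⟨m, hm, hma⟩ := htr (h • a) c
    refine ⟨m * h, ?_, ?_⟩
    · rw [mul_smul, hma]
    · have e1 : y • (h • a) = h • b := by
        rw [← hh, mul_smul, mul_smul, inv_smul_smul, hxa]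
      rw [mul_smul, ← e1, ← mul_smul, hab m hm y hy, mul_smul, hma, hyc]
  · intro g hg1 a b hab' hga hgb
    obtain ⟨m, hm, hma⟩ := htr a b
    have hm1 : m ≠ 1 := by
      rintro rfl; rw [one_smul] at hma; exact hab' hma
    have hga' : g⁻¹ • a = a := by rw [inv_smul_eq_iff, hga]
    have hconj : g * m * g⁻¹ = m := by
      have hmem : g * m * g⁻¹ ∈ N := hNn.conj_mem m hm g
      have h1 : (m⁻¹ * (g * m * g⁻¹)) • a = a := by
        rw [mul_smul, mul_smul, mul_smul, hga', hma, hgb, ← hma, inv_smul_smul]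
      have := hsr _ (N.mul_mem (N.inv_mem hm) hmem) a h1
      have e : g * m * g⁻¹ = m * (m⁻¹ * (g * m * g⁻¹)) := by group
      rw [e, this, mul_one]
    -- the map x ↦ x * (g x⁻¹ g⁻¹) on N is not injective, hence not surjective
    let φ : N → N := fun x => ⟨x.1 * (g * x.1⁻¹ * g⁻¹),
      N.mul_mem x.2 (hNn.conj_mem _ (N.inv_mem x.2) g)⟩
    have hφni : ¬ Function.Injective φ := by
      intro hinj
      have h1 : φ ⟨m, hm⟩ = φ 1 := by
        apply Subtype.ext
        change m * (g * m⁻¹ * g⁻¹) = (1 : G) * (g * (1 : G)⁻¹ * g⁻¹)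
        have : g * m⁻¹ * g⁻¹ = (g * m * g⁻¹)⁻¹ := by group
        rw [this, hconj]
        group
      have := hinj h1
      exact hm1 (congrArg Subtype.val this)
    have hφns : ¬ Function.Surjective φ := fun hs => hφni (Finite.injective_iff_surjective.mpr hs)
    rw [Function.Surjective] at hφns
    push Not at hφns
    obtain ⟨b0, hb0⟩ := hφns
    have hyder : IsDer (Ω := Ω) (b0.1 * g) := by
      intro γ hγ
      obtain ⟨x, hx, hxa⟩ := htr a γ
      apply hb0 ⟨x, hx⟩
      apply Subtype.ext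
      change x * (g * x⁻¹ * g⁻¹) = b0.1
      have hmem : g * x * g⁻¹ ∈ N := hNn.conj_mem x hx g
      have e1 : (g * x * g⁻¹) • a = g • γ := by rw [mul_smul, mul_smul, hga', hxa]
      have e2 : b0.1 • (g • γ) = γ := by rw [← mul_smul]; exact hγ
      have h1 : (x⁻¹ * (b0.1 * (g * x * g⁻¹))) • a = a := by
        rw [mul_smul, mul_smul, e1, e2, ← hxa, inv_smul_smul]
      have := hsr _ (N.mul_mem (N.inv_mem hx) (N.mul_mem b0.2 hmem)) a h1
      have e : b0.1 = x * (x⁻¹ * (b0.1 * (g * x * g⁻¹))) * (g * x⁻¹ * g⁻¹) := by group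
      rw [e, this]
      group
    have hmem := hDN _ hyder
    have hgN : g ∈ N := by
      have := N.mul_mem (N.inv_mem b0.2) hmem
      simpa using this
    exact hg1 (hsr g hgN a hga)

end OneClass

end Cfsg.Agent.Lib.Helper63
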