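import Mathlib
import Cfsg.Agent.Lib.Helper63.Derangement2

set_option autoImplicit false

namespace Cfsg.Agent.Lib.Helper63

open MulAction Subgroup

section NonAb

variable {G : Type*} [Group G] [Finite G] {Ω : Type*} [MulAction G Ω] [Finite Ω]

/-- the nonabelian case is impossible -/
theorem false_of_nonabelian_min_normal [FaithfulSMul G Ω] (hprim : IsPreprimitive G Ω)
    (hnas : ¬ ∃ T : Subgroup G, T.Normal ∧ IsSimpleGroup T ∧ ¬ IsMulCommutative T ∧
      Subgroup.centralizer (T : Set G) = ⊥)
    (hD : ∀ g h : G, IsDer (Ω := Ω) g → IsDer (Ω := Ω) h → ∃ x : G, x * g * x⁻¹ = h)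
    (N : Subgroup G) [hNn : N.Normal] (hN : N ≠ ⊥)
    (hmin : ∀ M : Subgroup G, M.Normal → M ≤ N → M = ⊥ ∨ M = N)
    (htr : ∀ x y : Ω, ∃ n ∈ N, n • x = y)
    (hnab : ¬ ∀ x ∈ N, ∀ y ∈ N, x * y = y * x) (α : Ω) : False := by
  classical
  have hne : Nonempty Ω := ⟨α⟩
  -- the centre of N is trivial
  have hZN : N ⊓ centralizer (N : Set G) = ⊥ := by
    have hZn : (N ⊓ centralizer (N : Set G)).Normal := inferInstance
    rcases hmin _ hZn inf_le_left with h | h
    · exact h
    · exfalso
      apply hnab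
      intro x hx y hy
      have : y ∈ N ⊓ centralizer (N : Set G) := by rw [h]; exact hy
      exact (Subgroup.mem_centralizer_iff.mp (Subgroup.mem_inf.mp this).2) x hx
  by_cases hsimple : IsSimpleGroup N
  · have hC : centralizer (N : Set G) ≠ ⊥ := by
      intro hC
      apply hnas
      refine ⟨N, hNn, hsimple, ?_, hC⟩
      intro hcomm
      apply hnab
      intro x hx y hy
      have := (isMulCommutative_iff.mp hcomm) ⟨x, hx⟩ ⟨y, hy⟩
      exact congrArg Subtype.val this
    have hCn : (centralizer (N : Set G)).Normal := inferInstance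
    have hCtr := pretransitive_of_normal_ne_bot hprim (centralizer (N : Set G)) hC
    have hCtr' : ∀ x y : Ω, ∃ c ∈ centralizer (N : Set G), c • x = y := by
      intro x y
      obtain ⟨c, hc⟩ := hCtr.exists_smul_eq x y
      exact ⟨c.1, c.2, hc⟩
    have hsr : ∀ n ∈ N, ∀ a : Ω, n • a = a → n = 1 := by
      intro n hn a hna
      apply eq_one_of_commute_transitive (centralizer (N : Set G)) hCtr' _ hna
      intro c hc
      exact ((Subgroup.mem_centralizer_iff.mp hc) n hn).symm
    have hder : ∀ n ∈ N, n ≠ 1 → IsDer (Ω := Ω) n := by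
      intro n hn hn1 ω hω
      exact hn1 (hsr n hn ω hω)
    exact center_ne_bot_of_all_der hD N hN hder hZN
  · obtain ⟨M, hMle, hMN, hMbot, hMne⟩ := exists_proper_NNormal_of_not_simple N hN hsimple
    obtain ⟨T, hTM, hT⟩ := exists_isMinNNormal_le N M hMle hMN hMbot
    have hTneN : T ≠ N := by
      intro h
      apply hMne
      have h' : N ≤ M := by rw [← h]; exact hTM
      exact le_antisymm hMle h'
    have hTZ : T ⊓ centralizer (T : Set G) = ⊥ := hT.inf_centralizer_eq_bot hmin hnab
    set C : Subgroup G := N ⊓ centralizer (T : Set G) with hCdef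
    have hTC : ∀ x, x ∈ T → x ∈ C → x = 1 := by
      intro x hxT hxC
      have : x ∈ T ⊓ centralizer (T : Set G) :=
        Subgroup.mem_inf.mpr ⟨hxT, (Subgroup.mem_inf.mp hxC).2⟩
      rw [hTZ, Subgroup.mem_bot] at this
      exact this
    have hCN : NNormal N C := hT.nnormal_centralizer
    have hcomm : ∀ t ∈ T, ∀ c ∈ C, t * c = c * t := by
      intro t ht c hc
      exact ((Subgroup.mem_centralizer_iff.mp (Subgroup.mem_inf.mp hc).2) t ht)
    obtain ⟨g, hg⟩ := hT.exists_cj_ne hmin hTneN
    have hcjC : ∀ x : G, cj x T ≠ T → cj x T ≤ C := by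
      intro x hx y hy
      obtain ⟨-, hc⟩ := (hT.dichotomy x).resolve_left hx
      refine Subgroup.mem_inf.mpr ⟨cj_le_of_normal hT.le x hy, ?_⟩
      rw [Subgroup.mem_centralizer_iff]
      intro u hu
      exact hc u hu _ hy
    obtain ⟨c₀, hc₀, hc₀1⟩ : ∃ c₀ ∈ C, c₀ ≠ 1 := by
      have hne' := cj_ne_bot hT.ne_bot g
      by_contra hcon
      push Not at hcon
      apply hne'
      rw [eq_bot_iff]
      intro s hs
      rw [Subgroup.mem_bot]
      exact hcon s (hcjC g hg hs)
    -- the projection of the stabilizer to T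
    let P : Subgroup G :=
      { carrier := {t | t ∈ T ∧ ∃ c ∈ C, (t * c) • α = α}
        mul_mem' := by
          rintro t t' ⟨ht, c, hc, h⟩ ⟨ht', c', hc', h'⟩
          refine ⟨T.mul_mem ht ht', c * c', C.mul_mem hc hc', ?_⟩
          have e : t * t' * (c * c') = (t * c) * (t' * c') := by
            calc t * t' * (c * c') = t * (t' * c) * c' := by group
              _ = t * (c * t') * c' := by rw [hcomm t' ht' c hc]
              _ = (t * c) * (t' * c') := by group
          rw [e, mul_smul, h', h]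
        one_mem' := ⟨T.one_mem, 1, C.one_mem, by simp⟩
        inv_mem' := by
          rintro t ⟨ht, c, hc, h⟩
          refine ⟨T.inv_mem ht, c⁻¹, C.inv_mem hc, ?_⟩
          have e : t⁻¹ * c⁻¹ = (t * c)⁻¹ := by
            rw [mul_inv_rev, hcomm t⁻¹ (T.inv_mem ht) c⁻¹ (C.inv_mem hc)]
          rw [e, inv_smul_eq_iff, h] }
    have hPT : P ≤ T := fun t ht => ht.1
    have hmemP : ∀ t, t ∈ P ↔ t ∈ T ∧ ∃ c ∈ C, (t * c) • α = α := fun t => Iff.rfl
    by_cases hP : P = T
    · -- T is semiregular
      let R : Subgroup G := T ⊓ stabilizer G α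
      have hRN : NNormal N R := by
        intro n hn r hr
        obtain ⟨hr1, hr2⟩ := Subgroup.mem_inf.mp hr
        obtain ⟨u, hu, c, hc, rfl⟩ := hT.exists_mul hmin n hn
        have e1 : u * c * r * (u * c)⁻¹ = u * r * u⁻¹ := by
          calc u * c * r * (u * c)⁻¹ = u * (c * r) * c⁻¹ * u⁻¹ := by group
            _ = u * (r * c) * c⁻¹ * u⁻¹ := by rw [hcomm r hr1 c hc]
            _ = u * r * u⁻¹ := by group
        rw [e1]
        have huP : u ∈ P := by rw [hP]; exact hu
        obtain ⟨-, c', hc', h'⟩ := (hmemP u).mp huP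
        have e2 : u * r * u⁻¹ = (u * c') * r * (u * c')⁻¹ := by
          calc u * r * u⁻¹ = u * (r * c') * c'⁻¹ * u⁻¹ := by group
            _ = u * (c' * r) * c'⁻¹ * u⁻¹ := by rw [hcomm r hr1 c' hc']
            _ = (u * c') * r * (u * c')⁻¹ := by group
        refine Subgroup.mem_inf.mpr ⟨T.mul_mem (T.mul_mem hu hr1) (T.inv_mem hu), ?_⟩
        rw [e2]
        have h1 : u * c' ∈ stabilizer G α := h'
        exact (stabilizer G α).mul_mem ((stabilizer G α).mul_mem h1 hr2) ((stabilizer G α).inv_mem h1)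
      have hRbot : R = ⊥ := by
        by_contra hRne
        have hRT := hT.min R inf_le_left hRN hRne
        -- T fixes α, hence everything
        apply hT.ne_bot
        rw [eq_bot_iff]
        intro t ht
        rw [Subgroup.mem_bot]
        apply FaithfulSMul.eq_of_smul_eq_smul (α := Ω)
        intro ω
        rw [one_smul]
        obtain ⟨n, hn, rfl⟩ := htr α ω
        have ht' : n⁻¹ * t * n ∈ T := by
          have := hT.nn n⁻¹ (N.inv_mem hn) t ht
          simpa using this
        have : n⁻¹ * t * n ∈ R := by rw [hRT]; exact ht'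
        have hfix : (n⁻¹ * t * n) • α = α := (Subgroup.mem_inf.mp this).2
        rw [mul_smul, mul_smul, inv_smul_eq_iff] at hfix
        exact hfix
      have hsr : ∀ t ∈ T, ∀ ω : Ω, t • ω = ω → t = 1 := by
        intro t ht ω hω
        obtain ⟨n, hn, rfl⟩ := htr α ω
        have ht' : n⁻¹ * t * n ∈ T := by
          have := hT.nn n⁻¹ (N.inv_mem hn) t ht
          simpa using this
        have hfix : (n⁻¹ * t * n) • α = α := by
          rw [mul_smul, mul_smul, inv_smul_eq_iff]
          exact hω
        have : n⁻¹ * t * n ∈ R := Subgroup.mem_inf.mpr ⟨ht', hfix⟩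
        rw [hRbot, Subgroup.mem_bot] at this
        have e : t = n * (n⁻¹ * t * n) * n⁻¹ := by group
        rw [e, this]; group
      have hder : ∀ t ∈ T, t ≠ 1 → IsDer (Ω := Ω) t := by
        intro t ht ht1 ω hω
        exact ht1 (hsr t ht ω hω)
      exact center_ne_bot_of_all_der hD T hT.ne_bot hder hTZ
    · obtain ⟨t, ht, hnot⟩ := exists_not_conj_mem T P hPT hP
      have hder : ∀ c ∈ C, IsDer (Ω := Ω) (t * c) := by
        intro c hc ω hω
        obtain ⟨n, hn, rfl⟩ := htr α ω
        obtain ⟨u, hu, v, hv, rfl⟩ := hT.exists_mul hmin n hn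
        have hfix : ((u * v)⁻¹ * (t * c) * (u * v)) • α = α := by
          rw [mul_smul, mul_smul, inv_smul_eq_iff]
          exact hω
        have hc' : (u * v)⁻¹ * c * (u * v) ∈ C := by
          have := hCN (u * v)⁻¹ (N.inv_mem hn) c hc
          simpa using this
        have e : (u * v)⁻¹ * (t * c) * (u * v) = (u⁻¹ * t * u) * ((u * v)⁻¹ * c * (u * v)) := by
          have hut : u⁻¹ * t * u ∈ T := T.mul_mem (T.mul_mem (T.inv_mem hu) ht) hu
          have h1 := hcomm _ hut v hv
          calc (u * v)⁻¹ * (t * c) * (u * v)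
              = v⁻¹ * ((u⁻¹ * t * u) * v) * ((u * v)⁻¹ * c * (u * v)) := by group
            _ = v⁻¹ * (v * (u⁻¹ * t * u)) * ((u * v)⁻¹ * c * (u * v)) := by rw [h1]
            _ = (u⁻¹ * t * u) * ((u * v)⁻¹ * c * (u * v)) := by group
        rw [e] at hfix
        apply hnot u⁻¹ (T.inv_mem hu)
        rw [hmemP]
        refine ⟨T.mul_mem (T.mul_mem (T.inv_mem hu) ht) (T.inv_mem (T.inv_mem hu)), _, hc', ?_⟩
        rw [inv_inv]
        exact hfix
      have hd1 : IsDer (Ω := Ω) t := by
        have := hder 1 C.one_mem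
        rwa [mul_one] at this
      have hd2 := hder c₀ hc₀
      obtain ⟨x, hx⟩ := hD t (t * c₀) hd1 hd2
      have hmem : x * t * x⁻¹ ∈ cj x T := conj_mem_cj ht
      rw [hx] at hmem
      by_cases hxT : cj x T = T
      · rw [hxT] at hmem
        have : c₀ ∈ T := by
          have := T.mul_mem (T.inv_mem ht) hmem
          simpa using this
        exact hc₀1 (hTC c₀ this hc₀)
      · have hmemC := hcjC x hxT hmem
        have : t ∈ C := by
          have := C.mul_mem hmemC (C.inv_mem hc₀)
          simpa using this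
        exact hd1.ne_one (hTC t ht this)

end NonAb

end Cfsg.Agent.Lib.Helper63
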