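import Cfsg.Agent.Lib.Helper88.FusionCE7
import Cfsg.Agent.Lib.Helper22.FocA

set_option autoImplicit false
open Cfsg Cfsg.FusionSystem Cfsg.Agent.Lib.Helper88

namespace Cfsg.Agent.Lib.Helper63

open Cfsg.Agent.Lib.Helper87

variable {Ω : Type*} [Group Ω] {S T : Subgroup Ω}

/-- Keystone K-S5293-D: an automorphism `α` of `Q ≤ T` (with `C_T(Q) ≤ Q`) of order prime to `p` that has a good extension, and an
automorphism `ψ` of `R ≤ C_S(T)` of order prime to `p` lying in `C_F(T)`: some map of `F` on `Q` times the group generated by the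
displacements `r⁻¹ ψ(r)` restricts to `α` on `Q` and fixes every displacement. -/
theorem exists_ext_fix_displacements [Finite S] (p : ℕ) [Fact p.Prime] (hS : IsPGroup p S) (F : FusionSystem S)
    (hT : F.StronglyClosed T) {Q : Subgroup Ω} (hQT : Q ≤ T) (hQcen : centralizerIn T Q ≤ Q)
    {α : MulAut Q} (hαg : GoodExt F T (Q.subtype.comp (α : Q ≃* Q).toMonoidHom)) {m : ℕ} (hm : α ^ m = 1)
    (hmp : m.Coprime p)
    {R : Subgroup Ω} (hRC : R ≤ centralizerIn S T) {ψ : MulAut R}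
    (hψ : R.subtype.comp (ψ : R ≃* R).toMonoidHom ∈ F.centralizerHom T R) {n : ℕ} (hn : ψ ^ n = 1)
    (hnp : n.Coprime p) :
    ∃ χ ∈ F.Hom (Q ⊔ Subgroup.closure {y : Ω | ∃ r : R, y = (r : Ω)⁻¹ * ((ψ r : R) : Ω)}),
      (∀ x : Q, χ (Subgroup.inclusion le_sup_left x) = ((α x : Q) : Ω)) ∧
        ∀ y : ↥(Subgroup.closure {y : Ω | ∃ r : R, y = (r : Ω)⁻¹ * ((ψ r : R) : Ω)}),
          χ (Subgroup.inclusion le_sup_right y) = y := by
  have hTS : T ≤ S := hT.1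
  have hnS : S ≤ Subgroup.normalizer (T : Set Ω) := le_normalizer_of_stronglyClosed hT
  have hQS : Q ≤ S := hQT.trans hTS
  have hRS : R ≤ S := hRC.trans (centralizerIn_le S T)
  have hRT : ∀ r ∈ R, ∀ t ∈ T, t * r = r * t := fun r hr t ht => (mem_centralizerIn.mp (hRC hr)).2 t ht
  have hQR : ∀ q ∈ Q, ∀ r ∈ R, q * r = r * q := fun q hq r hr => hRT r hr q (hQT hq)
  have hMS : Q ⊔ R ≤ S := sup_le hQS hRS
  have : Finite ↥(Q ⊔ R) := finite_of_le hMS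
  have hMp : IsPGroup p ↥(Q ⊔ R) := hS.to_le hMS
  have hQM : Q ≤ Q ⊔ R := le_sup_left
  have hRM : R ≤ Q ⊔ R := le_sup_right
  have hdec0 : ∀ y ∈ Q ⊔ R, ∃ q ∈ Q, ∃ r ∈ R, y = q * r := by
    intro y hy
    refine exists_mul_of_mem_sup (fun q hq r hr => ?_) hy
    rw [hQR q hq r hr, mul_assoc, mul_inv_cancel, mul_one]
    exact hr
  have hdec : ∀ y : ↥(Q ⊔ R), ∃ (q : Q) (r : R),
      y = Subgroup.inclusion hQM q * Subgroup.inclusion hRM r := by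
    intro y
    obtain ⟨q, hq, r, hr, hy⟩ := hdec0 y y.2
    exact ⟨⟨q, hq⟩, ⟨r, hr⟩, Subtype.ext hy⟩
  -- (a)
  have hMT : ∀ y ∈ Q ⊔ R, y ∈ T → y ∈ Q := by
    intro y hy hyT
    obtain ⟨q, hq, r, hr, rfl⟩ := hdec0 y hy
    have hrT : r ∈ T := by
      have e : r = q⁻¹ * (q * r) := by group
      rw [e]
      exact T.mul_mem (T.inv_mem (hQT hq)) hyT
    have hrQ : r ∈ Q := hQcen (mem_centralizerIn.mpr ⟨hrT, fun x hx => hQR x hx r hr⟩)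
    exact Q.mul_mem hq hrQ
  have hAQ : ∀ a ∈ F.autGroup (Q ⊔ R), ∀ x ∈ Q.subgroupOf (Q ⊔ R), a x ∈ Q.subgroupOf (Q ⊔ R) := by
    intro a ha x hx
    rw [Subgroup.mem_subgroupOf] at hx ⊢
    have h1 : (Q ⊔ R).subtype.comp (a : ↥(Q ⊔ R) ≃* ↥(Q ⊔ R)).toMonoidHom ∈ F.Hom (Q ⊔ R) :=
      autGroup_hom_mem F hMS ha
    have h2 := Cfsg.Agent.Lib.Helper87.restrict_mem F hQM h1
    have h3 := hT.2 Q hQT _ h2 ⟨(x : Ω), hx⟩
    have e : Subgroup.inclusion hQM ⟨(x : Ω), hx⟩ = x := Subtype.ext rfl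
    have h4 : ((a x : ↥(Q ⊔ R)) : Ω) ∈ T := by
      have e2 : (((Q ⊔ R).subtype.comp (a : ↥(Q ⊔ R) ≃* ↥(Q ⊔ R)).toMonoidHom).comp (Subgroup.inclusion hQM))
          ⟨(x : Ω), hx⟩ = ((a x : ↥(Q ⊔ R)) : Ω) := by
        show ((a (Subgroup.inclusion hQM ⟨(x : Ω), hx⟩) : ↥(Q ⊔ R)) : Ω) = _
        rw [e]
      rw [← e2]
      exact h3
    exact hMT _ (a x).2 h4
  -- (b)
  obtain ⟨hψF, -, hψC, ψh, hψh, hψhR, hψhT⟩ := hψ
  have hle1 : Q ⊔ R ≤ R ⊔ T := sup_le (hQT.trans le_sup_right) le_sup_left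
  have hφhF : ψh.comp (Subgroup.inclusion hle1) ∈ F.Hom (Q ⊔ R) := Cfsg.Agent.Lib.Helper87.restrict_mem F hle1 hψh
  have hφhQ : ∀ q : Q, (ψh.comp (Subgroup.inclusion hle1)) (Subgroup.inclusion hQM q) = (q : Ω) := by
    intro q
    have h1 := hψhT ⟨(q : Ω), hQT q.2⟩
    have e : Subgroup.inclusion hle1 (Subgroup.inclusion hQM q) =
        Subgroup.inclusion le_sup_right (⟨(q : Ω), hQT q.2⟩ : T) := Subtype.ext rfl
    show ψh (Subgroup.inclusion hle1 (Subgroup.inclusion hQM q)) = (q : Ω)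
    rw [e, h1]
  have hφhR : ∀ r : R, (ψh.comp (Subgroup.inclusion hle1)) (Subgroup.inclusion hRM r) = ((ψ r : R) : Ω) := by
    intro r
    have h1 := hψhR r
    have e : Subgroup.inclusion hle1 (Subgroup.inclusion hRM r) = Subgroup.inclusion le_sup_left r :=
      Subtype.ext rfl
    show ψh (Subgroup.inclusion hle1 (Subgroup.inclusion hRM r)) = ((ψ r : R) : Ω)
    rw [e, h1]
    rfl
  have hφhM : ∀ y : ↥(Q ⊔ R), (ψh.comp (Subgroup.inclusion hle1)) y ∈ Q ⊔ R := by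
    intro y
    obtain ⟨q, r, rfl⟩ := hdec y
    rw [map_mul, hφhQ, hφhR]
    exact (Q ⊔ R).mul_mem (hQM q.2) (hRM (ψ r).2)
  have hφhr : (ψh.comp (Subgroup.inclusion hle1)).range = Q ⊔ R :=
    Cfsg.Agent.Lib.Helper90.range_eq_of_forall_mem F hφhF hφhM
  obtain ⟨h, hhA, hhv⟩ : ∃ h : MulAut ↥(Q ⊔ R), h ∈ F.autGroup (Q ⊔ R) ∧
      ∀ y : ↥(Q ⊔ R), ((h y : ↥(Q ⊔ R)) : Ω) = (ψh.comp (Subgroup.inclusion hle1)) y :=
    ⟨homEquiv F hφhF hφhr, homEquiv_mem_autGroup F hφhF hφhr, fun y => rfl⟩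
  have hhQ : ∀ q : Q, h (Subgroup.inclusion hQM q) = Subgroup.inclusion hQM q := fun q =>
    Subtype.ext ((hhv _).trans (hφhQ q))
  have hhR : ∀ r : R, h (Subgroup.inclusion hRM r) = Subgroup.inclusion hRM (ψ r) := fun r =>
    Subtype.ext ((hhv _).trans (hφhR r))
  have hhpow : ∀ k : ℕ, (∀ q : Q, (h ^ k) (Subgroup.inclusion hQM q) = Subgroup.inclusion hQM q) ∧
      ∀ r : R, (h ^ k) (Subgroup.inclusion hRM r) = Subgroup.inclusion hRM ((ψ ^ k) r) := by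
    intro k
    induction k with
    | zero =>
      refine ⟨fun q => ?_, fun r => ?_⟩
      · rw [pow_zero, MulAut.one_apply]
      · rw [pow_zero, pow_zero, MulAut.one_apply, MulAut.one_apply]
    | succ k ih =>
      refine ⟨fun q => ?_, fun r => ?_⟩
      · rw [pow_succ, MulAut.mul_apply, hhQ, ih.1]
      · rw [pow_succ, MulAut.mul_apply, hhR, ih.2, pow_succ, MulAut.mul_apply]
  have hhn : h ^ n = 1 := by
    apply MulEquiv.ext
    intro y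
    obtain ⟨q, r, rfl⟩ := hdec y
    rw [map_mul, (hhpow n).1, (hhpow n).2, hn, MulAut.one_apply, MulAut.one_apply]
  have hhQ' : ∀ x ∈ Q.subgroupOf (Q ⊔ R), h x = x := by
    intro x hx
    rw [Subgroup.mem_subgroupOf] at hx
    have e : x = Subgroup.inclusion hQM ⟨(x : Ω), hx⟩ := Subtype.ext rfl
    rw [e, hhQ]
  -- (c)
  obtain ⟨β₀, hβ₀, hβ₀Q, hβ₀c⟩ := hαg
  obtain ⟨hβ₀cQ, -⟩ := goodExt_aut_apply_mem hnS hTS hQT hQcen α hβ₀Q hβ₀c
  have hle2 : Q ⊔ R ≤ Q ⊔ centralizerIn S T := sup_le_sup_left hRC Q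
  have hφbF : β₀.comp (Subgroup.inclusion hle2) ∈ F.Hom (Q ⊔ R) := Cfsg.Agent.Lib.Helper87.restrict_mem F hle2 hβ₀
  have hφbQ : ∀ q : Q, (β₀.comp (Subgroup.inclusion hle2)) (Subgroup.inclusion hQM q) = ((α q : Q) : Ω) := by
    intro q
    have h1 := hβ₀Q q
    have e : Subgroup.inclusion hle2 (Subgroup.inclusion hQM q) = Subgroup.inclusion le_sup_left q :=
      Subtype.ext rfl
    show β₀ (Subgroup.inclusion hle2 (Subgroup.inclusion hQM q)) = ((α q : Q) : Ω)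
    rw [e, h1]
    rfl
  have hφbR : ∀ r : R, (r : Ω)⁻¹ * (β₀.comp (Subgroup.inclusion hle2)) (Subgroup.inclusion hRM r) ∈ Q :=
    fun r => hβ₀cQ (Subgroup.inclusion hle2 (Subgroup.inclusion hRM r)) (hRC r.2)
  have hφbM : ∀ y : ↥(Q ⊔ R), (β₀.comp (Subgroup.inclusion hle2)) y ∈ Q ⊔ R := by
    intro y
    obtain ⟨q, r, rfl⟩ := hdec y
    rw [map_mul, hφbQ]
    apply (Q ⊔ R).mul_mem (hQM (α q).2)
    have e : (β₀.comp (Subgroup.inclusion hle2)) (Subgroup.inclusion hRM r) =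
        (r : Ω) * ((r : Ω)⁻¹ * (β₀.comp (Subgroup.inclusion hle2)) (Subgroup.inclusion hRM r)) := by group
    rw [e]
    exact (Q ⊔ R).mul_mem (hRM r.2) (hQM (hφbR r))
  have hφbr : (β₀.comp (Subgroup.inclusion hle2)).range = Q ⊔ R :=
    Cfsg.Agent.Lib.Helper90.range_eq_of_forall_mem F hφbF hφbM
  obtain ⟨b, hbA, hbv⟩ : ∃ b : MulAut ↥(Q ⊔ R), b ∈ F.autGroup (Q ⊔ R) ∧
      ∀ y : ↥(Q ⊔ R), ((b y : ↥(Q ⊔ R)) : Ω) = (β₀.comp (Subgroup.inclusion hle2)) y :=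
    ⟨homEquiv F hφbF hφbr, homEquiv_mem_autGroup F hφbF hφbr, fun y => rfl⟩
  have hbQ : ∀ q : Q, b (Subgroup.inclusion hQM q) = Subgroup.inclusion hQM (α q) := fun q =>
    Subtype.ext ((hbv _).trans (hφbQ q))
  have hbQ' : ∀ x : ↥(Q ⊔ R), x⁻¹ * b x ∈ Q.subgroupOf (Q ⊔ R) := by
    intro x
    obtain ⟨q, r, rfl⟩ := hdec x
    rw [Subgroup.mem_subgroupOf]
    show ((q : Ω) * (r : Ω))⁻¹ * ((b (Subgroup.inclusion hQM q * Subgroup.inclusion hRM r) : ↥(Q ⊔ R)) : Ω) ∈ Q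
    rw [hbv, map_mul, hφbQ]
    have hqa : (q : Ω)⁻¹ * ((α q : Q) : Ω) ∈ Q := Q.mul_mem (Q.inv_mem q.2) (α q).2
    have hc := hQR _ hqa r r.2
    have hc' : (r : Ω)⁻¹ * ((q : Ω)⁻¹ * ((α q : Q) : Ω)) = ((q : Ω)⁻¹ * ((α q : Q) : Ω)) * (r : Ω)⁻¹ := by
      rw [eq_mul_inv_iff_mul_eq, mul_assoc, hc, ← mul_assoc, inv_mul_cancel, one_mul]
    have e : ((q : Ω) * (r : Ω))⁻¹ * (((α q : Q) : Ω) * (β₀.comp (Subgroup.inclusion hle2)) (Subgroup.inclusion hRM r)) =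
        ((q : Ω)⁻¹ * ((α q : Q) : Ω)) * ((r : Ω)⁻¹ * (β₀.comp (Subgroup.inclusion hle2)) (Subgroup.inclusion hRM r)) := by
      calc ((q : Ω) * (r : Ω))⁻¹ * (((α q : Q) : Ω) * (β₀.comp (Subgroup.inclusion hle2)) (Subgroup.inclusion hRM r))
          = ((r : Ω)⁻¹ * ((q : Ω)⁻¹ * ((α q : Q) : Ω))) * (β₀.comp (Subgroup.inclusion hle2)) (Subgroup.inclusion hRM r) := by
            group
        _ = _ := by rw [hc']; group
    rw [e]
    exact Q.mul_mem hqa (hφbR r)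
  have hbpow : ∀ k : ℕ, ∀ q : Q, (b ^ k) (Subgroup.inclusion hQM q) = Subgroup.inclusion hQM ((α ^ k) q) := by
    intro k
    induction k with
    | zero =>
      intro q
      rw [pow_zero, pow_zero, MulAut.one_apply, MulAut.one_apply]
    | succ k ih =>
      intro q
      rw [pow_succ, MulAut.mul_apply, hbQ, ih, pow_succ, MulAut.mul_apply]
  have hbm : ∀ x ∈ Q.subgroupOf (Q ⊔ R), (b ^ m) x = x := by
    intro x hx
    rw [Subgroup.mem_subgroupOf] at hx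
    have e : x = Subgroup.inclusion hQM ⟨(x : Ω), hx⟩ := Subtype.ext rfl
    rw [e, hbpow, hm, MulAut.one_apply]
  -- (d)
  obtain ⟨b', hb'A, hb'Q, hb'fix⟩ := Cfsg.Agent.Lib.Helper22.exists_aut_fix_commutator hMp (Q.subgroupOf (Q ⊔ R))
    (F.autGroup (Q ⊔ R)) hAQ hhA hbA hhQ' hbQ' hhn hnp hbm hmp
  -- (e)
  have hWR : Subgroup.closure {y : Ω | ∃ r : R, y = (r : Ω)⁻¹ * ((ψ r : R) : Ω)} ≤ R := by
    rw [Subgroup.closure_le]
    rintro _ ⟨r, rfl⟩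
    exact R.mul_mem (R.inv_mem r.2) (ψ r).2
  have hle3 : Q ⊔ Subgroup.closure {y : Ω | ∃ r : R, y = (r : Ω)⁻¹ * ((ψ r : R) : Ω)} ≤ Q ⊔ R :=
    sup_le_sup_left hWR Q
  have hb'F : (Q ⊔ R).subtype.comp (b' : ↥(Q ⊔ R) ≃* ↥(Q ⊔ R)).toMonoidHom ∈ F.Hom (Q ⊔ R) :=
    autGroup_hom_mem F hMS hb'A
  refine ⟨((Q ⊔ R).subtype.comp (b' : ↥(Q ⊔ R) ≃* ↥(Q ⊔ R)).toMonoidHom).comp (Subgroup.inclusion hle3),
    Cfsg.Agent.Lib.Helper87.restrict_mem F hle3 hb'F, fun x => ?_, fun y => ?_⟩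
  · show ((b' (Subgroup.inclusion hle3 (Subgroup.inclusion le_sup_left x)) : ↥(Q ⊔ R)) : Ω) = _
    have e : Subgroup.inclusion hle3 (Subgroup.inclusion le_sup_left x) = Subgroup.inclusion hQM x :=
      Subtype.ext rfl
    rw [e, hb'Q _ (by rw [Subgroup.mem_subgroupOf]; exact x.2), hbQ]
    rfl
  · have hfix : Subgroup.closure {y : Ω | ∃ r : R, y = (r : Ω)⁻¹ * ((ψ r : R) : Ω)} ≤
        (MonoidHom.eqLocus (b' : ↥(Q ⊔ R) ≃* ↥(Q ⊔ R)).toMonoidHom (MonoidHom.id ↥(Q ⊔ R))).map (Q ⊔ R).subtype := by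
      rw [Subgroup.closure_le]
      rintro _ ⟨r, rfl⟩
      refine ⟨(Subgroup.inclusion hRM r)⁻¹ * h (Subgroup.inclusion hRM r), hb'fix _, ?_⟩
      show ((r : Ω))⁻¹ * ((h (Subgroup.inclusion hRM r) : ↥(Q ⊔ R)) : Ω) = _
      rw [hhv, hφhR]
    obtain ⟨z, hz, hzy⟩ := hfix y.2
    show ((b' (Subgroup.inclusion hle3 (Subgroup.inclusion le_sup_right y)) : ↥(Q ⊔ R)) : Ω) = (y : Ω)
    have e : Subgroup.inclusion hle3 (Subgroup.inclusion le_sup_right y) = z := Subtype.ext hzy.symm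
    rw [e]
    have hz' : b' z = z := hz
    rw [hz']
    exact hzy

end Cfsg.Agent.Lib.Helper63
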