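import Mathlib
import Cfsg.Prelude.Def_Solvable

set_option autoImplicit false

namespace Cfsg.Agent.Lib.Helper63

open MulAction Subgroup

section Abstract

variable {H : Type*} [Group H]

/-- a subgroup normalized by `S` and centralized by the normal subgroup `B` is normal when
`B ⊔ S = ⊤` -/
theorem normal_of_sup_eq_top (B S D : Subgroup H) [B.Normal] (hBS : B ⊔ S = ⊤)
    (hS : ∀ s ∈ S, ∀ d ∈ D, s * d * s⁻¹ ∈ D) (hB : ∀ b ∈ B, ∀ d ∈ D, b * d * b⁻¹ = d) :
    D.Normal := by
  constructor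
  intro d hd h
  have hh : h ∈ ((B ⊔ S : Subgroup H) : Set H) := by rw [hBS]; trivial
  rw [Subgroup.normal_mul] at hh
  obtain ⟨b, hb, s, hs, rfl⟩ := hh
  have h1 : b * s * d * (b * s)⁻¹ = b * (s * d * s⁻¹) * b⁻¹ := by group
  rw [h1, hB b hb _ (hS s hs d hd)]
  exact hS s hs d hd

variable {Ω : Type*} [MulAction H Ω] (α : Ω)

/-- The abstract hypotheses on a point stabilizer `H` of an extremely primitive group. -/
structure ExtStabHyp : Prop where
  moves : ∀ B : Subgroup H, B.Normal → B ≠ ⊥ → ∀ β, β ≠ α → ∃ b ∈ B, b • β ≠ β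
  coatom : ∀ β, β ≠ α → IsCoatom (stabilizer H β)

variable {α}

theorem ExtStabHyp.abelian_normal (hyp : ExtStabHyp (H := H) α) (B : Subgroup H) [hBn : B.Normal]
    (hB : B ≠ ⊥) (hBc : ∀ x ∈ B, ∀ y ∈ B, x * y = y * x) (β : Ω) (hβ : β ≠ α) :
    B ⊓ stabilizer H β = ⊥ ∧ B ⊔ stabilizer H β = ⊤ ∧ centralizer (B : Set H) = B := by
  obtain ⟨S, hS⟩ : ∃ S, S = stabilizer H β := ⟨_, rfl⟩
  have hco : IsCoatom S := hS ▸ hyp.coatom β hβ
  have hSfix : ∀ s ∈ S, s • β = β := fun s hs => by rw [hS] at hs; exact hs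
  have hBS : B ⊔ S = ⊤ := by
    obtain ⟨b, hb, hbβ⟩ := hyp.moves B hBn hB β hβ
    apply hco.2
    apply lt_of_le_of_ne le_sup_right
    intro h
    have : b ∈ S := by rw [h]; exact mem_sup_left hb
    exact hbβ (hSfix b this)
  have hD : B ⊓ S = ⊥ := by
    by_contra hne
    have hn : (B ⊓ S).Normal := by
      apply normal_of_sup_eq_top B S _ hBS
      · intro s hs d hd
        rw [Subgroup.mem_inf] at hd ⊢
        exact ⟨hBn.conj_mem d hd.1 s, S.mul_mem (S.mul_mem hs hd.2) (S.inv_mem hs)⟩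
      · intro b hb d hd
        rw [Subgroup.mem_inf] at hd
        rw [hBc b hb d hd.1, mul_inv_cancel_right]
    obtain ⟨d, hd, hdβ⟩ := hyp.moves _ hn hne β hβ
    rw [Subgroup.mem_inf] at hd
    exact hdβ (hSfix d hd.2)
  have hC : centralizer (B : Set H) ⊓ S = ⊥ := by
    by_contra hne
    have hn : (centralizer (B : Set H) ⊓ S).Normal := by
      apply normal_of_sup_eq_top B S _ hBS
      · intro s hs d hd
        rw [Subgroup.mem_inf] at hd ⊢
        exact ⟨(inferInstance : (centralizer (B : Set H)).Normal).conj_mem d hd.1 s,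
          S.mul_mem (S.mul_mem hs hd.2) (S.inv_mem hs)⟩
      · intro b hb d hd
        rw [Subgroup.mem_inf] at hd
        have := (mem_centralizer_iff.mp hd.1) b hb
        rw [this, mul_inv_cancel_right]
    obtain ⟨d, hd, hdβ⟩ := hyp.moves _ hn hne β hβ
    rw [Subgroup.mem_inf] at hd
    exact hdβ (hSfix d hd.2)
  subst hS
  refine ⟨hD, hBS, ?_⟩
  apply le_antisymm
  · intro x hx
    have hh : x ∈ ((B ⊔ stabilizer H β : Subgroup H) : Set H) := by rw [hBS]; trivial
    rw [Subgroup.normal_mul] at hh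
    obtain ⟨b, hb, s, hs, hbs⟩ := hh
    have hbs' : b * s = x := hbs
    have hbc : b ∈ centralizer (B : Set H) := by
      rw [mem_centralizer_iff]
      intro y hy
      exact hBc y hy b hb
    have hsc : s ∈ centralizer (B : Set H) := by
      have := (centralizer (B : Set H)).mul_mem ((centralizer (B : Set H)).inv_mem hbc) hx
      rw [← hbs'] at this
      simpa using this
    have : s ∈ centralizer (B : Set H) ⊓ stabilizer H β := Subgroup.mem_inf.mpr ⟨hsc, hs⟩
    rw [hC, mem_bot] at this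
    rw [← hbs', this, mul_one]
    exact hb
  · intro x hx
    rw [mem_centralizer_iff]
    intro y hy
    exact hBc y hy x hx

theorem ExtStabHyp.nilpotent_normal_comm (hyp : ExtStabHyp (H := H) α) (β : Ω) (hβ : β ≠ α)
    (B : Subgroup H) [hBn : B.Normal] (hB : B ≠ ⊥) (hnil : Group.IsNilpotent B) :
    ∀ x ∈ B, ∀ y ∈ B, x * y = y * x := by
  set Z := B ⊓ centralizer (B : Set H) with hZ
  have hZn : Z.Normal := inferInstance
  have hnt : Nontrivial B := (Subgroup.nontrivial_iff_ne_bot B).mpr hB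
  have hZne : Z ≠ ⊥ := by
    have hc := Group.IsNilpotent.center_ne_bot (G := B)
    obtain ⟨z, hz1⟩ := Subgroup.ne_bot_iff_exists_ne_one.mp hc
    intro h
    have hzmem : (z.1 : H) ∈ Z := by
      refine Subgroup.mem_inf.mpr ⟨z.1.2, ?_⟩
      rw [mem_centralizer_iff]
      intro y hy
      have := (Subgroup.mem_center_iff.mp z.2) ⟨y, hy⟩
      exact congrArg Subtype.val this
    rw [h, mem_bot] at hzmem
    apply hz1
    apply Subtype.ext
    apply Subtype.ext
    exact hzmem
  have hZc : ∀ x ∈ Z, ∀ y ∈ Z, x * y = y * x := by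
    intro x hx y hy
    rw [hZ, Subgroup.mem_inf] at hx hy
    exact ((mem_centralizer_iff.mp hx.2) y hy.1).symm
  obtain ⟨_, _, hcent⟩ := hyp.abelian_normal Z hZne hZc β hβ
  have hBle : B ≤ Z := by
    rw [← hcent]
    intro b hb
    rw [mem_centralizer_iff]
    intro z hz
    have hz' : z ∈ B ⊓ centralizer (B : Set H) := hz
    rw [Subgroup.mem_inf] at hz'
    exact ((mem_centralizer_iff.mp hz'.2) b hb).symm
  intro x hx y hy
  have hxZ := hBle hx
  rw [hZ, Subgroup.mem_inf] at hxZ
  exact ((mem_centralizer_iff.mp hxZ.2) y hy).symm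

theorem ExtStabHyp.nilpotent_normal_unique (hyp : ExtStabHyp (H := H) α) (β : Ω) (hβ : β ≠ α)
    (B₁ B₂ : Subgroup H) [h₁n : B₁.Normal] [h₂n : B₂.Normal] (h₁ : B₁ ≠ ⊥) (h₂ : B₂ ≠ ⊥)
    (hn₁ : Group.IsNilpotent B₁) (hn₂ : Group.IsNilpotent B₂) : B₁ = B₂ := by
  have c₁ := hyp.nilpotent_normal_comm β hβ B₁ h₁ hn₁
  have c₂ := hyp.nilpotent_normal_comm β hβ B₂ h₂ hn₂
  obtain ⟨_, _, z₁⟩ := hyp.abelian_normal B₁ h₁ c₁ β hβ
  obtain ⟨_, _, z₂⟩ := hyp.abelian_normal B₂ h₂ c₂ β hβ
  by_cases hD : B₁ ⊓ B₂ = ⊥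
  · exfalso
    have hcomm : ⁅B₁, B₂⁆ ≤ B₁ ⊓ B₂ := Subgroup.commutator_le_inf B₁ B₂
    rw [hD, le_bot_iff, Subgroup.commutator_eq_bot_iff_le_centralizer] at hcomm
    have h21 : B₂ ≤ B₁ := by
      rw [← z₁]
      exact Subgroup.le_centralizer_iff.mp hcomm
    apply h₂
    rw [← le_bot_iff, ← hD]
    exact le_inf h21 le_rfl
  · have hDn : (B₁ ⊓ B₂).Normal := inferInstance
    have cD : ∀ x ∈ B₁ ⊓ B₂, ∀ y ∈ B₁ ⊓ B₂, x * y = y * x := fun x hx y hy =>
      c₁ x (Subgroup.mem_inf.mp hx).1 y (Subgroup.mem_inf.mp hy).1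
    obtain ⟨_, _, zD⟩ := hyp.abelian_normal (B₁ ⊓ B₂) hD cD β hβ
    have l₁ : B₁ ≤ B₁ ⊓ B₂ := by
      rw [← zD]
      intro b hb
      rw [mem_centralizer_iff]
      intro d hd
      exact c₁ d (Subgroup.mem_inf.mp hd).1 b hb
    have l₂ : B₂ ≤ B₁ ⊓ B₂ := by
      rw [← zD]
      intro b hb
      rw [mem_centralizer_iff]
      intro d hd
      exact c₂ d (Subgroup.mem_inf.mp hd).2 b hb
    exact le_antisymm (l₁.trans inf_le_right) (l₂.trans inf_le_left)

/-- the Fitting subgroup is either trivial or itself a nontrivial normal nilpotent subgroup -/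
theorem ExtStabHyp.fitting (hyp : ExtStabHyp (H := H) α) (β : Ω) (hβ : β ≠ α) :
    Cfsg.fittingSubgroup H = ⊥ ∨
      ((Cfsg.fittingSubgroup H).Normal ∧ Group.IsNilpotent (Cfsg.fittingSubgroup H) ∧
        Cfsg.fittingSubgroup H ≠ ⊥) := by
  by_cases h : ∃ B : Subgroup H, B.Normal ∧ Group.IsNilpotent B ∧ B ≠ ⊥
  · right
    obtain ⟨B, hBn, hBnil, hB⟩ := h
    have heq : Cfsg.fittingSubgroup H = B := by
      unfold Cfsg.fittingSubgroup
      apply le_antisymm
      · apply sSup_le
        rintro N ⟨hNn, hNnil⟩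
        by_cases hN : N = ⊥
        · rw [hN]; exact bot_le
        · rw [hyp.nilpotent_normal_unique β hβ N B hN hB hNnil hBnil]
      · exact le_sSup ⟨hBn, hBnil⟩
    rw [heq]
    exact ⟨hBn, hBnil, hB⟩
  · left
    push Not at h
    unfold Cfsg.fittingSubgroup
    rw [sSup_eq_bot]
    rintro N ⟨hNn, hNnil⟩
    exact h N hNn hNnil


open scoped IsMulCommutative in
/-- a nontrivial normal nilpotent subgroup is elementary abelian -/
theorem ExtStabHyp.elementary [Finite H] (hyp : ExtStabHyp (H := H) α) (β : Ω) (hβ : β ≠ α)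
    (B : Subgroup H) [hBn : B.Normal] (hB : B ≠ ⊥) (hnil : Group.IsNilpotent B) :
    ∃ p e : ℕ, p.Prime ∧ Nat.card B = p ^ e ∧ ∀ x ∈ B, x ^ p = 1 := by
  have hcomm := hyp.nilpotent_normal_comm β hβ B hB hnil
  have hnt : Nontrivial B := (Subgroup.nontrivial_iff_ne_bot B).mpr hB
  have hcard : Nat.card B ≠ 1 := by
    have := Finite.one_lt_card (α := B)
    omega
  obtain ⟨p, hp, hpd⟩ := Nat.exists_prime_and_dvd hcard
  have : Fact p.Prime := ⟨hp⟩
  obtain ⟨a, ha⟩ := exists_prime_orderOf_dvd_card' p hpd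
  let V : Subgroup H :=
    { carrier := {x | x ∈ B ∧ x ^ p = 1}
      one_mem' := ⟨B.one_mem, one_pow _⟩
      mul_mem' := by
        rintro x y ⟨hx, hx'⟩ ⟨hy, hy'⟩
        refine ⟨B.mul_mem hx hy, ?_⟩
        rw [(show Commute x y from hcomm x hx y hy).mul_pow, hx', hy', one_mul]
      inv_mem' := by
        rintro x ⟨hx, hx'⟩
        exact ⟨B.inv_mem hx, by rw [inv_pow, hx', inv_one]⟩ }
  have hVn : V.Normal := by
    constructor
    rintro x ⟨hx, hx'⟩ g
    refine ⟨hBn.conj_mem x hx g, ?_⟩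
    rw [conj_pow, hx', mul_one, mul_inv_cancel]
  have hVne : V ≠ ⊥ := by
    intro h
    have hmem : (a : H) ∈ V := by
      refine ⟨a.2, ?_⟩
      have := pow_orderOf_eq_one a
      rw [ha] at this
      simpa using congrArg Subtype.val this
    rw [h, Subgroup.mem_bot] at hmem
    have h1 : a = 1 := Subtype.ext hmem
    rw [h1, orderOf_one] at ha
    exact hp.one_lt.ne ha
  have hVc : IsMulCommutative V := ⟨⟨by
    rintro ⟨x, hx, _⟩ ⟨y, hy, _⟩
    exact Subtype.ext (hcomm x hx y hy)⟩⟩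
  have hVnil : Group.IsNilpotent V := CommGroup.isNilpotent
  have hVB : V = B := hyp.nilpotent_normal_unique β hβ V B hVne hB hVnil hnil
  have hexp : ∀ x ∈ B, x ^ p = 1 := by
    intro x hx
    rw [← hVB] at hx
    exact hx.2
  have hpg : IsPGroup p B := by
    intro g
    refine ⟨1, ?_⟩
    rw [pow_one]
    exact Subtype.ext (by simpa using hexp g g.2)
  obtain ⟨e, he⟩ := IsPGroup.iff_card.mp hpg
  exact ⟨p, e, hp, he, hexp⟩

/-- the center of a stabilizer of composite order is trivial -/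
theorem ExtStabHyp.center_eq_bot [Finite H] (hyp : ExtStabHyp (H := H) α) (β : Ω) (hβ : β ≠ α)
    (hHp : ¬ (Nat.card H).Prime) : Subgroup.center H = ⊥ := by
  by_contra hZ
  have hZc : ∀ x ∈ Subgroup.center H, ∀ y ∈ Subgroup.center H, x * y = y * x :=
    fun x hx y _ => (Subgroup.mem_center_iff.mp hx y).symm
  obtain ⟨_, _, hcent⟩ := hyp.abelian_normal (Subgroup.center H) hZ hZc β hβ
  have htop : Subgroup.center H = ⊤ := by
    rw [← hcent, Subgroup.centralizer_eq_top_iff_subset]
  have hcomm : ∀ x y : H, x * y = y * x := by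
    intro x y
    have : y ∈ Subgroup.center H := by rw [htop]; trivial
    exact Subgroup.mem_center_iff.mp this x
  -- the stabilizer of β is normal, hence trivial
  have hSn : (stabilizer H β).Normal := by
    constructor
    intro s hs g
    rw [hcomm g s, mul_inv_cancel_right]
    exact hs
  have hS : stabilizer H β = ⊥ := by
    by_contra hne
    obtain ⟨s, hs, hsβ⟩ := hyp.moves _ hSn hne β hβ
    exact hsβ hs
  have hco := hyp.coatom β hβ
  rw [hS] at hco
  -- so H has no proper nontrivial subgroups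
  let _ : CommGroup H := { (inferInstance : Group H) with mul_comm := hcomm }
  have hnt : Nontrivial H := by
    have : (⊥ : Subgroup H) ≠ ⊤ := hco.1
    by_contra h
    rw [not_nontrivial_iff_subsingleton] at h
    exact this (Subsingleton.elim _ _)
  have hsimple : IsSimpleGroup H := by
    constructor
    intro K _
    by_cases hK : K = ⊥
    · exact Or.inl hK
    · exact Or.inr (hco.2 K (bot_lt_iff_ne_bot.mpr hK))
  exact hHp IsSimpleGroup.prime_card

end Abstract

section Counting

theorem free_card_dvd {H : Type*} [Group H] [Finite H] {Ω : Type*} [Fintype Ω] [MulAction H Ω] (α : Ω)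
    (B : Subgroup H) (hfix : ∀ b ∈ B, b • α = α)
    (hfree : ∀ β, β ≠ α → B ⊓ stabilizer H β = ⊥) : Nat.card B ∣ Fintype.card Ω - 1 := by
  classical
  let T : SubMulAction B Ω :=
    { carrier := {x | x ≠ α}
      smul_mem' := by
        intro b x hx h
        apply hx
        have h1 : (b : H) • x = α := h
        have h2 : (b : H) • α = α := hfix b b.2
        rw [← h2] at h1
        exact MulAction.injective _ h1 }
  have hfreeT : ∀ t : T, stabilizer B t = ⊥ := by
    intro t
    rw [Subgroup.eq_bot_iff_forall]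
    intro b hb
    have hb' : b • t = t := hb
    have h1 : (b : H) • (t : Ω) = t := congrArg Subtype.val hb'
    have h2 : (b : H) ∈ B ⊓ stabilizer H (t : Ω) := Subgroup.mem_inf.mpr ⟨b.2, h1⟩
    rw [hfree _ t.2, Subgroup.mem_bot] at h2
    exact Subtype.ext h2
  have e := MulAction.selfEquivOrbitsQuotientProd hfreeT
  have hc : Nat.card T = Nat.card (Quotient (MulAction.orbitRel B T)) * Nat.card B := by
    rw [Nat.card_congr e, Nat.card_prod]
  have hT : Nat.card T = Fintype.card Ω - 1 := by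
    have : Nat.card T = Nat.card {x : Ω // x ≠ α} := rfl
    rw [this, Nat.card_eq_fintype_card, Fintype.card_subtype_compl, Fintype.card_subtype_eq]
  rw [← hT, hc]
  exact Dvd.intro_left _ rfl

end Counting

section GLhom

theorem exists_GL_hom_of_module {H V : Type*} [Group H] [AddCommGroup V] (p e : ℕ) [Fact p.Prime]
    [Module (ZMod p) V] [Finite V] (hcard : Nat.card V = p ^ e)
    (ρ : H →* Module.End (ZMod p) V) :
    ∃ φ : H →* GL (Fin e) (ZMod p), φ.ker = ρ.ker := by
  classical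
  have : Fintype V := Fintype.ofFinite _
  have hrank : Module.finrank (ZMod p) V = e := by
    have h1 := Module.card_eq_pow_finrank (K := ZMod p) (V := V)
    rw [ZMod.card, ← Nat.card_eq_fintype_card, hcard] at h1
    exact (Nat.pow_right_injective (Fact.out : p.Prime).two_le h1).symm
  let b := Module.finBasisOfFinrankEq (ZMod p) V hrank
  let ψ : Module.End (ZMod p) V ≃* Matrix (Fin e) (Fin e) (ZMod p) :=
    (LinearMap.toMatrixAlgEquiv b).toMulEquiv
  let φ : H →* GL (Fin e) (ZMod p) := (Units.map ψ.toMonoidHom).comp ρ.toHomUnits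
  refine ⟨φ, ?_⟩
  ext h
  rw [MonoidHom.mem_ker, MonoidHom.mem_ker]
  constructor
  · intro hh
    have h2 : ((φ h : GL (Fin e) (ZMod p)) : Matrix (Fin e) (Fin e) (ZMod p)) = 1 := by rw [hh]; rfl
    have h3 : ψ (ρ h) = 1 := h2
    have h4 : ψ (ρ h) = ψ 1 := by rw [h3, map_one]
    exact ψ.injective h4
  · intro hh
    apply Units.ext
    show ψ (ρ h) = 1
    rw [hh, map_one]

theorem exists_GL_hom_of_commGroup' {H A : Type*} [Group H] [CommGroup A] [Finite A] (p e : ℕ)
    [Fact p.Prime] [Module (ZMod p) (Additive A)] (hcard : Nat.card A = p ^ e) (θ : H →* MulAut A) :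
    ∃ φ : H →* GL (Fin e) (ZMod p), φ.ker = θ.ker := by
  have hfin : Finite (Additive A) := inferInstanceAs (Finite A)
  let ρ : H →* Module.End (ZMod p) (Additive A) :=
    { toFun := fun h => AddMonoidHom.toZModLinearMap p
        (MonoidHom.toAdditive ((θ h : MulAut A).toMonoidHom))
      map_one' := by
        apply LinearMap.ext
        intro v
        show Additive.ofMul ((θ 1) (Additive.toMul v)) = v
        rw [map_one]
        rfl
      map_mul' := by
        intro a b
        apply LinearMap.ext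
        intro v
        show Additive.ofMul ((θ (a * b)) (Additive.toMul v)) =
          Additive.ofMul (θ a (Additive.toMul (Additive.ofMul (θ b (Additive.toMul v)))))
        rw [map_mul]
        rfl }
  have hρ : ∀ (h : H) (v : Additive A), (ρ h : Additive A →ₗ[ZMod p] Additive A) v =
      Additive.ofMul (θ h (Additive.toMul v)) := by
    intro h v
    rfl
  obtain ⟨φ, hφ⟩ := exists_GL_hom_of_module (H := H) (V := Additive A) p e hcard ρ
  refine ⟨φ, ?_⟩
  rw [hφ]
  ext h
  rw [MonoidHom.mem_ker, MonoidHom.mem_ker]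
  constructor
  · intro hh
    ext a
    have := hρ h (Additive.ofMul a)
    rw [hh] at this
    simpa using this.symm
  · intro hh
    apply LinearMap.ext
    intro v
    rw [hρ, hh]
    rfl

theorem exists_GL_hom_of_commGroup {H A : Type*} [Group H] [CommGroup A] [Finite A] (p e : ℕ)
    [Fact p.Prime] (hexp : ∀ a : A, a ^ p = 1) (hcard : Nat.card A = p ^ e) (θ : H →* MulAut A) :
    ∃ φ : H →* GL (Fin e) (ZMod p), φ.ker = θ.ker :=
  @exists_GL_hom_of_commGroup' H A _ _ _ p e _ (AddCommGroup.zmodModule (n := p) (by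
    intro x
    apply Additive.toMul.injective
    simpa using hexp (Additive.toMul x))) hcard θ

open scoped IsMulCommutative in
theorem exists_GL_hom {H : Type*} [Group H] [Finite H] (B : Subgroup H) [hBn : B.Normal]
    (p e : ℕ) (hp : p.Prime) (hBc : ∀ x ∈ B, ∀ y ∈ B, x * y = y * x)
    (hexp : ∀ x ∈ B, x ^ p = 1) (hcard : Nat.card B = p ^ e)
    (hcent : centralizer (B : Set H) = B) :
    ∃ φ : H →* GL (Fin e) (ZMod p), φ.ker = B := by
  have : Fact p.Prime := ⟨hp⟩
  have hcomm : IsMulCommutative B := ⟨⟨fun x y => Subtype.ext (hBc x x.2 y y.2)⟩⟩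
  obtain ⟨φ, hφ⟩ := exists_GL_hom_of_commGroup (H := H) (A := B) p e
    (fun a => Subtype.ext (by simpa using hexp a a.2)) hcard (MulAut.conjNormal (H := B))
  refine ⟨φ, ?_⟩
  rw [hφ]
  ext h
  have hmem : h ∈ B ↔ h ∈ centralizer (B : Set H) := by rw [hcent]
  rw [hmem, MonoidHom.mem_ker, mem_centralizer_iff]
  constructor
  · intro hh x hx
    have h3 : (MulAut.conjNormal h (⟨x, hx⟩ : B) : B) = ⟨x, hx⟩ := by rw [hh]; rfl
    have h4 := congrArg Subtype.val h3
    rw [MulAut.conjNormal_apply] at h4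
    calc x * h = (h * x * h⁻¹) * h := by rw [h4]
      _ = h * x := by group
  · intro hh
    ext x
    rw [MulAut.conjNormal_apply]
    have := hh x x.2
    rw [← this]
    simp

end GLhom

end Cfsg.Agent.Lib.Helper63
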