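import Mathlib

set_option autoImplicit false

namespace Cfsg.Agent.Lib.Helper63

open MulAction Subgroup

section QP

variable {G : Type*} [Group G] {Ω : Type*} [MulAction G Ω]

/-- a normal subgroup of a point stabilizer which moves a point of an orbit on which the stabilizer
is preprimitive is transitive on that orbit -/
theorem normal_transitive_on_orbit (α ω : Ω)
    (hpp : IsPreprimitive (stabilizer G α) (orbit (stabilizer G α) ω))
    (K : Subgroup G) (hK : K ≤ stabilizer G α) (hKn : stabilizer G α ≤ normalizer (K : Set G))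
    (hmove : ∃ k ∈ K, ∃ x ∈ orbit (stabilizer G α) ω, k • x ≠ x) :
    ∀ x ∈ orbit (stabilizer G α) ω, ∀ y ∈ orbit (stabilizer G α) ω, ∃ k ∈ K, k • x = y := by
  have hn : (K.subgroupOf (stabilizer G α)).Normal :=
    (Subgroup.normal_subgroupOf_iff_le_normalizer hK).mpr hKn
  have hqp : IsQuasiPreprimitive (stabilizer G α) (orbit (stabilizer G α) ω) := inferInstance
  have hfix : fixedPoints (K.subgroupOf (stabilizer G α)) (orbit (stabilizer G α) ω) ≠ Set.univ := by
    obtain ⟨k, hk, x, hx, hkx⟩ := hmove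
    intro h
    have : (⟨x, hx⟩ : orbit (stabilizer G α) ω) ∈
        fixedPoints (K.subgroupOf (stabilizer G α)) (orbit (stabilizer G α) ω) := by
      rw [h]; trivial
    rw [mem_fixedPoints] at this
    have h2 := this ⟨⟨k, hK hk⟩, hk⟩
    apply hkx
    exact congrArg Subtype.val h2
  have hpt := hqp.isPretransitive_of_normal hfix
  intro x hx y hy
  obtain ⟨n, hn⟩ := hpt.exists_smul_eq ⟨x, hx⟩ ⟨y, hy⟩
  exact ⟨n.1.1, n.2, congrArg Subtype.val hn⟩

end QP

theorem double_count {Ω : Type*} [Fintype Ω] (E : Ω → Ω → Prop) [DecidableRel E] (a b : ℕ)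
    (ha : ∀ δ, (Finset.univ.filter (fun y => E δ y)).card = a)
    (hb : ∀ y, (Finset.univ.filter (fun δ => E δ y)).card = b) [hne : Nonempty Ω] : a = b := by
  have := Finset.sum_card_bipartiteAbove_eq_sum_card_bipartiteBelow
    (s := (Finset.univ : Finset Ω)) (t := (Finset.univ : Finset Ω)) E
  simp only [Finset.bipartiteAbove, Finset.bipartiteBelow, ha, hb, Finset.sum_const,
    smul_eq_mul, Finset.card_univ] at this
  exact Nat.eq_of_mul_eq_mul_left Fintype.card_pos this

section Prim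

variable {G : Type*} [Group G] {Ω : Type*} [MulAction G Ω] [FaithfulSMul G Ω]

/-- in a faithful primitive action with nontrivial stabilizers, distinct points have
incomparable stabilizers -/
theorem eq_of_stabilizer_le (hprim : IsPreprimitive G Ω) (hH : ∀ α : Ω, stabilizer G α ≠ ⊥)
    (α β : Ω) (hle : stabilizer G α ≤ stabilizer G β) : α = β := by
  by_contra hne
  have hnt : Nontrivial Ω := ⟨α, β, hne⟩
  have hcα : IsCoatom (stabilizer G α) := IsPreprimitive.isCoatom_stabilizer_of_isPreprimitive G α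
  have hcβ : IsCoatom (stabilizer G β) := IsPreprimitive.isCoatom_stabilizer_of_isPreprimitive G β
  have heq : stabilizer G α = stabilizer G β := by
    by_contra h
    exact hcβ.1 (hcα.2 _ (lt_of_le_of_ne hle h))
  obtain ⟨g, hg⟩ := exists_smul_eq G α β
  have hconj : ∀ h, h ∈ stabilizer G α ↔ g * h * g⁻¹ ∈ stabilizer G α := by
    intro h
    conv_rhs => rw [heq, ← hg]
    simp [mem_stabilizer_iff, mul_smul]
  have hgN : g ∈ normalizer ((stabilizer G α : Subgroup G) : Set G) := by
    rw [mem_normalizer_iff]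
    exact hconj
  have hNle : stabilizer G α ≤ normalizer ((stabilizer G α : Subgroup G) : Set G) := le_normalizer
  by_cases hN : normalizer ((stabilizer G α : Subgroup G) : Set G) = stabilizer G α
  · rw [hN, mem_stabilizer_iff] at hgN
    exact hne (hgN.symm.trans hg)
  · have htop : normalizer ((stabilizer G α : Subgroup G) : Set G) = ⊤ :=
      hcα.2 _ (lt_of_le_of_ne hNle (Ne.symm hN))
    have hnormal : (stabilizer G α).Normal := normalizer_eq_top_iff.mp htop
    apply hH α
    rw [Subgroup.eq_bot_iff_forall]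
    intro h hh
    apply FaithfulSMul.eq_of_smul_eq_smul (α := Ω)
    intro x
    obtain ⟨y, hy⟩ := exists_smul_eq G α x
    have h3 : y⁻¹ * h * y ∈ stabilizer G α := by
      have := hnormal.conj_mem h hh y⁻¹
      simpa using this
    rw [mem_stabilizer_iff] at h3
    rw [one_smul, ← hy]
    have : h • y • α = y • (y⁻¹ * h * y) • α := by simp [mul_smul]
    rw [this, h3]

theorem stabilizer_sup_eq_top (hprim : IsPreprimitive G Ω) (hH : ∀ α : Ω, stabilizer G α ≠ ⊥)
    (α β : Ω) (hne : α ≠ β) : stabilizer G α ⊔ stabilizer G β = ⊤ := by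
  have hnt : Nontrivial Ω := ⟨α, β, hne⟩
  have hcα : IsCoatom (stabilizer G α) := IsPreprimitive.isCoatom_stabilizer_of_isPreprimitive G α
  apply hcα.2
  apply lt_of_le_of_ne le_sup_left
  intro h
  have : stabilizer G β ≤ stabilizer G α := h ▸ le_sup_right
  exact hne (eq_of_stabilizer_le hprim hH β α this).symm

/-- a nonempty set invariant under two distinct point stabilizers is everything -/
theorem eq_univ_of_invariant (hprim : IsPreprimitive G Ω) (hH : ∀ α : Ω, stabilizer G α ≠ ⊥)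
    (α β : Ω) (hne : α ≠ β) (S : Set Ω) (hS : S.Nonempty)
    (hα : ∀ g ∈ stabilizer G α, ∀ x ∈ S, g • x ∈ S)
    (hβ : ∀ g ∈ stabilizer G β, ∀ x ∈ S, g • x ∈ S) : S = Set.univ := by
  let P : Subgroup G :=
    { carrier := {g | (∀ x ∈ S, g • x ∈ S) ∧ (∀ x ∈ S, g⁻¹ • x ∈ S)}
      one_mem' := by simp
      mul_mem' := by
        rintro a b ⟨ha, ha'⟩ ⟨hb, hb'⟩
        refine ⟨fun x hx => ?_, fun x hx => ?_⟩
        · rw [mul_smul]; exact ha _ (hb x hx)
        · rw [mul_inv_rev, mul_smul]; exact hb' _ (ha' x hx)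
      inv_mem' := by
        rintro a ⟨ha, ha'⟩
        exact ⟨ha', by simpa using ha⟩ }
  have h1 : stabilizer G α ≤ P := fun g hg => ⟨hα g hg, hα g⁻¹ (inv_mem hg)⟩
  have h2 : stabilizer G β ≤ P := fun g hg => ⟨hβ g hg, hβ g⁻¹ (inv_mem hg)⟩
  have htop : P = ⊤ := by
    apply top_le_iff.mp
    rw [← stabilizer_sup_eq_top hprim hH α β hne]
    exact sup_le h1 h2
  obtain ⟨s, hs⟩ := hS
  have := hprim.toIsPretransitive
  ext x
  simp only [Set.mem_univ, iff_true]
  obtain ⟨g, hg⟩ := exists_smul_eq G s x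
  have hgP : g ∈ P := by rw [htop]; trivial
  rw [← hg]
  exact hgP.1 s hs

end Prim


section Main

variable {G : Type*} [Group G] {Ω : Type*} [Fintype Ω] [MulAction G Ω] [FaithfulSMul G Ω]

/-- **Key theorem on extremely primitive groups**: a nontrivial subgroup `K` of a point stabilizer
`G_α`, normalized by `G_α`, fixes no point other than `α`. -/
theorem normal_subgroup_moves (hprim : IsPreprimitive G Ω) (hH : ∀ α : Ω, stabilizer G α ≠ ⊥)
    (hep : ∀ (α : Ω) (ω : Ω), IsPreprimitive (stabilizer G α) (orbit (stabilizer G α) ω))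
    (α : Ω) (K : Subgroup G) (hKle : K ≤ stabilizer G α)
    (hKn : stabilizer G α ≤ normalizer (K : Set G)) (hK : K ≠ ⊥) (β : Ω) (hβ : β ≠ α) :
    ∃ k ∈ K, k • β ≠ β := by
  classical
  by_contra hcon
  push Not at hcon
  have hpt := hprim.toIsPretransitive
  -- the fixed point set
  set Sg : Set Ω := {x | ∀ k ∈ K, k • x = x} with hSg
  have hαS : α ∈ Sg := fun k hk => hKle hk
  have hβS : β ∈ Sg := hcon
  have hSinv1 : ∀ h ∈ stabilizer G α, ∀ x ∈ Sg, h • x ∈ Sg := by
    intro h hh x hx k hk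
    have h1 : h⁻¹ * k * h ∈ K := by
      have := (mem_normalizer_iff.mp (hKn (inv_mem hh)) k).mp hk
      simpa using this
    have h2 := hx _ h1
    calc k • h • x = h • (h⁻¹ * k * h) • x := by simp [mul_smul]
      _ = h • x := by rw [h2]
  have hSinv : ∀ h ∈ stabilizer G α, ∀ x, h • x ∈ Sg ↔ x ∈ Sg := by
    intro h hh x
    constructor
    · intro hx
      have := hSinv1 h⁻¹ (inv_mem hh) _ hx
      simpa using this
    · exact hSinv1 h hh x
  -- well-definedness of translates
  have hwd : ∀ g g' : G, g • α = g' • α → ∀ y, g⁻¹ • y ∈ Sg → g'⁻¹ • y ∈ Sg := by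
    intro g g' hgg y hy
    have hmem : g'⁻¹ * g ∈ stabilizer G α := by
      rw [mem_stabilizer_iff, mul_smul, hgg, inv_smul_smul]
    have := hSinv1 _ hmem _ hy
    simpa [mul_smul] using this
  -- some point is moved
  have hmoved : ∃ x, x ∉ Sg := by
    by_contra hall
    push Not at hall
    apply hK
    rw [Subgroup.eq_bot_iff_forall]
    intro k hk
    apply FaithfulSMul.eq_of_smul_eq_smul (α := Ω)
    intro x
    rw [hall x k hk, one_smul]
  -- choose a moved point with maximal orbit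
  obtain ⟨x₀, hx₀, hmax⟩ : ∃ x₀, x₀ ∉ Sg ∧ ∀ y, y ∉ Sg →
      (orbit (stabilizer G α) y).ncard ≤ (orbit (stabilizer G α) x₀).ncard := by
    obtain ⟨x, hx⟩ := hmoved
    have hne : (Finset.univ.filter (fun y : Ω => y ∉ Sg)).Nonempty := ⟨x, by simp [hx]⟩
    obtain ⟨x₀, hx₀, hm⟩ := Finset.exists_max_image _
      (fun y : Ω => (orbit (stabilizer G α) y).ncard) hne
    refine ⟨x₀, by simpa using hx₀, fun y hy => hm y (by simp [hy])⟩
  set Δ : Set Ω := orbit (stabilizer G α) x₀ with hΔ
  have hx₀Δ : x₀ ∈ Δ := mem_orbit_self x₀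
  -- Δ is disjoint from Sg
  have hΔS : ∀ z ∈ Δ, z ∉ Sg := by
    rintro z ⟨h, rfl⟩ hz
    exact hx₀ ((hSinv h.1 h.2 x₀).mp hz)
  -- Δ is invariant under G_α
  have hΔinv : ∀ h ∈ stabilizer G α, ∀ z ∈ Δ, h • z ∈ Δ := by
    rintro h hh z ⟨h', rfl⟩
    exact ⟨⟨h, hh⟩ * h', by simp [mul_smul]⟩
  -- K is transitive on Δ
  have hKtrans : ∀ x ∈ Δ, ∀ y ∈ Δ, ∃ k ∈ K, k • x = y := by
    apply normal_transitive_on_orbit α x₀ (hep α x₀) K hKle hKn
    have : ∃ k ∈ K, k • x₀ ≠ x₀ := by
      by_contra h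
      push Not at h
      exact hx₀ h
    obtain ⟨k, hk, hkx⟩ := this
    exact ⟨k, hk, x₀, hx₀Δ, hkx⟩
  -- Claim 3
  have claim3 : ∀ g : G, g • α ∈ Sg → g • α ≠ α → ∀ x ∈ Δ, g⁻¹ • x ∈ Sg := by
    intro g hgS hgne x hx
    by_contra hx'
    have hKβ : K ≤ stabilizer G (g • α) := fun k hk => hgS k hk
    -- Δ is contained in the orbit of x under G_β
    have hsub : Δ ⊆ orbit (stabilizer G (g • α)) x := by
      intro z hz
      obtain ⟨k, hk, hkz⟩ := hKtrans x hx z hz
      exact ⟨⟨k, hKβ hk⟩, hkz⟩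
    -- the orbit of g⁻¹ x under G_α is the translate
    have horb : orbit (stabilizer G α) (g⁻¹ • x) = (fun z => g⁻¹ • z) '' orbit (stabilizer G (g • α)) x := by
      ext z
      constructor
      · rintro ⟨h, rfl⟩
        refine ⟨(g * h.1 * g⁻¹) • x, ⟨⟨g * h.1 * g⁻¹, ?_⟩, rfl⟩, ?_⟩
        · have := h.2
          rw [mem_stabilizer_iff] at this ⊢
          simp [mul_smul, this]
        · simp [mul_smul, Subgroup.smul_def]
      · rintro ⟨_, ⟨h, rfl⟩, rfl⟩
        refine ⟨⟨g⁻¹ * h.1 * g, ?_⟩, ?_⟩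
        · have := h.2
          rw [mem_stabilizer_iff] at this ⊢
          rw [mul_smul, mul_smul, this, inv_smul_smul]
        · simp [mul_smul, Subgroup.smul_def]
    have hcard : (orbit (stabilizer G (g • α)) x).ncard ≤ Δ.ncard := by
      have h1 := hmax (g⁻¹ • x) hx'
      rw [horb, Set.ncard_image_of_injective _ (MulAction.injective g⁻¹)] at h1
      exact h1
    have heq : Δ = orbit (stabilizer G (g • α)) x :=
      Set.eq_of_subset_of_ncard_le hsub hcard (Set.toFinite _)
    have hΔinvβ : ∀ h ∈ stabilizer G (g • α), ∀ z ∈ Δ, h • z ∈ Δ := by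
      intro h hh z hz
      rw [heq] at hz ⊢
      obtain ⟨h', rfl⟩ := hz
      exact ⟨⟨h, hh⟩ * h', by simp [mul_smul]⟩
    have huniv := eq_univ_of_invariant hprim hH α (g • α) (Ne.symm hgne) Δ ⟨x₀, hx₀Δ⟩ hΔinv hΔinvβ
    have : α ∈ Δ := by rw [huniv]; trivial
    exact hΔS α this hαS
  -- the set U
  set U : Set Ω := {δ | ∃ g : G, g • α = δ ∧ g⁻¹ • x₀ ∈ Sg} with hU
  have hx₀U : x₀ ∈ U := by
    obtain ⟨g, hg⟩ := exists_smul_eq G α x₀
    exact ⟨g, hg, by rw [← hg, inv_smul_smul]; exact hαS⟩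
  have claim4a : ∀ δ ∈ Sg, δ ≠ α → δ ∈ U := by
    intro δ hδ hδα
    obtain ⟨g, hg⟩ := exists_smul_eq G α δ
    exact ⟨g, hg, claim3 g (hg ▸ hδ) (hg ▸ hδα) x₀ hx₀Δ⟩
  -- counting
  have hcount : U.ncard = Sg.ncard := by
    let E : Ω → Ω → Prop := fun δ y => ∃ g : G, g • α = δ ∧ g⁻¹ • y ∈ Sg
    have hE1 : ∀ (g : G) (y : Ω), E (g • α) y ↔ g⁻¹ • y ∈ Sg := by
      intro g y
      constructor
      · rintro ⟨g', hg', hy⟩
        exact hwd g' g hg' y hy
      · intro hy
        exact ⟨g, rfl, hy⟩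
    have hE2 : ∀ (g : G) (δ y : Ω), E (g • δ) (g • y) ↔ E δ y := by
      intro g δ y
      constructor
      · rintro ⟨g', hg', hy⟩
        refine ⟨g⁻¹ * g', by rw [mul_smul, hg', inv_smul_smul], ?_⟩
        simpa [mul_smul] using hy
      · rintro ⟨g', hg', hy⟩
        refine ⟨g * g', by rw [mul_smul, hg'], ?_⟩
        simpa [mul_smul] using hy
    have ha : ∀ δ, (Finset.univ.filter (fun y => E δ y)).card = Sg.ncard := by
      intro δ
      obtain ⟨g, rfl⟩ := exists_smul_eq G α δ
      rw [Set.ncard_eq_toFinset_card']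
      symm
      apply Finset.card_bijective (fun y => g • y) (MulAction.bijective g)
      intro y
      simp only [Set.mem_toFinset, Finset.mem_filter, Finset.mem_univ, true_and]
      rw [hE1, inv_smul_smul]
    have hb : ∀ y, (Finset.univ.filter (fun δ => E δ y)).card = U.ncard := by
      intro y
      obtain ⟨g, rfl⟩ := exists_smul_eq G x₀ y
      rw [Set.ncard_eq_toFinset_card']
      symm
      apply Finset.card_bijective (fun δ => g • δ) (MulAction.bijective g)
      intro δ
      simp only [Set.mem_toFinset, Finset.mem_filter, Finset.mem_univ, true_and]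
      rw [hE2]
      rfl
    have : Nonempty Ω := ⟨α⟩
    exact (double_count E _ _ ha hb).symm
  have hTU : Sg \ {α} = U \ {x₀} := by
    apply Set.eq_of_subset_of_ncard_le
    · rintro δ ⟨hδ, hδα⟩
      refine ⟨claim4a δ hδ hδα, ?_⟩
      rintro rfl
      exact hx₀ hδ
    · rw [Set.ncard_sdiff_singleton_of_mem hx₀U, Set.ncard_sdiff_singleton_of_mem hαS, hcount]
    · exact Set.toFinite _
  -- an element of G_{x₀} moving α
  obtain ⟨x, hx, hxα⟩ : ∃ x ∈ stabilizer G x₀, x • α ≠ α := by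
    by_contra h
    push Not at h
    have hle : stabilizer G x₀ ≤ stabilizer G α := fun x hx => h x hx
    have := eq_of_stabilizer_le hprim hH x₀ α hle
    exact hx₀ (this ▸ hαS)
  -- the translate of Sg \ {α} by x is again U \ {x₀}
  have hTU' : (fun z => x • z) '' (Sg \ {α}) = U \ {x₀} := by
    apply Set.eq_of_subset_of_ncard_le
    · rintro _ ⟨δ, ⟨hδ, hδα⟩, rfl⟩
      obtain ⟨g, hg, hgx⟩ := claim4a δ hδ hδα
      refine ⟨⟨x * g, by rw [mul_smul, hg], ?_⟩, ?_⟩
      · rw [mul_inv_rev, mul_smul]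
        have : x⁻¹ • x₀ = x₀ := by
          have := inv_mem hx
          rwa [mem_stabilizer_iff] at this
        rw [this]
        exact hgx
      · intro h
        have h2 : δ = x₀ := by
          have h3 : x • δ = x • x₀ := by
            rw [Set.mem_singleton_iff] at h
            have h' : x • δ = x₀ := h
            rw [h', mem_stabilizer_iff.mp hx]
          exact MulAction.injective x h3
        exact hx₀ (h2 ▸ hδ)
    · rw [Set.ncard_image_of_injective _ (MulAction.injective x), hTU]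
    · exact Set.toFinite _
  -- invariance of S = Sg \ {α} under both stabilizers
  have hS1 : ∀ h ∈ stabilizer G α, ∀ z ∈ Sg \ {α}, h • z ∈ Sg \ {α} := by
    rintro h hh z ⟨hz, hzα⟩
    refine ⟨hSinv1 h hh z hz, ?_⟩
    intro h2
    apply hzα
    rw [Set.mem_singleton_iff] at h2 ⊢
    have : h • z = h • α := by rw [h2, mem_stabilizer_iff.mp hh]
    exact MulAction.injective h this
  have hS2 : ∀ h ∈ stabilizer G (x • α), ∀ z ∈ Sg \ {α}, h • z ∈ Sg \ {α} := by
    intro h hh z hz
    have hz' : z ∈ (fun z => x • z) '' (Sg \ {α}) := by rw [hTU', ← hTU]; exact hz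
    obtain ⟨w, hw, rfl⟩ := hz'
    have hmem : x⁻¹ * h * x ∈ stabilizer G α := by
      rw [mem_stabilizer_iff] at hh ⊢
      rw [mul_smul, mul_smul, hh, inv_smul_smul]
    have h3 := hS1 _ hmem w hw
    have h4 : h • x • w = x • (x⁻¹ * h * x) • w := by simp [mul_smul]
    have h5 : x • (x⁻¹ * h * x) • w ∈ (fun z => x • z) '' (Sg \ {α}) := ⟨_, h3, rfl⟩
    rw [hTU', ← hTU] at h5
    rw [h4]
    exact h5
  have huniv := eq_univ_of_invariant hprim hH α (x • α) (Ne.symm hxα) (Sg \ {α})
    ⟨β, hβS, hβ⟩ hS1 hS2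
  have : α ∈ Sg \ {α} := by rw [huniv]; trivial
  exact this.2 rfl

end Main

end Cfsg.Agent.Lib.Helper63
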