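import Mathlib

set_option autoImplicit false
set_option linter.style.haveILetI false

namespace Cfsg.Agent.Lib.Helper63

/-- A finite commutative domain of characteristic `p` with `p ^ d` elements generated (as a ring)
by `x`: Frobenius powers fixing `x` are trivial, and every ring endomorphism is a Frobenius
power. -/
theorem finite_field_gen {R : Type*} [CommRing R] [IsDomain R] [Finite R] (p d : ℕ)
    [hp : Fact p.Prime] [CharP R p] (hcard : Nat.card R = p ^ d) (x : R)
    (hx : Subring.closure {x} = ⊤) :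
    (∀ i : ℕ, x ^ (p ^ i) = x → d ∣ i) ∧
      ∀ σ : R →+* R, ∃ j : ℕ, ∀ y : R, σ y = y ^ (p ^ j) := by
  classical
  letI : Fintype R := Fintype.ofFinite R
  letI : Field R := Fintype.fieldOfDomain R
  letI : Algebra (ZMod p) R := ZMod.algebra R p
  have hfr : Module.finrank (ZMod p) R = d := by
    have h1 : Nat.card R = Nat.card (ZMod p) ^ Module.finrank (ZMod p) R :=
      Module.natCard_eq_pow_finrank
    rw [hcard, Nat.card_zmod] at h1
    exact (Nat.pow_right_injective hp.out.two_le h1).symm
  have hcardZ : Fintype.card (ZMod p) = p := ZMod.card p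
  have hfrob : ∀ (i : ℕ) (y : R),
      ((FiniteField.frobeniusAlgHom (ZMod p) R) ^ i) y = y ^ (p ^ i) := by
    intro i y
    rw [AlgHom.coe_pow, FiniteField.coe_frobeniusAlgHom, pow_iterate, hcardZ]
  constructor
  · intro i hi
    have h2 : ((FiniteField.frobeniusAlgHom (ZMod p) R) ^ i : R →ₐ[ZMod p] R) = 1 := by
      have h3 : (((FiniteField.frobeniusAlgHom (ZMod p) R) ^ i : R →ₐ[ZMod p] R) : R →+* R) =
          ((1 : R →ₐ[ZMod p] R) : R →+* R) := by
        apply RingHom.eq_of_eqOn_set_dense hx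
        intro y hy
        rw [Set.mem_singleton_iff] at hy
        subst hy
        simp only [AlgHom.coe_toRingHom]
        rw [hfrob, hi]
        rfl
      ext y
      exact RingHom.congr_fun h3 y
    have h4 := orderOf_dvd_of_pow_eq_one h2
    rw [FiniteField.orderOf_frobeniusAlgHom, hfr] at h4
    exact h4
  · intro σ
    let τ : R →ₐ[ZMod p] R :=
      { toRingHom := σ
        commutes' := by
          intro r
          obtain ⟨n, rfl⟩ := ZMod.natCast_zmod_surjective r
          simp }
    obtain ⟨n, hn⟩ := (FiniteField.bijective_frobeniusAlgHom_pow (ZMod p) R).2 τ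
    refine ⟨n.1, ?_⟩
    intro y
    have h5 : τ y = σ y := rfl
    rw [← h5, ← hn]
    exact hfrob n.1 y

set_option maxHeartbeats 800000 in
open scoped IsMulCommutative in
/-- A finite commutative group `A` of additive automorphisms of an elementary abelian group `V`
of order `p ^ d` such that every nonzero vector generates `V` under `A`: then `A` is cyclic,
its order divides no `p ^ i - 1` with `0 < i < d`, and conjugation by an additive automorphism
normalizing `A` acts on `A` as a power of `p`. -/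
theorem end_ring_gen {V A : Type*} [AddCommGroup V] [Finite V] [CommGroup A] [Finite A]
    (p d : ℕ) [hp : Fact p.Prime]
    (hcard : Nat.card V = p ^ d) (hexp : ∀ v : V, p • v = 0)
    (Φ : A →* AddMonoid.End V) (hΦ : Function.Injective Φ) (hA : Nontrivial A)
    (hgen : ∀ v : V, v ≠ 0 → AddSubgroup.closure (Set.range fun a : A => Φ a v) = ⊤) :
    IsCyclic A ∧ (∀ i : ℕ, 0 < i → i < d → ¬ Nat.card A ∣ p ^ i - 1) ∧
    ∀ (ψ ψ' : AddMonoid.End V) (θ : A → A), ψ' * ψ = 1 → ψ * ψ' = 1 →
      (∀ a : A, ψ * Φ a * ψ' = Φ (θ a)) → ∃ j : ℕ, ∀ a : A, θ a = a ^ (p ^ j) := by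
  classical
  have hcomm : ∀ a ∈ (Set.range Φ : Set (AddMonoid.End V)), ∀ b ∈ (Set.range Φ), a * b = b * a := by
    rintro _ ⟨a, rfl⟩ _ ⟨b, rfl⟩
    rw [← map_mul, ← map_mul, mul_comm]
  have hmc := Subring.isMulCommutative_closure hcomm
  obtain ⟨R, hR⟩ : ∃ R : Subring (AddMonoid.End V), R = Subring.closure (Set.range Φ) := ⟨_, rfl⟩
  have hmcR : IsMulCommutative R := by rw [hR]; exact hmc
  have hΦR : ∀ a : A, Φ a ∈ R := by
    intro a; rw [hR]; exact Subring.subset_closure ⟨a, rfl⟩
  -- a nonzero vector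
  obtain ⟨v₀, hv₀⟩ : ∃ v₀ : V, v₀ ≠ 0 := by
    by_contra hall
    push Not at hall
    obtain ⟨a, b, hab⟩ := hA
    apply hab
    apply hΦ
    ext v
    rw [hall v, map_zero, map_zero]
  -- evaluation maps
  have hsurj : ∀ v : V, v ≠ 0 → ∀ w : V, ∃ r : R, (r : AddMonoid.End V) v = w := by
    intro v hv w
    have hw : w ∈ AddSubgroup.closure (Set.range fun a : A => Φ a v) := by
      rw [hgen v hv]; trivial
    induction hw using AddSubgroup.closure_induction with
    | mem y hy =>
      obtain ⟨a, rfl⟩ := hy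
      exact ⟨⟨Φ a, hΦR a⟩, rfl⟩
    | zero => exact ⟨0, rfl⟩
    | add y z _ _ hy hz =>
      obtain ⟨r, hr⟩ := hy
      obtain ⟨s, hs⟩ := hz
      exact ⟨r + s, by rw [← hr, ← hs]; rfl⟩
    | neg y _ hy =>
      obtain ⟨r, hr⟩ := hy
      exact ⟨-r, by rw [← hr]; rfl⟩
  have hinj : ∀ v : V, v ≠ 0 → ∀ r : R, (r : AddMonoid.End V) v = 0 → r = 0 := by
    intro v hv r hr
    apply Subtype.ext
    ext w
    obtain ⟨s, hs⟩ := hsurj v hv w
    have h1 : (r : AddMonoid.End V) w = ((r * s : R) : AddMonoid.End V) v := by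
      rw [← hs]; rfl
    rw [h1, mul_comm r s]
    show (s : AddMonoid.End V) ((r : AddMonoid.End V) v) = 0
    rw [hr, map_zero]
  let ev : R → V := fun r => (r : AddMonoid.End V) v₀
  have hev_inj : Function.Injective ev := by
    intro r s hrs
    have h1 : ((r - s : R) : AddMonoid.End V) v₀ = 0 := by
      show (r : AddMonoid.End V) v₀ - (s : AddMonoid.End V) v₀ = 0
      rw [sub_eq_zero]; exact hrs
    exact sub_eq_zero.mp (hinj v₀ hv₀ _ h1)
  have hev_surj : Function.Surjective ev := fun w => hsurj v₀ hv₀ w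
  have hfin : Finite R := Finite.of_injective ev hev_inj
  have hcardR : Nat.card R = p ^ d := by
    rw [← hcard]
    exact Nat.card_congr (Equiv.ofBijective ev ⟨hev_inj, hev_surj⟩)
  have hnt : Nontrivial R := by
    refine ⟨⟨0, 1, ?_⟩⟩
    intro h01
    apply hv₀
    have := congrArg ev h01
    simpa [ev] using this.symm
  have hdom : IsDomain R := by
    have : NoZeroDivisors R := by
      constructor
      intro r s hrs
      by_cases hs : s = 0
      · exact Or.inr hs
      · left
        obtain ⟨w, hw⟩ : ∃ w : V, (s : AddMonoid.End V) w ≠ 0 := by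
          by_contra hall
          push Not at hall
          apply hs
          apply Subtype.ext
          ext w
          exact hall w
        apply hinj _ hw r
        have : ((r * s : R) : AddMonoid.End V) w = 0 := by rw [hrs]; rfl
        exact this
    exact NoZeroDivisors.to_isDomain R
  have hchar : CharP R p := by
    have h0 : (p : R) = 0 := by
      apply Subtype.ext
      ext w
      show ((p : AddMonoid.End V)) w = 0
      rw [AddMonoid.End.natCast_apply]
      exact hexp w
    have h1 : ringChar R ∣ p := ringChar.dvd h0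
    rcases (Nat.dvd_prime hp.out).mp h1 with h | h
    · exact absurd h (CharP.ringChar_ne_one)
    · exact h ▸ ringChar.charP R
  -- the group `A` inside `R`
  obtain ⟨Φ', hΦ'⟩ : ∃ Φ' : A →* R, ∀ a, ((Φ' a : R) : AddMonoid.End V) = Φ a :=
    ⟨Φ.codRestrict R hΦR, fun a => rfl⟩
  have hΦ'inj : Function.Injective Φ' := by
    intro a b hab
    apply hΦ
    rw [← hΦ' a, ← hΦ' b, hab]
  have hcyc : IsCyclic A := isCyclic_of_injective_ringHom Φ' hΦ'inj
  obtain ⟨a₀, ha₀⟩ := IsCyclic.exists_monoid_generator (α := A)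
  obtain ⟨x, hxdef⟩ : ∃ x : R, x = Φ' a₀ := ⟨_, rfl⟩
  have hxtop : Subring.closure ({x} : Set R) = ⊤ := by
    rw [eq_top_iff]
    rintro ⟨e, he⟩ -
    have he' : e ∈ Subring.closure (Set.range Φ : Set (AddMonoid.End V)) := by rw [← hR]; exact he
    have hxval : (x : AddMonoid.End V) = Φ a₀ := by rw [hxdef, hΦ']
    have hpowx : ∀ i : ℕ, ∃ he : (Φ a₀) ^ i ∈ R,
        (⟨(Φ a₀) ^ i, he⟩ : R) ∈ Subring.closure ({x} : Set R) := by
      intro i
      induction i with
      | zero =>
        rw [pow_zero]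
        exact ⟨one_mem R, one_mem _⟩
      | succ i ih =>
        obtain ⟨h1, h2⟩ := ih
        rw [pow_succ]
        have h3 : (⟨Φ a₀, hΦR a₀⟩ : R) ∈ Subring.closure ({x} : Set R) := by
          have : (⟨Φ a₀, hΦR a₀⟩ : R) = x := Subtype.ext hxval.symm
          rw [this]
          exact Subring.subset_closure rfl
        exact ⟨mul_mem h1 (hΦR a₀), mul_mem h2 h3⟩
    have key : ∀ (e : AddMonoid.End V)
        (he' : e ∈ Subring.closure (Set.range Φ : Set (AddMonoid.End V))),
        ∃ he : e ∈ R, (⟨e, he⟩ : R) ∈ Subring.closure ({x} : Set R) := by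
      intro e he'
      induction he' using Subring.closure_induction with
      | mem y hy =>
        obtain ⟨b, rfl⟩ := hy
        obtain ⟨i, hi⟩ := ha₀ b
        have hi' : Φ b = (Φ a₀) ^ i := by
          rw [← map_pow]
          congr 1
          exact hi.symm
        rw [hi']
        exact hpowx i
      | zero => exact ⟨zero_mem R, zero_mem _⟩
      | one => exact ⟨one_mem R, one_mem _⟩
      | add y z _ _ hy hz =>
        obtain ⟨h1, h2⟩ := hy
        obtain ⟨h3, h4⟩ := hz
        exact ⟨add_mem h1 h3, add_mem h2 h4⟩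
      | neg y _ hy =>
        obtain ⟨h1, h2⟩ := hy
        exact ⟨neg_mem h1, neg_mem h2⟩
      | mul y z _ _ hy hz =>
        obtain ⟨h1, h2⟩ := hy
        obtain ⟨h3, h4⟩ := hz
        exact ⟨mul_mem h1 h3, mul_mem h2 h4⟩
    obtain ⟨_, h2⟩ := key e he'
    exact h2
  have hxm : x ^ (Nat.card A) = 1 := by
    rw [hxdef, ← map_pow, pow_card_eq_one', map_one]
  obtain ⟨hF1, hF2⟩ := finite_field_gen (R := R) p d hcardR x hxtop
  refine ⟨hcyc, ?_, ?_⟩
  · intro i hi0 hid hqi
    have hpi : 1 ≤ p ^ i := Nat.one_le_pow _ _ hp.out.pos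
    have h1 : x ^ (p ^ i) = x := by
      have h2 : p ^ i = (p ^ i - 1) + 1 := by omega
      rw [h2, pow_succ]
      obtain ⟨c, hc⟩ := hqi
      rw [hc, pow_mul, hxm, one_pow, one_mul]
    have h3 := hF1 i h1
    have := Nat.le_of_dvd hi0 h3
    omega
  · intro ψ ψ' θ h1 h2 h3
    let Γ : AddMonoid.End V →+* AddMonoid.End V :=
      { toFun := fun r => ψ * r * ψ'
        map_one' := by rw [mul_one, h2]
        map_mul' := by
          intro r s
          calc ψ * (r * s) * ψ' = ψ * r * (1 * (s * ψ')) := by rw [one_mul]; simp only [mul_assoc]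
            _ = ψ * r * ((ψ' * ψ) * (s * ψ')) := by rw [h1]
            _ = ψ * r * ψ' * (ψ * s * ψ') := by simp only [mul_assoc]
        map_zero' := by rw [mul_zero, zero_mul]
        map_add' := by
          intro r s
          rw [mul_add, add_mul] }
    have hΓR : ∀ r : R, Γ (r : AddMonoid.End V) ∈ R := by
      rintro ⟨e, he⟩
      have he' : e ∈ Subring.closure (Set.range Φ : Set (AddMonoid.End V)) := by
        rw [← hR]; exact he
      show Γ e ∈ R
      clear he
      induction he' using Subring.closure_induction with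
      | mem y hy =>
        obtain ⟨b, rfl⟩ := hy
        show ψ * Φ b * ψ' ∈ R
        rw [h3]
        exact hΦR _
      | zero => rw [map_zero]; exact zero_mem R
      | one => rw [map_one]; exact one_mem R
      | add y z _ _ hy hz => rw [map_add]; exact add_mem hy hz
      | neg y _ hy => rw [map_neg]; exact neg_mem hy
      | mul y z _ _ hy hz => rw [map_mul]; exact mul_mem hy hz
    let σ : R →+* R := (Γ.comp R.subtype).codRestrict R hΓR
    obtain ⟨j, hj⟩ := hF2 σ
    refine ⟨j, ?_⟩
    intro a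
    apply hΦ
    have h4 : ((σ (Φ' a) : R) : AddMonoid.End V) = Φ (θ a) := by
      show ψ * ((Φ' a : R) : AddMonoid.End V) * ψ' = Φ (θ a)
      rw [hΦ' a]
      exact h3 a
    have h5 : (((Φ' a) ^ (p ^ j) : R) : AddMonoid.End V) = Φ (a ^ (p ^ j)) := by
      rw [← map_pow, hΦ']
    rw [← h4, ← h5, hj]


/-- conjugation by `g` on the normal abelian subgroup `N`, as an additive endomorphism -/
noncomputable def conjEnd {G : Type*} [Group G] (N : Subgroup G) [hNn : N.Normal]
    (hNc : ∀ x ∈ N, ∀ y ∈ N, x * y = y * x) :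
    letI : CommGroup N :=
      { (inferInstance : Group N) with mul_comm := fun a b => Subtype.ext (hNc a a.2 b b.2) }
    G →* AddMonoid.End (Additive N) :=
  letI : CommGroup N :=
    { (inferInstance : Group N) with mul_comm := fun a b => Subtype.ext (hNc a a.2 b b.2) }
  { toFun := fun g =>
      { toFun := fun v => Additive.ofMul ⟨g * (v.toMul : G) * g⁻¹, hNn.conj_mem _ v.toMul.2 g⟩
        map_zero' := by
          apply Additive.toMul.injective
          apply Subtype.ext
          show g * ((1 : N) : G) * g⁻¹ = 1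
          rw [Subgroup.coe_one, mul_one, mul_inv_cancel]
        map_add' := by
          intro v w
          apply Additive.toMul.injective
          apply Subtype.ext
          show g * ((v.toMul * w.toMul : N) : G) * g⁻¹ =
            (g * (v.toMul : G) * g⁻¹) * (g * (w.toMul : G) * g⁻¹)
          rw [Subgroup.coe_mul]
          group }
    map_one' := by
      ext v
      show 1 * (v.toMul : G) * 1⁻¹ = (v.toMul : G)
      rw [one_mul, inv_one, mul_one]
    map_mul' := by
      intro g h
      ext v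
      show (g * h) * (v.toMul : G) * (g * h)⁻¹ = g * (h * (v.toMul : G) * h⁻¹) * g⁻¹
      group }

theorem conj_module_cyclic {G : Type*} [Group G] [Finite G] (p d : ℕ) [hp : Fact p.Prime]
    (N A : Subgroup G) [hNn : N.Normal]
    (hNc : ∀ x ∈ N, ∀ y ∈ N, x * y = y * x) (hNcard : Nat.card N = p ^ d)
    (hNexp : ∀ x ∈ N, x ^ p = 1)
    (hAc : ∀ x ∈ A, ∀ y ∈ A, x * y = y * x) (hA1 : A ≠ ⊥)
    (hfaith : ∀ a ∈ A, (∀ n ∈ N, a * n * a⁻¹ = n) → a = 1)
    (hgen : ∀ n ∈ N, n ≠ 1 → N ≤ Subgroup.closure {x | ∃ a ∈ A, x = a * n * a⁻¹}) :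
    IsCyclic A ∧ (∀ i : ℕ, 0 < i → i < d → ¬ Nat.card A ∣ p ^ i - 1) ∧
    ∀ h : G, (∀ a ∈ A, h * a * h⁻¹ ∈ A) → ∃ j : ℕ, ∀ a ∈ A, h * a * h⁻¹ = a ^ (p ^ j) := by
  classical
  letI : CommGroup N :=
    { (inferInstance : Group N) with mul_comm := fun a b => Subtype.ext (hNc a a.2 b b.2) }
  letI : CommGroup A :=
    { (inferInstance : Group A) with mul_comm := fun a b => Subtype.ext (hAc a a.2 b b.2) }
  have hcE : ∀ (g : G) (v : Additive N),
      ((conjEnd N hNc g v).toMul : G) = g * (v.toMul : G) * g⁻¹ := fun g v => rfl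
  let Φ : A →* AddMonoid.End (Additive N) := (conjEnd N hNc).comp A.subtype
  have hΦ : ∀ (a : A) (v : Additive N), ((Φ a v).toMul : G) = (a : G) * (v.toMul : G) * (a : G)⁻¹ :=
    fun a v => rfl
  have hΦinj : Function.Injective Φ := by
    rw [injective_iff_map_eq_one]
    intro a ha
    apply Subtype.ext
    rw [Subgroup.coe_one]
    apply hfaith a a.2
    intro n hn
    have h1 := hΦ a (Additive.ofMul ⟨n, hn⟩)
    rw [ha] at h1
    exact h1.symm
  have hnt : Nontrivial A := (Subgroup.nontrivial_iff_ne_bot A).mpr hA1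
  have hcard : Nat.card (Additive N) = p ^ d := hNcard
  have hexp : ∀ v : Additive N, p • v = 0 := by
    intro v
    apply Additive.toMul.injective
    apply Subtype.ext
    show (((v.toMul) ^ p : N) : G) = 1
    rw [Subgroup.coe_pow]
    exact hNexp _ v.toMul.2
  have hgen' : ∀ v : Additive N, v ≠ 0 →
      AddSubgroup.closure (Set.range fun a : A => Φ a v) = ⊤ := by
    intro v hv
    have hn1 : (v.toMul : G) ≠ 1 := by
      intro h
      apply hv
      apply Additive.toMul.injective
      apply Subtype.ext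
      exact h
    have hle := hgen _ v.toMul.2 hn1
    rw [eq_top_iff]
    intro w _
    have key : ∀ g : G, g ∈ Subgroup.closure {x | ∃ a ∈ A, x = a * (v.toMul : G) * a⁻¹} →
        ∃ hg : g ∈ N, Additive.ofMul (⟨g, hg⟩ : N) ∈
          AddSubgroup.closure (Set.range fun a : A => Φ a v) := by
      intro g hg
      induction hg using Subgroup.closure_induction with
      | mem y hy =>
        obtain ⟨a, ha, rfl⟩ := hy
        refine ⟨hNn.conj_mem _ v.toMul.2 a, ?_⟩
        apply AddSubgroup.subset_closure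
        exact ⟨⟨a, ha⟩, rfl⟩
      | one => exact ⟨one_mem N, zero_mem _⟩
      | mul y z _ _ hy hz =>
        obtain ⟨h1, h2⟩ := hy
        obtain ⟨h3, h4⟩ := hz
        exact ⟨mul_mem h1 h3, add_mem h2 h4⟩
      | inv y _ hy =>
        obtain ⟨h1, h2⟩ := hy
        exact ⟨inv_mem h1, neg_mem h2⟩
    obtain ⟨_, h2⟩ := key _ (hle w.toMul.2)
    exact h2
  obtain ⟨hc, hI, hII⟩ := end_ring_gen p d hcard hexp Φ hΦinj hnt hgen'
  refine ⟨hc, hI, ?_⟩
  intro h hh
  have h1 : conjEnd N hNc h⁻¹ * conjEnd N hNc h = 1 := by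
    rw [← map_mul, inv_mul_cancel, map_one]
  have h2 : conjEnd N hNc h * conjEnd N hNc h⁻¹ = 1 := by
    rw [← map_mul, mul_inv_cancel, map_one]
  obtain ⟨j, hj⟩ := hII (conjEnd N hNc h) (conjEnd N hNc h⁻¹)
    (fun a => ⟨h * (a : G) * h⁻¹, hh a a.2⟩) h1 h2 (by
      intro a
      show conjEnd N hNc h * conjEnd N hNc (a : G) * conjEnd N hNc h⁻¹ =
        conjEnd N hNc (h * (a : G) * h⁻¹)
      rw [← map_mul, ← map_mul])
  refine ⟨j, ?_⟩
  intro a ha
  have := hj ⟨a, ha⟩
  exact congrArg Subtype.val this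

end Cfsg.Agent.Lib.Helper63
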