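import Cfsg.Agent.Lib.Helper37.G2InvDefs
import Cfsg.Agent.Lib.Helper81.G2InvI1
import Cfsg.Agent.Lib.Helper26.G2InvC2

/-!
# K-G2I pack (S2177), LEAF B2b: an involution `x8(s) z`, `s ≠ 0`, of `U ≤ G₂(q)`, `q` even, is conjugate
to `x9(1)`.
-/

set_option autoImplicit false
set_option linter.unusedSectionVars false
set_option linter.unusedVariables false

namespace Cfsg.Agent.Lib.Helper63.G2Inv

open Cfsg.Agent.Lib.Helper37.G2Inv

variable {F : Type*} [Field F] [CharP F 2] {G : Type*} [Group G] (D : UData F G)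

theorem b2b_conj_mul (g a b : G) : g * (a * b) * g⁻¹ = (g * a * g⁻¹) * (g * b * g⁻¹) := by group

theorem b2b_conj_of_comm {g a : G} (h : g * a = a * g) : g * a * g⁻¹ = a := by
  rw [h, mul_assoc, mul_inv_cancel, mul_one]

/-- `x9(c)` acting on `x8(s)` -/
theorem b2b_c98 (c s : F) : D.x 9 c * D.x 8 s * (D.x 9 c)⁻¹ = D.x 8 s * D.x 11 (c * s) := by
  rw [D.r89 s c, mul_assoc (D.x 8 s * D.x 9 c), mul_assoc (D.x 8 s)]
  congr 1
  rw [← mul_assoc, D.c911 c (s * c), mul_assoc, mul_inv_cancel, mul_one, mul_comm s c]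

/-- `x9(c)` acting on `x8(s) x10(b) x11(g)` -/
theorem b2b_step9 (c s b g : F) :
    D.x 9 c * (D.x 8 s * (D.x 10 b * D.x 11 g)) * (D.x 9 c)⁻¹ =
      D.x 8 s * (D.x 10 b * D.x 11 (c * s + g)) := by
  rw [b2b_conj_mul, b2b_conj_mul, b2b_c98, b2b_conj_of_comm (D.c910 c b), b2b_conj_of_comm (D.c911 c g)]
  rw [mul_assoc, ← mul_assoc (D.x 11 (c * s)), ← D.c1011 b (c * s), mul_assoc (D.x 10 b), D.add]

/-- `x7(c)` acting on `x8(s) x10(b) x11(g)` -/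
theorem b2b_step7 (c s b g : F) :
    D.x 7 c * (D.x 8 s * (D.x 10 b * D.x 11 g)) * (D.x 7 c)⁻¹ =
      D.x 8 s * (D.x 10 (c ^ 2 * s + b) * D.x 11 (c * s ^ 2 + g)) := by
  rw [b2b_conj_mul, b2b_conj_mul, Cfsg.Agent.Lib.Helper26.G2Inv.c78, b2b_conj_of_comm (D.c710 c b),
    b2b_conj_of_comm (D.c711 c g)]
  rw [mul_assoc (D.x 8 s)]
  congr 1
  rw [mul_assoc, ← mul_assoc (D.x 11 (c * s ^ 2)), ← D.c1011 b (c * s ^ 2), mul_assoc (D.x 10 b),
    D.add, ← mul_assoc, D.add]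

theorem good_8z (s α β γ : F) (hs : s ≠ 0)
    (h : D.x 8 s * D.z α β γ * (D.x 8 s * D.z α β γ) = 1) : D.Good (D.x 8 s * D.z α β γ) := by
  have hα : α = 0 := by
    have h1 := Cfsg.Agent.Lib.Helper81.G2Inv.inv8z D s α β γ h
    rcases mul_eq_zero.mp h1 with h2 | h2
    · exact absurd h2 hs
    · exact h2
  subst hα
  have e0 : D.x 8 s * D.z 0 β γ = D.x 8 s * (D.x 10 β * D.x 11 γ) := by
    unfold UData.z
    rw [D.x_zero, one_mul]
  rw [e0]
  -- step 1: conjugate by x9(γ/s)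
  apply D.good_of_conj (D.x 9 (γ / s))
  rw [b2b_step9]
  have e1 : γ / s * s + γ = 0 := by
    rw [div_mul_cancel₀ γ hs, CharTwo.add_self_eq_zero]
  rw [e1]
  -- step 2: conjugate by x7(c), c^2 = β/s
  obtain ⟨c, hc⟩ := D.sqrt (β / s)
  apply D.good_of_conj (D.x 7 c)
  rw [b2b_step7]
  have e2 : c ^ 2 * s + β = 0 := by
    rw [pow_two, hc, div_mul_cancel₀ β hs, CharTwo.add_self_eq_zero]
  rw [e2, add_zero]
  -- step 3: conjugate by x9(c s)
  apply D.good_of_conj (D.x 9 (c * s))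
  rw [b2b_step9]
  have e3 : c * s * s + c * s ^ 2 = 0 := by
    rw [pow_two, ← mul_assoc, CharTwo.add_self_eq_zero]
  rw [e3, D.x_zero, D.x_zero, one_mul, mul_one]
  -- step 4: w8_9 and torus9
  obtain ⟨g, hg⟩ := D.w8_9 s
  apply D.good_of_conj g
  rw [hg]
  obtain ⟨g', hg'⟩ := D.torus9 s hs
  exact ⟨g', Or.inr hg'⟩

end Cfsg.Agent.Lib.Helper63.G2Inv
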