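import Mathlib
import Cfsg.Agent.S0494
import Cfsg.Agent.Lib.Helper62.Small120
import Cfsg.Agent.Lib.Helper67.FC91S5
import Cfsg.Agent.Lib.Helper06.SimpleAux
import Cfsg.Agent.Lib.Helper72.G42Defs
import Cfsg.Agent.Lib.Helper84.G42L4

set_option autoImplicit false
set_option linter.style.haveILetI false

namespace Cfsg.Agent.Lib.Helper63.G42

universe u

theorem mulEquiv_of_injective_of_card {X Y : Type*} [Group X] [Group Y] [Finite Y]
    (f : X →* Y) (hf : Function.Injective f) (hc : Nat.card Y ≤ Nat.card X) : Nonempty (X ≃* Y) := by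
  haveI : Finite X := Finite.of_injective f hf
  exact ⟨MulEquiv.ofBijective f (hf.bijective_of_nat_card_le hc)⟩

theorem card_alt6 : Nat.card (alternatingGroup (Fin 6)) = 360 := by
  have := two_mul_nat_card_alternatingGroup (α := Fin 6)
  rw [Nat.card_perm, Nat.card_eq_fintype_card (α := Fin 6), Fintype.card_fin] at this
  have h6 : Nat.factorial 6 = 720 := by decide
  omega

theorem card_perm6 : Nat.card (Equiv.Perm (Fin 6)) = 720 := by
  rw [Nat.card_perm, Nat.card_eq_fintype_card (α := Fin 6), Fintype.card_fin]
  decide

/-- A non-solvable group without nontrivial solvable normal subgroups which embeds in `S_6`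
is `A_6`, `S_6`, `A_5` or `S_5`. -/
theorem sub_sym_six {X : Type u} [Group X] [Finite X] (f : X →* Equiv.Perm (Fin 6))
    (hf : Function.Injective f) (hns : ¬ Group.IsSolvable X)
    (hb : ∀ M : Subgroup X, M.Normal → Group.IsSolvable M → M = ⊥) :
    Nonempty (X ≃* alternatingGroup (Fin 6)) ∨ Nonempty (X ≃* Equiv.Perm (Fin 6)) ∨
      Nonempty (X ≃* alternatingGroup (Fin 5)) ∨ Nonempty (X ≃* Equiv.Perm (Fin 5)) := by
  classical
  set g : X →* ℤˣ := Equiv.Perm.sign.comp f with hg
  set Xp : Subgroup X := g.ker with hXp
  haveI hXpn : Xp.Normal := MonoidHom.normal_ker g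
  -- index of Xp divides 2
  have hidx : Xp.index ∣ 2 := by
    rw [hXp, Subgroup.index_ker]
    have := Subgroup.card_subgroup_dvd_card g.range
    rwa [Nat.card_eq_fintype_card (α := ℤˣ), Fintype.card_units_int] at this
  have hidx12 : Xp.index = 1 ∨ Xp.index = 2 := (Nat.dvd_prime Nat.prime_two).mp hidx
  have hcardX : Nat.card Xp * Xp.index = Nat.card X := Xp.card_mul_index
  -- Xp is not solvable
  have hXpns : ¬ Group.IsSolvable Xp := by
    intro hs
    apply hns
    haveI := hs
    refine Group.isSolvable_of_ker_le_range Xp.subtype g ?_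
    rw [Subgroup.range_subtype]
  -- the embedding of Xp into A_6
  let fp : Xp →* alternatingGroup (Fin 6) :=
    MonoidHom.codRestrict (f.comp Xp.subtype) (alternatingGroup (Fin 6)) (fun x => by
      rw [Equiv.Perm.mem_alternatingGroup]
      exact MonoidHom.mem_ker.mp (show (x : X) ∈ g.ker from x.2))
  have hfp : Function.Injective fp := by
    intro a b hab
    have h1 : f a = f b := congrArg Subtype.val hab
    exact Subtype.ext (hf h1)
  set R : Subgroup (alternatingGroup (Fin 6)) := fp.range with hR
  have hRcard : Nat.card R = Nat.card Xp :=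
    (Nat.card_congr (MonoidHom.ofInjective hfp).toEquiv).symm
  haveI hsimp6 : IsSimpleGroup (alternatingGroup (Fin 6)) :=
    alternatingGroup.isSimpleGroup (by rw [Nat.card_eq_fintype_card, Fintype.card_fin]; norm_num)
  have hXp60 : 60 ≤ Nat.card Xp := by
    by_contra hlt
    push Not at hlt
    exact hXpns (Cfsg.Agent.Lib.Helper62.Small120.solvable_of_card_lt_sixty _ hlt Xp rfl)
  by_cases hRtop : R = ⊤
  · -- Xp has order 360
    have hXp360 : Nat.card Xp = 360 := by
      rw [← hRcard, hRtop, Subgroup.card_top, card_alt6]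
    rcases hidx12 with h1 | h2
    · left
      -- X = Xp maps into A_6
      have hXptop : Xp = ⊤ := Subgroup.index_eq_one.mp h1
      let f' : X →* alternatingGroup (Fin 6) :=
        MonoidHom.codRestrict f (alternatingGroup (Fin 6)) (fun x => by
          rw [Equiv.Perm.mem_alternatingGroup]
          have : x ∈ Xp := by rw [hXptop]; exact Subgroup.mem_top x
          exact MonoidHom.mem_ker.mp (show x ∈ g.ker from this))
      have hf' : Function.Injective f' := by
        intro a b hab
        exact hf (congrArg Subtype.val hab)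
      apply mulEquiv_of_injective_of_card f' hf'
      rw [card_alt6, ← hcardX, hXp360, h1]
    · right; left
      apply mulEquiv_of_injective_of_card f hf
      rw [card_perm6, ← hcardX, hXp360, h2]
  · -- R is a proper subgroup of A_6: order at most 60
    right; right
    have h1 := Cfsg.Agent.Lib.Helper06.card_le_factorial_index R hRtop
    rw [card_alt6] at h1
    have hRidx : 6 ≤ R.index := by
      by_contra hlt
      push Not at hlt
      have : (R.index).factorial ≤ (5).factorial := Nat.factorial_le (by omega)
      have h5 : (5).factorial = 120 := by decide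
      omega
    have hRmul : Nat.card R * R.index = 360 := by rw [R.card_mul_index, card_alt6]
    have hXple : Nat.card Xp ≤ 60 := by
      rw [← hRcard]
      by_contra hgt
      push Not at hgt
      have : 61 * 6 ≤ Nat.card R * R.index := Nat.mul_le_mul hgt hRidx
      omega
    have hXp60' : Nat.card Xp = 60 := le_antisymm hXple hXp60
    haveI hXpsimple : IsSimpleGroup Xp :=
      Cfsg.Agent.Lib.Helper62.Small120.isSimpleGroup_of_card_sixty hXp60' hXpns
    obtain ⟨e⟩ := Cfsg.Agent.S0494.result (G := Xp) hXp60'
    rcases hidx12 with h1 | h2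
    · left
      have hXptop : Xp = ⊤ := Subgroup.index_eq_one.mp h1
      exact ⟨(Subgroup.topEquiv.symm.trans (MulEquiv.subgroupCongr hXptop.symm)).trans e⟩
    · right
      have h120 : Nat.card X = 120 := by rw [← hcardX, hXp60', h2]
      -- centralizer of Xp is trivial
      have hC : Subgroup.centralizer (Xp : Set X) = ⊥ := by
        apply hb
        · infer_instance
        · -- the centralizer embeds in ℤˣ via g
          have hinj : Function.Injective (g.comp (Subgroup.centralizer (Xp : Set X)).subtype) := by
            rw [injective_iff_map_eq_one]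
            intro c hc
            have hcXp : (c : X) ∈ Xp := (MonoidHom.mem_ker (f := g)).mpr hc
            -- c is central in Xp
            have hcen : (⟨c, hcXp⟩ : Xp) ∈ Subgroup.center Xp := by
              rw [Subgroup.mem_center_iff]
              intro y
              apply Subtype.ext
              have := c.2
              rw [Subgroup.mem_centralizer_iff] at this
              exact this y y.2
            have hcenter : Subgroup.center Xp = ⊥ := by
              rcases (inferInstance : (Subgroup.center Xp).Normal).eq_bot_or_eq_top with h | h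
              · exact h
              · exfalso
                apply hXpns
                have hcomm : ∀ a b : Xp, a * b = b * a := by
                  intro a b
                  have : b ∈ Subgroup.center Xp := by rw [h]; exact Subgroup.mem_top b
                  rw [Subgroup.mem_center_iff] at this
                  exact this a
                exact Group.isSolvable_of_comm hcomm
            rw [hcenter, Subgroup.mem_bot] at hcen
            apply Subtype.ext
            exact congrArg (fun z : Xp => (z : X)) hcen
          exact Group.isSolvable_of_isSolvable_injective hinj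
      exact Cfsg.Agent.Lib.Helper67.FC91.equiv_perm_five Xp e h120 hC


open Cfsg.Agent.Lib.Helper72.G42

/-- `K` is not solvable. -/
theorem not_solvable_K {K N : Subgroup (Equiv.Perm (Fin 8))} {Δ : Finset (Fin 8)} (h : Cfg K N Δ) :
    ¬ Group.IsSolvable ↥K := by
  intro hs
  have hKbot : K = ⊥ := h.hsolv K le_rfl
    (fun k hk m hm => K.mul_mem (K.mul_mem hk hm) (K.inv_mem hk)) hs
  apply h.hN1
  rw [eq_bot_iff, ← hKbot]
  exact h.hNK

/-- `K` has no nontrivial solvable normal subgroup. -/
theorem no_solv_normal_K {K N : Subgroup (Equiv.Perm (Fin 8))} {Δ : Finset (Fin 8)} (h : Cfg K N Δ)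
    (M : Subgroup ↥K) (hM : M.Normal) (hs : Group.IsSolvable ↥M) : M = ⊥ := by
  have h1 : M.map K.subtype = ⊥ := by
    apply h.hsolv
    · exact Subgroup.map_subtype_le M
    · intro k hk m hm
      obtain ⟨m0, hm0, rfl⟩ := Subgroup.mem_map.mp hm
      refine Subgroup.mem_map.mpr ⟨⟨k, hk⟩ * m0 * ⟨k, hk⟩⁻¹, hM.conj_mem m0 hm0 ⟨k, hk⟩, ?_⟩
      simp
    · have e : ↥M ≃* ↥(M.map K.subtype) := M.equivMapOfInjective K.subtype K.subtype_injective
      exact Group.isSolvable_of_isSolvable_injective (f := e.symm.toMonoidHom) e.symm.injective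
  exact (Subgroup.map_eq_bot_iff_of_injective M K.subtype_injective).mp h1

/-- the embedding of `K` into `S_6`. -/
theorem exists_hom_six {K N : Subgroup (Equiv.Perm (Fin 8))} {Δ : Finset (Fin 8)} (h : Cfg K N Δ)
    (h6 : Δ.card = 6) : ∃ f : ↥K →* Equiv.Perm (Fin 6), Function.Injective f := by
  classical
  obtain ⟨hpres, hfaith⟩ := Cfsg.Agent.Lib.Helper84.G42.faithful_on h
  have hsm : ∀ (k : ↥K) (x : Fin 8), k • x = (k : Equiv.Perm (Fin 8)) x := fun k x => rfl
  let S : SubMulAction ↥K (Fin 8) :=
    { carrier := (Δ : Set (Fin 8))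
      smul_mem' := fun k x hx => by
        have : (k : Equiv.Perm (Fin 8)) x ∈ Δ := hpres k.1 k.2 x (by simpa using hx)
        rw [hsm]
        exact Finset.mem_coe.mpr this }
  have hScard : Nat.card S = 6 := by
    have : Nat.card S = Nat.card ((Δ : Set (Fin 8))) := rfl
    rw [this, Nat.card_coe_set_eq, Set.ncard_coe_finset, h6]
  haveI : Finite S := Nat.finite_of_card_ne_zero (by rw [hScard]; norm_num)
  let e : S ≃ Fin 6 := Finite.equivFinOfCardEq hScard
  refine ⟨e.permCongrHom.toMonoidHom.comp (MulAction.toPermHom ↥K S), ?_⟩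
  rw [injective_iff_map_eq_one]
  intro k hk
  have hk1 : MulAction.toPermHom ↥K S k = 1 := by
    have := e.permCongrHom.injective (a₁ := MulAction.toPermHom ↥K S k) (a₂ := 1)
    apply this
    rw [map_one]
    exact hk
  have hfix : ∀ x ∈ Δ, (k : Equiv.Perm (Fin 8)) x = x := by
    intro x hx
    have hxS : x ∈ S := by
      show x ∈ (Δ : Set (Fin 8))
      simpa using hx
    have := congrArg (fun σ : Equiv.Perm S => ((σ ⟨x, hxS⟩ : S) : Fin 8)) hk1
    rw [← hsm]
    simpa using this
  have := hfaith k.1 k.2 hfix
  exact Subtype.ext this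

/-- 255307 L6: `|Δ| = 6`. -/
theorem case6 {K N : Subgroup (Equiv.Perm (Fin 8))} {Δ : Finset (Fin 8)} (h : Cfg K N Δ) (h6 : Δ.card = 6) :
    Nonempty (↥K ≃* ↥(alternatingGroup (Fin 6))) ∨ Nonempty (↥K ≃* Equiv.Perm (Fin 6)) ∨
      Nonempty (↥K ≃* ↥(alternatingGroup (Fin 5))) ∨ Nonempty (↥K ≃* Equiv.Perm (Fin 5)) := by
  obtain ⟨f, hf⟩ := exists_hom_six h h6
  exact sub_sym_six f hf (not_solvable_K h) (no_solv_normal_K h)

end Cfsg.Agent.Lib.Helper63.G42
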