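import Cfsg.Agent.Lib.Helper76.J1Tools

/-!
# No simple group of order 7980 under `HMin` (keystone K-S4274-7980)
-/

set_option autoImplicit false

namespace Cfsg.Agent.Lib.Helper63.J1

open Cfsg.Agent.Lib.Helper76.J1 Subgroup

theorem no_simple_7980 {G : Type*} [Group G] [Finite G] [IsSimpleGroup G]
    (hcard : Nat.card G = 7980) (h19 : Nat.card (Sylow 19 G) = 210) (hmin : HMin G) : False := by
  haveI : Fact (Nat.Prime 19) := ⟨by norm_num⟩
  haveI : Fact (Nat.Prime 5) := ⟨by norm_num⟩
  haveI : Fact (Nat.Prime 7) := ⟨by norm_num⟩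
  -- Sylow subgroups have prime order
  have hS19 : ∀ S : Sylow 19 G, Nat.card ↥(S : Subgroup G) = 19 := fun S =>
    card_sylow_eq_prime hcard (by norm_num) (by norm_num) S
  have hS5 : ∀ S : Sylow 5 G, Nat.card ↥(S : Subgroup G) = 5 := fun S =>
    card_sylow_eq_prime hcard (by norm_num) (by norm_num) S
  have hS7 : ∀ S : Sylow 7 G, Nat.card ↥(S : Subgroup G) = 7 := fun S =>
    card_sylow_eq_prime hcard (by norm_num) (by norm_num) S
  obtain ⟨P⟩ : Nonempty (Sylow 19 G) := inferInstance
  obtain ⟨S5⟩ : Nonempty (Sylow 5 G) := inferInstance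
  obtain ⟨S7⟩ : Nonempty (Sylow 7 G) := inferInstance
  -- p = 19
  have hN19 : Nat.card ↥(normalizer ((P : Subgroup G) : Set G)) = 38 := by
    rw [card_normalizer_eq_div hcard P, h19]
  have hC19 : Nat.card ↥(centralizer ((P : Subgroup G) : Set G)) = 19 * 1 := by
    obtain ⟨e, c, he1, he2, hc, hce⟩ := exists_relIndex hcard (p := 19) (by norm_num)
      (by norm_num) (by norm_num) P
    rw [h19] at hce
    have hce' : c * e = 2 := by
      have : 19 * (c * e) = 19 * 2 := by rw [← mul_assoc, hce]
      exact Nat.eq_of_mul_eq_mul_left (by norm_num) this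
    have hc1 : c = 1 := by
      have hcd : c ∣ 2 := Dvd.intro _ hce'
      rcases (Nat.dvd_prime Nat.prime_two).mp hcd with h | h
      · exact h
      · exfalso
        rw [h] at hce'
        apply he2
        omega
    rw [hc, hc1]
  -- p = 5
  have h5list : validList 7980 5 = [21, 266] := by decide +kernel
  have hn5mem := card_sylow_mem_validList (G := G) hcard (p := 5) (by norm_num) (by norm_num)
    (by norm_num) (by norm_num)
  have h19n5 : 19 ∣ Nat.card (Sylow 5 G) :=
    dvd_card_sylow_of_hmin hmin P (r := 5) (by rw [hcard]; norm_num) (by rw [hN19]; norm_num)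
  have hn5 : Nat.card (Sylow 5 G) = 266 := by
    rw [h5list] at hn5mem
    simp only [List.mem_cons, List.mem_nil_iff, or_false] at hn5mem
    rcases hn5mem with h | h
    · rw [h] at h19n5
      norm_num at h19n5
    · exact h
  have hC5 : Nat.card ↥(centralizer ((S5 : Subgroup G) : Set G)) = 5 * 3 := by
    obtain ⟨e, c, he1, he2, hc, hce⟩ := exists_relIndex hcard (p := 5) (by norm_num)
      (by norm_num) (by norm_num) S5
    rw [hn5] at hce
    have hce' : c * e = 6 := by
      have : 5 * (c * e) = 5 * 6 := by rw [← mul_assoc, hce]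
      exact Nat.eq_of_mul_eq_mul_left (by norm_num) this
    have he4 : e ∣ 4 := he1
    have he : e = 2 := by
      have hle : e ≤ 4 := Nat.le_of_dvd (by norm_num) he4
      have hed : e ∣ 6 := Dvd.intro_left _ hce'
      interval_cases e
      · simp at he4
      · exact absurd rfl he2
      · rfl
      · norm_num at he4
      · norm_num at hed
    have hc3 : c = 3 := by
      rw [he] at hce'
      omega
    rw [hc, hc3]
  have hC5all : ∀ S : Sylow 5 G, Nat.card ↥(centralizer ((S : Subgroup G) : Set G)) = 5 * 3 :=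
    fun S => (card_centralizer_sylow_eq S S5).trans hC5
  have hC19all : ∀ S : Sylow 19 G,
      Nat.card ↥(centralizer ((S : Subgroup G) : Set G)) = 19 * 1 :=
    fun S => (card_centralizer_sylow_eq S P).trans hC19
  -- p = 7
  have h7list : validList 7980 7 = [57, 190] := by decide +kernel
  have hn7mem := card_sylow_mem_validList (G := G) hcard (p := 7) (by norm_num) (by norm_num)
    (by norm_num) (by norm_num)
  have hn7 : Nat.card (Sylow 7 G) = 190 := by
    rw [h7list] at hn7mem
    simp only [List.mem_cons, List.mem_nil_iff, or_false] at hn7mem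
    rcases hn7mem with h | h
    · exfalso
      have hN7 : Nat.card ↥(normalizer ((S7 : Subgroup G) : Set G)) = 140 := by
        rw [card_normalizer_eq_div hcard S7, h]
      have h5C : 5 ∣ Nat.card ↥(centralizer ((S7 : Subgroup G) : Set G)) :=
        dvd_card_centralizer_of_dvd_card_normalizer (p := 7) (q := 5) (by norm_num) S7 (hS7 S7)
          (by rw [hN7]; norm_num) (by norm_num)
      have h7C := cross (p := 7) (q := 5) hS7 hS5 S7 h5C S5
      rw [hC5] at h7C
      norm_num at h7C
    · exact h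
  obtain ⟨c7, hc7pos, hC7⟩ : ∃ c7 : ℕ, 1 ≤ c7 ∧
      Nat.card ↥(centralizer ((S7 : Subgroup G) : Set G)) = 7 * c7 := by
    obtain ⟨e, c, he1, he2, hc, hce⟩ := exists_relIndex hcard (p := 7) (by norm_num)
      (by norm_num) (by norm_num) S7
    refine ⟨c, ?_, hc⟩
    rw [hn7] at hce
    rcases Nat.eq_zero_or_pos c with h | h
    · rw [h] at hce
      norm_num at hce
    · exact h
  have hC7all : ∀ S : Sylow 7 G, Nat.card ↥(centralizer ((S : Subgroup G) : Set G)) = 7 * c7 :=
    fun S => (card_centralizer_sylow_eq S S7).trans hC7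
  -- counting
  have hA19 := card_dvd_orderOf_ge (G := G) (p := 19) (c := 1) hS19 hC19all
  have hA5 := card_dvd_orderOf_ge (G := G) (p := 5) (c := 3) hS5 hC5all
  have hA7 := card_dvd_orderOf_ge (G := G) (p := 7) (c := c7) hS7 hC7all
  rw [h19] at hA19
  rw [hn5] at hA5
  rw [hn7] at hA7
  have hA7' : 1140 ≤ Nat.card {x : G // 7 ∣ orderOf x} := by
    refine le_trans ?_ hA7
    calc 1140 = 190 * ((7 - 1) * 1) := by norm_num
      _ ≤ 190 * ((7 - 1) * c7) := Nat.mul_le_mul_left _ (Nat.mul_le_mul_left _ hc7pos)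
  have hd1 : ∀ x : G, 19 ∣ orderOf x → ¬ 5 ∣ orderOf x := fun x hx =>
    not_dvd_orderOf_of_not_dvd_card_centralizer (p := 19) (q := 5) (by norm_num) hS19 P
      (by rw [hC19]; norm_num) x hx
  have hd2 : ∀ x : G, 19 ∣ orderOf x → ¬ 7 ∣ orderOf x := fun x hx =>
    not_dvd_orderOf_of_not_dvd_card_centralizer (p := 19) (q := 7) (by norm_num) hS19 P
      (by rw [hC19]; norm_num) x hx
  have hd3 : ∀ x : G, 5 ∣ orderOf x → ¬ 7 ∣ orderOf x := fun x hx =>
    not_dvd_orderOf_of_not_dvd_card_centralizer (p := 5) (q := 7) (by norm_num) hS5 S5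
      (by rw [hC5]; norm_num) x hx
  have hsum := card_add3_le_of_disjoint (G := G) (fun x => 19 ∣ orderOf x)
    (fun x => 5 ∣ orderOf x) (fun x => 7 ∣ orderOf x) hd1 hd2 hd3
  rw [hcard] at hsum
  norm_num at hA19 hA5
  omega

end Cfsg.Agent.Lib.Helper63.J1
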