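import Mathlib

/-!
# K-LC-A2bis (keystone 640607, architect helper94): a self-orthogonal binary code of dimension 12
and length 24 is self-dual.
-/

set_option autoImplicit false

namespace Cfsg.Agent.Lib.Helper63.LC

open Module

/-- the dot product form is nondegenerate -/
theorem dot_nondegenerate (K : Type*) [Field K] (n : ℕ) :
    (Matrix.toBilin' (1 : Matrix (Fin n) (Fin n) K)).Nondegenerate :=
  LinearMap.BilinForm.nondegenerate_toBilin'_of_det_ne_zero' 1 (by rw [Matrix.det_one]; exact one_ne_zero)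

/-- self-dual: LEAF A2 bis (640607).  `C ≤ C^⊥`, `dim C^⊥ = 24 - 12 = 12`, so `C^⊥ = C`. -/
theorem mem_of_orth (C : Submodule (ZMod 2) (Fin 24 → ZMod 2))
    (hdim : Module.finrank (ZMod 2) C = 12)
    (horth : ∀ v ∈ C, ∀ w ∈ C, ∑ i, v i * w i = 0) (c : Fin 24 → ZMod 2)
    (hc : ∀ w ∈ C, ∑ i, c i * w i = 0) : c ∈ C := by
  classical
  obtain ⟨B, hB⟩ : ∃ B : LinearMap.BilinForm (ZMod 2) (Fin 24 → ZMod 2),
      B = Matrix.toBilin' (1 : Matrix (Fin 24) (Fin 24) (ZMod 2)) := ⟨_, rfl⟩
  have hBa : ∀ v w : Fin 24 → ZMod 2, B v w = ∑ i, v i * w i := by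
    intro v w
    rw [hB, Matrix.toBilin'_apply', Matrix.one_mulVec]
    rfl
  have hnd : B.Nondegenerate := by rw [hB]; exact dot_nondegenerate (ZMod 2) 24
  have hfr := LinearMap.BilinForm.finrank_orthogonal hnd C
  rw [hdim, Module.finrank_fin_fun] at hfr
  have hle : C ≤ B.orthogonal C := by
    intro v hv
    rw [LinearMap.BilinForm.mem_orthogonal_iff]
    intro n hn
    change B n v = 0
    rw [hBa]
    exact horth n hn v hv
  have heq : C = B.orthogonal C :=
    Submodule.eq_of_le_of_finrank_eq hle (by rw [hdim, hfr])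
  rw [heq, LinearMap.BilinForm.mem_orthogonal_iff]
  intro n hn
  change B n c = 0
  rw [hBa]
  have := hc n hn
  rw [← this]
  exact Finset.sum_congr rfl (fun i _ => mul_comm _ _)

end Cfsg.Agent.Lib.Helper63.LC
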