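import Mathlib

set_option autoImplicit false

/-!
# Unit-resolving weights on a finite poset

For a finite set `X` in a partial order, `nu X` is the unique function with
`∑ y ∈ X, x ≤ y, nu X y = 1` for all `x ∈ X` (it is `y ↦ ∑_{z ≥ y} μ(y,z)`).
A retraction lemma compares `nu X` and `nu Y`.
-/

namespace Cfsg.Agent.Lib.Helper63.MobiusWeight

open Classical

variable {α : Type*} [PartialOrder α]

/-- the weight: `nu X x = 1 - ∑_{y ∈ X, x < y} nu X y`. -/
noncomputable def nu (X : Finset α) (x : α) : ℤ :=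
  1 - ∑ y ∈ (X.filter (fun y => x < y)).attach, nu X y.1
termination_by (X.filter (fun y => x < y)).card
decreasing_by
  have hy := y.2
  rw [Finset.mem_filter] at hy
  apply Finset.card_lt_card
  rw [Finset.ssubset_iff_of_subset]
  · exact ⟨y.1, Finset.mem_filter.2 hy, fun h => lt_irrefl _ (Finset.mem_filter.1 h).2⟩
  · intro z hz
    rw [Finset.mem_filter] at hz ⊢
    exact ⟨hz.1, hy.2.trans hz.2⟩

theorem nu_eq (X : Finset α) (x : α) :
    nu X x = 1 - ∑ y ∈ X.filter (fun y => x < y), nu X y := by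
  rw [nu, Finset.sum_attach (X.filter (fun y => x < y)) (fun y => nu X y)]

theorem nu_sum (X : Finset α) {x : α} (hx : x ∈ X) :
    ∑ y ∈ X.filter (fun y => x ≤ y), nu X y = 1 := by
  have h1 : X.filter (fun y => x ≤ y) = insert x (X.filter (fun y => x < y)) := by
    ext y
    simp only [Finset.mem_filter, Finset.mem_insert]
    constructor
    · rintro ⟨hy, hxy⟩
      rcases eq_or_lt_of_le hxy with h | h
      · exact Or.inl h.symm
      · exact Or.inr ⟨hy, h⟩
    · rintro (rfl | ⟨hy, h⟩)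
      · exact ⟨hx, le_rfl⟩
      · exact ⟨hy, h.le⟩
  rw [h1, Finset.sum_insert (by simp), nu_eq X x]
  ring

/-- uniqueness: a function satisfying the recursion on an up-closed part of `X` equals `nu X` there. -/
theorem nu_unique (X : Finset α) (f : α → ℤ) (P : α → Prop)
    (hP : ∀ z w, P z → w ∈ X → z < w → P w)
    (hf : ∀ z, P z → f z = 1 - ∑ w ∈ X.filter (fun w => z < w), f w) :
    ∀ z, P z → f z = nu X z := by
  have key : ∀ n : ℕ, ∀ z, (X.filter (fun w => z < w)).card = n → P z → f z = nu X z := by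
    intro n
    induction n using Nat.strong_induction_on with
    | _ n ih =>
      intro z hn hz
      rw [hf z hz, nu_eq X z]
      congr 1
      apply Finset.sum_congr rfl
      intro w hw
      rw [Finset.mem_filter] at hw
      apply ih _ _ w rfl (hP z w hz hw.1 hw.2)
      rw [← hn]
      apply Finset.card_lt_card
      rw [Finset.ssubset_iff_of_subset]
      · exact ⟨w, Finset.mem_filter.2 hw, fun h => lt_irrefl _ (Finset.mem_filter.1 h).2⟩
      · intro v hv
        rw [Finset.mem_filter] at hv ⊢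
        exact ⟨hv.1, hw.2.trans hv.2⟩
  intro z hz
  exact key _ z rfl hz

/-- Retraction lemma. -/
theorem nu_retract (X Y : Finset α) (x₀ : α) (r : α → α)
    (hx₀X : x₀ ∈ X) (hx₀Y : x₀ ∈ Y)
    (h1 : ∀ y ∈ X, x₀ ≤ y → r y ∈ Y ∧ x₀ ≤ r y ∧ r y ≤ y)
    (h2 : ∀ y ∈ X, ∀ y' ∈ X, x₀ ≤ y → y ≤ y' → r y ≤ r y')
    (h3 : ∀ z ∈ Y, x₀ ≤ z → z ∈ X ∧ r z = z)
    (h4 : ∀ y ∈ X, x₀ ≤ y → r y = x₀ → y = x₀) :
    nu X x₀ = nu Y x₀ := by
  set f : α → ℤ := fun z => ∑ y ∈ X.filter (fun y => x₀ ≤ y ∧ r y = z), nu X y with hf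
  have hfx : f x₀ = nu X x₀ := by
    have : X.filter (fun y => x₀ ≤ y ∧ r y = x₀) = {x₀} := by
      ext y
      simp only [Finset.mem_filter, Finset.mem_singleton]
      constructor
      · rintro ⟨hy, hxy, hr⟩
        exact h4 y hy hxy hr
      · rintro rfl
        exact ⟨hx₀X, le_rfl, (h3 _ hx₀Y le_rfl).2⟩
    simp only [hf, this, Finset.sum_singleton]
  rw [← hfx]
  refine nu_unique Y f (fun z => z ∈ Y ∧ x₀ ≤ z) ?_ ?_ x₀ ⟨hx₀Y, le_rfl⟩
  · rintro z w ⟨_, hz⟩ hw hzw
    exact ⟨hw, hz.trans hzw.le⟩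
  · rintro z ⟨hzY, hz⟩
    have hzX := (h3 z hzY hz).1
    have hrz := (h3 z hzY hz).2
    -- ∑_{w ∈ Y, z ≤ w} f w = 1
    have hsum : ∑ w ∈ Y.filter (fun w => z ≤ w), f w = 1 := by
      rw [← nu_sum X hzX]
      simp only [hf]
      rw [Finset.sum_sigma']
      symm
      apply Finset.sum_bij (fun y _ => (⟨r y, y⟩ : Σ _ : α, α))
      · intro y hy
        rw [Finset.mem_filter] at hy
        have hxy : x₀ ≤ y := hz.trans hy.2
        obtain ⟨hrY, hxr, hry⟩ := h1 y hy.1 hxy
        rw [Finset.mem_sigma, Finset.mem_filter, Finset.mem_filter]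
        refine ⟨⟨hrY, ?_⟩, hy.1, hxy, rfl⟩
        have := h2 z hzX y hy.1 hz hy.2
        rwa [hrz] at this
      · intro y₁ _ y₂ _ h
        have := congrArg Sigma.snd h
        simpa using this
      · rintro ⟨w, y⟩ hwy
        rw [Finset.mem_sigma, Finset.mem_filter, Finset.mem_filter] at hwy
        obtain ⟨⟨hwY, hzw⟩, hyX, hxy, hry⟩ := hwy
        refine ⟨y, ?_, ?_⟩
        · rw [Finset.mem_filter]
          refine ⟨hyX, ?_⟩
          have := (h1 y hyX hxy).2.2
          rw [hry] at this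
          exact hzw.trans this
        · simp only [hry]
      · intro y _
        rfl
    have h5 : Y.filter (fun w => z ≤ w) = insert z (Y.filter (fun w => z < w)) := by
      ext y
      simp only [Finset.mem_filter, Finset.mem_insert]
      constructor
      · rintro ⟨hy, hxy⟩
        rcases eq_or_lt_of_le hxy with h | h
        · exact Or.inl h.symm
        · exact Or.inr ⟨hy, h⟩
      · rintro (rfl | ⟨hy, h⟩)
        · exact ⟨hzY, le_rfl⟩
        · exact ⟨hy, h.le⟩
    rw [h5, Finset.sum_insert (by simp)] at hsum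
    linarith

end Cfsg.Agent.Lib.Helper63.MobiusWeight
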