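import Mathlib
import Cfsg.Agent.S3995
import Cfsg.Agent.Lib.Helper05.N3Defs

/-!
# K-N3 pack (S4004), leaf 400407 C2a: `S (p * q) = 0`, `p ∣ n`, `q ∣ m`
-/

set_option autoImplicit false

namespace Cfsg.Agent.Lib.Helper63.N3

open Cfsg.Agent.Lib.Helper05.N3 Cfsg.Agent.Lib.Helper22.Nse

/-- LEAF C2a. -/
theorem pq_zero {N : ℕ} {S : ℕ → ℕ} {m n : ℕ} (C : Ctx N S m n) {p q : ℕ} (hp : p.Prime) (hq : q.Prime)
    (hpq : p ≠ q) (hpN : p ∣ N) (hqN : q ∣ N) (h1 : S p = m) (h2 : S q = n)
    (hβ : S q % p = 1 → S p * (q - 1) ≤ S (p * q)) (hγ : S p % q = 1 → S q * (p - 1) ≤ S (p * q)) :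
    S (p * q) = 0 ∧ p ∣ n ∧ q ∣ m := by
  have H := C.H
  -- the primes are odd
  have hodd : ∀ t : ℕ, t.Prime → t ∣ N → 3 ≤ t := by
    intro t ht htN
    have h2t : t ≠ 2 := by
      rintro rfl
      obtain ⟨k, hk⟩ := C.odd
      obtain ⟨j, hj⟩ := htN
      omega
    have := ht.two_le
    omega
  have hp3 := hodd p hp hpN
  have hq3 := hodd q hq hqN
  -- Frobenius at p and q
  have hFp : p ∣ 1 + m := by
    have := H.frob p hpN
    rw [Nat.Prime.sum_divisors hp, H.one, h1] at this
    rwa [add_comm] at this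
  have hFq : q ∣ 1 + n := by
    have := H.frob q hqN
    rw [Nat.Prime.sum_divisors hq, H.one, h2] at this
    rwa [add_comm] at this
  have hcop : Nat.Coprime p q := (Nat.coprime_primes hp hq).mpr hpq
  have hpqN : p * q ∣ N := Nat.Coprime.mul_dvd_of_dvd_of_dvd hcop hpN hqN
  have hFpq : p * q ∣ 1 + m + n + S (p * q) := by
    have := H.frob (p * q) hpqN
    rw [Cfsg.Agent.S3995.sum_div_mul_primes hp hq hpq S, H.one, h1, h2] at this
    exact this
  have hm0 : m ≠ 0 := by rw [← h1]; exact H.cauchy p hp hpN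
  have hn0 : n ≠ 0 := by rw [← h2]; exact H.cauchy q hq hqN
  -- S (p*q) is not 1
  have hne1 : S (p * q) ≠ 1 := by
    intro h
    have hphi := H.phi (p * q)
    rw [h, Nat.totient_mul hcop, Nat.totient_prime hp, Nat.totient_prime hq] at hphi
    have := Nat.le_of_dvd one_pos hphi
    have h4 : 2 * 2 ≤ (p - 1) * (q - 1) := Nat.mul_le_mul (by omega) (by omega)
    omega
  have hFp' : p ∣ 1 + m + n + S (p * q) := dvd_trans (dvd_mul_right p q) hFpq
  have hFq' : q ∣ 1 + m + n + S (p * q) := dvd_trans (dvd_mul_left q p) hFpq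
  -- p ∣ n + S(pq), q ∣ m + S(pq)
  have hp2 : p ∣ n + S (p * q) := by
    have : 1 + m + n + S (p * q) = (1 + m) + (n + S (p * q)) := by ring
    rw [this] at hFp'
    exact (Nat.dvd_add_right hFp).mp hFp'
  have hq2 : q ∣ m + S (p * q) := by
    have : 1 + m + n + S (p * q) = (1 + n) + (m + S (p * q)) := by ring
    rw [this] at hFq'
    exact (Nat.dvd_add_right hFq).mp hFq'
  -- the value of S (p*q)
  by_cases h0 : S (p * q) = 0
  · refine ⟨h0, ?_, ?_⟩
    · rw [h0, add_zero] at hp2; exact hp2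
    · rw [h0, add_zero] at hq2; exact hq2
  · exfalso
    have hmem := H.mem (p * q) h0
    simp only [Finset.mem_insert, Finset.mem_singleton] at hmem
    rcases hmem with h | h | h
    · exact hne1 h
    · -- S (p*q) = m : n ≡ 1 mod p
      rw [h] at hp2
      have e1 : (n + m) ≡ (1 + m) [MOD p] :=
        ((Nat.modEq_zero_iff_dvd).mpr hp2).trans ((Nat.modEq_zero_iff_dvd).mpr hFp).symm
      have e2 : n ≡ 1 [MOD p] := Nat.ModEq.add_right_cancel' m e1
      have e3 : S q % p = 1 := by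
        rw [h2]
        have : n % p = 1 % p := e2
        rw [this]
        exact Nat.mod_eq_of_lt (by omega)
      have hle := hβ e3
      rw [h, h1] at hle
      have hq1 : 2 ≤ q - 1 := by omega
      have : m * 2 ≤ m * (q - 1) := Nat.mul_le_mul_left m hq1
      have hmpos : 0 < m := Nat.pos_of_ne_zero hm0
      omega
    · -- S (p*q) = n : m ≡ 1 mod q
      rw [h] at hq2
      have e1 : (m + n) ≡ (1 + n) [MOD q] :=
        ((Nat.modEq_zero_iff_dvd).mpr hq2).trans ((Nat.modEq_zero_iff_dvd).mpr hFq).symm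
      have e2 : m ≡ 1 [MOD q] := Nat.ModEq.add_right_cancel' n e1
      have e3 : S p % q = 1 := by
        rw [h1]
        have : m % q = 1 % q := e2
        rw [this]
        exact Nat.mod_eq_of_lt (by omega)
      have hle := hγ e3
      rw [h, h2] at hle
      have hp1 : 2 ≤ p - 1 := by omega
      have : n * 2 ≤ n * (p - 1) := Nat.mul_le_mul_left n hp1
      have hnpos : 0 < n := Nat.pos_of_ne_zero hn0
      omega

end Cfsg.Agent.Lib.Helper63.N3
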