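import Mathlib

set_option autoImplicit false
set_option linter.style.haveILetI false

namespace Cfsg.Agent.Lib.Helper63

/-- A finite commutative domain of characteristic `p` with `p ^ d` elements generated (as a ring)
by `x`: Frobenius powers fixing `x` are trivial, every ring endomorphism is a Frobenius
power `p ^ j` with `j < d`, and `y ^ (p ^ d) = y`. -/
theorem finite_field_gen' {R : Type*} [CommRing R] [IsDomain R] [Finite R] (p d : ℕ)
    [hp : Fact p.Prime] [CharP R p] (hcard : Nat.card R = p ^ d) (x : R)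
    (hx : Subring.closure {x} = ⊤) :
    (∀ i : ℕ, x ^ (p ^ i) = x → d ∣ i) ∧
      (∀ σ : R →+* R, ∃ j : ℕ, j < d ∧ ∀ y : R, σ y = y ^ (p ^ j)) ∧
      ∀ y : R, y ^ (p ^ d) = y := by
  classical
  letI : Fintype R := Fintype.ofFinite R
  letI : Field R := Fintype.fieldOfDomain R
  letI : Algebra (ZMod p) R := ZMod.algebra R p
  have hfr : Module.finrank (ZMod p) R = d := by
    have h1 : Nat.card R = Nat.card (ZMod p) ^ Module.finrank (ZMod p) R :=
      Module.natCard_eq_pow_finrank
    rw [hcard, Nat.card_zmod] at h1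
    exact (Nat.pow_right_injective hp.out.two_le h1).symm
  have hcardZ : Fintype.card (ZMod p) = p := ZMod.card p
  have hfrob : ∀ (i : ℕ) (y : R),
      ((FiniteField.frobeniusAlgHom (ZMod p) R) ^ i) y = y ^ (p ^ i) := by
    intro i y
    rw [AlgHom.coe_pow, FiniteField.coe_frobeniusAlgHom, pow_iterate, hcardZ]
  refine ⟨?_, ?_, ?_⟩
  · intro i hi
    have h2 : ((FiniteField.frobeniusAlgHom (ZMod p) R) ^ i : R →ₐ[ZMod p] R) = 1 := by
      have h3 : (((FiniteField.frobeniusAlgHom (ZMod p) R) ^ i : R →ₐ[ZMod p] R) : R →+* R) =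
          ((1 : R →ₐ[ZMod p] R) : R →+* R) := by
        apply RingHom.eq_of_eqOn_set_dense hx
        intro y hy
        rw [Set.mem_singleton_iff] at hy
        subst hy
        simp only [AlgHom.coe_toRingHom]
        rw [hfrob, hi]
        rfl
      ext y
      exact RingHom.congr_fun h3 y
    have h4 := orderOf_dvd_of_pow_eq_one h2
    rw [FiniteField.orderOf_frobeniusAlgHom, hfr] at h4
    exact h4
  · intro σ
    let τ : R →ₐ[ZMod p] R :=
      { toRingHom := σ
        commutes' := by
          intro r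
          obtain ⟨n, rfl⟩ := ZMod.natCast_zmod_surjective r
          simp }
    obtain ⟨n, hn⟩ := (FiniteField.bijective_frobeniusAlgHom_pow (ZMod p) R).2 τ
    refine ⟨n.1, hfr ▸ n.2, ?_⟩
    intro y
    have h5 : τ y = σ y := rfl
    rw [← h5, ← hn]
    exact hfrob n.1 y
  · intro y
    have h1 := FiniteField.pow_card y
    have h2 : Fintype.card R = p ^ d := by rw [← Nat.card_eq_fintype_card, hcard]
    rw [h2] at h1
    exact h1

/-- Let `S` be a commuting set of additive endomorphisms of a finite abelian group `V`,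
normalized by a set `T` of invertible endomorphisms which is transitive on nonzero vectors.
Then nonzero elements of the ring generated by `S` are injective. -/
theorem closure_inj_of_transitive {V : Type*} [AddCommGroup V] [Finite V]
    (S T : Set (AddMonoid.End V))
    (hScomm : ∀ a ∈ S, ∀ b ∈ S, a * b = b * a)
    (hTinv : ∀ t ∈ T, ∃ t' ∈ T, t' * t = 1 ∧ t * t' = 1)
    (hTnorm : ∀ t ∈ T, ∀ t' : AddMonoid.End V, t' * t = 1 → t * t' = 1 → ∀ a ∈ S, t * a * t' ∈ S)
    (hTtrans : ∀ v w : V, v ≠ 0 → w ≠ 0 → ∃ t ∈ T, t v = w) :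
    ∀ r ∈ Subring.closure S, ∀ v : V, v ≠ 0 → r v = 0 → r = 0 := by
  classical
  obtain ⟨R, hR⟩ : ∃ R : Subring (AddMonoid.End V), R = Subring.closure S := ⟨_, rfl⟩
  rw [← hR]
  have hSR : ∀ a ∈ S, a ∈ R := fun a ha => hR ▸ Subring.subset_closure ha
  have hmc := Subring.isMulCommutative_closure hScomm
  have hRcomm : ∀ r ∈ R, ∀ s ∈ R, r * s = s * r := by
    intro r hr s hs
    rw [hR] at hr hs
    exact congrArg Subtype.val (hmc.is_comm.comm ⟨r, hr⟩ ⟨s, hs⟩)
  -- conjugation preserves R
  have hconj : ∀ t t' : AddMonoid.End V, t' * t = 1 → t * t' = 1 → (∀ a ∈ S, t * a * t' ∈ S) →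
      ∀ r ∈ R, t * r * t' ∈ R := by
    intro t t' h1 h2 hS r hr
    rw [hR] at hr
    induction hr using Subring.closure_induction with
    | mem y hy => exact hSR _ (hS y hy)
    | zero => rw [mul_zero, zero_mul]; exact zero_mem R
    | one => rw [mul_one, h2]; exact one_mem R
    | add y z _ _ hy hz =>
      rw [mul_add, add_mul]; exact add_mem hy hz
    | neg y _ hy =>
      rw [mul_neg, neg_mul]; exact neg_mem hy
    | mul y z _ _ hy hz =>
      have : t * (y * z) * t' = (t * y * t') * (t * z * t') := by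
        calc t * (y * z) * t' = t * y * (1 * (z * t')) := by rw [one_mul]; simp only [mul_assoc]
          _ = t * y * ((t' * t) * (z * t')) := by rw [h1]
          _ = (t * y * t') * (t * z * t') := by simp only [mul_assoc]
      rw [this]; exact mul_mem hy hz
  -- the cyclic submodules
  let W : V → Set V := fun x => {y | ∃ r ∈ R, y = r x}
  have hWself : ∀ x, x ∈ W x := fun x => ⟨1, one_mem R, rfl⟩
  have hWsub : ∀ x y z, y ∈ W x → z ∈ W x → y - z ∈ W x := by
    rintro x _ _ ⟨r, hr, rfl⟩ ⟨s, hs, rfl⟩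
    exact ⟨r - s, sub_mem hr hs, rfl⟩
  have hWle : ∀ x y, y ∈ W x → W y ⊆ W x := by
    rintro x _ ⟨s, hs, rfl⟩ _ ⟨r, hr, rfl⟩
    exact ⟨r * s, mul_mem hr hs, rfl⟩
  have himage : ∀ t ∈ T, ∀ x, W (t x) = t '' W x := by
    intro t ht x
    obtain ⟨t', ht', h1, h2⟩ := hTinv t ht
    have hS1 := hTnorm t ht t' h1 h2
    have hS2 := hTnorm t' ht' t h2 h1
    have ht't : ∀ z, t' (t z) = z := fun z => by
      have : (t' * t) z = z := by rw [h1]; rfl
      exact this
    ext y
    constructor
    · rintro ⟨r, hr, rfl⟩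
      refine ⟨(t' * r * t) x, ⟨t' * r * t, hconj t' t h2 h1 hS2 r hr, rfl⟩, ?_⟩
      show (t * (t' * r * t)) x = r (t x)
      have : t * (t' * r * t) = r * t := by
        rw [← mul_assoc, ← mul_assoc, h2, one_mul]
      rw [this]; rfl
    · rintro ⟨_, ⟨r, hr, rfl⟩, rfl⟩
      refine ⟨t * r * t', hconj t t' h1 h2 hS1 r hr, ?_⟩
      show t (r x) = (t * r * t') (t x)
      show t (r x) = t (r (t' (t x)))
      rw [ht't]
  have hcardW : ∀ x y : V, x ≠ 0 → y ≠ 0 → (W x).ncard = (W y).ncard := by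
    intro x y hx hy
    obtain ⟨t, ht, rfl⟩ := hTtrans x y hx hy
    obtain ⟨t', ht', h1, h2⟩ := hTinv t ht
    have htinj : Function.Injective t := by
      intro a b hab
      have ha : (t' * t) a = a := by rw [h1]; rfl
      have hb : (t' * t) b = b := by rw [h1]; rfl
      rw [← ha, ← hb]
      show t' (t a) = t' (t b)
      rw [hab]
    rw [himage t ht x, Set.ncard_image_of_injective _ htinj]
  have hWeq : ∀ x y : V, x ≠ 0 → y ≠ 0 → y ∈ W x → W y = W x := by
    intro x y hx hy hyx
    exact Set.eq_of_subset_of_ncard_le (hWle x y hyx) (le_of_eq (hcardW x y hx hy))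
      (Set.toFinite _)
  intro r hr x hx hrx
  ext y
  show r y = 0
  by_cases hy0 : y = 0
  · rw [hy0, map_zero]
  by_cases hyx : y ∈ W x
  · obtain ⟨s, hs, rfl⟩ := hyx
    show (r * s) x = 0
    rw [hRcomm r hr s hs]
    show s (r x) = 0
    rw [hrx, map_zero]
  · by_contra hry
    have hz0 : x + y ≠ 0 := by
      intro h
      apply hyx
      have : y = -x := (neg_eq_of_add_eq_zero_right h).symm
      rw [this]
      exact ⟨-1, neg_mem (one_mem R), rfl⟩
    have hrz : r (x + y) = r y := by rw [map_add, hrx, zero_add]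
    have h1 : W (r y) = W y := hWeq y (r y) hy0 hry ⟨r, hr, rfl⟩
    have h2 : W (r y) = W (x + y) := by
      rw [← hrz]
      exact hWeq (x + y) (r (x + y)) hz0 (by rw [hrz]; exact hry) ⟨r, hr, rfl⟩
    have h3 : x + y ∈ W y := by rw [← h1, h2]; exact hWself _
    have h4 : x ∈ W y := by
      have := hWsub y _ _ h3 (hWself y)
      rwa [add_sub_cancel_right] at this
    have h5 : W x = W y := hWeq y x hy0 hx h4
    apply hyx
    rw [h5]
    exact hWself y


set_option maxHeartbeats 800000 in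
open scoped IsMulCommutative in
/-- A finite commutative group `A` of additive automorphisms of an elementary abelian `p`-group
`V` such that the nonzero elements of the ring `R` generated by `A` are injective on `V`;
`R` has `p ^ d` elements. Then `A` is cyclic of order dividing `p ^ d - 1` but no `p ^ i - 1`,
`0 < i < d`, and conjugation by an additive automorphism normalizing `A` acts on `A` as a
`p ^ j`-th power, `j < d`. -/
theorem end_ring_inj {V A : Type*} [AddCommGroup V] [Finite V] [CommGroup A] [Finite A]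
    (p d : ℕ) [hp : Fact p.Prime] (hexp : ∀ v : V, p • v = 0)
    (Φ : A →* AddMonoid.End V) (hΦ : Function.Injective Φ)
    (hinj : ∀ r ∈ Subring.closure (Set.range Φ), ∀ v : V, v ≠ 0 → r v = 0 → r = 0)
    (hnt : ∃ v : V, v ≠ 0)
    (hcardR : Nat.card (Subring.closure (Set.range Φ)) = p ^ d) :
    IsCyclic A ∧ Nat.card A ∣ p ^ d - 1 ∧
    (∀ i : ℕ, 0 < i → i < d → ¬ Nat.card A ∣ p ^ i - 1) ∧
    ∀ (ψ ψ' : AddMonoid.End V) (θ : A → A), ψ' * ψ = 1 → ψ * ψ' = 1 →
      (∀ a : A, ψ * Φ a * ψ' = Φ (θ a)) → ∃ j : ℕ, j < d ∧ ∀ a : A, θ a = a ^ (p ^ j) := by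
  classical
  have hcomm : ∀ a ∈ (Set.range Φ : Set (AddMonoid.End V)), ∀ b ∈ (Set.range Φ), a * b = b * a := by
    rintro _ ⟨a, rfl⟩ _ ⟨b, rfl⟩
    rw [← map_mul, ← map_mul, mul_comm]
  have hmc := Subring.isMulCommutative_closure hcomm
  obtain ⟨R, hR⟩ : ∃ R : Subring (AddMonoid.End V), R = Subring.closure (Set.range Φ) := ⟨_, rfl⟩
  rw [← hR] at hinj hcardR
  have hmcR : IsMulCommutative R := by rw [hR]; exact hmc
  have hΦR : ∀ a : A, Φ a ∈ R := by
    intro a; rw [hR]; exact Subring.subset_closure ⟨a, rfl⟩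
  obtain ⟨v₀, hv₀⟩ := hnt
  have hfinE : Finite (AddMonoid.End V) :=
    Finite.of_injective (fun f : AddMonoid.End V => (f : V → V)) DFunLike.coe_injective
  have hfin : Finite R := inferInstance
  have hnt : Nontrivial R := by
    refine ⟨⟨0, 1, ?_⟩⟩
    intro h01
    apply hv₀
    have h1 : ((0 : R) : AddMonoid.End V) v₀ = ((1 : R) : AddMonoid.End V) v₀ := by rw [h01]
    exact h1.symm
  have hdom : IsDomain R := by
    have : NoZeroDivisors R := by
      constructor
      intro r s hrs
      by_cases hs : s = 0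
      · exact Or.inr hs
      · left
        obtain ⟨w, hw⟩ : ∃ w : V, (s : AddMonoid.End V) w ≠ 0 := by
          by_contra hall
          push Not at hall
          apply hs
          apply Subtype.ext
          ext w
          exact hall w
        apply Subtype.ext
        apply hinj r r.2 _ hw
        have : ((r * s : R) : AddMonoid.End V) w = 0 := by rw [hrs]; rfl
        exact this
    exact NoZeroDivisors.to_isDomain R
  have hchar : CharP R p := by
    have h0 : (p : R) = 0 := by
      apply Subtype.ext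
      ext w
      show ((p : AddMonoid.End V)) w = 0
      rw [AddMonoid.End.natCast_apply]
      exact hexp w
    have h1 : ringChar R ∣ p := ringChar.dvd h0
    rcases (Nat.dvd_prime hp.out).mp h1 with h | h
    · exact absurd h (CharP.ringChar_ne_one)
    · exact h ▸ ringChar.charP R
  -- the group `A` inside `R`
  obtain ⟨Φ', hΦ'⟩ : ∃ Φ' : A →* R, ∀ a, ((Φ' a : R) : AddMonoid.End V) = Φ a :=
    ⟨Φ.codRestrict R hΦR, fun a => rfl⟩
  have hΦ'inj : Function.Injective Φ' := by
    intro a b hab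
    apply hΦ
    rw [← hΦ' a, ← hΦ' b, hab]
  have hcyc : IsCyclic A := isCyclic_of_injective_ringHom Φ' hΦ'inj
  obtain ⟨a₀, ha₀⟩ := IsCyclic.exists_monoid_generator (α := A)
  obtain ⟨x, hxdef⟩ : ∃ x : R, x = Φ' a₀ := ⟨_, rfl⟩
  have hxtop : Subring.closure ({x} : Set R) = ⊤ := by
    rw [eq_top_iff]
    rintro ⟨e, he⟩ -
    have he' : e ∈ Subring.closure (Set.range Φ : Set (AddMonoid.End V)) := by rw [← hR]; exact he
    have hxval : (x : AddMonoid.End V) = Φ a₀ := by rw [hxdef, hΦ']
    have hpowx : ∀ i : ℕ, ∃ he : (Φ a₀) ^ i ∈ R,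
        (⟨(Φ a₀) ^ i, he⟩ : R) ∈ Subring.closure ({x} : Set R) := by
      intro i
      induction i with
      | zero =>
        rw [pow_zero]
        exact ⟨one_mem R, one_mem _⟩
      | succ i ih =>
        obtain ⟨h1, h2⟩ := ih
        rw [pow_succ]
        have h3 : (⟨Φ a₀, hΦR a₀⟩ : R) ∈ Subring.closure ({x} : Set R) := by
          have : (⟨Φ a₀, hΦR a₀⟩ : R) = x := Subtype.ext hxval.symm
          rw [this]
          exact Subring.subset_closure rfl
        exact ⟨mul_mem h1 (hΦR a₀), mul_mem h2 h3⟩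
    have key : ∀ (e : AddMonoid.End V)
        (he' : e ∈ Subring.closure (Set.range Φ : Set (AddMonoid.End V))),
        ∃ he : e ∈ R, (⟨e, he⟩ : R) ∈ Subring.closure ({x} : Set R) := by
      intro e he'
      induction he' using Subring.closure_induction with
      | mem y hy =>
        obtain ⟨b, rfl⟩ := hy
        obtain ⟨i, hi⟩ := ha₀ b
        have hi' : Φ b = (Φ a₀) ^ i := by
          rw [← map_pow]
          congr 1
          exact hi.symm
        rw [hi']
        exact hpowx i
      | zero => exact ⟨zero_mem R, zero_mem _⟩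
      | one => exact ⟨one_mem R, one_mem _⟩
      | add y z _ _ hy hz =>
        obtain ⟨h1, h2⟩ := hy
        obtain ⟨h3, h4⟩ := hz
        exact ⟨add_mem h1 h3, add_mem h2 h4⟩
      | neg y _ hy =>
        obtain ⟨h1, h2⟩ := hy
        exact ⟨neg_mem h1, neg_mem h2⟩
      | mul y z _ _ hy hz =>
        obtain ⟨h1, h2⟩ := hy
        obtain ⟨h3, h4⟩ := hz
        exact ⟨mul_mem h1 h3, mul_mem h2 h4⟩
    obtain ⟨_, h2⟩ := key e he'
    exact h2
  have hxm : x ^ (Nat.card A) = 1 := by
    rw [hxdef, ← map_pow, pow_card_eq_one', map_one]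
  obtain ⟨hF1, hF2, hF3⟩ := finite_field_gen' (R := R) p d hcardR x hxtop
  have hx0 : x ≠ 0 := by
    intro h0
    rw [h0, zero_pow Nat.card_pos.ne'] at hxm
    exact zero_ne_one hxm
  have hordx : orderOf x = Nat.card A := by
    rw [hxdef, orderOf_injective Φ' hΦ'inj a₀]
    apply orderOf_eq_card_of_forall_mem_zpowers
    intro b
    obtain ⟨i, hi⟩ := ha₀ b
    exact ⟨i, by show a₀ ^ (i : ℤ) = b; rw [zpow_natCast]; exact hi⟩
  refine ⟨hcyc, ?_, ?_, ?_⟩
  · have hpd : 1 ≤ p ^ d := Nat.one_le_pow _ _ hp.out.pos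
    have h1 : x ^ (p ^ d - 1) = 1 := by
      have h2 : x ^ (p ^ d - 1) * x = 1 * x := by
        rw [← pow_succ, one_mul, Nat.sub_add_cancel hpd]
        exact hF3 x
      exact mul_right_cancel₀ hx0 h2
    rw [← hordx]
    exact orderOf_dvd_of_pow_eq_one h1
  · intro i hi0 hid hqi
    have hpi : 1 ≤ p ^ i := Nat.one_le_pow _ _ hp.out.pos
    have h1 : x ^ (p ^ i) = x := by
      have h2 : p ^ i = (p ^ i - 1) + 1 := by omega
      rw [h2, pow_succ]
      obtain ⟨c, hc⟩ := hqi
      rw [hc, pow_mul, hxm, one_pow, one_mul]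
    have h3 := hF1 i h1
    have := Nat.le_of_dvd hi0 h3
    omega
  · intro ψ ψ' θ h1 h2 h3
    let Γ : AddMonoid.End V →+* AddMonoid.End V :=
      { toFun := fun r => ψ * r * ψ'
        map_one' := by rw [mul_one, h2]
        map_mul' := by
          intro r s
          calc ψ * (r * s) * ψ' = ψ * r * (1 * (s * ψ')) := by rw [one_mul]; simp only [mul_assoc]
            _ = ψ * r * ((ψ' * ψ) * (s * ψ')) := by rw [h1]
            _ = ψ * r * ψ' * (ψ * s * ψ') := by simp only [mul_assoc]
        map_zero' := by rw [mul_zero, zero_mul]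
        map_add' := by
          intro r s
          rw [mul_add, add_mul] }
    have hΓR : ∀ r : R, Γ (r : AddMonoid.End V) ∈ R := by
      rintro ⟨e, he⟩
      have he' : e ∈ Subring.closure (Set.range Φ : Set (AddMonoid.End V)) := by
        rw [← hR]; exact he
      show Γ e ∈ R
      clear he
      induction he' using Subring.closure_induction with
      | mem y hy =>
        obtain ⟨b, rfl⟩ := hy
        show ψ * Φ b * ψ' ∈ R
        rw [h3]
        exact hΦR _
      | zero => rw [map_zero]; exact zero_mem R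
      | one => rw [map_one]; exact one_mem R
      | add y z _ _ hy hz => rw [map_add]; exact add_mem hy hz
      | neg y _ hy => rw [map_neg]; exact neg_mem hy
      | mul y z _ _ hy hz => rw [map_mul]; exact mul_mem hy hz
    let σ : R →+* R := (Γ.comp R.subtype).codRestrict R hΓR
    obtain ⟨j, hjd, hj⟩ := hF2 σ
    refine ⟨j, hjd, ?_⟩
    intro a
    apply hΦ
    have h4 : ((σ (Φ' a) : R) : AddMonoid.End V) = Φ (θ a) := by
      show ψ * ((Φ' a : R) : AddMonoid.End V) * ψ' = Φ (θ a)
      rw [hΦ' a]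
      exact h3 a
    have h5 : (((Φ' a) ^ (p ^ j) : R) : AddMonoid.End V) = Φ (a ^ (p ^ j)) := by
      rw [← map_pow, hΦ']
    rw [← h4, ← h5, hj]


section NearFieldGroup

/-- linear automorphisms as additive endomorphisms -/
def embEnd (p : ℕ) (V : Type*) [AddCommGroup V] [Module (ZMod p) V] :
    (V ≃ₗ[ZMod p] V) →* AddMonoid.End V where
  toFun g := (g : V →ₗ[ZMod p] V).toAddMonoidHom
  map_one' := rfl
  map_mul' _ _ := rfl

variable {p : ℕ} [hp : Fact p.Prime] {V : Type*} [AddCommGroup V] [Module (ZMod p) V]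

/-- the cyclic submodule generated by `x` over a subring of the endomorphism ring -/
def cycSub (R : Subring (AddMonoid.End V)) (x : V) : Submodule (ZMod p) V where
  carrier := {y | ∃ r ∈ R, y = r x}
  add_mem' := by
    rintro _ _ ⟨r, hr, rfl⟩ ⟨s, hs, rfl⟩
    exact ⟨r + s, add_mem hr hs, rfl⟩
  zero_mem' := ⟨0, zero_mem R, rfl⟩
  smul_mem' := by
    rintro c _ ⟨r, hr, rfl⟩
    refine ⟨c.val • r, nsmul_mem hr _, ?_⟩
    have h1 : (c.val • r) x = c.val • r x := AddMonoid.End.smul_apply c.val r x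
    rw [h1, ← Nat.cast_smul_eq_nsmul (ZMod p), ZMod.natCast_zmod_val]

theorem mem_cycSub (R : Subring (AddMonoid.End V)) (x y : V) :
    y ∈ cycSub (p := p) R x ↔ ∃ r ∈ R, y = r x := Iff.rfl

variable [Finite V]

set_option maxHeartbeats 1600000 in
/-- Structure of a normal abelian subgroup `A` of a linear group `H` over the prime field
regular on nonzero vectors: the ring generated by `A` is a field, `A` is cyclic, the cyclic
`A`-submodules are irreducible of one dimension `d`, and `H` acts on `A` through powers of `p`. -/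
theorem nf_structure (H : Subgroup (V ≃ₗ[ZMod p] V))
    (hreg : ∀ v w : V, v ≠ 0 → w ≠ 0 → ∃! h : H, (h : V ≃ₗ[ZMod p] V) v = w)
    (A : Subgroup H) (hAn : A.Normal) (hAc : ∀ a ∈ A, ∀ b ∈ A, a * b = b * a)
    (x : V) (hx : x ≠ 0) :
    ∃ W : Submodule (ZMod p) V, x ∈ W ∧
      (∀ a ∈ A, ∀ v ∈ W, ((a : H) : V ≃ₗ[ZMod p] V) v ∈ W) ∧
      (∀ W' : Submodule (ZMod p) V, x ∈ W' →
        (∀ a ∈ A, ∀ v ∈ W', ((a : H) : V ≃ₗ[ZMod p] V) v ∈ W') → W ≤ W') ∧
      (∀ W' : Submodule (ZMod p) V, W' ≤ W →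
        (∀ a ∈ A, ∀ v ∈ W', ((a : H) : V ≃ₗ[ZMod p] V) v ∈ W') → W' = ⊥ ∨ W' = W) ∧
      IsCyclic A ∧ Nat.card A ∣ p ^ (Module.finrank (ZMod p) W) - 1 ∧
      (∀ h : H, ∃ j : ℕ, j < Module.finrank (ZMod p) W ∧ ∀ a ∈ A, h * a * h⁻¹ = a ^ (p ^ j)) ∧
      (W ≠ ⊤ → p ^ (2 * Module.finrank (ZMod p) W) ≤ Nat.card V) := by
  classical
  letI : CommGroup A :=
    { (inferInstance : Group A) with mul_comm := fun a b => Subtype.ext (hAc a a.2 b b.2) }
  let Φ : A →* AddMonoid.End V := (embEnd p V).comp (H.subtype.comp A.subtype)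
  have hΦ : ∀ (a : A) (v : V), Φ a v = ((a : H) : V ≃ₗ[ZMod p] V) v := fun a v => rfl
  -- semiregularity
  have hsemi : ∀ h : H, ∀ v : V, v ≠ 0 → ((h : V ≃ₗ[ZMod p] V) v = v) → h = 1 := by
    intro h v hv hhv
    obtain ⟨g, _, hg⟩ := hreg v v hv hv
    rw [hg h hhv, hg 1 rfl]
  have hΦinj : Function.Injective Φ := by
    rw [injective_iff_map_eq_one]
    intro a ha
    apply Subtype.ext
    apply hsemi _ x hx
    have := hΦ a x
    rw [ha] at this
    exact this.symm
  obtain ⟨R, hR⟩ : ∃ R : Subring (AddMonoid.End V), R = Subring.closure (Set.range Φ) := ⟨_, rfl⟩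
  have hΦR : ∀ a : A, Φ a ∈ R := fun a => hR ▸ Subring.subset_closure ⟨a, rfl⟩
  -- injectivity of nonzero ring elements
  have hinj : ∀ r ∈ R, ∀ v : V, v ≠ 0 → r v = 0 → r = 0 := by
    rw [hR]
    apply closure_inj_of_transitive (Set.range Φ) (Set.range ((embEnd p V).comp H.subtype))
    · rintro _ ⟨a, rfl⟩ _ ⟨b, rfl⟩
      rw [← map_mul, ← map_mul, mul_comm]
    · rintro _ ⟨h, rfl⟩
      refine ⟨_, ⟨h⁻¹, rfl⟩, ?_, ?_⟩
      · rw [← map_mul, inv_mul_cancel, map_one]
      · rw [← map_mul, mul_inv_cancel, map_one]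
    · rintro _ ⟨h, rfl⟩ t' h1 h2 _ ⟨a, rfl⟩
      have ht' : t' = ((embEnd p V).comp H.subtype) h⁻¹ := by
        have h3 : ((embEnd p V).comp H.subtype) h * ((embEnd p V).comp H.subtype) h⁻¹ = 1 := by
          rw [← map_mul, mul_inv_cancel, map_one]
        calc t' = t' * (((embEnd p V).comp H.subtype) h * ((embEnd p V).comp H.subtype) h⁻¹) := by
              rw [h3, mul_one]
          _ = (t' * ((embEnd p V).comp H.subtype) h) * ((embEnd p V).comp H.subtype) h⁻¹ := by
              rw [mul_assoc]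
          _ = _ := by rw [h1, one_mul]
      rw [ht']
      refine ⟨⟨h * a * h⁻¹, hAn.conj_mem a a.2 h⟩, ?_⟩
      show ((embEnd p V).comp H.subtype) (h * a * h⁻¹) = _
      rw [map_mul, map_mul]
      rfl
    · intro v w hv hw
      obtain ⟨h, hh, _⟩ := hreg v w hv hw
      exact ⟨_, ⟨h, rfl⟩, hh⟩
  -- units
  have hfinE : Finite (AddMonoid.End V) :=
    Finite.of_injective (fun f : AddMonoid.End V => (f : V → V)) DFunLike.coe_injective
  have hfinR : Finite R := inferInstance
  have hinv : ∀ s ∈ R, s ≠ 0 → ∃ r ∈ R, r * s = 1 := by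
    intro s hs hs0
    obtain ⟨w, hw⟩ : ∃ w : V, s w ≠ 0 := by
      by_contra hall
      push Not at hall
      apply hs0
      ext w
      exact hall w
    have hw0 : w ≠ 0 := by
      intro h; apply hw; rw [h, map_zero]
    let m : R → R := fun r => r * ⟨s, hs⟩
    have hm : Function.Injective m := by
      intro r r' hrr
      have h1 : ((r - r' : R) : AddMonoid.End V) * s = 0 := by
        have := congrArg Subtype.val hrr
        have h2 : (r : AddMonoid.End V) * s = (r' : AddMonoid.End V) * s := this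
        show ((r : AddMonoid.End V) - (r' : AddMonoid.End V)) * s = 0
        rw [sub_mul, h2, sub_self]
      have h3 : ((r - r' : R) : AddMonoid.End V) (s w) = 0 := by
        have : (((r - r' : R) : AddMonoid.End V) * s) w = 0 := by rw [h1]; rfl
        exact this
      have h4 := hinj _ (r - r').2 _ hw h3
      have h5 : r - r' = 0 := Subtype.ext h4
      exact sub_eq_zero.mp h5
    obtain ⟨r, hr⟩ := (Finite.injective_iff_surjective.mp hm) 1
    exact ⟨r, r.2, congrArg Subtype.val hr⟩
  -- invariance under the ring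
  have hRinv : ∀ W' : Submodule (ZMod p) V,
      (∀ a ∈ A, ∀ v ∈ W', ((a : H) : V ≃ₗ[ZMod p] V) v ∈ W') → ∀ r ∈ R, ∀ v ∈ W', r v ∈ W' := by
    intro W' hinv' r hr
    rw [hR] at hr
    induction hr using Subring.closure_induction with
    | mem y hy =>
      obtain ⟨a, rfl⟩ := hy
      intro v hv
      exact hinv' a a.2 v hv
    | zero => intro v _; exact W'.zero_mem
    | one => intro v hv; exact hv
    | add y z _ _ hy hz => intro v hv; exact W'.add_mem (hy v hv) (hz v hv)
    | neg y _ hy => intro v hv; exact W'.neg_mem (hy v hv)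
    | mul y z _ _ hy hz => intro v hv; exact hy _ (hz v hv)
  have hgenW : ∀ W' : Submodule (ZMod p) V, x ∈ W' →
      (∀ a ∈ A, ∀ v ∈ W', ((a : H) : V ≃ₗ[ZMod p] V) v ∈ W') → cycSub (p := p) R x ≤ W' := by
    intro W' hxW' hinv' y hy
    obtain ⟨r, hr, rfl⟩ := hy
    exact hRinv W' hinv' r hr x hxW'
  -- cardinalities
  have hcardW : Nat.card (cycSub (p := p) R x) =
      p ^ Module.finrank (ZMod p) (cycSub (p := p) R x) := by
    have h1 := Module.natCard_eq_pow_finrank (K := ZMod p) (V := cycSub (p := p) R x)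
    rw [Nat.card_zmod] at h1
    exact h1
  have hcardR : Nat.card R = p ^ Module.finrank (ZMod p) (cycSub (p := p) R x) := by
    rw [← hcardW]
    apply Nat.card_congr
    refine Equiv.ofBijective
      (fun r : R => (⟨(r : AddMonoid.End V) x, ⟨r, r.2, rfl⟩⟩ : cycSub (p := p) R x)) ⟨?_, ?_⟩
    · intro r r' hrr
      have h1 : (r : AddMonoid.End V) x = (r' : AddMonoid.End V) x := congrArg Subtype.val hrr
      have h2 : ((r - r' : R) : AddMonoid.End V) x = 0 := by
        show (r : AddMonoid.End V) x - (r' : AddMonoid.End V) x = 0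
        rw [h1, sub_self]
      exact sub_eq_zero.mp (Subtype.ext (hinj _ (r - r').2 x hx h2))
    · rintro ⟨_, r, hr, rfl⟩
      exact ⟨⟨r, hr⟩, rfl⟩
  have hexp : ∀ v : V, p • v = 0 := by
    intro v
    rw [← Nat.cast_smul_eq_nsmul (ZMod p), ZMod.natCast_self, zero_smul]
  have hfinGL : Finite (V ≃ₗ[ZMod p] V) :=
    Finite.of_injective (fun g : V ≃ₗ[ZMod p] V => (g : V → V)) DFunLike.coe_injective
  have hfinH : Finite H := inferInstance
  have hfinA : Finite A := inferInstance
  obtain ⟨hcyc, hdvd, _, hIII⟩ := end_ring_inj p (Module.finrank (ZMod p) (cycSub (p := p) R x))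
    hexp Φ hΦinj (hR ▸ hinj) ⟨x, hx⟩ (hR ▸ hcardR)
  -- the submodule
  refine ⟨cycSub R x, ⟨1, one_mem R, rfl⟩, ?_, hgenW, ?_, hcyc, hdvd, ?_, ?_⟩
  · rintro a ha _ ⟨r, hr, rfl⟩
    exact ⟨Φ ⟨a, ha⟩ * r, mul_mem (hΦR _) hr, rfl⟩
  · intro W' hW'le hinv'
    by_cases hbot : W' = ⊥
    · exact Or.inl hbot
    right
    obtain ⟨y, hyW', hy0⟩ := Submodule.exists_mem_ne_zero_of_ne_bot hbot
    obtain ⟨s, hs, rfl⟩ := hW'le hyW'
    have hs0 : s ≠ 0 := by
      intro h
      apply hy0
      rw [h]
      rfl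
    obtain ⟨r, hr, hrs⟩ := hinv s hs hs0
    have hxW' : x ∈ W' := by
      have h1 : x = r (s x) := by
        have : (r * s) x = x := by rw [hrs]; rfl
        exact this.symm
      rw [h1]
      exact hRinv W' hinv' r hr _ hyW'
    exact le_antisymm hW'le (hgenW W' hxW' hinv')
  · intro h
    obtain ⟨j, hjd, hj⟩ := hIII (embEnd p V h) (embEnd p V (h⁻¹ : H))
      (fun a => ⟨h * a * h⁻¹, hAn.conj_mem a a.2 h⟩)
      (by rw [← map_mul]; show embEnd p V (((h⁻¹ * h : H)) : V ≃ₗ[ZMod p] V) = 1
          rw [inv_mul_cancel]; exact map_one _)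
      (by rw [← map_mul]; show embEnd p V (((h * h⁻¹ : H)) : V ≃ₗ[ZMod p] V) = 1
          rw [mul_inv_cancel]; exact map_one _)
      (by
        intro a
        show embEnd p V h * embEnd p V ((a : H) : V ≃ₗ[ZMod p] V) * embEnd p V (h⁻¹ : H) =
          embEnd p V (((h * a * h⁻¹ : H)) : V ≃ₗ[ZMod p] V)
        rw [← map_mul, ← map_mul]
        rfl)
    refine ⟨j, hjd, ?_⟩
    intro a ha
    have := hj ⟨a, ha⟩
    exact congrArg Subtype.val this
  · intro hWtop
    obtain ⟨u, hu⟩ : ∃ u : V, u ∉ cycSub (p := p) R x := by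
      by_contra hall
      push Not at hall
      apply hWtop
      rw [eq_top_iff]
      intro v _
      exact hall v
    let f : R × R → V := fun rs => (rs.1 : AddMonoid.End V) x + (rs.2 : AddMonoid.End V) u
    have hf : Function.Injective f := by
      rintro ⟨r, s⟩ ⟨r', s'⟩ hrs
      have h1 : (r : AddMonoid.End V) x + (s : AddMonoid.End V) u =
          (r' : AddMonoid.End V) x + (s' : AddMonoid.End V) u := hrs
      have h2 : ((s - s' : R) : AddMonoid.End V) u = ((r' - r : R) : AddMonoid.End V) x := by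
        show (s : AddMonoid.End V) u - (s' : AddMonoid.End V) u =
          (r' : AddMonoid.End V) x - (r : AddMonoid.End V) x
        rw [sub_eq_sub_iff_add_eq_add, add_comm, h1, add_comm]
      have hss : s - s' = 0 := by
        by_contra hne
        have hne' : ((s - s' : R) : AddMonoid.End V) ≠ 0 := fun h => hne (Subtype.ext h)
        obtain ⟨t', ht', htt⟩ := hinv _ (s - s').2 hne'
        apply hu
        refine ⟨t' * ((r' - r : R) : AddMonoid.End V), mul_mem ht' (r' - r).2, ?_⟩
        have h3 : u = t' (((s - s' : R) : AddMonoid.End V) u) := by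
          have : (t' * ((s - s' : R) : AddMonoid.End V)) u = u := by rw [htt]; rfl
          exact this.symm
        rw [h3, h2]
        rfl
      have hs : s = s' := sub_eq_zero.mp hss
      have h4 : ((r' - r : R) : AddMonoid.End V) x = 0 := by
        rw [← h2, hss]
        rfl
      have hr : r' = r := sub_eq_zero.mp (Subtype.ext (hinj _ (r' - r).2 x hx h4))
      rw [hs, hr]
    have h5 := Nat.card_le_card_of_injective f hf
    rw [Nat.card_prod, hcardR, ← pow_add, ← two_mul] at h5
    exact h5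

end NearFieldGroup

end Cfsg.Agent.Lib.Helper63
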