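import Mathlib
import Cfsg.Agent.S3995
import Cfsg.Agent.S0494
import Cfsg.Agent.Lib.Helper62.Small120

/-!
# K-NSE pack (S3431), leaf 343114 D5: a group of order 60 with 20 elements of order 3,
24 elements of order 5 and no element of order greater than 5 is `A_5`.
-/

set_option autoImplicit false
set_option linter.style.haveILetI false

namespace Cfsg.Agent.Lib.Helper63.Nse

open Cfsg.Agent.S3995 (s)

/-- An element of prime order `p` lies in every normal subgroup of index prime to `p`. -/
theorem mem_of_orderOf_prime {G : Type*} [Group G] [Finite G] (K : Subgroup G) [K.Normal]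
    {p : ℕ} (hp : p.Prime) (hidx : ¬ p ∣ K.index) {g : G} (hg : orderOf g = p) : g ∈ K := by
  rw [← QuotientGroup.eq_one_iff]
  have h1 : (QuotientGroup.mk g : G ⧸ K) ^ p = 1 := by
    rw [← QuotientGroup.mk_pow, ← hg, pow_orderOf_eq_one, QuotientGroup.mk_one]
  have h2 : orderOf (QuotientGroup.mk g : G ⧸ K) ∣ p := orderOf_dvd_of_pow_eq_one h1
  have h3 : orderOf (QuotientGroup.mk g : G ⧸ K) ∣ K.index := by
    rw [Subgroup.index_eq_card]
    exact orderOf_dvd_natCard _
  rcases (Nat.dvd_prime hp).mp h2 with h | h
  · exact orderOf_eq_one_iff.mp h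
  · exfalso
    rw [h] at h3
    exact hidx h3

/-- If conjugation by an element `x` with `x ^ p = 1` preserves the finite set `T` and fixes no
element of it, then `p` divides the size of `T`. -/
theorem dvd_card_of_fpf {G : Type*} [Group G] [DecidableEq G] {p : ℕ} [hp : Fact p.Prime]
    (x : G) (hx : x ^ p = 1) (T : Finset G) (hinv : ∀ t ∈ T, x * t * x⁻¹ ∈ T)
    (hfpf : ∀ t ∈ T, x * t * x⁻¹ ≠ t) : p ∣ T.card := by
  classical
  let f0 : T → T := fun t => ⟨x * t.1 * x⁻¹, hinv t.1 t.2⟩
  let f : Function.End T := f0
  have key : ∀ n : ℕ, ∀ t : T, ((f0^[n] t : T) : G) = x ^ n * t.1 * (x ^ n)⁻¹ := by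
    intro n
    induction n with
    | zero => intro t; simp
    | succ n ih =>
      intro t
      rw [Function.iterate_succ_apply']
      show x * (f0^[n] t : T).1 * x⁻¹ = _
      rw [ih t, pow_succ']
      group
  have hpow : ∀ n : ℕ, (f ^ n : Function.End T) = f0^[n] := fun n =>
    hom_coe_pow (fun g : Function.End T ↦ g) rfl (fun g h ↦ rfl) f n
  have hf : f ^ p ^ 1 = 1 := by
    rw [pow_one, hpow]
    funext t
    show f0^[p] t = t
    apply Subtype.ext
    rw [key p t, hx]
    simp
  have hmod := Equiv.Perm.card_fixedPoints_modEq (p := p) (n := 1) hf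
  have hfix : IsEmpty (Function.fixedPoints f) := by
    constructor
    rintro ⟨t, ht⟩
    have : f t = t := ht
    exact hfpf t.1 t.2 (congrArg Subtype.val this)
  rw [Fintype.card_eq_zero_iff.mpr hfix, Fintype.card_coe] at hmod
  exact (Nat.modEq_zero_iff_dvd).mp hmod


theorem orderOf_conj' {G : Type*} [Group G] (x k : G) : orderOf (x * k * x⁻¹) = orderOf k := by
  have := (MulAut.conj x).orderOf_eq k
  rwa [MulAut.conj_apply] at this

/-- 343114 D5. -/
theorem recog_A5 {G : Type*} [Group G] [Finite G] (hN : Nat.card G = 60) (h3 : Cfsg.Agent.S3995.s G 3 = 20)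
    (h5 : Cfsg.Agent.S3995.s G 5 = 24) (hsp : ∀ m, Cfsg.Agent.S3995.s G m ≠ 0 → m ≤ 5) :
    Nonempty (G ≃* ↥(alternatingGroup (Fin 5))) := by
  classical
  haveI : Fintype G := Fintype.ofFinite G
  haveI : Nontrivial G := by rw [← Finite.one_lt_card_iff_nontrivial, hN]; norm_num
  suffices hs : IsSimpleGroup G from Cfsg.Agent.S0494.result hN
  by_contra hsim
  obtain ⟨K, hKn, hKb, hKt⟩ := Cfsg.Agent.Lib.Helper62.Small120.exists_normal_of_not_simple hsim
  haveI := hKn
  have hKdvd : Nat.card K ∣ 60 := hN ▸ Subgroup.card_subgroup_dvd_card K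
  have hKidx : Nat.card K * K.index = 60 := hN ▸ K.card_mul_index
  have hK1 : Nat.card K ≠ 1 := fun h => hKb (Subgroup.eq_bot_of_card_eq K h)
  have hK60 : Nat.card K ≠ 60 := fun h => hKt ((Subgroup.card_eq_iff_eq_top K).mp (h.trans hN.symm))
  have hKcard : Nat.card K = (Finset.univ.filter (fun g : G => g ∈ K)).card := by
    rw [Nat.card_eq_fintype_card, Fintype.card_subtype]
  have hs_eq : ∀ m, s G m = (Finset.univ.filter (fun g : G => orderOf g = m)).card := by
    intro m
    unfold Cfsg.Agent.S3995.s
    rw [Nat.card_eq_fintype_card, Fintype.card_subtype]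
  by_cases h5K : 5 ∣ Nat.card K
  · -- `K` contains all elements of order 5, hence has order 30, hence all elements of order 3
    have hidx5 : ¬ 5 ∣ K.index := by
      intro h
      obtain ⟨a, ha⟩ := h5K
      obtain ⟨b, hb⟩ := h
      rw [ha, hb] at hKidx
      have : 25 * (a * b) = 60 := by rw [← hKidx]; ring
      omega
    have h5sub : Finset.univ.filter (fun g : G => orderOf g = 5) ⊆
        Finset.univ.filter (fun g : G => g ∈ K) := by
      intro g hg
      simp only [Finset.mem_filter, Finset.mem_univ, true_and] at hg ⊢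
      exact mem_of_orderOf_prime K Nat.prime_five hidx5 hg
    have h24 : 24 ≤ Nat.card K := by
      rw [hKcard, ← h5, hs_eq]
      exact Finset.card_le_card h5sub
    have hK30 : Nat.card K = 30 := by
      obtain ⟨c, hc⟩ := hKdvd
      have hc12 : c = 1 ∨ c = 2 := by
        have hc0 : c ≠ 0 := by rintro rfl; omega
        have : c < 3 := by
          by_contra hge
          push Not at hge
          have : 24 * 3 ≤ Nat.card K * c := Nat.mul_le_mul h24 hge
          omega
        omega
      rcases hc12 with rfl | rfl
      · exfalso; apply hK60; omega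
      · omega
    have hidx2 : K.index = 2 := by rw [hK30] at hKidx; omega
    have hidx3 : ¬ 3 ∣ K.index := by rw [hidx2]; norm_num
    have h3sub : Finset.univ.filter (fun g : G => orderOf g = 3) ⊆
        Finset.univ.filter (fun g : G => g ∈ K) := by
      intro g hg
      simp only [Finset.mem_filter, Finset.mem_univ, true_and] at hg ⊢
      exact mem_of_orderOf_prime K Nat.prime_three hidx3 hg
    have hdisj : Disjoint (Finset.univ.filter (fun g : G => orderOf g = 3))
        (Finset.univ.filter (fun g : G => orderOf g = 5)) := by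
      rw [Finset.disjoint_left]
      intro g hg3 hg5
      simp only [Finset.mem_filter, Finset.mem_univ, true_and] at hg3 hg5
      omega
    have h44 : 44 ≤ Nat.card K := by
      rw [hKcard]
      calc 44 = s G 3 + s G 5 := by rw [h3, h5]
        _ = ((Finset.univ.filter (fun g : G => orderOf g = 3)) ∪
            (Finset.univ.filter (fun g : G => orderOf g = 5))).card := by
          rw [Finset.card_union_of_disjoint hdisj, hs_eq, hs_eq]
        _ ≤ _ := Finset.card_le_card (Finset.union_subset h3sub h5sub)
    omega
  · -- conjugation by an element of order 5 is fixed-point-free on `K`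
    have hcop : Nat.Coprime (Nat.card K) 5 :=
      ((Nat.Prime.coprime_iff_not_dvd Nat.prime_five).mpr h5K).symm
    have hK12 : Nat.card K ∣ 12 := by
      have : Nat.card K ∣ 12 * 5 := hKdvd
      exact hcop.dvd_of_dvd_mul_right this
    obtain ⟨x, hx⟩ : ∃ x : G, orderOf x = 5 :=
      (Cfsg.Agent.S3995.s_ne_zero_iff 5).mp (by rw [h5]; norm_num)
    have hx5 : x ^ 5 = 1 := by rw [← hx]; exact pow_orderOf_eq_one x
    haveI : Fact (Nat.Prime 5) := ⟨Nat.prime_five⟩
    have hfpf : ∀ k ∈ K, k ≠ 1 → x * k * x⁻¹ ≠ k := by
      intro k hk hk1 hcomm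
      have hc : Commute x k := by
        show x * k = k * x
        calc x * k = (x * k * x⁻¹) * x := by group
          _ = k * x := by rw [hcomm]
      have hok : orderOf k ∣ Nat.card K := by
        have := orderOf_dvd_natCard (⟨k, hk⟩ : K)
        rwa [Subgroup.orderOf_mk] at this
      have hcop2 : Nat.Coprime (orderOf x) (orderOf k) := by
        rw [hx]
        exact (Nat.Coprime.coprime_dvd_left hok hcop).symm
      have hmul := hc.orderOf_mul_eq_mul_orderOf_of_coprime hcop2
      have hk2 : 2 ≤ orderOf k := by
        have h0 : 0 < orderOf k := orderOf_pos k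
        have h1 : orderOf k ≠ 1 := fun h => hk1 (orderOf_eq_one_iff.mp h)
        omega
      have hle := hsp (orderOf (x * k)) ((Cfsg.Agent.S3995.s_ne_zero_iff _).mpr ⟨x * k, rfl⟩)
      rw [hmul, hx] at hle
      omega
    -- the nonidentity elements of `K`
    have h1mem : (1 : G) ∈ Finset.univ.filter (fun g : G => g ∈ K) := by
      simp only [Finset.mem_filter, Finset.mem_univ, true_and]
      exact K.one_mem
    have hT1 : 5 ∣ ((Finset.univ.filter (fun g : G => g ∈ K)).erase 1).card := by
      apply dvd_card_of_fpf x hx5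
      · intro t ht
        rw [Finset.mem_erase, Finset.mem_filter] at ht ⊢
        refine ⟨?_, Finset.mem_univ _, hKn.conj_mem t ht.2.2 x⟩
        intro h
        apply ht.1
        have : t = x⁻¹ * (x * t * x⁻¹) * x := by group
        rw [this, h]
        group
      · intro t ht
        rw [Finset.mem_erase, Finset.mem_filter] at ht
        exact hfpf t ht.2.2 ht.1
    rw [Finset.card_erase_of_mem h1mem, ← hKcard] at hT1
    have hK6 : Nat.card K = 6 := by
      have hmem : Nat.card K ∈ Nat.divisors 12 := Nat.mem_divisors.mpr ⟨hK12, by norm_num⟩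
      have hdivs : Nat.divisors 12 = {1, 2, 3, 4, 6, 12} := by decide
      rw [hdivs] at hmem
      simp only [Finset.mem_insert, Finset.mem_singleton] at hmem
      rcases hmem with h | h | h | h | h | h
      · exact absurd h hK1
      · rw [h] at hT1; omega
      · rw [h] at hT1; omega
      · rw [h] at hT1; omega
      · exact h
      · rw [h] at hT1; omega
    -- elements of order `q` in `K`, `q = 2, 3`
    have hTq : ∀ q : ℕ, q.Prime → q ∣ Nat.card K →
        5 ≤ (Finset.univ.filter (fun g : G => g ∈ K ∧ orderOf g = q)).card := by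
      intro q hq hqK
      have hdvd : 5 ∣ (Finset.univ.filter (fun g : G => g ∈ K ∧ orderOf g = q)).card := by
        apply dvd_card_of_fpf x hx5
        · intro t ht
          rw [Finset.mem_filter] at ht ⊢
          exact ⟨Finset.mem_univ _, hKn.conj_mem t ht.2.1 x, by rw [orderOf_conj', ht.2.2]⟩
        · intro t ht
          rw [Finset.mem_filter] at ht
          apply hfpf t ht.2.1
          intro h1
          have := ht.2.2
          rw [h1, orderOf_one] at this
          exact hq.one_lt.ne this
      have hne : (Finset.univ.filter (fun g : G => g ∈ K ∧ orderOf g = q)).card ≠ 0 := by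
        haveI : Fact q.Prime := ⟨hq⟩
        obtain ⟨y, hy⟩ := exists_prime_orderOf_dvd_card' (G := K) q hqK
        rw [Finset.card_ne_zero]
        refine ⟨(y : G), ?_⟩
        rw [Finset.mem_filter]
        exact ⟨Finset.mem_univ _, y.2, by rw [Subgroup.orderOf_coe, hy]⟩
      obtain ⟨c, hc⟩ := hdvd
      rw [hc] at hne ⊢
      rcases Nat.eq_zero_or_pos c with h0 | h0
      · rw [h0] at hne; exact absurd rfl hne
      · omega
    have h2 := hTq 2 Nat.prime_two (by rw [hK6]; norm_num)
    have h3' := hTq 3 Nat.prime_three (by rw [hK6]; norm_num)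
    have hdisj : Disjoint (Finset.univ.filter (fun g : G => g ∈ K ∧ orderOf g = 2))
        (Finset.univ.filter (fun g : G => g ∈ K ∧ orderOf g = 3)) := by
      rw [Finset.disjoint_left]
      intro g hg2 hg3
      simp only [Finset.mem_filter, Finset.mem_univ, true_and] at hg2 hg3
      omega
    have hsub : (Finset.univ.filter (fun g : G => g ∈ K ∧ orderOf g = 2)) ∪
        (Finset.univ.filter (fun g : G => g ∈ K ∧ orderOf g = 3)) ⊆
        Finset.univ.filter (fun g : G => g ∈ K) := by
      intro g hg
      rw [Finset.mem_union, Finset.mem_filter, Finset.mem_filter] at hg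
      rw [Finset.mem_filter]
      rcases hg with hg | hg
      · exact ⟨Finset.mem_univ _, hg.2.1⟩
      · exact ⟨Finset.mem_univ _, hg.2.1⟩
    have := Finset.card_le_card hsub
    rw [Finset.card_union_of_disjoint hdisj, ← hKcard, hK6] at this
    omega

end Cfsg.Agent.Lib.Helper63.Nse
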