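import Cfsg.Agent.Lib.Helper49.OElDefs
import Cfsg.Agent.Lib.Helper50.SumForm
import Cfsg.Agent.Lib.Helper50.GeoBridge
import Cfsg.Agent.Lib.Helper50.OmegaAdjust
import Cfsg.Agent.Lib.Helper50.PlusForm
import Cfsg.Agent.Lib.Helper50.ElusiveUnip

/-!
# K-OEl-I (keystone 598817, architect helper49): the unipotent `x = [[1, A], [0, 1]]` of
`Ω⁺_(2d)(q)`, any `q`, with `A` the signed pairing matrix `2k ↔ 2k+1` (alternating, rank `2⌊d/2⌋`).
-/

set_option autoImplicit false
set_option linter.unusedSectionVars false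
set_option linter.unusedVariables false

namespace Cfsg.Agent.Lib.Helper63.OEl

open Module Matrix Cfsg.Agent.Lib.Helper98.Elus Cfsg.Agent.Lib.Helper98.Sy Cfsg.Agent.Lib.Helper38.OhP
  Cfsg.Agent.Lib.Helper49.OEl Cfsg.Agent.Lib.Helper50

universe u
variable {F : Type u} [Field F] {d : ℕ}

/-- the pairing involution `2k ↔ 2k+1` of `Fin d` (the last point is fixed when `d` is odd) -/
def sig (d : ℕ) (i : Fin d) : Fin d :=
  if h0 : i.val % 2 = 0 then (if h : i.val + 1 < d then ⟨i.val + 1, h⟩ else i)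
  else ⟨i.val - 1, by omega⟩

theorem sig_val (i : Fin d) : (sig d i).val =
    if i.val % 2 = 0 then (if i.val + 1 < d then i.val + 1 else i.val) else i.val - 1 := by
  unfold sig
  split_ifs <;> rfl

theorem sig_sig (i : Fin d) : sig d (sig d i) = i := by
  apply Fin.ext
  rw [sig_val, sig_val]
  split_ifs <;> omega

theorem sig_fix {i : Fin d} (h : sig d i = i) : i.val + 1 = d := by
  have h1 := congrArg Fin.val h
  rw [sig_val] at h1
  have := i.isLt
  split_ifs at h1 <;> omega

/-- the signs `+1, -1` on the pairs, `0` on the fixed point -/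
def sgn (F : Type u) [Field F] (d : ℕ) (i : Fin d) : F :=
  if i.val % 2 = 0 then (if i.val + 1 < d then 1 else 0) else -1

theorem sgn_sig (i : Fin d) : sgn F d (sig d i) = - sgn F d i := by
  unfold sgn
  rw [sig_val]
  have := i.isLt
  split_ifs <;> first | (exfalso; omega) | simp

theorem sgn_of_fix {i : Fin d} (h : sig d i = i) : sgn F d i = 0 := by
  have h1 := sig_fix h
  have h2 := congrArg Fin.val h
  rw [sig_val] at h2
  unfold sgn
  split_ifs at h2 ⊢ <;> first | (exfalso; omega) | rfl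

theorem sgn_ne_zero {i : Fin d} (h : sig d i ≠ i) : sgn F d i ≠ 0 := by
  have h2 : (sig d i).val ≠ i.val := fun h' => h (Fin.ext h')
  rw [sig_val] at h2
  unfold sgn
  split_ifs at h2 ⊢ <;> first | (exfalso; omega) | simp

/-- `t` times the signed pairing matrix -/
def altMat (t : F) : Matrix (Fin d) (Fin d) F :=
  Matrix.of fun i k => if k = sig d i then t * sgn F d i else 0

theorem altMat_mulVec (t : F) (y : Fin d → F) :
    altMat t *ᵥ y = fun i => t * sgn F d i * y (sig d i) := by
  funext i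
  simp [altMat, Matrix.mulVec, dotProduct]

theorem altMat_add (t t' : F) : altMat (d := d) t + altMat t' = altMat (t + t') := by
  ext i k
  simp only [altMat, Matrix.add_apply, Matrix.of_apply]
  split_ifs
  · ring
  · simp

theorem altMat_zero : altMat (F := F) (d := d) 0 = 0 := by
  ext i k
  simp [altMat]

/-- the unipotent matrix `[[1, t A], [0, 1]]` -/
def uMat (t : F) : Matrix (Fin d ⊕ Fin d) (Fin d ⊕ Fin d) F :=
  Matrix.fromBlocks 1 (altMat t) 0 1

theorem uMat_mul (t t' : F) : uMat (d := d) t * uMat t' = uMat (t + t') := by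
  unfold uMat
  rw [Matrix.fromBlocks_multiply]
  simp only [one_mul, mul_zero, add_zero, mul_one, zero_mul, zero_add]
  rw [add_comm (altMat t') (altMat t), altMat_add]

theorem uMat_zero : uMat (F := F) (d := d) 0 = 1 := by
  unfold uMat
  rw [altMat_zero, Matrix.fromBlocks_one]

theorem uMat_pow (t : F) (n : ℕ) : uMat (d := d) t ^ n = uMat ((n : F) * t) := by
  induction n with
  | zero => rw [pow_zero, Nat.cast_zero, zero_mul, uMat_zero]
  | succ n ih => rw [pow_succ, ih, uMat_mul, Nat.cast_succ, add_mul, one_mul]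

theorem uMat_mulVec (t : F) (v : Fin d ⊕ Fin d → F) :
    uMat t *ᵥ v = Sum.elim (fun i => v (Sum.inl i) + t * sgn F d i * v (Sum.inr (sig d i)))
      (fun i => v (Sum.inr i)) := by
  unfold uMat
  rw [Matrix.fromBlocks_mulVec, altMat_mulVec]
  funext j
  cases j <;> simp

theorem uMat_sub_one_mulVec (t : F) (v : Fin d ⊕ Fin d → F) :
    (uMat t - 1) *ᵥ v = Sum.elim (fun i => t * sgn F d i * v (Sum.inr (sig d i))) (fun _ => 0) := by
  rw [Matrix.sub_mulVec, Matrix.one_mulVec, uMat_mulVec]
  funext j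
  cases j <;> simp

/-- the signed pairing matrix is alternating -/
theorem alt_sum (t : F) (y : Fin d → F) : ∑ i, t * sgn F d i * y (sig d i) * y i = 0 := by
  refine Finset.sum_involution (fun i _ => sig d i) ?_ ?_ ?_ ?_
  · intro i _
    rw [sig_sig, sgn_sig]
    ring
  · intro i _ hne hfix
    apply hne
    rw [sgn_of_fix hfix]
    ring
  · intro i _
    exact Finset.mem_univ _
  · intro i _
    exact sig_sig i

theorem quadFormPlus_uMat (t : F) (v : Fin d ⊕ Fin d → F) :
    QPlus d F (uMat t *ᵥ v) = QPlus d F v := by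
  rw [uMat_mulVec, QPlus_apply, QPlus_apply]
  simp only [Sum.elim_inl, Sum.elim_inr, add_mul, Finset.sum_add_distrib]
  rw [alt_sum t (fun i => v (Sum.inr i)), add_zero]

/-- the unipotent element of the general linear group -/
def uGL (t : F) : GL (Fin d ⊕ Fin d) F :=
  ⟨uMat t, uMat (-t), by rw [uMat_mul, add_neg_cancel, uMat_zero],
    by rw [uMat_mul, neg_add_cancel, uMat_zero]⟩

theorem uGL_val (t : F) :
    ((uGL (d := d) t : GL (Fin d ⊕ Fin d) F) : Matrix (Fin d ⊕ Fin d) (Fin d ⊕ Fin d) F) = uMat t := rfl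

theorem uGL_mem_iso (t : F) : uGL (d := d) t ∈ Cfsg.isometryGroup F (⇑(QPlus d F)) := by
  rw [Cfsg.Agent.Lib.Helper19.mem_isometryGroup_iff]
  intro v
  rw [uGL_val]
  exact quadFormPlus_uMat t v

theorem uGL_mul (t t' : F) : uGL (d := d) t * uGL t' = uGL (t + t') := by
  apply Units.ext
  rw [Units.val_mul, uGL_val, uGL_val, uGL_val, uMat_mul]

/-- the coordinates `inl i` with `i` moved by the pairing are the only ones where the range of
`x - 1` lives -/
def mvSet (d : ℕ) : Set (Fin d ⊕ Fin d) := {j | ∀ i : Fin d, sig d i ≠ i → j ≠ Sum.inl i}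

theorem finrank_coordSub_mvSet :
    finrank F (coordSub (F := F) (mvSet d)) = Fintype.card {i : Fin d // sig d i ≠ i} := by
  classical
  rw [finrank_coordSub]
  have e : {i : Fin d // sig d i ≠ i} ≃ {j : Fin d ⊕ Fin d // j ∉ mvSet d} :=
    Equiv.ofBijective (fun i => ⟨Sum.inl i.1, fun h => h i.1 i.2 rfl⟩) (by
      constructor
      · intro i i' h
        have := congrArg Subtype.val h
        exact Subtype.ext (Sum.inl.inj this)
      · rintro ⟨j, hj⟩
        unfold mvSet at hj
        simp only [Set.mem_ofPred_eq, not_forall, not_not] at hj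
        obtain ⟨i, hi, rfl⟩ := hj
        exact ⟨⟨i, hi⟩, rfl⟩)
  rw [← Fintype.card_congr e]

theorem range_uMat_sub_one (t : F) (ht : t ≠ 0) :
    LinearMap.range (uMat (d := d) t - 1).mulVecLin = coordSub (mvSet d) := by
  ext w
  constructor
  · rintro ⟨v, rfl⟩
    intro j hj
    rw [Matrix.mulVecLin_apply, uMat_sub_one_mulVec]
    rcases j with i | i
    · by_cases hi : sig d i = i
      · simp [sgn_of_fix hi]
      · exact absurd rfl (hj i hi)
    · rfl
  · intro hw
    refine ⟨Sum.elim (fun _ => 0)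
      (fun k => (t * sgn F d (sig d k))⁻¹ * w (Sum.inl (sig d k))), ?_⟩
    rw [Matrix.mulVecLin_apply, uMat_sub_one_mulVec]
    funext j
    rcases j with i | i
    · by_cases hi : sig d i = i
      · have h0 : w (Sum.inl i) = 0 := hw (Sum.inl i) (by
          intro i' hi' h
          exact hi' (by rw [← Sum.inl.inj h]; exact hi))
        simp [sgn_of_fix hi, h0]
      · have hne : t * sgn F d i ≠ 0 := mul_ne_zero ht (sgn_ne_zero hi)
        simp only [Sum.elim_inl, Sum.elim_inr, sig_sig]
        rw [← mul_assoc, mul_inv_cancel₀ hne, one_mul]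
    · simpa using (hw (Sum.inr i) (by intro i' _ h; simp at h)).symm

theorem rank_uMat_sub_one (t : F) (ht : t ≠ 0) :
    (uMat (d := d) t - 1).rank = Fintype.card {i : Fin d // sig d i ≠ i} := by
  show finrank F (LinearMap.range (uMat (d := d) t - 1).mulVecLin) = _
  rw [range_uMat_sub_one t ht, finrank_coordSub_mvSet]

/-- at most one point is fixed -/
theorem card_moved_ge : d ≤ Fintype.card {i : Fin d // sig d i ≠ i} + 1 := by
  classical
  have h1 := Fintype.card_subtype_compl (fun i : Fin d => sig d i = i)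
  have h2 : Fintype.card {i : Fin d // sig d i = i} ≤ 1 := by
    rw [Fintype.card_le_one_iff_subsingleton]
    constructor
    rintro ⟨i, hi⟩ ⟨j, hj⟩
    apply Subtype.ext
    apply Fin.ext
    show i.val = j.val
    have := sig_fix hi
    have := sig_fix hj
    omega
  rw [Fintype.card_fin] at h1
  have h3 : Fintype.card {i : Fin d // sig d i = i} ≤ d := by
    have := Fintype.card_subtype_le (fun i : Fin d => sig d i = i)
    rwa [Fintype.card_fin] at this
  have h4 : Fintype.card {i : Fin d // sig d i ≠ i} = Fintype.card {i : Fin d // ¬ sig d i = i} :=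
    rfl
  omega

/-- the number of moved points is even -/
theorem even_card_moved : Even (Fintype.card {i : Fin d // sig d i ≠ i}) := by
  classical
  rw [Fintype.card_subtype]
  have h : ∑ i ∈ Finset.univ.filter (fun i : Fin d => sig d i ≠ i), (1 : ZMod 2) = 0 := by
    refine Finset.sum_involution (fun i _ => sig d i) ?_ ?_ ?_ ?_
    · intro i _
      rfl
    · intro i hi _
      exact (Finset.mem_filter.1 hi).2
    · intro i hi
      rw [Finset.mem_filter]
      refine ⟨Finset.mem_univ _, ?_⟩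
      rw [sig_sig]
      exact fun h => (Finset.mem_filter.1 hi).2 h.symm
    · intro i _
      exact sig_sig i
  rw [Finset.sum_const, nsmul_eq_mul, mul_one] at h
  exact (ZMod.natCast_eq_zero_iff_even).1 h

theorem toLin'_sub_one_eq'' {ι : Type} [Fintype ι] [DecidableEq ι] (A : Matrix ι ι F) :
    (Matrix.toLin' A - 1 : (ι → F) →ₗ[F] (ι → F)) = (A - 1).mulVecLin := by
  apply LinearMap.ext
  intro v
  rw [LinearMap.sub_apply, Matrix.toLin'_apply, Module.End.one_apply, Matrix.mulVecLin_apply,
    Matrix.sub_mulVec, Matrix.one_mulVec]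

/-- **K-OEl-I (598817)** -/
theorem exists_unip_plus [Fintype F] {p : ℕ} [Fact p.Prime] [CharP F p] (d : ℕ) (hd : 4 ≤ d) :
    ∃ x : GL (Fin d ⊕ Fin d) F, x ∈ Cfsg.Geo.omegaGL (Cfsg.quadFormPlus d F) ∧
      ((x ^ p : GL (Fin d ⊕ Fin d) F) : Matrix (Fin d ⊕ Fin d) (Fin d ⊕ Fin d) F) = 1 ∧
      (∀ z : F, (x : Matrix (Fin d ⊕ Fin d) (Fin d ⊕ Fin d) F) ≠
        z • (1 : Matrix (Fin d ⊕ Fin d) (Fin d ⊕ Fin d) F)) ∧
      ∃ E : Submodule F (Fin d ⊕ Fin d → F), (∀ v ∈ E, Q0 d F v = 0) ∧
        (∀ v, (Matrix.toLin' (x : Matrix (Fin d ⊕ Fin d) (Fin d ⊕ Fin d) F) - 1) v ∈ E) ∧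
        E ≤ LinearMap.ker (Matrix.toLin' (x : Matrix (Fin d ⊕ Fin d) (Fin d ⊕ Fin d) F) - 1) ∧
        finrank F (LinearMap.ker (Matrix.toLin' (x : Matrix (Fin d ⊕ Fin d) (Fin d ⊕ Fin d) F) - 1)) ≤
          finrank F E + 1 := by
  classical
  have h24 : Fintype.card F ≠ 2 ∨ Fintype.card (Fin d ⊕ Fin d) ≠ 4 := by
    right
    rw [Fintype.card_sum, Fintype.card_fin]
    omega
  refine ⟨uGL 1, ?_, ?_, ?_, coordSub (rightSet d), ?_, ?_, ?_, ?_⟩
  · -- membership in `Ω`
    have hΩ : (⟨uGL 1, uGL_mem_iso 1⟩ : ↥(Cfsg.isometryGroup F (⇑(QPlus d F)))) ∈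
        Cfsg.Omega F (⇑(QPlus d F)) := by
      by_cases hp2 : p = 2
      · subst hp2
        rw [mem_Omega_iff_even_rank' (QPlus d F) QPlus_nondegenerate h24]
        show Even (uMat (F := F) (d := d) 1 - 1).rank
        rw [rank_uMat_sub_one 1 one_ne_zero]
        exact even_card_moved
      · have h2 : (2 : F) ≠ 0 := by
          intro h
          have h' : ((2 : ℕ) : F) = 0 := by exact_mod_cast h
          rw [CharP.cast_eq_zero_iff F p 2] at h'
          exact hp2 ((Nat.prime_dvd_prime_iff_eq (Fact.out) Nat.prime_two).1 h')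
        have hc : (2 : F)⁻¹ + (2 : F)⁻¹ = 1 := by
          rw [← two_mul, mul_inv_cancel₀ h2]
        have heq : (⟨uGL 1, uGL_mem_iso 1⟩ : ↥(Cfsg.isometryGroup F (⇑(QPlus d F)))) =
            ⟨uGL (2 : F)⁻¹, uGL_mem_iso _⟩ * ⟨uGL (2 : F)⁻¹, uGL_mem_iso _⟩ := by
          apply Subtype.ext
          show uGL 1 = uGL (2 : F)⁻¹ * uGL (2 : F)⁻¹
          rw [uGL_mul, hc]
        rw [heq]
        exact mul_self_mem_Omega (QPlus d F) QPlus_nondegenerate h24 _
    exact coe_mem_omegaGL _ _ hΩ
  · rw [Units.val_pow_eq_pow_val, uGL_val, uMat_pow, mul_one, CharP.cast_eq_zero, uMat_zero]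
  · intro z hz
    rw [uGL_val] at hz
    have i : Fin d := ⟨0, by omega⟩
    have h1 := congrFun (congrFun hz (Sum.inl (⟨0, by omega⟩ : Fin d)))
      (Sum.inr (sig d (⟨0, by omega⟩ : Fin d)))
    have hne : sig d (⟨0, by omega⟩ : Fin d) ≠ ⟨0, by omega⟩ := by
      intro h
      have := sig_fix h
      simp at this
      omega
    have hs := sgn_ne_zero (F := F) hne
    simp [uMat, altMat] at h1
    exact hs h1
  · intro v hv
    show QPlus d F v = 0
    rw [QPlus_apply]
    apply Finset.sum_eq_zero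
    intro i _
    rw [hv (Sum.inr i) (by simp [rightSet]), mul_zero]
  · intro v
    rw [uGL_val, toLin'_sub_one_eq'', Matrix.mulVecLin_apply, uMat_sub_one_mulVec]
    intro j hj
    rcases j with i | i
    · simp [rightSet] at hj
    · rfl
  · intro v hv
    rw [LinearMap.mem_ker, uGL_val, toLin'_sub_one_eq'', Matrix.mulVecLin_apply, uMat_sub_one_mulVec]
    have h1 : ∀ i, v (Sum.inr i) = 0 := fun i => hv _ (by simp [rightSet])
    funext j
    rcases j with i | i <;> simp [h1]
  · rw [uGL_val, toLin'_sub_one_eq'']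
    have h := LinearMap.finrank_range_add_finrank_ker (uMat (F := F) (d := d) 1 - 1).mulVecLin
    rw [range_uMat_sub_one 1 one_ne_zero, finrank_coordSub_mvSet, Module.finrank_fintype_fun_eq_card,
      Fintype.card_sum, Fintype.card_fin] at h
    rw [finrank_coordSub_rightSet]
    have := card_moved_ge (d := d)
    omega

end Cfsg.Agent.Lib.Helper63.OEl
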