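import Mathlib

set_option autoImplicit false

namespace Cfsg.Agent.Lib.Helper63

open scoped LinearAlgebra.Projectivization

section ProjCount

variable {F : Type*} [Field F] {V : Type*} [AddCommGroup V] [Module F V]

/-- the points of the projective space lying in a subspace -/
def ptsIn (W : Submodule F V) : Set (ℙ F V) := {x | x.rep ∈ W}

theorem mk_mem_ptsIn (W : Submodule F V) (v : V) (hv : v ≠ 0) :
    Projectivization.mk F v hv ∈ ptsIn W ↔ v ∈ W := by
  obtain ⟨a, ha⟩ := Projectivization.exists_smul_eq_mk_rep F v hv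
  show (Projectivization.mk F v hv).rep ∈ W ↔ v ∈ W
  rw [← ha]
  exact W.smul_mem_iff' a

theorem mem_ptsIn_iff (W : Submodule F V) (x : ℙ F V) : x ∈ ptsIn W ↔ x.rep ∈ W := Iff.rfl

/-- the points of a subspace form its projective space -/
theorem card_ptsIn (W : Submodule F V) : Nat.card (ptsIn W) = Nat.card (ℙ F W) := by
  symm
  apply Nat.card_congr
  refine Equiv.ofBijective
    (fun y => ⟨Projectivization.map W.subtype W.injective_subtype y, ?_⟩) ⟨?_, ?_⟩
  · induction y using Projectivization.ind with
    | h w hw =>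
      rw [Projectivization.map_mk, mk_mem_ptsIn]
      exact w.2
  · intro y y' h
    have h' := congrArg Subtype.val h
    exact Projectivization.map_injective W.subtype W.injective_subtype h'
  · rintro ⟨x, hx⟩
    have hne : (⟨x.rep, hx⟩ : W) ≠ 0 := by
      intro h
      exact x.rep_nonzero (congrArg Subtype.val h)
    refine ⟨Projectivization.mk F (⟨x.rep, hx⟩ : W) hne, ?_⟩
    apply Subtype.ext
    show Projectivization.map W.subtype W.injective_subtype (Projectivization.mk F _ hne) = x
    rw [Projectivization.map_mk]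
    exact Projectivization.mk_rep x

/-- the number of points of a nonzero subspace over a finite field is `1` modulo `q` -/
theorem card_ptsIn_mod [Finite F] [Finite V] (W : Submodule F V) (hW : W ≠ ⊥) :
    (Nat.card (ptsIn W) : ZMod (Nat.card F)) = 1 := by
  have h1 := Projectivization.card' F W
  rw [← card_ptsIn] at h1
  have hfin : Module.Finite F W := Module.Finite.of_finite
  have h2 := Module.natCard_eq_pow_finrank (K := F) (V := W)
  have hpos : 0 < Module.finrank F W := by
    rw [Module.finrank_pos_iff_exists_ne_zero]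
    obtain ⟨w, hw, hw0⟩ := Submodule.exists_mem_ne_zero_of_ne_bot hW
    exact ⟨⟨w, hw⟩, fun h => hw0 (congrArg Subtype.val h)⟩
  have hq : 1 < Nat.card F := Finite.one_lt_card
  have h3 : ((Nat.card W : ℕ) : ZMod (Nat.card F)) = 0 := by
    rw [h2, Nat.cast_pow, ZMod.natCast_self, zero_pow (by omega)]
  have h4 : (((Nat.card F - 1 : ℕ) : ZMod (Nat.card F))) = -1 := by
    rw [Nat.cast_sub hq.le, ZMod.natCast_self, Nat.cast_one, zero_sub]
  have h5 := congrArg (fun m : ℕ => (m : ZMod (Nat.card F))) h1
  simp only [Nat.cast_add, Nat.cast_mul, Nat.cast_one] at h5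
  rw [h3, h4] at h5
  have : (Nat.card (ptsIn W) : ZMod (Nat.card F)) = 1 := by
    have h6 : (0 : ZMod (Nat.card F)) = -(Nat.card (ptsIn W) : ZMod (Nat.card F)) + 1 := by
      rw [h5]; ring
    have h7 : (Nat.card (ptsIn W) : ZMod (Nat.card F)) =
        (Nat.card (ptsIn W) : ZMod (Nat.card F)) + 0 := by ring
    rw [h7, h6]
    ring
  exact this

end ProjCount

end Cfsg.Agent.Lib.Helper63
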