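import Mathlib
import Cfsg.Agent.Lib.Helper63.ProjCount

set_option autoImplicit false
set_option linter.unusedSectionVars false

namespace Cfsg.Agent.Lib.Helper63

open scoped LinearAlgebra.Projectivization

section ONan

variable {F : Type*} [Field F] [Finite F]

/-- the subspace of vectors `w` in the coordinate hyperplane whose image under a semilinear map
also lies in the coordinate hyperplane -/
def hypInter {n : ℕ} (i₀ : Fin n) {σ : F ≃+* F}
    (f : (Fin n → F) →ₛₗ[(σ : F →+* F)] (Fin n → F)) : Submodule F (Fin n → F) where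
  carrier := {w | w i₀ = 0 ∧ (f w) i₀ = 0}
  add_mem' := by
    rintro u w ⟨hu1, hu2⟩ ⟨hw1, hw2⟩
    refine ⟨by rw [Pi.add_apply, hu1, hw1, add_zero], ?_⟩
    rw [map_add, Pi.add_apply, hu2, hw2, add_zero]
  zero_mem' := ⟨rfl, by rw [map_zero]; rfl⟩
  smul_mem' := by
    rintro c w ⟨hw1, hw2⟩
    refine ⟨by rw [Pi.smul_apply, hw1, smul_zero], ?_⟩
    rw [map_smulₛₗ, Pi.smul_apply, hw2, smul_zero]

theorem hypInter_ne_bot {n : ℕ} (hn : 3 ≤ n) (i₀ : Fin n) {σ : F ≃+* F}
    (f : (Fin n → F) →ₛₗ[(σ : F →+* F)] (Fin n → F)) : hypInter i₀ f ≠ ⊥ := by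
  let g : (Fin n → F) →ₗ[F] F :=
    { toFun := fun w => σ.symm ((f w) i₀)
      map_add' := by
        intro u w
        rw [map_add, Pi.add_apply, map_add]
      map_smul' := by
        intro c w
        rw [map_smulₛₗ, Pi.smul_apply, smul_eq_mul, map_mul]
        simp }
  let L : (Fin n → F) →ₗ[F] F × F := LinearMap.prod (LinearMap.proj i₀) g
  have hlt : Module.finrank F (F × F) < Module.finrank F (Fin n → F) := by
    rw [Module.finrank_prod, Module.finrank_self, Module.finrank_fin_fun]
    omega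
  have hker := LinearMap.ker_ne_bot_of_finrank_lt (f := L) hlt
  intro hbot
  apply hker
  rw [eq_bot_iff, ← hbot]
  intro w hw
  rw [LinearMap.mem_ker] at hw
  have h1 : w i₀ = 0 := congrArg Prod.fst hw
  have h2 : σ.symm ((f w) i₀) = 0 := congrArg Prod.snd hw
  refine ⟨h1, ?_⟩
  have := congrArg σ h2
  rwa [RingEquiv.apply_symm_apply, map_zero] at this

/-- O'Nan: the projective semilinear group in dimension at least `3` contains no sharply
`2`-transitive set -/
theorem no_sharply_two_transitive_set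
    (n : ℕ) (hn : 3 ≤ n) (S : Set (Equiv.Perm (ℙ F (Fin n → F))))
    (hS : ∀ s ∈ S, ∃ (σ : F ≃+* F) (f : (Fin n → F) →ₛₗ[(σ : F →+* F)] (Fin n → F))
      (hf : Function.Injective f), ∀ x, s x = Projectivization.map f hf x) :
    ¬ (∀ a b c d : ℙ F (Fin n → F), a ≠ b → c ≠ d →
        ∃! s, s ∈ S ∧ s a = c ∧ s b = d) := by
  classical
  intro hsharp
  have hq : 1 < Nat.card F := Finite.one_lt_card
  have hqfact : Fact (1 < Nat.card F) := ⟨hq⟩
  have : Fintype (ℙ F (Fin n → F)) := Fintype.ofFinite _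
  let i₀ : Fin n := ⟨0, by omega⟩
  let H : Submodule F (Fin n → F) := LinearMap.ker (LinearMap.proj (R := F) (φ := fun _ => F) i₀)
  have hHmem : ∀ w : Fin n → F, w ∈ H ↔ w i₀ = 0 := fun w => LinearMap.mem_ker
  have he₀ : (Pi.single i₀ (1 : F) : Fin n → F) ≠ 0 := by
    intro h
    have := congrFun h i₀
    rw [Pi.single_eq_same] at this
    exact one_ne_zero this
  let x₀ : ℙ F (Fin n → F) := Projectivization.mk F _ he₀
  have hx₀ : x₀ ∉ ptsIn H := by
    intro h
    rw [mk_mem_ptsIn, hHmem, Pi.single_eq_same] at h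
    exact one_ne_zero h
  have hHbot : H ≠ ⊥ := by
    intro hbot
    let i₁ : Fin n := ⟨1, by omega⟩
    have hmem : (Pi.single i₁ (1 : F) : Fin n → F) ∈ H := by
      rw [hHmem]
      apply Pi.single_eq_of_ne
      intro h
      have := congrArg Fin.val h
      simp [i₀, i₁] at this
    rw [hbot, Submodule.mem_bot] at hmem
    have := congrFun hmem i₁
    rw [Pi.single_eq_same] at this
    exact one_ne_zero this
  -- the cardinalities modulo q
  have hk : (Nat.card (ptsIn H) : ZMod (Nat.card F)) = 1 := card_ptsIn_mod H hHbot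
  have hv : (Fintype.card (ℙ F (Fin n → F)) : ZMod (Nat.card F)) = 1 := by
    have htop : (⊤ : Submodule F (Fin n → F)) ≠ ⊥ := by
      intro h
      have : (Pi.single i₀ (1 : F) : Fin n → F) ∈ (⊥ : Submodule F (Fin n → F)) := by
        rw [← h]; trivial
      exact he₀ ((Submodule.mem_bot F).mp this)
    have h1 := card_ptsIn_mod (⊤ : Submodule F (Fin n → F)) htop
    have h2 : Nat.card (ptsIn (⊤ : Submodule F (Fin n → F))) =
        Fintype.card (ℙ F (Fin n → F)) := by
      rw [← Nat.card_eq_fintype_card]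
      exact Nat.card_congr (Equiv.subtypeUnivEquiv
        (fun x => (Submodule.mem_top : x.rep ∈ (⊤ : Submodule F (Fin n → F)))))
    rw [h2] at h1
    exact h1
  let bF : Finset (ℙ F (Fin n → F)) := Finset.univ.filter (fun y => y ∈ ptsIn H)
  have hbF : ∀ y, y ∈ bF ↔ y ∈ ptsIn H := fun y => by
    simp only [bF, Finset.mem_filter, Finset.mem_univ, true_and]
  have hbFcard : (bF.card : ZMod (Nat.card F)) = 1 := by
    have : bF.card = Nat.card (ptsIn H) := by
      rw [Nat.card_eq_fintype_card, Fintype.card_subtype]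
    rw [this]
    exact hk
  let Sx : Finset (Equiv.Perm (ℙ F (Fin n → F))) :=
    Finset.univ.filter (fun s => s ∈ S ∧ s x₀ = x₀)
  have hSx : ∀ s, s ∈ Sx ↔ s ∈ S ∧ s x₀ = x₀ := fun s => by
    simp only [Sx, Finset.mem_filter, Finset.mem_univ, true_and]
  -- a point of the hyperplane
  have hbne : bF.Nonempty := by
    rw [Finset.nonempty_iff_ne_empty]
    intro h
    rw [h, Finset.card_empty, Nat.cast_zero] at hbFcard
    exact zero_ne_one hbFcard
  obtain ⟨z₀, hz₀⟩ := hbne
  have hz₀x : x₀ ≠ z₀ := by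
    intro h
    apply hx₀
    rw [h]
    exact (hbF z₀).mp hz₀
  -- the size of `Sx`
  have hSxcard : Sx.card = Fintype.card (ℙ F (Fin n → F)) - 1 := by
    have : Sx.card = (Finset.univ.erase x₀).card := by
      apply Finset.card_bij (fun s _ => s z₀)
      · intro s hs
        rw [Finset.mem_erase]
        refine ⟨?_, Finset.mem_univ _⟩
        intro h
        have h2 := ((hSx s).mp hs).2
        rw [← h2] at h
        exact hz₀x (s.injective h).symm
      · intro s hs s' hs' h
        obtain ⟨t, _, htu⟩ := hsharp x₀ z₀ x₀ (s z₀) hz₀x (by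
          intro h2
          have h3 := ((hSx s).mp hs).2
          rw [← h3] at h2
          exact hz₀x (s.injective h2))
        have e1 := htu s ⟨((hSx s).mp hs).1, ((hSx s).mp hs).2, rfl⟩
        have e2 := htu s' ⟨((hSx s').mp hs').1, ((hSx s').mp hs').2, h.symm⟩
        rw [e1, e2]
      · intro w hw
        rw [Finset.mem_erase] at hw
        obtain ⟨t, ⟨ht1, ht2, ht3⟩, _⟩ := hsharp x₀ z₀ x₀ w hz₀x (Ne.symm hw.1)
        exact ⟨t, (hSx t).mpr ⟨ht1, ht2⟩, ht3⟩
    rw [this, Finset.card_erase_of_mem (Finset.mem_univ _), Finset.card_univ]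
  have hSxmod : (Sx.card : ZMod (Nat.card F)) = 0 := by
    rw [hSxcard]
    have hpos : 1 ≤ Fintype.card (ℙ F (Fin n → F)) := Fintype.card_pos_iff.mpr ⟨x₀⟩
    rw [Nat.cast_sub hpos, hv, Nat.cast_one, sub_self]
  -- the double count
  let T : Finset (Equiv.Perm (ℙ F (Fin n → F)) × ℙ F (Fin n → F)) :=
    (Sx ×ˢ bF).filter (fun p => p.1 p.2 ∈ ptsIn H)
  have hT1 : T.card = ∑ s ∈ Sx, (bF.filter (fun y => s y ∈ ptsIn H)).card := by
    rw [Finset.card_filter, Finset.sum_product]
    apply Finset.sum_congr rfl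
    intro s _
    rw [Finset.card_filter]
  have hT2 : T.card = ∑ y ∈ bF, (Sx.filter (fun s => s y ∈ ptsIn H)).card := by
    rw [Finset.card_filter, Finset.sum_product_right]
    apply Finset.sum_congr rfl
    intro y _
    rw [Finset.card_filter]
  -- each column has `k` elements
  have hcol : ∀ y ∈ bF, (Sx.filter (fun s => s y ∈ ptsIn H)).card = bF.card := by
    intro y hy
    have hyx : x₀ ≠ y := by
      intro h
      apply hx₀
      rw [h]
      exact (hbF y).mp hy
    apply Finset.card_bij (fun s _ => s y)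
    · intro s hs
      rw [Finset.mem_filter] at hs
      exact (hbF _).mpr hs.2
    · intro s hs s' hs' h
      rw [Finset.mem_filter] at hs hs'
      have hne : x₀ ≠ s y := by
        intro h2
        apply hx₀
        rw [h2]
        exact hs.2
      obtain ⟨t, _, htu⟩ := hsharp x₀ y x₀ (s y) hyx hne
      have e1 := htu s ⟨((hSx s).mp hs.1).1, ((hSx s).mp hs.1).2, rfl⟩
      have e2 := htu s' ⟨((hSx s').mp hs'.1).1, ((hSx s').mp hs'.1).2, h.symm⟩
      rw [e1, e2]
    · intro w hw
      have hne : x₀ ≠ w := by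
        intro h2
        apply hx₀
        rw [h2]
        exact (hbF w).mp hw
      obtain ⟨t, ⟨ht1, ht2, ht3⟩, _⟩ := hsharp x₀ y x₀ w hyx hne
      refine ⟨t, ?_, ht3⟩
      rw [Finset.mem_filter]
      refine ⟨(hSx t).mpr ⟨ht1, ht2⟩, ?_⟩
      rw [ht3]
      exact (hbF w).mp hw
  -- each row has `1` modulo `q` elements
  have hrow : ∀ s ∈ Sx, ((bF.filter (fun y => s y ∈ ptsIn H)).card : ZMod (Nat.card F)) = 1 := by
    intro s hs
    obtain ⟨σ, f, hf, hsf⟩ := hS s ((hSx s).mp hs).1
    have hWbot := hypInter_ne_bot hn i₀ f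
    have hcard : (bF.filter (fun y => s y ∈ ptsIn H)).card = Nat.card (ptsIn (hypInter i₀ f)) := by
      rw [Nat.card_eq_fintype_card, Fintype.card_subtype, Finset.filter_filter]
      congr 1
      apply Finset.filter_congr
      intro y _
      induction y using Projectivization.ind with
      | h w hw =>
        rw [hsf, Projectivization.map_mk, mk_mem_ptsIn, mk_mem_ptsIn, mk_mem_ptsIn, hHmem, hHmem]
        rfl
    rw [hcard]
    exact card_ptsIn_mod _ hWbot
  have hfinal1 : (T.card : ZMod (Nat.card F)) = 0 := by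
    rw [hT1, Nat.cast_sum, Finset.sum_congr rfl hrow, Finset.sum_const, nsmul_eq_mul, mul_one,
      hSxmod]
  have hfinal2 : (T.card : ZMod (Nat.card F)) = 1 := by
    rw [hT2, Finset.sum_congr rfl hcol, Finset.sum_const, smul_eq_mul, Nat.cast_mul, hbFcard,
      mul_one]
  rw [hfinal1] at hfinal2
  exact zero_ne_one hfinal2

end ONan

end Cfsg.Agent.Lib.Helper63
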