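import Cfsg.Agent.Lib.Helper99.OTsDefs
import Cfsg.Agent.Lib.Helper99.OTsB
import Cfsg.Agent.Lib.Helper14.OsElC
import Cfsg.Agent.Lib.Helper63.OhA
import Cfsg.Agent.Lib.Helper63.OTsO6
import Cfsg.Agent.Lib.Helper98.Oh0
import Cfsg.Agent.Lib.Helper05.OsElB

/-!
# K-OTs pack, TWO sub-pack, TYPE A core (for helper50 / helper99): isometric involutions `x`
(`x ^ 2 = 1`, `2 ≠ 0`) of a nondegenerate quadratic space and invariant totally singular subspaces.

`V0 x = ker (x - 1)`, `V1 2 x = ker (1 + x)`.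
-/

set_option autoImplicit false
set_option linter.unusedVariables false
set_option linter.unusedSectionVars false

namespace Cfsg.Agent.Lib.Helper63.OTs

open Module Cfsg.Agent.Lib.Helper98.Elus Cfsg.Agent.Lib.Helper98.Sy Cfsg.Agent.Lib.Helper99.OTs
open scoped Matrix MatrixGroups

universe u
variable {F : Type u} [Field F] {V : Type u} [AddCommGroup V] [Module F V]

theorem polarBilin_isRefl (Q : QuadraticForm F V) : (QuadraticMap.polarBilin Q).IsRefl := by
  intro x y h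
  rw [polarBilin_symm]
  exact h

/-- for `2 ≠ 0`: totally isotropic for the polar form = totally singular -/
theorem ts_of_ort (h2 : (2 : F) ≠ 0) (Q : QuadraticForm F V) (Z : Submodule F V)
    (hZ : Ort (QuadraticMap.polarBilin Q) Z Z) : TS Q Z := by
  intro z hz
  have h := hZ z hz z hz
  rw [QuadraticMap.polarBilin_apply_apply, QuadraticMap.polar_self, two_nsmul, ← two_mul] at h
  rcases mul_eq_zero.mp h with h | h
  · exact absurd h h2
  · exact h

/-- for `2 ≠ 0`: `PlusOn Q U` is `Oh.Plus (polarBilin Q) U` -/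
theorem plusOn_iff_plus (h2 : (2 : F) ≠ 0) (Q : QuadraticForm F V) (U : Submodule F V) :
    PlusOn Q U ↔ Cfsg.Agent.Lib.Helper98.Oh.Plus (QuadraticMap.polarBilin Q) U := by
  constructor
  · rintro ⟨Z, hZU, hZ, hZd⟩
    refine ⟨Z, hZU, fun u hu => ?_, hZd⟩
    rw [QuadraticMap.polarBilin_apply_apply, QuadraticMap.polar_self, hZ u hu, smul_zero]
  · rintro ⟨Z, hZU, hZ, hZd⟩
    refine ⟨Z, hZU, fun u hu => ?_, hZd⟩
    have h := hZ u hu
    rw [QuadraticMap.polarBilin_apply_apply, QuadraticMap.polar_self, two_nsmul, ← two_mul] at h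
    rcases mul_eq_zero.mp h with h | h
    · exact absurd h h2
    · exact h

theorem mem_V1_two_iff (x : V →ₗ[F] V) (v : V) : v ∈ V1 2 x ↔ x v = -v := by
  rw [mem_V1, gsum_apply, Finset.sum_range_succ, Finset.sum_range_one, pow_zero, pow_one,
    Module.End.one_apply]
  constructor
  · intro h
    exact eq_neg_of_add_eq_zero_right h
  · intro h
    rw [h, add_neg_cancel]

/-- every subspace of the `(-1)`-eigenspace is invariant -/
theorem inv_of_le_V1_two (x : V →ₗ[F] V) (Z : Submodule F V) (hZ : Z ≤ V1 2 x) : Inv x Z := by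
  intro v hv
  rw [(mem_V1_two_iff x v).mp (hZ hv)]
  exact Z.neg_mem hv

/-- a totally singular subspace of a nondegenerate subspace has at most half the dimension -/
theorem two_mul_finrank_le_of_ts [FiniteDimensional F V] (Q : QuadraticForm F V)
    (hV : NonDeg (QuadraticMap.polarBilin Q) ⊤) (U Z : Submodule F V)
    (hU : NonDeg (QuadraticMap.polarBilin Q) U) (hZU : Z ≤ U) (hZ : TS Q Z) :
    2 * finrank F Z ≤ finrank F U := by
  have hR := polarBilin_isRefl Q
  have h1 := Cfsg.Agent.Lib.Helper05.OsEl.finrank_orth_inf hR hV Z U hZU hU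
  have h2 : Z ≤ LinearMap.BilinForm.orthogonal (QuadraticMap.polarBilin Q) Z ⊓ U := by
    refine le_inf ?_ hZU
    intro z hz
    rw [LinearMap.BilinForm.mem_orthogonal_iff]
    intro n hn
    exact hZ.ort n hn z hz
  have h3 := Submodule.finrank_mono h2
  omega

/-- totally singular subspaces of every dimension below half the dimension; at half the dimension
for the plus type -/
theorem exists_ts_of_bound [Fintype F] [FiniteDimensional F V] (h2 : (2 : F) ≠ 0)
    (Q : QuadraticForm F V) (U : Submodule F V) (hU : NonDeg (QuadraticMap.polarBilin Q) U)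
    (s : ℕ) (hs : 2 * s ≤ finrank F U) (hp : 0 < s → 2 * s = finrank F U → PlusOn Q U) :
    ∃ Z : Submodule F V, Z ≤ U ∧ TS Q Z ∧ finrank F Z = s := by
  rcases Nat.eq_zero_or_pos s with h0 | hpos
  · subst h0
    exact ⟨⊥, bot_le, ts_bot Q, finrank_bot F V⟩
  rcases Nat.lt_or_ge (2 * s) (finrank F U) with hlt | hge
  · obtain ⟨Z, hZU, hZ, hZd⟩ := Cfsg.Agent.Lib.Helper14.OsEl.exists_ts_symm
      (B := QuadraticMap.polarBilin Q) (polarBilin_symm Q) h2 s U hU (by omega)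
    exact ⟨Z, hZU, ts_of_ort h2 Q Z hZ, hZd⟩
  · obtain ⟨Z, hZU, hZ, hZd⟩ := hp hpos (by omega)
    exact ⟨Z, hZU, hZ, by omega⟩

section Invol

variable [FiniteDimensional F V] (h2 : (2 : F) ≠ 0) (Q : QuadraticForm F V)
  (hV : NonDeg (QuadraticMap.polarBilin Q) ⊤) (x : V →ₗ[F] V) (hx : x ^ 2 = 1) (hiso : QIso Q x)
include h2 hV hx hiso

/-- the two eigenspaces of an isometric involution -/
theorem invol_parts :
    NonDeg (QuadraticMap.polarBilin Q) (V0 x) ∧ NonDeg (QuadraticMap.polarBilin Q) (V1 2 x) ∧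
      Ort (QuadraticMap.polarBilin Q) (V0 x) (V1 2 x) ∧ V0 x ⊔ V1 2 x = ⊤ ∧ V0 x ⊓ V1 2 x = ⊥ ∧
      finrank F (V0 x) + finrank F (V1 2 x) = finrank F V := by
  have hrF : ((2 : ℕ) : F) ≠ 0 := by
    rw [Nat.cast_ofNat]
    exact h2
  have hR := polarBilin_isRefl Q
  obtain ⟨hnd0, hnd1⟩ := Cfsg.Agent.Lib.Helper98.Oh.nonDeg_inf_parts_refl hR 2 hrF x hx hiso.iso ⊤ hV
    (fun _ _ => Submodule.mem_top)
  rw [top_inf_eq] at hnd0 hnd1
  exact ⟨hnd0, hnd1, ort_V0_V1 2 hrF x hx hiso.iso, V0_sup_V1 2 hrF x hx, V0_inf_V1 2 hrF x,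
    finrank_V0_add_V1 2 hrF x hx⟩

/-- gluing: totally singular `Zp ≤ V0 x`, `Zm ≤ V1 2 x` give an invariant totally singular subspace -/
theorem glue_invol (Zp Zm : Submodule F V) (hp : Zp ≤ V0 x) (hps : TS Q Zp) (hm : Zm ≤ V1 2 x)
    (hms : TS Q Zm) :
    Inv x (Zp ⊔ Zm) ∧ TS Q (Zp ⊔ Zm) ∧ finrank F ↥(Zp ⊔ Zm) = finrank F Zp + finrank F Zm := by
  have hrF : ((2 : ℕ) : F) ≠ 0 := by
    rw [Nat.cast_ofNat]
    exact h2
  exact glue_parts Q 2 hrF x hx hiso Zp Zm hp hps hm (inv_of_le_V1_two x Zm hm) hms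

/-- existence of a fixed totally singular subspace of dimension `m ≤ wp + wm`, where `wp`, `wm` are
lower bounds for the Witt indices of the eigenspaces -/
theorem exists_fixed_ts_invol [Fintype F] (wp wm m : ℕ)
    (hwp : 2 * wp ≤ finrank F (V0 x)) (hpp : 0 < wp → 2 * wp = finrank F (V0 x) → PlusOn Q (V0 x))
    (hwm : 2 * wm ≤ finrank F (V1 2 x))
    (hpm : 0 < wm → 2 * wm = finrank F (V1 2 x) → PlusOn Q (V1 2 x))
    (hm : m ≤ wp + wm) :
    ∃ W : Submodule F V, Inv x W ∧ TS Q W ∧ finrank F W = m := by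
  obtain ⟨hnd0, hnd1, -, -, -, -⟩ := invol_parts h2 Q hV x hx hiso
  obtain ⟨sp, hsp⟩ : ∃ sp, sp = min m wp := ⟨_, rfl⟩
  have hsp1 : sp ≤ m := by rw [hsp]; exact min_le_left _ _
  have hsp2 : sp ≤ wp := by rw [hsp]; exact min_le_right _ _
  have hsm : m - sp ≤ wm := by
    rcases le_total m wp with h | h
    · rw [hsp, min_eq_left h]; omega
    · rw [hsp, min_eq_right h]; omega
  obtain ⟨Zp, hZp, hZps, hZpd⟩ := exists_ts_of_bound h2 Q (V0 x) hnd0 sp (by omega)
    (fun h0 he => hpp (by omega) (by omega))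
  obtain ⟨Zm, hZm, hZms, hZmd⟩ := exists_ts_of_bound h2 Q (V1 2 x) hnd1 (m - sp) (by omega)
    (fun h0 he => hpm (by omega) (by omega))
  obtain ⟨g1, g2, g3⟩ := glue_invol h2 Q hV x hx hiso Zp Zm hZp hZps hZm hZms
  exact ⟨Zp ⊔ Zm, g1, g2, by rw [g3, hZpd, hZmd]; omega⟩

/-- the three cases of TYPE A in terms of `d = dim V / 2` (both eigenspaces of even dimension) -/
theorem exists_fixed_ts_typeA [Fintype F] (d : ℕ) (hd : finrank F V = 2 * d)
    (he : Even (finrank F (V1 2 x))) (m : ℕ) :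
    (m + 2 ≤ d → ∃ W : Submodule F V, Inv x W ∧ TS Q W ∧ finrank F W = m) ∧
    ((PlusOn Q (V0 x) ∨ PlusOn Q (V1 2 x)) → m + 1 ≤ d →
      ∃ W : Submodule F V, Inv x W ∧ TS Q W ∧ finrank F W = m) ∧
    (PlusOn Q (V0 x) → PlusOn Q (V1 2 x) → m ≤ d →
      ∃ W : Submodule F V, Inv x W ∧ TS Q W ∧ finrank F W = m) := by
  obtain ⟨-, -, -, -, -, hsum⟩ := invol_parts h2 Q hV x hx hiso
  obtain ⟨b', hb'⟩ := he
  obtain ⟨a', ha'⟩ : ∃ a', finrank F (V0 x) = a' + a' := ⟨d - b', by omega⟩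
  refine ⟨fun hm => ?_, fun hP hm => ?_, fun hP0 hP1 hm => ?_⟩
  · apply exists_fixed_ts_invol h2 Q hV x hx hiso (a' - 1) (b' - 1) m (by omega)
      (fun h0 he => by omega) (by omega) (fun h0 he => by omega)
    rcases Nat.eq_zero_or_pos a' with h | h
    · rcases Nat.eq_zero_or_pos b' with h' | h'
      · omega
      · omega
    · rcases Nat.eq_zero_or_pos b' with h' | h'
      · omega
      · omega
  · rcases hP with hP | hP
    · apply exists_fixed_ts_invol h2 Q hV x hx hiso a' (b' - 1) m (by omega)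
        (fun _ _ => hP) (by omega) (fun h0 he => by omega)
      rcases Nat.eq_zero_or_pos b' with h' | h'
      · omega
      · omega
    · apply exists_fixed_ts_invol h2 Q hV x hx hiso (a' - 1) b' m (by omega)
        (fun h0 he => by omega) (by omega) (fun _ _ => hP)
      rcases Nat.eq_zero_or_pos a' with h' | h'
      · omega
      · omega
  · exact exists_fixed_ts_invol h2 Q hV x hx hiso a' b' m (by omega) (fun _ _ => hP0) (by omega)
      (fun _ _ => hP1) (by omega)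

/-- the types multiply (`2 ≠ 0`) -/
theorem plusOn_top_iff_invol [Fintype F] (he0 : Even (finrank F (V0 x)))
    (he1 : Even (finrank F (V1 2 x))) :
    PlusOn Q ⊤ ↔ (PlusOn Q (V0 x) ↔ PlusOn Q (V1 2 x)) := by
  obtain ⟨hnd0, hnd1, hort, hsup, -, -⟩ := invol_parts h2 Q hV x hx hiso
  have h := Cfsg.Agent.Lib.Helper63.Oh.plus_sup_iff h2 (QuadraticMap.polarBilin Q) (polarBilin_symm Q)
    (V0 x) (V1 2 x) hnd0 hnd1 hort he0 he1
  rw [hsup] at h
  rw [plusOn_iff_plus h2, plusOn_iff_plus h2, plusOn_iff_plus h2]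
  exact h

/-- upper bounds for an invariant totally singular subspace -/
theorem finrank_le_of_fixed_invol (W : Submodule F V) (hW : Inv x W) (hts : TS Q W) :
    finrank F ↥(W ⊓ V0 x) + finrank F ↥(W ⊓ V1 2 x) = finrank F W ∧
      2 * finrank F ↥(W ⊓ V0 x) ≤ finrank F (V0 x) ∧
      2 * finrank F ↥(W ⊓ V1 2 x) ≤ finrank F (V1 2 x) ∧
      (¬ PlusOn Q (V0 x) → 2 * finrank F ↥(W ⊓ V0 x) ≠ finrank F (V0 x)) ∧
      (¬ PlusOn Q (V1 2 x) → 2 * finrank F ↥(W ⊓ V1 2 x) ≠ finrank F (V1 2 x)) := by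
  have hrF : ((2 : ℕ) : F) ≠ 0 := by
    rw [Nat.cast_ofNat]
    exact h2
  obtain ⟨hnd0, hnd1, -, -, -, -⟩ := invol_parts h2 Q hV x hx hiso
  refine ⟨finrank_inf_V0_add_inf_V1 2 hrF x hx W hW, ?_, ?_, ?_, ?_⟩
  · exact two_mul_finrank_le_of_ts Q hV (V0 x) _ hnd0 inf_le_right (hts.mono inf_le_left)
  · exact two_mul_finrank_le_of_ts Q hV (V1 2 x) _ hnd1 inf_le_right (hts.mono inf_le_left)
  · intro hnp he
    exact hnp ⟨W ⊓ V0 x, inf_le_right, hts.mono inf_le_left, he⟩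
  · intro hnp he
    exact hnp ⟨W ⊓ V1 2 x, inf_le_right, hts.mono inf_le_left, he⟩

end Invol

end Cfsg.Agent.Lib.Helper63.OTs
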