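import Cfsg.Agent.Lib.Helper63.OhB

set_option autoImplicit false

/-! A nondegenerate subspace spanned by an orthogonal family `v` of `2k` non-singular vectors of a
quadratic space over a finite field of odd characteristic, with `∏ Q (v i)` a square and `-1` a
square, contains a totally singular subspace of dimension `k`. (Part (b) of K-OsEl-N.) -/

namespace Cfsg.Agent.Lib.Helper63.Oh

open Module Cfsg.Agent.Lib.Helper98.Elus Cfsg.Agent.Lib.Helper98.Sy Cfsg.Agent.Lib.Helper98.Oh

universe u
variable {F : Type u} [Field F] {V : Type u} [AddCommGroup V] [Module F V]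

theorem exists_ts_of_diag [Fintype F] (h2 : (2 : F) ≠ 0) [FiniteDimensional F V]
    (Q : QuadraticForm F V) {ι : Type} [Fintype ι] [DecidableEq ι] (k : ℕ)
    (hcard : Fintype.card ι = 2 * k) (v : ι → V)
    (horth : ∀ i j, i ≠ j → QuadraticMap.polar Q (v i) (v j) = 0) (hQ : ∀ i, Q (v i) ≠ 0)
    (hsq : IsSquare (∏ i, Q (v i))) (hm1 : IsSquare (-1 : F)) :
    ∃ X : Submodule F V, X ≤ Submodule.span F (Set.range v) ∧ (∀ x ∈ X, Q x = 0) ∧
      2 * finrank F X = finrank F (Submodule.span F (Set.range v)) ∧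
      finrank F (Submodule.span F (Set.range v)) = 2 * k := by
  have hB : ∀ x y, QuadraticMap.polarBilin Q x y = QuadraticMap.polar Q x y := fun x y => rfl
  have hself : ∀ x, QuadraticMap.polarBilin Q x x = 2 * Q x := by
    intro x
    rw [hB, QuadraticMap.polar_self]
    simp
  have hS : ∀ a b, QuadraticMap.polarBilin Q a b = QuadraticMap.polarBilin Q b a := by
    intro a b
    rw [hB, hB, QuadraticMap.polar_comm]
  have horth' : ∀ i j, i ≠ j → QuadraticMap.polarBilin Q (v i) (v j) = 0 := fun i j hij => by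
    rw [hB]; exact horth i j hij
  have hd' : ∀ i, QuadraticMap.polarBilin Q (v i) (v i) ≠ 0 := fun i => by
    rw [hself]; exact mul_ne_zero h2 (hQ i)
  obtain ⟨-, hfr, hplus⟩ :=
    diag_family h2 (QuadraticMap.polarBilin Q) hS k hcard v horth' hd'
  have hprod : ∏ i, QuadraticMap.polarBilin Q (v i) (v i) = (2 ^ k) ^ 2 * ∏ i, Q (v i) := by
    simp only [hself]
    rw [Finset.prod_mul_distrib, Finset.prod_const, Finset.card_univ, hcard, ← pow_mul, mul_comm k 2]
  have h2k : ((2 : F) ^ k) ≠ 0 := pow_ne_zero _ h2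
  have hP : Plus (QuadraticMap.polarBilin Q) (Submodule.span F (Set.range v)) := by
    rw [hplus, hprod, Cfsg.Agent.Lib.Helper50.isSquare_sq_mul_iff h2k]
    exact iff_of_true hsq (hm1.pow k)
  obtain ⟨X, hXle, hX0, hXd⟩ := hP
  refine ⟨X, hXle, ?_, hXd, hfr⟩
  intro x hx
  have := hX0 x hx
  rw [hself] at this
  exact (mul_eq_zero.mp this).resolve_left h2

end Cfsg.Agent.Lib.Helper63.Oh
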