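import Mathlib

set_option autoImplicit false

namespace Cfsg.Agent.Lib.Helper63

universe u

/-- a copy of a finite type in `Type` -/
def FinCopy (T : Type u) [Finite T] : Type := Fin (Nat.card T)

/-- the bijection between the copy and the original -/
noncomputable def FinCopy.equiv (T : Type u) [Finite T] : FinCopy T ≃ T :=
  (Finite.equivFin T).symm

noncomputable instance FinCopy.instGroup (T : Type u) [Finite T] [Group T] : Group (FinCopy T) :=
  (FinCopy.equiv T).group

/-- the isomorphism between the copy and the original -/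
noncomputable def FinCopy.mulEquiv (T : Type u) [Finite T] [Group T] : FinCopy T ≃* T :=
  (FinCopy.equiv T).mulEquiv

theorem transfer_onan_scott {N : Type*} [Group N] (mem : N → Prop)
    {ι : Type*} [Fintype ι] [Nonempty ι] {T₀ : Type u} [Group T₀] [Finite T₀]
    [hs : IsSimpleGroup T₀] (hna : ¬ ∀ a b : T₀, a * b = b * a) (e₁ : N ≃* (ι → T₀))
    (h : (∃ R : ι → Subgroup T₀, (∀ i, R i ≠ ⊤) ∧ ∀ n : N, mem n ↔ ∀ i, e₁ n i ∈ R i) ∨
      (∃ (k : ℕ) (b : ι → ι), 2 ≤ k ∧
        (∀ r, Nat.card {i // b i = r} = k ∨ Nat.card {i // b i = r} = 0) ∧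
        ∀ n : N, mem n ↔ ∀ i j, b i = b j → e₁ n i = e₁ n j)) :
    ∃ (T : Type) (_ : Group T) (m : ℕ) (e : N ≃* (Fin m → T)), IsSimpleGroup T ∧
      ¬ IsMulCommutative T ∧ 0 < m ∧
      ((∃ K : Fin m → Subgroup T, (∀ i, K i ≠ ⊤) ∧ ∀ n : N, mem n ↔ ∀ i, e n i ∈ K i) ∨
      (∃ (k : ℕ) (c : Fin m → Fin m), 2 ≤ k ∧
        (∀ j : Fin m, Nat.card {i : Fin m // c i = j} = k ∨
          Nat.card {i : Fin m // c i = j} = 0) ∧
        ∀ n : N, mem n ↔ ∀ i j : Fin m, c i = c j → e n i = e n j)) := by
  classical
  let φ : T₀ ≃* FinCopy T₀ := (FinCopy.mulEquiv T₀).symm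
  let σ : ι ≃ Fin (Fintype.card ι) := Fintype.equivFin ι
  let e : N ≃* (Fin (Fintype.card ι) → FinCopy T₀) := e₁.trans (MulEquiv.arrowCongr σ φ)
  have he : ∀ n i, e n i = φ (e₁ n (σ.symm i)) := fun n i => rfl
  have hsimple : IsSimpleGroup (FinCopy T₀) := φ.symm.isSimpleGroup
  have hnc : ¬ IsMulCommutative (FinCopy T₀) := by
    intro hc
    apply hna
    intro a b
    have := hc.is_comm.comm (φ a) (φ b)
    rw [← map_mul, ← map_mul] at this
    exact φ.injective this
  refine ⟨FinCopy T₀, inferInstance, Fintype.card ι, e, hsimple, hnc, Fintype.card_pos, ?_⟩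
  rcases h with ⟨R, hR, hmem⟩ | ⟨k, b, hk, hcard, hmem⟩
  · left
    refine ⟨fun i => (R (σ.symm i)).map φ.toMonoidHom, ?_, ?_⟩
    · intro i htop
      apply hR (σ.symm i)
      rw [eq_top_iff]
      intro t _
      have : φ t ∈ (R (σ.symm i)).map φ.toMonoidHom := by
        have h2 : (R (σ.symm i)).map φ.toMonoidHom = ⊤ := htop
        rw [h2]; trivial
      obtain ⟨s, hs, hst⟩ := Subgroup.mem_map.mp this
      have : s = t := φ.injective hst
      rw [← this]
      exact hs
    · intro n
      rw [hmem]
      constructor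
      · intro h i
        rw [he]
        exact Subgroup.mem_map.mpr ⟨_, h (σ.symm i), rfl⟩
      · intro h i
        have := h (σ i)
        rw [he] at this
        obtain ⟨s, hs, hst⟩ := Subgroup.mem_map.mp this
        have hs' : s = e₁ n (σ.symm (σ i)) := φ.injective hst
        rw [hs', Equiv.symm_apply_apply] at hs
        exact hs
  · right
    refine ⟨k, fun j => σ (b (σ.symm j)), hk, ?_, ?_⟩
    · intro j
      have hc : Nat.card {i : Fin (Fintype.card ι) // σ (b (σ.symm i)) = j} =
          Nat.card {i : ι // b i = σ.symm j} := by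
        apply Nat.card_congr
        refine Equiv.subtypeEquiv σ.symm ?_
        intro i
        constructor
        · intro h
          rw [← h, Equiv.symm_apply_apply]
        · intro h
          rw [h, Equiv.apply_symm_apply]
      rw [hc]
      exact hcard _
    · intro n
      rw [hmem]
      constructor
      · intro h i j hij
        rw [he, he]
        congr 1
        apply h
        exact σ.injective hij
      · intro h i j hij
        have := h (σ i) (σ j) (by
          show σ (b (σ.symm (σ i))) = σ (b (σ.symm (σ j)))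
          rw [Equiv.symm_apply_apply, Equiv.symm_apply_apply, hij])
        rw [he, he, Equiv.symm_apply_apply, Equiv.symm_apply_apply] at this
        exact φ.injective this

end Cfsg.Agent.Lib.Helper63
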