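import Mathlib
import Cfsg.Agent.Lib.Helper59.Ree2515

/-!
# K-PG2 pack (S3452), LEAF F3240: the Frobenius group `3⁴ : (5 : 8)` of order `3240` has spectrum
`{1, 2, 3, 4, 5, 8, 10}` (the spectrum of `PGL₂(9)`) and a non-trivial abelian normal subgroup.

`V = (ZMod 3)⁴ = F₈₁` (basis `1, x, x², x³`, `x⁴ = 2x + 1`), `A` = multiplication by `x¹⁶` (order `5`),
`B = v ↦ x v³` (order `8`, `B⁴ = -1`, `B A = A³ B`), `C = {A^i B^j}` of order `40`.
-/

set_option autoImplicit false
set_option linter.unusedSectionVars false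
set_option linter.unusedVariables false

namespace Cfsg.Agent.Lib.Helper63.PG2

open Matrix

/-- `4 × 4` matrices over `F₃` -/
abbrev M4 : Type := Matrix (Fin 4) (Fin 4) (ZMod 3)

/-- the vectors -/
abbrev V4 : Type := Fin 4 → ZMod 3

/-- multiplication by `x¹⁶` on `F₈₁` -/
def f3240A : M4 := !![2, 2, 0, 1; 1, 0, 2, 2; 0, 1, 0, 2; 2, 0, 1, 0]

/-- `v ↦ x v³` on `F₈₁` -/
def f3240B : M4 := !![0, 1, 2, 1; 1, 2, 1, 2; 0, 0, 0, 1; 0, 0, 1, 1]

/-- the element `A^i B^j` -/
def f3240X (i : Fin 5) (j : Fin 8) : M4 := f3240A ^ i.val * f3240B ^ j.val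

set_option maxRecDepth 100000 in
theorem f3240_A5 : f3240A ^ 5 = 1 := by decide +kernel

set_option maxRecDepth 100000 in
theorem f3240_B8 : f3240B ^ 8 = 1 := by decide +kernel

set_option maxRecDepth 100000 in
theorem f3240_BA : ∀ j : Fin 8, ∀ i : Fin 5,
    f3240B ^ j.val * f3240A ^ i.val = f3240A ^ ((3 ^ j.val * i.val) % 5) * f3240B ^ j.val := by
  decide +kernel

set_option maxRecDepth 100000 in
theorem f3240_pow : ∀ i : Fin 5, ∀ j : Fin 8, f3240X i j ^ 8 = 1 ∨ f3240X i j ^ 10 = 1 := by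
  decide +kernel

set_option maxRecDepth 100000 in
theorem f3240_fpf_aux : ∀ i : Fin 5, ∀ j : Fin 8, f3240X i j ≠ 1 →
    (f3240X i j = -1 ∨ f3240X i j ^ 2 = -1 ∨ f3240X i j ^ 4 = -1 ∨ f3240X i j ^ 5 = -1 ∨
      ∃ k : Fin 5, f3240X i j ^ k.val = f3240A) := by
  decide +kernel

set_option maxRecDepth 100000 in
theorem f3240_Ainv : (f3240A ^ 3 + 2 * f3240A ^ 2 + 1) * (f3240A - 1) = 1 := by decide +kernel

set_option maxRecDepth 100000 in
theorem f3240_ne : f3240B ^ 4 ≠ 1 ∧ (f3240B ^ 2) ^ 2 ≠ 1 ∧ f3240A ≠ 1 ∧ (f3240A * f3240B ^ 4) ^ 5 ≠ 1 ∧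
    (f3240A * f3240B ^ 4) ^ 2 ≠ 1 ∧ (f3240A * f3240B ^ 4) ^ 10 = 1 := by decide +kernel

theorem f3240_X_mul (i i' : Fin 5) (j j' : Fin 8) :
    f3240X i j * f3240X i' j' =
      f3240X ⟨(i.val + 3 ^ j.val * i'.val) % 5, Nat.mod_lt _ (by norm_num)⟩
        ⟨(j.val + j'.val) % 8, Nat.mod_lt _ (by norm_num)⟩ := by
  have hk := f3240_BA j i'
  simp only [f3240X]
  calc f3240A ^ i.val * f3240B ^ j.val * (f3240A ^ i'.val * f3240B ^ j'.val)
      = f3240A ^ i.val * (f3240B ^ j.val * f3240A ^ i'.val) * f3240B ^ j'.val := by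
        simp only [mul_assoc]
    _ = f3240A ^ i.val * (f3240A ^ ((3 ^ j.val * i'.val) % 5) * f3240B ^ j.val) * f3240B ^ j'.val := by
        rw [hk]
    _ = f3240A ^ (i.val + (3 ^ j.val * i'.val) % 5) * f3240B ^ (j.val + j'.val) := by
        rw [pow_add, pow_add]
        simp only [mul_assoc]
    _ = f3240A ^ ((i.val + 3 ^ j.val * i'.val) % 5) * f3240B ^ ((j.val + j'.val) % 8) := by
        rw [pow_eq_pow_mod (i.val + (3 ^ j.val * i'.val) % 5) f3240_A5,
          pow_eq_pow_mod (j.val + j'.val) f3240_B8, Nat.add_mod_mod]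

/-- the submonoid `{A^i B^j}` of `GL₄(3)` -/
def f3240S : Submonoid M4ˣ where
  carrier := {u | ∃ i : Fin 5, ∃ j : Fin 8, (u : M4) = f3240X i j}
  mul_mem' := by
    rintro u w ⟨i, j, hu⟩ ⟨i', j', hw⟩
    exact ⟨_, _, by rw [Units.val_mul, hu, hw, f3240_X_mul]⟩
  one_mem' := ⟨0, 0, by simp [f3240X]⟩

theorem f3240_mem_S {u : M4ˣ} : u ∈ f3240S ↔ ∃ i : Fin 5, ∃ j : Fin 8, (u : M4) = f3240X i j := Iff.rfl

theorem f3240_pow_units {u : M4ˣ} (hu : u ∈ f3240S) : u ^ 8 = 1 ∨ u ^ 10 = 1 := by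
  obtain ⟨i, j, h⟩ := hu
  rcases f3240_pow i j with h8 | h10
  · left
    apply Units.ext
    rw [Units.val_pow_eq_pow_val, h, h8, Units.val_one]
  · right
    apply Units.ext
    rw [Units.val_pow_eq_pow_val, h, h10, Units.val_one]

theorem f3240_pow40 {u : M4ˣ} (hu : u ∈ f3240S) : u ^ 40 = 1 := by
  rcases f3240_pow_units hu with h | h
  · have : u ^ 40 = (u ^ 8) ^ 5 := by rw [← pow_mul]
    rw [this, h, one_pow]
  · have : u ^ 40 = (u ^ 10) ^ 4 := by rw [← pow_mul]
    rw [this, h, one_pow]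

/-- the group `C = {A^i B^j}` of order `40` -/
def f3240C : Subgroup M4ˣ :=
  { f3240S with
    inv_mem' := by
      intro u hu
      have h40 : u * u ^ 39 = 1 := by rw [← pow_succ', f3240_pow40 hu]
      have hinv : u⁻¹ = u ^ 39 := inv_eq_of_mul_eq_one_right h40
      rw [hinv]
      exact f3240S.pow_mem hu 39 }

theorem f3240_mem_C {u : M4ˣ} : u ∈ f3240C ↔ ∃ i : Fin 5, ∃ j : Fin 8, (u : M4) = f3240X i j := Iff.rfl

/-- the action of `GL₄(3)` on the vectors, multiplicatively written -/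
def f3240act : M4ˣ →* MulAut (Multiplicative V4) where
  toFun u :=
    { toFun := fun v => Multiplicative.ofAdd ((u : M4).mulVec (Multiplicative.toAdd v))
      invFun := fun v => Multiplicative.ofAdd (((u⁻¹ : M4ˣ) : M4).mulVec (Multiplicative.toAdd v))
      left_inv := by
        intro v
        simp only [toAdd_ofAdd, Matrix.mulVec_mulVec, Units.inv_mul, Matrix.one_mulVec, ofAdd_toAdd]
      right_inv := by
        intro v
        simp only [toAdd_ofAdd, Matrix.mulVec_mulVec, Units.mul_inv, Matrix.one_mulVec, ofAdd_toAdd]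
      map_mul' := by
        intro v w
        simp only [toAdd_mul, Matrix.mulVec_add, ofAdd_add] }
  map_one' := by
    ext v
    simp
  map_mul' := by
    intro u w
    ext v
    simp [Matrix.mulVec_mulVec]

theorem f3240act_apply (u : M4ˣ) (v : Multiplicative V4) :
    f3240act u v = Multiplicative.ofAdd ((u : M4).mulVec (Multiplicative.toAdd v)) := rfl

/-- the action of `C` -/
def f3240phi : f3240C →* MulAut (Multiplicative V4) := f3240act.comp f3240C.subtype

theorem f3240phi_apply (c : f3240C) (v : Multiplicative V4) :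
    f3240phi c v = Multiplicative.ofAdd (((c : M4ˣ) : M4).mulVec (Multiplicative.toAdd v)) := rfl

/-- the Frobenius group `3⁴ : (5 : 8)` -/
abbrev f3240G : Type := Multiplicative V4 ⋊[f3240phi] f3240C

theorem f3240_pow_mulVec (X : M4) (v : V4) (h : X.mulVec v = v) (k : ℕ) : (X ^ k).mulVec v = v := by
  induction k with
  | zero => simp
  | succ k ih => rw [pow_succ, ← Matrix.mulVec_mulVec, h, ih]

theorem f3240_neg_fix (v : V4) (h : (-1 : M4).mulVec v = v) : v = 0 := by
  rw [Matrix.neg_mulVec, Matrix.one_mulVec] at h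
  funext k
  have hk := congrFun h k
  simp only [Pi.neg_apply, Pi.zero_apply] at hk ⊢
  revert hk
  generalize v k = x
  revert x
  decide

theorem f3240_A_fix (v : V4) (h : f3240A.mulVec v = v) : v = 0 := by
  have h1 : (f3240A - 1).mulVec v = 0 := by
    rw [Matrix.sub_mulVec, h, Matrix.one_mulVec, sub_self]
  have h2 := congrArg (fun M : M4 => M.mulVec v) f3240_Ainv
  simp only [← Matrix.mulVec_mulVec, h1, Matrix.mulVec_zero, Matrix.one_mulVec] at h2
  exact h2.symm

/-- every non-identity element of `C` acts without non-zero fixed vectors -/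
theorem f3240_fpf (i : Fin 5) (j : Fin 8) (hne : f3240X i j ≠ 1) (v : V4)
    (h : (f3240X i j).mulVec v = v) : v = 0 := by
  rcases f3240_fpf_aux i j hne with h1 | h1 | h1 | h1 | ⟨k, h1⟩
  · rw [h1] at h
    exact f3240_neg_fix v h
  · have := f3240_pow_mulVec _ v h 2
    rw [h1] at this
    exact f3240_neg_fix v this
  · have := f3240_pow_mulVec _ v h 4
    rw [h1] at this
    exact f3240_neg_fix v this
  · have := f3240_pow_mulVec _ v h 5
    rw [h1] at this
    exact f3240_neg_fix v this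
  · have := f3240_pow_mulVec _ v h k.val
    rw [h1] at this
    exact f3240_A_fix v this

theorem f3240_phi_fpf (c : f3240C) (hc : c ≠ 1) (w : Multiplicative V4) (h : f3240phi c w = w) :
    w = 1 := by
  obtain ⟨i, j, hij⟩ := f3240_mem_C.mp c.2
  have hne : f3240X i j ≠ 1 := by
    intro h1
    apply hc
    apply Subtype.ext
    apply Units.ext
    rw [hij, h1]
    rfl
  rw [f3240phi_apply, hij] at h
  have h2 : (f3240X i j).mulVec (Multiplicative.toAdd w) = Multiplicative.toAdd w :=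
    congrArg Multiplicative.toAdd h
  have h3 := f3240_fpf i j hne _ h2
  exact congrArg Multiplicative.ofAdd h3

open Cfsg.Agent.Lib.Helper59.R2515 in
theorem f3240_orderOf_dvd (g : f3240G) (hc : g.right ≠ 1) : orderOf g ∣ 8 ∨ orderOf g ∣ 10 := by
  have hmem : (g.right : M4ˣ) ∈ f3240S := g.right.2
  rcases f3240_pow_units hmem with h | h
  · left
    have hr : g.right ^ 8 = 1 := Subtype.ext (by simpa using h)
    obtain ⟨w, hw, hfix⟩ := sdp_exists_fixed f3240phi g 8 hr
    have hw1 := f3240_phi_fpf g.right hc w hfix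
    rw [hw1, map_one] at hw
    exact orderOf_dvd_of_pow_eq_one hw
  · right
    have hr : g.right ^ 10 = 1 := Subtype.ext (by simpa using h)
    obtain ⟨w, hw, hfix⟩ := sdp_exists_fixed f3240phi g 10 hr
    have hw1 := f3240_phi_fpf g.right hc w hfix
    rw [hw1, map_one] at hw
    exact orderOf_dvd_of_pow_eq_one hw

theorem f3240_cube (w : Multiplicative V4) : w ^ 3 = 1 := by
  have h3 : ∀ x : ZMod 3, 3 • x = 0 := by decide
  have h : (3 : ℕ) • Multiplicative.toAdd w = 0 := by
    funext k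
    rw [Pi.smul_apply, Pi.zero_apply]
    exact h3 _
  have h2 : Multiplicative.toAdd (w ^ 3) = Multiplicative.toAdd (1 : Multiplicative V4) := by
    rw [toAdd_pow, h, toAdd_one]
  exact Multiplicative.toAdd.injective h2

theorem f3240_orderOf_dvd_three (g : f3240G) (hc : g.right = 1) : orderOf g ∣ 3 := by
  apply orderOf_dvd_of_pow_eq_one
  have hg : g = SemidirectProduct.inl g.left := by
    ext
    · simp
    · simp [hc]
  rw [hg, ← map_pow, f3240_cube, map_one]

/-- the units `A`, `B` -/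
def f3240uA : M4ˣ :=
  ⟨f3240A, f3240A ^ 4, by rw [← pow_succ']; exact f3240_A5, by rw [← pow_succ]; exact f3240_A5⟩

def f3240uB : M4ˣ :=
  ⟨f3240B, f3240B ^ 7, by rw [← pow_succ']; exact f3240_B8, by rw [← pow_succ]; exact f3240_B8⟩

/-- the element `A^i B^j` of `C` -/
def f3240c (i : Fin 5) (j : Fin 8) : f3240C :=
  ⟨f3240uA ^ i.val * f3240uB ^ j.val, ⟨i, j, by
    rw [Units.val_mul, Units.val_pow_eq_pow_val, Units.val_pow_eq_pow_val]
    rfl⟩⟩

theorem f3240c_val (i : Fin 5) (j : Fin 8) : (((f3240c i j : f3240C) : M4ˣ) : M4) = f3240X i j := by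
  show ((f3240uA ^ i.val * f3240uB ^ j.val : M4ˣ) : M4) = f3240X i j
  rw [Units.val_mul, Units.val_pow_eq_pow_val, Units.val_pow_eq_pow_val]
  rfl

open Cfsg.Agent.Lib.Helper59.R2515 in
theorem f3240_orderOf_inr (i : Fin 5) (j : Fin 8) :
    orderOf (SemidirectProduct.inr (f3240c i j) : f3240G) = orderOf (f3240X i j) := by
  rw [sdp_orderOf_inr, ← Subgroup.orderOf_coe, ← orderOf_units, f3240c_val]

set_option maxRecDepth 100000 in
theorem f3240_orders_aux :
    (f3240X 0 1 ^ 8 = 1 ∧ f3240X 0 1 ^ 4 ≠ 1) ∧ (f3240X 0 2 ^ 4 = 1 ∧ f3240X 0 2 ^ 2 ≠ 1) ∧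
    (f3240X 0 4 ^ 2 = 1 ∧ f3240X 0 4 ^ 1 ≠ 1) ∧ (f3240X 1 0 ^ 5 = 1 ∧ f3240X 1 0 ^ 1 ≠ 1) ∧
    (f3240X 1 4 ^ 10 = 1 ∧ f3240X 1 4 ^ 5 ≠ 1 ∧ f3240X 1 4 ^ 2 ≠ 1) := by
  decide +kernel

theorem f3240_orderOf_8 : orderOf (f3240X 0 1) = 8 := by
  obtain ⟨⟨h1, h2⟩, -⟩ := f3240_orders_aux
  apply orderOf_eq_of_pow_and_pow_div_prime (by norm_num) h1
  intro p hp hpn
  have hle : p ≤ 8 := Nat.le_of_dvd (by norm_num) hpn
  have key : ∀ k, k = 4 → f3240X 0 1 ^ k ≠ 1 := by
    rintro k rfl
    exact h2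
  interval_cases p <;> first | (exfalso; omega) | (exfalso; revert hp; norm_num; done) | (apply key; norm_num)

theorem f3240_orderOf_4 : orderOf (f3240X 0 2) = 4 := by
  obtain ⟨-, ⟨h1, h2⟩, -⟩ := f3240_orders_aux
  apply orderOf_eq_of_pow_and_pow_div_prime (by norm_num) h1
  intro p hp hpn
  have hle : p ≤ 4 := Nat.le_of_dvd (by norm_num) hpn
  have key : ∀ k, k = 2 → f3240X 0 2 ^ k ≠ 1 := by
    rintro k rfl
    exact h2
  interval_cases p <;> first | (exfalso; omega) | (exfalso; revert hp; norm_num; done) | (apply key; norm_num)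

theorem f3240_orderOf_2 : orderOf (f3240X 0 4) = 2 := by
  obtain ⟨-, -, ⟨h1, h2⟩, -⟩ := f3240_orders_aux
  apply orderOf_eq_of_pow_and_pow_div_prime (by norm_num) h1
  intro p hp hpn
  have hle : p ≤ 2 := Nat.le_of_dvd (by norm_num) hpn
  have key : ∀ k, k = 1 → f3240X 0 4 ^ k ≠ 1 := by
    rintro k rfl
    exact h2
  interval_cases p <;> first | (exfalso; omega) | (exfalso; revert hp; norm_num; done) | (apply key; norm_num)

theorem f3240_orderOf_5 : orderOf (f3240X 1 0) = 5 := by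
  obtain ⟨-, -, -, ⟨h1, h2⟩, -⟩ := f3240_orders_aux
  apply orderOf_eq_of_pow_and_pow_div_prime (by norm_num) h1
  intro p hp hpn
  have hle : p ≤ 5 := Nat.le_of_dvd (by norm_num) hpn
  have key : ∀ k, k = 1 → f3240X 1 0 ^ k ≠ 1 := by
    rintro k rfl
    exact h2
  interval_cases p <;> first | (exfalso; omega) | (exfalso; revert hp; norm_num; done) | (apply key; norm_num)

theorem f3240_orderOf_10 : orderOf (f3240X 1 4) = 10 := by
  obtain ⟨-, -, -, -, h1, h2, h3⟩ := f3240_orders_aux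
  apply orderOf_eq_of_pow_and_pow_div_prime (by norm_num) h1
  intro p hp hpn
  have hle : p ≤ 10 := Nat.le_of_dvd (by norm_num) hpn
  have key : ∀ k, k = 5 ∨ k = 2 → f3240X 1 4 ^ k ≠ 1 := by
    rintro k (rfl | rfl)
    · exact h2
    · exact h3
  interval_cases p <;> first | (exfalso; omega) | (exfalso; revert hp; norm_num; done) | (apply key; norm_num)

/-- a non-trivial vector -/
def f3240w : Multiplicative V4 := Multiplicative.ofAdd (Pi.single 0 1)

theorem f3240w_ne : f3240w ≠ 1 := by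
  intro h
  have h1 : (Pi.single 0 1 : V4) = 0 := congrArg Multiplicative.toAdd h
  have h2 := congrFun h1 0
  simp at h2

theorem f3240_orderOf_3 : orderOf (SemidirectProduct.inl f3240w : f3240G) = 3 := by
  have : Fact (Nat.Prime 3) := ⟨Nat.prime_three⟩
  apply orderOf_eq_prime
  · rw [← map_pow, f3240_cube, map_one]
  · intro h
    exact f3240w_ne (SemidirectProduct.inl_injective (h.trans (map_one _).symm))

theorem exists_spec_pgl29 : ∃ (G : Type) (_ : Group G) (_ : Finite G) (K : Subgroup G),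
    K.Normal ∧ K ≠ ⊥ ∧ Group.IsSolvable ↥K ∧ Set.range (orderOf : G → ℕ) = {1, 2, 3, 4, 5, 8, 10} := by
  have hfin : Finite f3240G := Finite.of_equiv _ SemidirectProduct.equivProd.symm
  refine ⟨f3240G, inferInstance, hfin,
    (SemidirectProduct.inl : Multiplicative V4 →* f3240G).range, ?_, ?_, ?_, ?_⟩
  · rw [SemidirectProduct.range_inl_eq_ker_rightHom]
    exact MonoidHom.normal_ker _
  · intro h
    have hm : (SemidirectProduct.inl f3240w : f3240G) ∈
        (SemidirectProduct.inl : Multiplicative V4 →* f3240G).range := ⟨f3240w, rfl⟩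
    rw [h, Subgroup.mem_bot] at hm
    exact f3240w_ne (SemidirectProduct.inl_injective (hm.trans (map_one _).symm))
  · apply Group.isSolvable_of_comm
    rintro ⟨a, ⟨x, rfl⟩⟩ ⟨b, ⟨y, rfl⟩⟩
    apply Subtype.ext
    show SemidirectProduct.inl x * SemidirectProduct.inl y =
      (SemidirectProduct.inl y * SemidirectProduct.inl x : f3240G)
    rw [← map_mul, ← map_mul, mul_comm]
  · ext n
    simp only [Set.mem_range, Set.mem_insert_iff, Set.mem_singleton_iff]
    constructor
    · rintro ⟨g, rfl⟩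
      by_cases hc : g.right = 1
      · have h3 := f3240_orderOf_dvd_three g hc
        rcases (Nat.dvd_prime Nat.prime_three).mp h3 with h | h
        · exact Or.inl h
        · exact Or.inr (Or.inr (Or.inl h))
      · rcases f3240_orderOf_dvd g hc with h | h
        · have hle : orderOf g ≤ 8 := Nat.le_of_dvd (by norm_num) h
          generalize orderOf g = d at h hle
          interval_cases d <;> omega
        · have hle : orderOf g ≤ 10 := Nat.le_of_dvd (by norm_num) h
          generalize orderOf g = d at h hle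
          interval_cases d <;> omega
    · rintro (rfl | rfl | rfl | rfl | rfl | rfl | rfl)
      · exact ⟨1, orderOf_one⟩
      · exact ⟨SemidirectProduct.inr (f3240c 0 4), by rw [f3240_orderOf_inr, f3240_orderOf_2]⟩
      · exact ⟨SemidirectProduct.inl f3240w, f3240_orderOf_3⟩
      · exact ⟨SemidirectProduct.inr (f3240c 0 2), by rw [f3240_orderOf_inr, f3240_orderOf_4]⟩
      · exact ⟨SemidirectProduct.inr (f3240c 1 0), by rw [f3240_orderOf_inr, f3240_orderOf_5]⟩
      · exact ⟨SemidirectProduct.inr (f3240c 0 1), by rw [f3240_orderOf_inr, f3240_orderOf_8]⟩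
      · exact ⟨SemidirectProduct.inr (f3240c 1 4), by rw [f3240_orderOf_inr, f3240_orderOf_10]⟩

end Cfsg.Agent.Lib.Helper63.PG2
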