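import Mathlib
import Cfsg.Agent.Lib.Helper49.RSU3Defs

set_option autoImplicit false
set_option linter.unusedSectionVars false
set_option linter.unusedVariables false

/-!
# K-RSU3 leaf L17 (keystone 228317, S2283): `q = 8`: a subset of `F_64` containing `1`, closed under `+`,
under `μ³ *` (`μ` of order `9`) and under `c *` with `c ∉ F_4`, is everything
-/

namespace Cfsg.Agent.Lib.Helper63.RSU3

open Matrix Cfsg.Agent.Lib.Helper49.StSU Cfsg.Agent.Lib.Helper49.RSU3

variable {F : Type*} [Field F] [Fintype F] {q : ℕ}

/-- a subfield of a field with `64` elements containing an element of order `9` cubed and an element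
`c` with `c^4 ≠ c` is everything -/
theorem l17_subfield_eq_top (hF : Fintype.card F = 64) (μ : F) (hμ : orderOf μ = 9)
    (c : F) (hc : c ^ 4 ≠ c) (K : Subfield F) (hμK : μ ^ 3 ∈ K) (hcK : c ∈ K) :
    ∀ x : F, x ∈ K := by
  classical
  have : Fintype K := Fintype.ofFinite K
  have hcard : 64 = Fintype.card K ^ Module.finrank K F := by
    rw [← hF]; exact Module.card_eq_pow_finrank (K := K) (V := F)
  have hr2 : 2 ≤ Fintype.card K := Fintype.one_lt_card
  have hμ0 : μ ≠ 0 := by
    rintro rfl
    rw [orderOf_zero] at hμ
    omega
  -- `9 ∣ 3 * (r - 1)`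
  have hdvd : 9 ∣ 3 * (Fintype.card K - 1) := by
    have h1 : (⟨μ ^ 3, hμK⟩ : K) ^ (Fintype.card K - 1) = 1 :=
      FiniteField.pow_card_sub_one_eq_one _ (by
        intro h
        have := congrArg Subtype.val h
        simp only [ZeroMemClass.coe_zero] at this
        exact hμ0 (pow_eq_zero_iff (by norm_num) |>.mp this))
    have h2 : (μ ^ 3) ^ (Fintype.card K - 1) = 1 := by
      have := congrArg Subtype.val h1
      simpa using this
    rw [← pow_mul] at h2
    rw [← hμ]
    exact orderOf_dvd_of_pow_eq_one h2
  -- `c^r = c`
  have hcr : c ^ Fintype.card K = c := by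
    have h1 : (⟨c, hcK⟩ : K) ^ Fintype.card K = ⟨c, hcK⟩ := FiniteField.pow_card _
    have := congrArg Subtype.val h1
    simpa using this
  -- the possible cardinalities
  set r := Fintype.card K with hr
  set m := Module.finrank K F with hm
  have hm0 : m ≠ 0 := by
    intro h0
    rw [h0, pow_zero] at hcard
    omega
  have hrle : r ≤ 64 := by
    calc r = r ^ 1 := (pow_one r).symm
      _ ≤ r ^ m := Nat.pow_le_pow_right (by omega) (by omega)
      _ = 64 := hcard.symm
  have hr64 : r = 64 := by
    -- r divides 64 so r is a power of 2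
    have hdvd64 : r ∣ 64 := by
      rw [hcard]
      exact dvd_pow_self r hm0
    have h64 : (64 : ℕ) = 2 ^ 6 := by norm_num
    rw [h64] at hdvd64
    obtain ⟨j, hj, hrj⟩ := (Nat.dvd_prime_pow Nat.prime_two).mp hdvd64
    interval_cases j
    · omega
    · -- r = 2: 9 ∣ 3
      exfalso
      rw [hrj] at hdvd
      omega
    · -- r = 4: c^4 = c
      exfalso
      rw [hrj] at hcr
      exact hc (by simpa using hcr)
    · -- r = 8: 9 ∣ 21
      exfalso
      rw [hrj] at hdvd
      omega
    · -- r = 16: 64 = 16^m impossible
      exfalso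
      rw [hrj] at hcard
      have hm3 : m < 2 := by
        by_contra h
        have : (16 : ℕ) ^ 2 ≤ (2 ^ 4) ^ m := Nat.pow_le_pow_right (by norm_num) (by omega)
        omega
      interval_cases m
      · omega
      · omega
    · -- r = 32
      exfalso
      rw [hrj] at hcard
      have hm3 : m < 2 := by
        by_contra h
        have : (32 : ℕ) ^ 2 ≤ (2 ^ 5) ^ m := Nat.pow_le_pow_right (by norm_num) (by omega)
        omega
      interval_cases m
      · omega
      · omega
    · rw [hrj]; norm_num
  -- so `K` is everything
  have htop : K = ⊤ := by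
    have h1 : Nat.card K = Nat.card F := by
      rw [Nat.card_eq_fintype_card, Nat.card_eq_fintype_card, ← hr, hr64, hF]
    have : (K : Set F) = Set.univ := by
      apply Set.eq_univ_of_forall
      intro x
      by_contra hx
      have hlt : Fintype.card K < Fintype.card F := by
        apply Fintype.card_lt_of_injective_of_notMem (fun y : K => (y : F)) Subtype.val_injective
          (b := x)
        rintro ⟨y, hy⟩
        exact hx (hy ▸ y.2)
      rw [← hr, hr64, hF] at hlt
      omega
    exact SetLike.coe_injective (by simpa using this)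
  intro x
  rw [htop]
  trivial

/-- L17 -/
theorem span_eight (hq8 : q = 8) (hF : Fintype.card F = q ^ 2) (μ : F) (hμ : orderOf μ = q + 1)
    (c : F) (hc : c ^ 4 ≠ c) (S : Set F) (h1 : (1 : F) ∈ S)
    (hadd : ∀ a ∈ S, ∀ b ∈ S, a + b ∈ S) (hmul1 : ∀ a ∈ S, μ ^ 3 * a ∈ S)
    (hmul2 : ∀ a ∈ S, c * a ∈ S) : ∀ x : F, x ∈ S := by
  classical
  subst hq8
  have hF64 : Fintype.card F = 64 := by rw [hF]; norm_num
  have hμ9 : orderOf μ = 9 := by rw [hμ]
  obtain ⟨p, hp⟩ := CharP.exists F
  have := hp
  have : Fact p.Prime := ⟨CharP.char_is_prime F p⟩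
  have hp2 : 2 ≤ p := (Fact.out : p.Prime).two_le
  -- closure under positive multiples
  have hnsmul : ∀ n : ℕ, ∀ a ∈ S, ((n + 1 : ℕ) : F) * a ∈ S := by
    intro n
    induction n with
    | zero => intro a ha; simpa using ha
    | succ k ih =>
      intro a ha
      have := hadd _ (ih a ha) _ ha
      have e : ((k + 1 + 1 : ℕ) : F) * a = ((k + 1 : ℕ) : F) * a + a := by push_cast; ring
      rw [e]; exact this
  have hp0 : (p : F) = 0 := CharP.cast_eq_zero F p
  have hzero : (0 : F) ∈ S := by
    have := hnsmul (p - 1) 1 h1
    have e : ((p - 1 + 1 : ℕ) : F) = 0 := by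
      rw [Nat.sub_add_cancel (by omega)]; exact hp0
    rw [e] at this
    simpa using this
  have hneg : ∀ a ∈ S, -a ∈ S := by
    intro a ha
    have := hnsmul (p - 2) a ha
    have e : ((p - 2 + 1 : ℕ) : F) = -1 := by
      have : p - 2 + 1 = p - 1 := by omega
      rw [this, Nat.cast_sub (by omega), hp0]; simp
    rw [e] at this
    simpa using this
  -- the multiplier subfield
  let K : Subfield F :=
    { carrier := {x | ∀ a ∈ S, x * a ∈ S}
      mul_mem' := by
        intro x y hx hy a ha
        rw [mul_assoc]; exact hx _ (hy a ha)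
      one_mem' := by intro a ha; simpa using ha
      add_mem' := by
        intro x y hx hy a ha
        rw [add_mul]; exact hadd _ (hx a ha) _ (hy a ha)
      zero_mem' := by intro a ha; simpa using hzero
      neg_mem' := by
        intro x hx a ha
        rw [neg_mul]; exact hneg _ (hx a ha)
      inv_mem' := by
        intro x hx
        by_cases hx0 : x = 0
        · subst hx0
          intro a ha; simpa using hzero
        · have hpow : ∀ n : ℕ, ∀ a ∈ S, x ^ n * a ∈ S := by
            intro n
            induction n with
            | zero => intro a ha; simpa using ha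
            | succ k ih =>
              intro a ha
              rw [pow_succ, mul_assoc]; exact ih _ (hx a ha)
          have hone : x ^ (Fintype.card F - 1) = 1 := FiniteField.pow_card_sub_one_eq_one x hx0
          have hcardF : 2 ≤ Fintype.card F := Fintype.one_lt_card
          have hinv : x⁻¹ = x ^ (Fintype.card F - 2) := by
            have e : x ^ (Fintype.card F - 2) * x = 1 := by
              rw [← pow_succ]
              have : Fintype.card F - 2 + 1 = Fintype.card F - 1 := by omega
              rw [this]; exact hone
            exact (eq_inv_of_mul_eq_one_left e).symm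
          intro a ha
          show x⁻¹ * a ∈ S
          rw [hinv]; exact hpow _ a ha }
  have hμK : μ ^ 3 ∈ K := fun a ha => hmul1 a ha
  have hcK : c ∈ K := fun a ha => hmul2 a ha
  intro x
  have hxmem : x ∈ K := l17_subfield_eq_top hF64 μ hμ9 c hc K hμK hcK x
  have := hxmem 1 h1
  simpa using this

end Cfsg.Agent.Lib.Helper63.RSU3
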