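import Mathlib
import Cfsg.Agent.Lib.Helper48.RSpDefs2

set_option autoImplicit false
set_option linter.unusedVariables false

/-!
# K-RSp pack (S2281), LEAF M5: the conjugator for `b`: a symmetric `X` with `U X Uᵀ = X + l E_00`
(odd characteristic: `X = (l/2)(E_01 + E_10)`; characteristic `2`, `n ≥ 3`: `X = l (E_11 + E_02 + E_20)`)
-/

namespace Cfsg.Agent.Lib.Helper63.RSp

open Matrix Cfsg.Agent.Lib.Helper48.RSp Cfsg.Agent.Lib.Helper18

theorem m5_conj_single {n : Type*} [Fintype n] [DecidableEq n] {F : Type*} [Field F]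
    (U : Matrix n n F) (a b : n) (c : F) (i j : n) :
    (U * Matrix.single a b c * Uᵀ) i j = U i a * c * U j b := by
  rw [Matrix.mul_apply]
  simp only [Matrix.mul_apply, Matrix.single_apply, Matrix.transpose_apply]
  rw [Finset.sum_eq_single b]
  · rw [Finset.sum_eq_single a]
    · simp
    · intro k _ hk
      simp [Ne.symm hk]
    · simp
  · intro k _ hk
    have : ∀ x : n, (if a = x ∧ b = k then c else 0) = 0 := by
      intro x
      rw [if_neg]
      rintro ⟨_, h⟩
      exact hk h.symm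
    simp [this]
  · simp

theorem m5_single_eq {n : Type*} [DecidableEq n] {F : Type*} [Field F] (a b : n) (c : F) (i j : n) :
    Matrix.single a b c i j = c * (if i = a then 1 else 0) * (if j = b then 1 else 0) := by
  rw [Matrix.single_apply]
  by_cases h1 : i = a
  · by_cases h2 : j = b
    · simp [h1, h2]
    · have h3 : ¬ (a = i ∧ b = j) := fun h => h2 h.2.symm
      simp [h3, h2]
  · have h3 : ¬ (a = i ∧ b = j) := fun h => h1 h.1.symm
    simp [h3, h1]

theorem m5_col0 (m : ℕ) (F : Type*) [Field F] (i : Fin (m + 2)) :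
    Uup m F i 0 = if i = 0 then 1 else 0 := by
  have h : Uup m F i 0 = (1 : SM m F) i 0 + Nup m F i 0 := rfl
  rw [h, Matrix.one_apply]
  unfold Nup
  simp

theorem m5_col1 (m : ℕ) (F : Type*) [Field F] (i : Fin (m + 2)) :
    Uup m F i 1 = (if i = 1 then 1 else 0) + (if i = 0 then 1 else 0) := by
  have h : Uup m F i 1 = (1 : SM m F) i 1 + Nup m F i 1 := rfl
  rw [h, Matrix.one_apply]
  congr 1
  unfold Nup
  have h1 : ((1 : Fin (m + 2)) : ℕ) = 1 := rfl
  rw [h1]
  by_cases h : i = 0
  · subst h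
    simp
  · rw [if_neg h, if_neg]
    intro h3
    apply h
    apply Fin.ext
    simp only [Fin.val_zero]
    omega

theorem m5_col2 (k : ℕ) (F : Type*) [Field F] (i : Fin (k + 1 + 2)) :
    Uup (k + 1) F i 2 = (if i = 2 then 1 else 0) + (if i = 1 then 1 else 0) := by
  have h : Uup (k + 1) F i 2 = (1 : SM (k + 1) F) i 2 + Nup (k + 1) F i 2 := rfl
  rw [h, Matrix.one_apply]
  congr 1
  unfold Nup
  have h2 : ((2 : Fin (k + 1 + 2)) : ℕ) = 2 := rfl
  rw [h2]
  by_cases h : i = 1
  · subst h
    simp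
  · rw [if_neg h, if_neg]
    intro h3
    apply h
    apply Fin.ext
    have h1 : ((1 : Fin (k + 1 + 2)) : ℕ) = 1 := rfl
    rw [h1]
    omega

theorem exists_X_odd (m : ℕ) {F : Type*} [Field F] (h2 : (2 : F) ≠ 0) (l : F) :
    ∃ X : SM m F, Xᵀ = X ∧ Uup m F * X * (Uup m F)ᵀ = X + l • E00 m F := by
  obtain ⟨c, hc⟩ : ∃ c : F, 2 * c = l := ⟨l / 2, by field_simp⟩
  refine ⟨Matrix.single 0 1 c + Matrix.single 1 0 c, ?_, ?_⟩
  · rw [Matrix.transpose_add, Matrix.transpose_single, Matrix.transpose_single]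
    exact add_comm _ _
  · rw [Matrix.mul_add, Matrix.add_mul]
    ext i j
    rw [Matrix.add_apply, m5_conj_single, m5_conj_single, Matrix.add_apply, Matrix.add_apply,
      Matrix.smul_apply, E00, m5_single_eq, m5_single_eq, m5_single_eq, m5_col0, m5_col1, m5_col0,
      m5_col1, smul_eq_mul]
    linear_combination ((if i = 0 then (1 : F) else 0) * (if j = 0 then (1 : F) else 0)) * hc

theorem exists_X_even (m : ℕ) (hm : 1 ≤ m) {F : Type*} [Field F] (h2 : (2 : F) = 0) (l : F) :
    ∃ X : SM m F, Xᵀ = X ∧ Uup m F * X * (Uup m F)ᵀ = X + l • E00 m F := by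
  obtain ⟨k, rfl⟩ : ∃ k, m = k + 1 := ⟨m - 1, by omega⟩
  refine ⟨Matrix.single 1 1 l + (Matrix.single 0 2 l + Matrix.single 2 0 l), ?_, ?_⟩
  · rw [Matrix.transpose_add, Matrix.transpose_add, Matrix.transpose_single, Matrix.transpose_single,
      Matrix.transpose_single]
    congr 1
    exact add_comm _ _
  · rw [Matrix.mul_add, Matrix.mul_add, Matrix.add_mul, Matrix.add_mul]
    ext i j
    rw [Matrix.add_apply, Matrix.add_apply, m5_conj_single, m5_conj_single, m5_conj_single,
      Matrix.add_apply, Matrix.add_apply, Matrix.add_apply,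
      Matrix.smul_apply, E00, m5_single_eq, m5_single_eq, m5_single_eq, m5_single_eq, m5_col0, m5_col1,
      m5_col0, m5_col1, m5_col2, m5_col2, smul_eq_mul]
    linear_combination (l * ((if i = 1 then (1 : F) else 0) * (if j = 0 then (1 : F) else 0) +
      (if i = 0 then (1 : F) else 0) * (if j = 1 then (1 : F) else 0))) * h2

end Cfsg.Agent.Lib.Helper63.RSp
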