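import Mathlib
import Cfsg.Agent.Lib.Helper48.RSpDefs2

set_option autoImplicit false
set_option linter.unusedVariables false

/-!
# K-RSp pack (S2281), LEAF X2: conjugation by `c` of `x(S)`, `S` with last row (and column) zero
-/

namespace Cfsg.Agent.Lib.Helper63.RSp

open Matrix Cfsg.Agent.Lib.Helper48.RSp Cfsg.Agent.Lib.Helper18

theorem x2_Elast_mul (m : ℕ) {F : Type*} [Field F] (S : SM m F)
    (hrow : ∀ j, S (Fin.last (m + 1)) j = 0) : Elast m F * S = 0 := by
  ext i j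
  simp only [Elast, Matrix.mul_apply, Matrix.single_apply, Matrix.zero_apply]
  apply Finset.sum_eq_zero
  intro k _
  by_cases h : Fin.last (m + 1) = i ∧ Fin.last (m + 1) = k
  · rw [if_pos h, one_mul, ← h.2, hrow]
  · rw [if_neg h, zero_mul]

theorem x2_mul_Elast (m : ℕ) {F : Type*} [Field F] (S : SM m F)
    (hcol : ∀ j, S j (Fin.last (m + 1)) = 0) : S * Elast m F = 0 := by
  ext i j
  simp only [Elast, Matrix.mul_apply, Matrix.single_apply, Matrix.zero_apply]
  apply Finset.sum_eq_zero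
  intro k _
  by_cases h : Fin.last (m + 1) = k ∧ Fin.last (m + 1) = j
  · rw [if_pos h, mul_one, ← h.1, hcol]
  · rw [if_neg h, mul_zero]

theorem cMat_mul_xMat (m : ℕ) {F : Type*} [Field F] (t σ : F)
    (hLD : (Llow m t)ᵀ * Dlow m t = 1) (S : SM m F) (hS : Sᵀ = S)
    (hrow : ∀ j, S (Fin.last (m + 1)) j = 0) :
    cMat m t σ * xMat m S = xMat m (Llow m t * S * (Llow m t)ᵀ) * cMat m t σ := by
  have hcol : ∀ j, S j (Fin.last (m + 1)) = 0 := by
    intro j
    have h1 : S j (Fin.last (m + 1)) = Sᵀ (Fin.last (m + 1)) j := rfl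
    rw [h1, hS, hrow]
  have hES : Elast m F * S = 0 := x2_Elast_mul m S hrow
  have hSE : S * Elast m F = 0 := x2_mul_Elast m S hcol
  have h1 : Dlow m t * (σ • Elast m F) * S = 0 := by
    rw [Matrix.mul_assoc, Matrix.smul_mul, hES, smul_zero, Matrix.mul_zero]
  have h2 : Llow m t * S * (Llow m t)ᵀ * Dlow m t = Llow m t * S := by
    rw [Matrix.mul_assoc (Llow m t * S), hLD, Matrix.mul_one]
  have h3 : Llow m t * S * (Llow m t)ᵀ * (Dlow m t * (σ • Elast m F)) = 0 := by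
    rw [← Matrix.mul_assoc, h2, Matrix.mul_assoc, Matrix.mul_smul, hSE, smul_zero, Matrix.mul_zero]
  unfold cMat xMat
  rw [Matrix.fromBlocks_multiply, Matrix.fromBlocks_multiply]
  simp only [Matrix.mul_one, Matrix.mul_zero, Matrix.zero_mul, Matrix.one_mul, add_zero, zero_add,
    h1, h2, h3]

theorem XG_conj_L {m : ℕ} {F : Type*} [Field F] {G : Subgroup (SpG m F)} (t σ : F)
    (hLD : (Llow m t)ᵀ * Dlow m t = 1) (hc : InG G (cMat m t σ)) :
    ∀ S ∈ XG G, (∀ j, S (Fin.last (m + 1)) j = 0) → Llow m t * S * (Llow m t)ᵀ ∈ XG G := by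
  intro S hS hrow
  obtain ⟨hSt, hSG⟩ := mem_XG.mp hS
  refine mem_XG.mpr ⟨?_, ?_⟩
  · rw [Matrix.transpose_mul, Matrix.transpose_mul, Matrix.transpose_transpose, hSt, Matrix.mul_assoc]
  · exact inG_of_conj hc hSG (cMat_mul_xMat m t σ hLD S hSt hrow)

end Cfsg.Agent.Lib.Helper63.RSp
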