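import Mathlib
import Cfsg.Agent.Lib.Helper73.RUDefs
import Cfsg.Agent.Lib.Helper73.RUHub
import Cfsg.Agent.Lib.Helper02.RU4Defs

set_option autoImplicit false

/-!
# K-RU4 leaf J (keystone 227909, S2279): the relation (R), a commutator of two transvections
-/

namespace Cfsg.Agent.Lib.Helper63.RU4x

open Matrix Cfsg.Agent.Lib.Helper73.RU Cfsg.Agent.Lib.Helper73.RUSpec Cfsg.Agent.Lib.Helper02.RU4

/-- powers of an element of `G` are in `G` -/
theorem inG_pow {n : ℕ} {F : Type*} [Field F] {G : Subgroup (SpecialLinearGroup (Fin n) F)}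
    {A : Matrix (Fin n) (Fin n) F} (hA : InG G A) (k : ℕ) : InG G (A ^ k) := by
  induction k with
  | zero => rw [pow_zero]; exact inG_one
  | succ k ih => rw [pow_succ]; exact inG_mul ih hA

/-- `a^k c_j = c_{j+k}` -/
theorem pow_mulVec_ck (m : ℕ) (F : Type*) [Field F] (k j : ℕ) :
    (aMat m F ^ k) *ᵥ ck m F j = ck m F (j + k) := by
  unfold ck
  rw [Matrix.mulVec_mulVec, ← pow_add, add_comm k j]

/-- `e_0ᵀ c_j = 0` for `j ≤ m + 1` -/
theorem e0_dot_ck {m : ℕ} {F : Type*} [Field F]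
    (hH : ∀ (k : ℕ) (i j : Fin (m + 3)),
      (aMat m F ^ k) i j = if i.val ≤ j.val then ((Nat.choose k (j.val - i.val) : ℕ) : F) else 0)
    (j : ℕ) (hj : j ≤ m + 1) : (Pi.single 0 1 : Fin (m + 3) → F) ⬝ᵥ ck m F j = 0 := by
  rw [single_dotProduct, one_mul]
  unfold ck
  rw [Matrix.mulVec_single_one]
  show (aMat m F ^ j) 0 (Fin.last (m + 2)) = 0
  rw [hH, if_pos (by simp)]
  have : (Fin.last (m + 2) : Fin (m + 3)).val - (0 : Fin (m + 3)).val = m + 2 := by simp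
  rw [this, Nat.choose_eq_zero_of_lt (by omega), Nat.cast_zero]

/-- `(e_0ᵀ a^k) c_i = C(k+i, m+2)` -/
theorem rho_dot_ck {m : ℕ} {F : Type*} [Field F]
    (hH : ∀ (k : ℕ) (i j : Fin (m + 3)),
      (aMat m F ^ k) i j = if i.val ≤ j.val then ((Nat.choose k (j.val - i.val) : ℕ) : F) else 0)
    (k i : ℕ) :
    ((Pi.single 0 1 : Fin (m + 3) → F) ᵥ* (aMat m F ^ k)) ⬝ᵥ ck m F i =
      ((Nat.choose (k + i) (m + 2) : ℕ) : F) := by
  rw [← Matrix.dotProduct_mulVec, pow_mulVec_ck, single_dotProduct, one_mul]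
  unfold ck
  rw [Matrix.mulVec_single_one]
  show (aMat m F ^ (i + k)) 0 (Fin.last (m + 2)) = _
  rw [hH, if_pos (by simp)]
  have : (Fin.last (m + 2) : Fin (m + 3)).val - (0 : Fin (m + 3)).val = m + 2 := by simp
  rw [this, add_comm]

theorem rel_R {m : ℕ} {F : Type*} [Field F]
    (hH : ∀ (k : ℕ) (i j : Fin (m + 3)),
      (aMat m F ^ k) i j = if i.val ≤ j.val then ((Nat.choose k (j.val - i.val) : ℕ) : F) else 0)
    {G : Subgroup (SpecialLinearGroup (Fin (m + 3)) F)} (ha : InG G (aMat m F))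
    (i i' r : ℕ) (hi : i ≤ m + 1) (hi' : i' ≤ m + 1) (hr : m + 2 + r ≤ i + i') (s s' : F)
    (hs : InG G (tvm (s • ck m F i) (Pi.single 0 1)))
    (hs' : InG G (tvm (s' • ck m F i') (Pi.single 0 1))) :
    InG G (tvm ((-(((Nat.choose (m + 2 + r) (m + 2) : ℕ) : F) * s * s')) •
      ck m F (i + i' - (m + 2) - r)) (Pi.single 0 1)) := by
  set e : Fin (m + 3) → F := Pi.single 0 1 with he
  -- the exponent
  set k : ℕ := m + 2 + r - i with hk
  set j : ℕ := i + i' - (m + 2) - r with hj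
  have hjk : j + k = i' := by omega
  have hki : k + i = m + 2 + r := by omega
  have hj1 : j ≤ m + 1 := by omega
  set ρ : Fin (m + 3) → F := e ᵥ* (aMat m F ^ k) with hρ
  -- the conjugate transvection `t2 = 1 + s' c_j ρᵀ`
  have hak : InG G (aMat m F ^ k) := inG_pow ha k
  have ht2 : InG G (tvm (s' • ck m F j) ρ) := by
    have h1 := mul_tvm (aMat m F ^ k) (s' • ck m F j) e
    rw [Matrix.mulVec_smul, pow_mulVec_ck, hjk] at h1
    exact inG_of_mul_left hak (h1 ▸ inG_mul hs' hak)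
  -- orthogonality relations
  have h1 : e ⬝ᵥ (s • ck m F i) = 0 := by
    rw [dotProduct_smul, e0_dot_ck hH i hi, smul_zero]
  have h3 : e ⬝ᵥ (s' • ck m F j) = 0 := by
    rw [dotProduct_smul, e0_dot_ck hH j hj1, smul_zero]
  have hρj : ρ ⬝ᵥ ck m F j = 0 := by
    rw [hρ, rho_dot_ck hH k j]
    have : k + j = i' := by omega
    rw [this, Nat.choose_eq_zero_of_lt (by omega), Nat.cast_zero]
  have h2 : ρ ⬝ᵥ (s' • ck m F j) = 0 := by
    rw [dotProduct_smul, hρj, smul_zero]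
  have hρi : ρ ⬝ᵥ (s • ck m F i) = s * ((Nat.choose (m + 2 + r) (m + 2) : ℕ) : F) := by
    rw [dotProduct_smul, hρ, rho_dot_ck hH k i, hki, smul_eq_mul]
  -- the commutator
  have hcomm := tvm_comm (s • ck m F i) e (s' • ck m F j) ρ h1 h2 h3
  have hn1 : InG G (tvm (-(s • ck m F i)) e) := inG_tvm_neg h1 hs
  have hn2 : InG G (tvm (-(s' • ck m F j)) ρ) := inG_tvm_neg h2 ht2
  have hall : InG G (tvm (-(ρ ⬝ᵥ (s • ck m F i)) • (s' • ck m F j)) e) := by
    rw [← hcomm]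
    exact inG_mul (inG_mul (inG_mul hs ht2) hn1) hn2
  rw [hρi, smul_smul] at hall
  have hcoef : -(s * ((Nat.choose (m + 2 + r) (m + 2) : ℕ) : F)) * s' =
      -(((Nat.choose (m + 2 + r) (m + 2) : ℕ) : F) * s * s') := by ring
  rw [hcoef] at hall
  exact hall

end Cfsg.Agent.Lib.Helper63.RU4x
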