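import Mathlib

/-!
# K-S0459-A: simplicity from a primitive action and generators of prime order `p` with `p ∥ |G|`, `p ∣ |X|`.
-/

set_option autoImplicit false

namespace Cfsg.Agent.Lib.Helper63.RuKey

open MulAction
open scoped Pointwise

theorem isSimpleGroup_of_preprimitive_of_prime_generators
    {G X : Type*} [Group G] [Finite G] [MulAction G X] [Fintype X] [FaithfulSMul G X]
    [IsPreprimitive G X] [Nontrivial G]
    (p : ℕ) (hp : p.Prime) (hdvd : p ∣ Fintype.card X) (hpp : ¬ p ^ 2 ∣ Nat.card G)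
    (S : Set G) (hS : ∀ s ∈ S, s ^ p = 1) (hgen : Subgroup.closure S = ⊤) : IsSimpleGroup G := by
  have : Fact p.Prime := ⟨hp⟩
  refine ⟨fun N hN => ?_⟩
  by_cases hN1 : N = ⊥
  · exact Or.inl hN1
  right
  -- `N` moves a point
  obtain ⟨n, hnN, hn1⟩ : ∃ n : G, n ∈ N ∧ n ≠ 1 := by
    obtain ⟨a, ha⟩ := Subgroup.ne_bot_iff_exists_ne_one.mp hN1
    exact ⟨(a : G), a.2, fun h => ha (Subtype.ext h)⟩
  obtain ⟨x, hx⟩ : ∃ x : X, n • x ≠ x := by
    by_contra hcon
    push Not at hcon
    apply hn1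
    apply FaithfulSMul.eq_of_smul_eq_smul (α := X)
    intro x
    rw [hcon x, one_smul]
  have hfix : fixedPoints N X ≠ Set.univ := by
    intro h
    have hx' : x ∈ fixedPoints N X := by rw [h]; exact Set.mem_univ x
    exact hx (hx' ⟨n, hnN⟩)
  have htr : IsPretransitive N X := IsQuasiPreprimitive.isPretransitive_of_normal hfix
  -- `p ∣ |N|`
  have hXN : Nat.card X ∣ Nat.card N := by
    rw [← index_stabilizer_of_transitive N x]
    exact Subgroup.index_dvd_card _
  have hpN : p ∣ Nat.card N := by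
    rw [Nat.card_eq_fintype_card] at hXN
    exact hdvd.trans hXN
  obtain ⟨y, hy⟩ := exists_prime_orderOf_dvd_card' p hpN
  have hyG : orderOf (y : G) = p := by rw [Subgroup.orderOf_coe, hy]
  -- the Sylow `p`-subgroups have order `p`
  have hpG : p ∣ Nat.card G := hpN.trans (Subgroup.card_subgroup_dvd_card N)
  have hG0 : Nat.card G ≠ 0 := Nat.card_pos.ne'
  have hfact : (Nat.card G).factorization p = 1 := by
    have h1 : 1 ≤ (Nat.card G).factorization p :=
      (hp.pow_dvd_iff_le_factorization hG0).mp (by rwa [pow_one])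
    have h2 : ¬ 2 ≤ (Nat.card G).factorization p :=
      fun h => hpp ((hp.pow_dvd_iff_le_factorization hG0).mpr h)
    omega
  have hsyl : ∀ P : Sylow p G, Nat.card (P : Subgroup G) = p := by
    intro P
    rw [Sylow.card_eq_multiplicity, hfact, pow_one]
  have hzp : ∀ g : G, orderOf g = p → IsPGroup p (Subgroup.zpowers g) := by
    intro g hg
    exact IsPGroup.of_card (n := 1) (by rw [Nat.card_zpowers, hg, pow_one])
  obtain ⟨Q, hQ⟩ := (hzp (y : G) hyG).exists_le_sylow
  have hQeq : Subgroup.zpowers (y : G) = (Q : Subgroup G) :=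
    Subgroup.eq_of_le_of_card_ge hQ (by rw [hsyl Q, Nat.card_zpowers, hyG])
  have hQN : (Q : Subgroup G) ≤ N := by
    rw [← hQeq, Subgroup.zpowers_le]; exact y.2
  -- every generator lies in `N`
  have hSN : S ⊆ (N : Set G) := by
    intro s hs
    by_cases hs1 : s = 1
    · rw [hs1]; exact N.one_mem
    have hso : orderOf s = p := orderOf_eq_prime (hS s hs) hs1
    obtain ⟨P, hP⟩ := (hzp s hso).exists_le_sylow
    have hsP : s ∈ (P : Subgroup G) := hP (Subgroup.mem_zpowers s)
    obtain ⟨g, hg⟩ := MulAction.exists_smul_eq G Q P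
    rw [← hg, Sylow.coe_subgroup_smul] at hsP
    obtain ⟨q, hq, rfl⟩ := hsP
    exact hN.conj_mem q (hQN hq) g
  rw [eq_top_iff, ← hgen]
  exact (Subgroup.closure_le N).mpr hSN

end Cfsg.Agent.Lib.Helper63.RuKey
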