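import Mathlib
import Cfsg.Agent.Lib.Helper95.Ru.Defs
import Cfsg.Agent.Lib.Helper62.RuKeyC1
import Cfsg.Agent.Lib.Helper66.RuKeyC3

/-!
# S0459 (Rudvalis group on 4060 points): keystone D3, orders of elements and fixed points from table
checks.
-/

set_option autoImplicit false

namespace Cfsg.Agent.Lib.Helper63.RuKey

open Cfsg.Agent.Lib.Helper95.Ru
open Cfsg.Agent.Lib.Helper62.RuKey (prodP)
open Cfsg.Agent.Lib.Helper66.RuKey (RepL genSet)

theorem prodP_replicate (g : P) (k : ℕ) : prodP (List.replicate k g) = g ^ k := by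
  unfold prodP
  rw [Cfsg.Agent.Lib.Helper66.RuKey.foldl_mul_eq, mul_one, List.reverse_replicate,
    List.prod_replicate]

theorem forall₂_replicate (T : Nat) (g : P) (hg : Rep T g) (k : ℕ) :
    List.Forall₂ Rep (List.replicate k T) (List.replicate k g) := by
  induction k with
  | zero => exact List.Forall₂.nil
  | succ k ih =>
    rw [List.replicate_succ, List.replicate_succ]
    exact List.Forall₂.cons hg ih

theorem pow_eq_one_of_check (T : Nat) (g : P) (k : ℕ) (hg : Rep T g)
    (h : allBelow (fun x => Nat.beq (evalT (List.replicate k T) x) x) 4060 = true) : g ^ k = 1 := by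
  apply Equiv.ext
  intro x
  apply Fin.ext
  have h1 := Nat.eq_of_beq_eq_true
    (Cfsg.Agent.Lib.Helper62.RuKey.allBelow_spec h x.val x.isLt)
  have h2 := Cfsg.Agent.Lib.Helper62.RuKey.evalT_rep (forall₂_replicate T g hg k) x
  rw [prodP_replicate] at h2
  rw [h2, h1]
  rfl

theorem fix_of_fixCheck_aux (b : ℕ) (hb : b < 4060) :
    ∀ (LT : List (Nat × Nat)) (GP : List P), RepL LT GP → fixCheck LT b = true →
      ∀ g ∈ GP, g ⟨b, hb⟩ = ⟨b, hb⟩ := by
  intro LT GP hL
  induction hL with
  | nil =>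
    intro _ g hg
    simp at hg
  | cons hpr _ ih =>
    intro h g hg
    unfold fixCheck at h
    rw [List.all_cons, Bool.and_eq_true] at h
    rcases List.mem_cons.mp hg with rfl | hg'
    · apply Fin.ext
      have := hpr.1 ⟨b, hb⟩
      rw [this]
      exact Nat.eq_of_beq_eq_true h.1
    · exact ih h.2 g hg'

theorem fix_of_fixCheck (LT : List (Nat × Nat)) (GP : List P) (hL : RepL LT GP) (b : ℕ) (hb : b < 4060)
    (h : fixCheck LT b = true) : ∀ g ∈ Subgroup.closure (genSet GP), g ⟨b, hb⟩ = ⟨b, hb⟩ := by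
  have hle : Subgroup.closure (genSet GP) ≤ MulAction.stabilizer P (⟨b, hb⟩ : Fin 4060) := by
    rw [Subgroup.closure_le]
    intro g hg
    rw [SetLike.mem_coe, MulAction.mem_stabilizer_iff, Equiv.Perm.smul_def]
    exact fix_of_fixCheck_aux b hb LT GP hL h g hg
  intro g hg
  have := hle hg
  rwa [MulAction.mem_stabilizer_iff, Equiv.Perm.smul_def] at this

theorem mem_of_wordCheck (LT : List (Nat × Nat)) (GP : List P) (hL : RepL LT GP) (T : Nat) (g : P) (hg : Rep T g)
    (w : List Nat) (h : wordCheck T (wT LT w) = true) (K : Subgroup P) (hK : ∀ x ∈ GP, x ∈ K) : g ∈ K := by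
  have hgw : g = Cfsg.Agent.Lib.Helper66.RuKey.wP GP w := by
    apply Equiv.ext
    intro x
    apply Fin.ext
    have h1 := Nat.eq_of_beq_eq_true
      (Cfsg.Agent.Lib.Helper62.RuKey.allBelow_spec h x.val x.isLt)
    rw [hg x, h1, Cfsg.Agent.Lib.Helper66.RuKey.wP_apply hL w x]
  rw [hgw]
  exact Cfsg.Agent.Lib.Helper66.RuKey.wP_mem K GP hK w

end Cfsg.Agent.Lib.Helper63.RuKey
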