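import Mathlib
import Cfsg.Agent.Lib.Helper40.NilCovDefs

/-! K-S3894-T2: `SL_2(F)` does not normalise the field `F[g]` of an irreducible `2 × 2` matrix `g`
(`|F| ≥ 3`): a suitable transvection does not. -/

set_option autoImplicit false

namespace Cfsg.Agent.Lib.Helper63.S3894T2

open Matrix Cfsg.Agent.Lib.Helper40.NilCov

variable {F : Type*} [Field F]

theorem exists_sl_not_normK [Fintype F] (hq : 3 ≤ Fintype.card F) {g : Matrix (Fin 2) (Fin 2) F}
    (hg : IsIrr g) :
    ∃ s : Matrix.SpecialLinearGroup (Fin 2) F,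
      Matrix.SpecialLinearGroup.toGL s ∉ normK (Kset g) := by
  classical
  -- the lower left entry of `g` is nonzero
  have hc : g 1 0 ≠ 0 := by
    intro h0
    refine hg ![1, 0] ?_ (g 0 0) ?_
    · intro h
      have := congrFun h 0
      simp at this
    · ext i
      fin_cases i <;> simp [Matrix.mulVec, dotProduct, Fin.sum_univ_two, h0]
  -- choose the parameter of the transvection
  obtain ⟨l, -, hl⟩ := Finset.exists_mem_notMem_of_card_lt_card
    (s := ({0, (g 1 1 - g 0 0) / g 1 0} : Finset F)) (t := Finset.univ) (by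
      calc _ ≤ 2 := Finset.card_le_two
        _ < 3 := by norm_num
        _ ≤ _ := by rw [Finset.card_univ]; exact hq)
  have hl0 : l ≠ 0 := fun h => hl (by rw [h]; simp)
  have hlμ : l ≠ (g 1 1 - g 0 0) / g 1 0 := fun h => hl (by rw [h]; simp)
  have hlc : l * g 1 0 ≠ g 1 1 - g 0 0 := by
    intro h
    apply hlμ
    rw [eq_div_iff hc]; exact h
  -- the transvection
  have hdet : (!![1, l; 0, 1] : Matrix (Fin 2) (Fin 2) F).det = 1 := by
    simp [Matrix.det_fin_two_of]
  obtain ⟨s, hsv⟩ : ∃ s : Matrix.SpecialLinearGroup (Fin 2) F,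
      (s : Matrix (Fin 2) (Fin 2) F) = !![1, l; 0, 1] := ⟨⟨_, hdet⟩, rfl⟩
  refine ⟨s, fun hmem => ?_⟩
  have hgK : g ∈ Kset g := ⟨0, 1, by simp⟩
  obtain ⟨α, β, hαβ⟩ := (mem_normK.mp hmem g).mp hgK
  have hs : ((Matrix.SpecialLinearGroup.toGL s : GL (Fin 2) F) :
      Matrix (Fin 2) (Fin 2) F) = !![1, l; 0, 1] := hsv
  have hsinv : (((Matrix.SpecialLinearGroup.toGL s)⁻¹ : GL (Fin 2) F) :
      Matrix (Fin 2) (Fin 2) F) = !![1, -l; 0, 1] := by
    show ((s⁻¹ : Matrix.SpecialLinearGroup (Fin 2) F) : Matrix (Fin 2) (Fin 2) F) = _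
    rw [Matrix.SpecialLinearGroup.coe_inv, hsv]
    simp [Matrix.adjugate_fin_two_of]
  rw [hs, hsinv] at hαβ
  have e10 := congrFun (congrFun hαβ 1) 0
  have e00 := congrFun (congrFun hαβ 0) 0
  have e01 := congrFun (congrFun hαβ 0) 1
  simp only [Matrix.mul_apply, Fin.sum_univ_two] at e10 e00 e01
  simp at e10 e00 e01
  -- `β = 1`
  have hβ : β = 1 := by
    have : (β - 1) * g 1 0 = 0 := by linear_combination -e10
    rcases mul_eq_zero.mp this with h | h
    · exact sub_eq_zero.mp h
    · exact absurd h hc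
  subst hβ
  have hα : α = l * g 1 0 := by linear_combination -e00
  subst hα
  apply hlc
  have h2 : l * (g 1 1 - g 0 0 - l * g 1 0) = 0 := by linear_combination e01
  rcases mul_eq_zero.mp h2 with h | h
  · exact absurd h hl0
  · linear_combination -h

end Cfsg.Agent.Lib.Helper63.S3894T2
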