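import Mathlib
import Cfsg.Prelude.Def_Characters
import Cfsg.Agent.Lib.Helper17.PermMult
import Cfsg.Agent.Lib.Helper83.CharBasic
import Cfsg.Agent.Lib.Helper83.Abelian
import Cfsg.Agent.Lib.Helper83.Linear

set_option autoImplicit false
set_option linter.style.haveILetI false

namespace Cfsg.Agent.Lib.Helper63.S4464A

open MulAction Cfsg Cfsg.Agent.Lib.Helper83 Cfsg.Agent.Lib.Helper17

/-- Every orbit of `N_G(P)` on the Sylow `p`-subgroups other than `{P}` has size divisible
by `p`. -/
theorem p_dvd_orbit {G : Type*} [Group G] [Finite G] (p : ℕ) [Fact p.Prime]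
    (P : Sylow p G) (b : Sylow p G) (hb : b ≠ P) :
    p ∣ Nat.card (orbit (stabilizer G P) b) := by
  classical
  -- the `p`-group `P` inside the stabilizer
  set N : Subgroup G := stabilizer G P with hN
  have hPN : (P : Subgroup G) ≤ N := by
    rw [hN, Sylow.stabilizer_eq_normalizer]
    exact Subgroup.le_normalizer
  set P' : Subgroup N := (P : Subgroup G).subgroupOf N with hP'
  have hP'p : IsPGroup p P' := by
    rw [hP']
    exact P.isPGroup'.comap_subtype
  haveI : Finite (orbit N b) := inferInstance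
  have hmod := hP'p.card_modEq_card_fixedPoints (orbit N b)
  have hfix : IsEmpty (fixedPoints P' (orbit N b)) := by
    constructor
    rintro ⟨⟨Q, hQ⟩, hfixQ⟩
    -- `P` fixes `Q`, so `P ≤ Q`, so `Q = P`
    have h1 : Q ∈ fixedPoints (P : Subgroup G) (Sylow p G) := by
      intro ⟨x, hx⟩
      have hxN : x ∈ N := hPN hx
      have := hfixQ ⟨⟨x, hxN⟩, by rw [hP']; exact Subgroup.mem_subgroupOf.mpr hx⟩
      have h2 := congrArg (fun y : orbit N b => (y : Sylow p G)) this
      exact h2
    have h3 : (P : Subgroup G) ≤ Q := (P.isPGroup'.sylow_mem_fixedPoints_iff).mp h1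
    have hQP : Q = P := by
      have := P.is_maximal' Q.isPGroup' h3
      exact Sylow.ext this
    -- then `b` lies in the orbit of `P`, which is `{P}`
    rw [hQP] at hQ
    obtain ⟨n, hn⟩ := hQ
    have hn2 : (n : G) • P = P := n.2
    have hn' : (n : G) • b = P := hn
    have : b = P := by
      have h4 : (n : G) • b = (n : G) • P := by rw [hn', hn2]
      exact smul_left_cancel _ h4
    exact hb this
  have h0 : Nat.card (fixedPoints P' (orbit N b)) = 0 := Nat.card_of_isEmpty
  rw [h0] at hmod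
  exact (Nat.modEq_zero_iff_dvd).mp hmod

/-- If all irreducible character degrees are less than `p`, a Sylow `p`-subgroup is normal. -/
theorem sylow_normal_of_degrees_lt {G : Type*} [Group G] [Finite G] (p : ℕ) (hp : p.Prime)
    (hb : ∀ χ : Cfsg.IrrCharacter G, Cfsg.charDegree (χ : G → ℂ) < p) (P : Sylow p G) :
    (P : Subgroup G).Normal := by
  classical
  haveI : Fact p.Prime := ⟨hp⟩
  haveI : Fintype G := Fintype.ofFinite _
  haveI : Fintype (Sylow p G) := Fintype.ofFinite _
  haveI : Fintype (IrrCharacter G) := Fintype.ofFinite _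
  -- orbit side
  have horb := orbit_count (H := stabilizer G P) (Ω := Sylow p G) P
    (fun h => h.2) p (fun b hbP => p_dvd_orbit p P b hbP)
  -- character side
  obtain ⟨m, -, hm1, hmsq, hmdeg⟩ := perm_mult_facts (G := G) (Ω := Sylow p G) P
  set r := Nat.card (orbitRel.Quotient (stabilizer G P) (Sylow p G)) with hr
  set n := Nat.card (Sylow p G) with hn
  have hdeg : n = ∑ ψ : IrrCharacter G, m ψ * charDegree (ψ : G → ℂ) := by
    have : (n : ℂ) = ((∑ ψ : IrrCharacter G, m ψ * charDegree (ψ : G → ℂ) : ℕ) : ℂ) := by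
      rw [hmdeg, Nat.cast_sum]
      refine Finset.sum_congr rfl (fun ψ _ => ?_)
      rw [Nat.cast_mul, charDegree_cast (IrrCharacter_isCharacter ψ)]
    exact_mod_cast this
  -- split off the trivial character
  have h1 : n = 1 + ∑ ψ ∈ Finset.univ.erase (trivChar G), m ψ * charDegree (ψ : G → ℂ) := by
    rw [hdeg, ← Finset.add_sum_erase _ _ (Finset.mem_univ (trivChar G)), hm1, charDegree_trivChar]
  have h2 : r = 1 + ∑ ψ ∈ Finset.univ.erase (trivChar G), (m ψ) ^ 2 := by
    rw [← hmsq, ← Finset.add_sum_erase _ _ (Finset.mem_univ (trivChar G)), hm1, one_pow]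
  have h3 : ∑ ψ ∈ Finset.univ.erase (trivChar G), m ψ * charDegree (ψ : G → ℂ) ≤
      ∑ ψ ∈ Finset.univ.erase (trivChar G), (m ψ) ^ 2 * (p - 1) := by
    refine Finset.sum_le_sum (fun ψ _ => ?_)
    have hd : charDegree (ψ : G → ℂ) ≤ p - 1 := Nat.le_sub_one_of_lt (hb ψ)
    calc m ψ * charDegree (ψ : G → ℂ) ≤ m ψ * (p - 1) := Nat.mul_le_mul_left _ hd
      _ ≤ (m ψ) ^ 2 * (p - 1) := by
        apply Nat.mul_le_mul_right
        rw [pow_two]
        rcases Nat.eq_zero_or_pos (m ψ) with h0 | h0
        · rw [h0]; exact Nat.zero_le _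
        · exact Nat.le_mul_of_pos_left _ h0
  rw [← Finset.sum_mul] at h3
  set s := ∑ ψ ∈ Finset.univ.erase (trivChar G), (m ψ) ^ 2 with hs
  set t := ∑ ψ ∈ Finset.univ.erase (trivChar G), m ψ * charDegree (ψ : G → ℂ) with ht
  have h4 : 1 + (r - 1) * p ≤ n := horb.1
  have hr1 : r - 1 = s := by omega
  rw [hr1, h1] at h4
  -- s * p ≤ t ≤ s * (p - 1)
  have hp2 : 2 ≤ p := hp.two_le
  have hs0 : s = 0 := by
    by_contra hne
    have hspos : 0 < s := Nat.pos_of_ne_zero hne
    have : s * (p - 1) < s * p := Nat.mul_lt_mul_of_pos_left (by omega) hspos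
    omega
  have ht0 : t = 0 := by
    rw [hs0] at h3
    simpa using h3
  have hn1 : n = 1 := by rw [h1, ht0]
  -- a unique Sylow subgroup is normal
  have hsub : Subsingleton (Sylow p G) := by
    rw [← Finite.card_le_one_iff_subsingleton]
    exact le_of_eq hn1
  exact Sylow.normal_of_subsingleton P

end Cfsg.Agent.Lib.Helper63.S4464A
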