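import Mathlib
import Cfsg.Prelude.Def_Characters
import Cfsg.Agent.Lib.Helper79.ItoSolvable
import Cfsg.Agent.Lib.Helper63.S4464A

set_option autoImplicit false
set_option linter.style.haveILetI false

namespace Cfsg.Agent.Lib.Helper63.S4464B

open Cfsg Cfsg.Agent.Lib.Helper83

universe u

/-- If all irreducible character degrees of `G` are less than `p`, a normal `p`-subgroup is
commutative. -/
theorem comm_of_normal_pgroup_of_degrees_lt {G : Type u} [Group G] [Finite G] (p : ℕ)
    (hp : p.Prime)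
    (hb : ∀ χ : Cfsg.IrrCharacter G, Cfsg.charDegree (χ : G → ℂ) < p)
    (M : Subgroup G) (hM : M.Normal) (hMp : IsPGroup p M) :
    ∀ x ∈ M, ∀ y ∈ M, x * y = y * x := by
  classical
  haveI : Fact p.Prime := ⟨hp⟩
  haveI : Fintype G := Fintype.ofFinite _
  have hlin : ∀ θ : IrrCharacter M, charDegree (θ : M → ℂ) = 1 := by
    intro θ
    obtain ⟨χ, e, hχ⟩ := Cfsg.Agent.Lib.Helper79.exists_irr_over M hM θ
    have hpos : 0 < charDegree (χ : G → ℂ) := irr_charDegree_pos χ
    have hlt := hb χ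
    have hθpos : 0 < charDegree (θ : M → ℂ) := irr_charDegree_pos θ
    -- θ(1) ≤ χ(1) < p
    have hle : charDegree (θ : M → ℂ) ≤ charDegree (χ : G → ℂ) := by
      rw [hχ]
      have hne : e * (Finset.univ.image
          (fun g : G => Cfsg.Agent.Lib.Helper85.conjFun hM (θ : M → ℂ) g)).card ≠ 0 := by
        intro h0
        rw [hχ, h0, zero_mul] at hpos
        exact lt_irrefl _ hpos
      exact Nat.le_mul_of_pos_left _ (Nat.pos_of_ne_zero hne)
    -- θ(1) divides |M|, a power of p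
    have hdvd : charDegree (θ : M → ℂ) ∣ Nat.card M := irr_charDegree_dvd_card θ
    obtain ⟨k, hk⟩ := hMp.exists_card_eq
    rw [hk] at hdvd
    obtain ⟨j, -, hj⟩ := (Nat.dvd_prime_pow hp).mp hdvd
    rcases Nat.eq_zero_or_pos j with h0 | h0
    · rw [hj, h0, pow_zero]
    · exfalso
      have : p ≤ charDegree (θ : M → ℂ) := by
        rw [hj]
        calc p = p ^ 1 := (pow_one p).symm
          _ ≤ p ^ j := Nat.pow_le_pow_right hp.pos h0
      omega
  have hcomm := Cfsg.Agent.Lib.Helper79.comm_of_all_linear hlin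
  intro x hx y hy
  have := hcomm ⟨x, hx⟩ ⟨y, hy⟩
  exact congrArg Subtype.val this

/-- All degrees less than `p`: normal abelian Sylow `p`-subgroup. -/
theorem main {G : Type u} [Group G] [Finite G] (p : ℕ) (hp : p.Prime)
    (hb : ∀ χ : Cfsg.IrrCharacter G, Cfsg.charDegree (χ : G → ℂ) < p) :
    ∃ P : Subgroup G, P.Normal ∧ (∀ x ∈ P, ∀ y ∈ P, x * y = y * x) ∧ IsPGroup p P ∧
      ¬ p ∣ P.index := by
  haveI : Fact p.Prime := ⟨hp⟩
  obtain ⟨P⟩ : Nonempty (Sylow p G) := inferInstance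
  have hn := Cfsg.Agent.Lib.Helper63.S4464A.sylow_normal_of_degrees_lt p hp hb P
  exact ⟨P, hn, comm_of_normal_pgroup_of_degrees_lt p hp hb P hn P.isPGroup', P.isPGroup',
    P.not_dvd_index⟩

end Cfsg.Agent.Lib.Helper63.S4464B
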