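import Mathlib
import Cfsg.Agent.Lib.Helper02.SLO4

/-! Keystone K-SLU-9 (598209), second half: pure arithmetic on the orders of `GL_n(q₀²)` and
`GU_n(q₀)`: if `-q₀` is a power of `q₀²` modulo the odd prime `r`, then `r` does not divide
`|GL_n(q₀²)| (q₀ + 1) / (|GU_n(q₀)| (q₀² - 1))`. -/

set_option autoImplicit false

namespace Cfsg.Agent.Lib.Helper63.SLU

/-- `(q₀²)^(i+1) - 1` is the product of the unitary factor and the complementary factor -/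
theorem sq_pow_sub_one (q₀ i : ℕ) :
    (q₀ ^ 2) ^ (i + 1) - 1 =
      (if Even i then q₀ ^ (i + 1) + 1 else q₀ ^ (i + 1) - 1) *
        (if Even i then q₀ ^ (i + 1) - 1 else q₀ ^ (i + 1) + 1) := by
  have h1 : (q₀ ^ 2) ^ (i + 1) - 1 = (q₀ ^ (i + 1) + 1) * (q₀ ^ (i + 1) - 1) := by
    have := Nat.sq_sub_sq (q₀ ^ (i + 1)) 1
    rw [one_pow] at this
    rw [← this, ← pow_mul, ← pow_mul, mul_comm 2]
  rw [h1]
  split_ifs
  · rfl
  · exact mul_comm _ _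

theorem arith_index_u (q₀ r n G : ℕ) (hq₀ : 2 ≤ q₀) (hr : r.Prime) (hr2 : r ≠ 2) (hrq : ¬ r ∣ q₀)
    (hj : ∃ j : ℕ, ((q₀ ^ 2 : ℕ) : ZMod r) ^ j = -((q₀ : ℕ) : ZMod r))
    (hG : G = ∏ j : Fin n, ((q₀ ^ 2) ^ n - (q₀ ^ 2) ^ (j : ℕ)))
    (h : r * (q₀ ^ (n * (n - 1) / 2) *
      ∏ j ∈ Finset.range n, (if Even j then q₀ ^ (j + 1) + 1 else q₀ ^ (j + 1) - 1)) *
        (q₀ ^ 2 - 1) ∣ G * (q₀ + 1)) : False := by
  have hfac : ∏ i ∈ Finset.range n, ((q₀ ^ 2) ^ (i + 1) - 1) =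
      (∏ j ∈ Finset.range n, (if Even j then q₀ ^ (j + 1) + 1 else q₀ ^ (j + 1) - 1)) *
        ∏ j ∈ Finset.range n, (if Even j then q₀ ^ (j + 1) - 1 else q₀ ^ (j + 1) + 1) := by
    rw [← Finset.prod_mul_distrib]
    exact Finset.prod_congr rfl fun i _ => sq_pow_sub_one q₀ i
  rw [Cfsg.Agent.Lib.Helper02.SLO.prod_gl_factor', hfac] at hG
  set PU := ∏ j ∈ Finset.range n, (if Even j then q₀ ^ (j + 1) + 1 else q₀ ^ (j + 1) - 1) with hPU
  set PC := ∏ j ∈ Finset.range n, (if Even j then q₀ ^ (j + 1) - 1 else q₀ ^ (j + 1) + 1) with hPC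
  set Pq := ∏ i ∈ Finset.range n, (q₀ ^ 2) ^ i with hPq
  have hPUpos : 0 < PU := by
    apply Finset.prod_pos
    intro i _
    have : 2 ≤ q₀ ^ (i + 1) := le_trans hq₀ (Nat.le_self_pow (by omega) q₀)
    split_ifs <;> omega
  have hsq : q₀ ^ 2 - 1 = (q₀ + 1) * (q₀ - 1) := by
    have := Nat.sq_sub_sq q₀ 1
    rwa [one_pow] at this
  obtain ⟨k, hk⟩ := h
  have h3 : Pq * PC = r * (q₀ ^ (n * (n - 1) / 2) * (q₀ - 1) * k) := by
    apply Nat.eq_of_mul_eq_mul_left (show 0 < PU * (q₀ + 1) by positivity)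
    calc PU * (q₀ + 1) * (Pq * PC) = Pq * (PU * PC) * (q₀ + 1) := by ring
      _ = G * (q₀ + 1) := by rw [hG]
      _ = r * (q₀ ^ (n * (n - 1) / 2) * PU) * (q₀ ^ 2 - 1) * k := hk
      _ = r * (q₀ ^ (n * (n - 1) / 2) * PU) * ((q₀ + 1) * (q₀ - 1)) * k := by rw [hsq]
      _ = PU * (q₀ + 1) * (r * (q₀ ^ (n * (n - 1) / 2) * (q₀ - 1) * k)) := by ring
  have h4 : r ∣ Pq * PC := ⟨_, h3⟩
  have h5 : r ∣ PC := by
    rcases (Nat.Prime.dvd_mul hr).mp h4 with h | h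
    · exfalso
      obtain ⟨i, _, hi⟩ := (Prime.dvd_finsetProd_iff hr.prime _).mp h
      exact hrq (hr.dvd_of_dvd_pow (hr.dvd_of_dvd_pow hi))
    · exact h
  obtain ⟨i, _, hi⟩ := (Prime.dvd_finsetProd_iff hr.prime _).mp h5
  have : Fact r.Prime := ⟨hr⟩
  -- `x = -q₀` has `x ^ (i + 1) = -1`
  have hx : (-(q₀ : ZMod r)) ^ (i + 1) = -1 := by
    rw [neg_pow]
    by_cases hev : Even i
    · rw [if_pos hev] at hi
      have h6 := Cfsg.Agent.Lib.Helper02.SLO.pow_eq_one_of_dvd q₀ r (i + 1) (by omega) hi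
      rw [h6, mul_one, Odd.neg_one_pow (Even.add_one hev)]
    · rw [if_neg hev] at hi
      have h6 := (ZMod.natCast_eq_zero_iff (q₀ ^ (i + 1) + 1) r).mpr hi
      push_cast at h6
      have h7 : (q₀ : ZMod r) ^ (i + 1) = -1 := eq_neg_of_add_eq_zero_left h6
      have hodd : Odd i := Nat.not_even_iff_odd.mp hev
      rw [h7, Even.neg_one_pow (Odd.add_one hodd), one_mul]
  obtain ⟨j, hj⟩ := hj
  have hj' : ((-(q₀ : ZMod r)) ^ 2) ^ j = -(q₀ : ZMod r) := by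
    rw [neg_sq]
    push_cast at hj
    exact hj
  have h8 : (1 : ZMod r) = -1 := by
    calc (1 : ZMod r) = (((-1 : ZMod r)) ^ 2) ^ j := by rw [neg_one_sq, one_pow]
      _ = (((-(q₀ : ZMod r)) ^ (i + 1)) ^ 2) ^ j := by rw [hx]
      _ = (((-(q₀ : ZMod r)) ^ 2) ^ j) ^ (i + 1) := by
          rw [← pow_mul, ← pow_mul, ← pow_mul, ← pow_mul]
          congr 1
          ring
      _ = -1 := by rw [hj', hx]
  have h9 : ((2 : ℕ) : ZMod r) = 0 := by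
    push_cast
    have : (1 : ZMod r) + 1 = 0 := by
      nth_rewrite 2 [h8]
      ring
    rw [← this]
    norm_num
  have h10 := (ZMod.natCast_eq_zero_iff 2 r).mp h9
  exact hr2 ((Nat.prime_dvd_prime_iff_eq hr Nat.prime_two).mp h10)

end Cfsg.Agent.Lib.Helper63.SLU
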