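import Mathlib

/-! Tool for K-SN (S4073), converse half, Dickson case `A₄`: a normal non-commutative subgroup of a group
isomorphic to `A₄` is the whole group. -/

set_option autoImplicit false

namespace Cfsg.Agent.Lib.Helper63.SN

/-- a subgroup of an alternating group containing all squares is everything -/
theorem alt_top_of_sq_mem {n : ℕ} (N : Subgroup (alternatingGroup (Fin n)))
    (hsq : ∀ a : alternatingGroup (Fin n), a * a ∈ N) : N = ⊤ := by
  classical
  have h3 : ∀ σ : Equiv.Perm (Fin n), σ.IsThreeCycle →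
      σ ∈ N.map (alternatingGroup (Fin n)).subtype := by
    intro σ hσ
    have hmem : σ ∈ alternatingGroup (Fin n) := hσ.mem_alternatingGroup
    have ho : orderOf σ = 3 := hσ.orderOf
    have hpow : σ ^ 3 = 1 := by rw [← ho]; exact pow_orderOf_eq_one σ
    have ha : (⟨σ, hmem⟩ : alternatingGroup (Fin n)) =
        ((⟨σ, hmem⟩ : alternatingGroup (Fin n)) * ⟨σ, hmem⟩) * (⟨σ, hmem⟩ * ⟨σ, hmem⟩) := by
      apply Subtype.ext
      show σ = (σ * σ) * (σ * σ)
      have : (σ * σ) * (σ * σ) = σ ^ 3 * σ := by
        simp only [pow_succ, pow_zero, one_mul, mul_assoc]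
      rw [this, hpow, one_mul]
    refine ⟨⟨σ, hmem⟩, ?_, rfl⟩
    rw [ha]
    exact hsq _
  have hcl : alternatingGroup (Fin n) ≤ N.map (alternatingGroup (Fin n)).subtype := by
    intro x hx
    have hcle := Equiv.Perm.closure_three_cycles_eq_alternating (α := Fin n)
    rw [← hcle] at hx
    exact (Subgroup.closure_le _).2 (fun σ hσ => h3 σ hσ) hx
  rw [eq_top_iff]
  intro x _
  obtain ⟨y, hy, hyx⟩ := hcl x.2
  have : y = x := Subtype.ext hyx
  rwa [← this]

/-- a normal non-commutative subgroup of `A₄` is everything -/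
theorem alt4_normal_top (N : Subgroup (alternatingGroup (Fin 4))) [hN : N.Normal]
    (hnc : ¬ IsMulCommutative N) : N = ⊤ := by
  classical
  have hcard : Nat.card (alternatingGroup (Fin 4)) = 12 := by
    have h2 : 2 * Fintype.card (alternatingGroup (Fin 4)) = 24 := by
      rw [two_mul_card_alternatingGroup, Fintype.card_perm, Fintype.card_fin]; rfl
    rw [Nat.card_eq_fintype_card]
    omega
  have hdvd : Nat.card N ∣ 12 := hcard ▸ Subgroup.card_subgroup_dvd_card N
  have hcyc : ∀ p : ℕ, p.Prime → Nat.card N = p → False := by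
    intro p hp hHp
    have : Fact p.Prime := ⟨hp⟩
    have hc : IsCyclic N := isCyclic_of_prime_card hHp
    apply hnc
    refine ⟨⟨?_⟩⟩
    intro a b
    obtain ⟨g, hg⟩ := hc.exists_generator
    obtain ⟨m, rfl⟩ := Subgroup.mem_zpowers_iff.1 (hg a)
    obtain ⟨n, rfl⟩ := Subgroup.mem_zpowers_iff.1 (hg b)
    exact (Commute.zpow_zpow_self g m n).eq
  have hle : Nat.card N ≤ 12 := Nat.le_of_dvd (by norm_num) hdvd
  have hpos : 0 < Nat.card N := Nat.card_pos
  have hcases : Nat.card N = 1 ∨ Nat.card N = 2 ∨ Nat.card N = 3 ∨ Nat.card N = 4 ∨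
      Nat.card N = 6 ∨ Nat.card N = 12 := by
    generalize Nat.card N = c at hdvd hle hpos
    interval_cases c <;> simp_all <;> omega
  rcases hcases with h | h | h | h | h | h
  · exfalso
    apply hnc
    have hs : Subsingleton N := (Nat.card_eq_one_iff_unique.1 h).1
    exact ⟨⟨fun a b => Subsingleton.elim _ _⟩⟩
  · exact (hcyc 2 Nat.prime_two h).elim
  · exact (hcyc 3 Nat.prime_three h).elim
  · exfalso
    apply hnc
    have : Fact (Nat.Prime 2) := ⟨Nat.prime_two⟩
    exact IsPGroup.isMulCommutative_of_card_eq_prime_sq (p := 2) (G := N) (by rw [h]; norm_num)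
  · -- index two
    have hidx : N.index = 2 := by
      have := N.card_mul_index
      rw [h, hcard] at this
      omega
    exact alt_top_of_sq_mem N (fun a => Subgroup.mul_self_mem_of_index_two hidx a)
  · apply Subgroup.eq_top_of_card_eq
    rw [h, hcard]

/-- transported form: `M ≃* A₄` -/
theorem normal_top_of_equiv_alt4 {M : Type*} [Group M]
    (e : M ≃* alternatingGroup (Fin 4)) (H : Subgroup M) [hH : H.Normal]
    (hnc : ¬ IsMulCommutative H) : H = ⊤ := by
  have hmapn : (H.map e.toMonoidHom).Normal :=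
    hH.map e.toMonoidHom e.surjective
  have hnc' : ¬ IsMulCommutative (H.map e.toMonoidHom) := by
    intro hc
    apply hnc
    refine ⟨⟨?_⟩⟩
    rintro ⟨x, hx⟩ ⟨y, hy⟩
    apply Subtype.ext
    show x * y = y * x
    have := hc.is_comm.comm ⟨e x, Subgroup.mem_map_of_mem _ hx⟩ ⟨e y, Subgroup.mem_map_of_mem _ hy⟩
    have h2 : e x * e y = e y * e x := congrArg Subtype.val this
    apply e.injective
    rw [map_mul, map_mul, h2]
  have htop := alt4_normal_top (H.map e.toMonoidHom) hnc'
  rw [eq_top_iff]
  intro x _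
  have : e x ∈ H.map e.toMonoidHom := by rw [htop]; trivial
  obtain ⟨y, hy, hyx⟩ := this
  have : y = x := e.injective hyx
  rwa [← this]

/-- transported form for a simple target (e.g. `A₅`) -/
theorem normal_top_of_equiv_simple {M X : Type*} [Group M] [Group X] [IsSimpleGroup X]
    (e : M ≃* X) (H : Subgroup M) [hH : H.Normal] (hnc : ¬ IsMulCommutative H) : H = ⊤ := by
  have hmapn : (H.map e.toMonoidHom).Normal :=
    hH.map e.toMonoidHom e.surjective
  rcases hmapn.eq_bot_or_eq_top with h | h
  · exfalso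
    apply hnc
    refine ⟨⟨?_⟩⟩
    rintro ⟨x, hx⟩ ⟨y, hy⟩
    have hx1 : e x = 1 := by
      have : e x ∈ H.map e.toMonoidHom := Subgroup.mem_map_of_mem _ hx
      rwa [h, Subgroup.mem_bot] at this
    have hy1 : e y = 1 := by
      have : e y ∈ H.map e.toMonoidHom := Subgroup.mem_map_of_mem _ hy
      rwa [h, Subgroup.mem_bot] at this
    have hx' : x = 1 := e.injective (by rw [hx1, map_one])
    have hy' : y = 1 := e.injective (by rw [hy1, map_one])
    subst hx'; subst hy'; rfl
  · rw [eq_top_iff]
    intro x _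
    have : e x ∈ H.map e.toMonoidHom := by rw [h]; trivial
    obtain ⟨y, hy, hyx⟩ := this
    have : y = x := e.injective hyx
    rwa [← this]

end Cfsg.Agent.Lib.Helper63.SN
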