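import Mathlib

/-! Tools for K-SN (S4073), converse half: in the groups `M` produced by Dickson's list a normal
non-commutative subgroup is the whole group.  All statements are transported along an isomorphism
`e : M ≃* X`, so they apply directly to `M = N_G(H)`, `H.subgroupOf M`. -/

set_option autoImplicit false

namespace Cfsg.Agent.Lib.Helper63.SN

/-- a normal non-commutative subgroup of the dihedral group `D_k`, `k` odd, is everything -/
theorem dihedral_odd_normal_top (k : ℕ) (hk : Odd k) (N : Subgroup (DihedralGroup k)) [hN : N.Normal]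
    (hnc : ¬ IsMulCommutative N) : N = ⊤ := by
  classical
  -- `N` contains a reflection
  have hex : ∃ i : ZMod k, DihedralGroup.sr i ∈ N := by
    by_contra hcon
    push Not at hcon
    apply hnc
    refine ⟨⟨?_⟩⟩
    rintro ⟨x, hx⟩ ⟨y, hy⟩
    apply Subtype.ext
    show x * y = y * x
    cases x with
    | r i =>
      cases y with
      | r j => simp [add_comm]
      | sr j => exact absurd hy (hcon j)
    | sr i => exact absurd hx (hcon i)
  obtain ⟨i, hi⟩ := hex
  have h2 : IsUnit ((2 : ℕ) : ZMod k) := by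
    rw [ZMod.isUnit_iff_coprime]
    exact (Nat.coprime_two_left.2 hk)
  obtain ⟨u, hu⟩ := h2
  have hsr : ∀ m : ZMod k, DihedralGroup.sr m ∈ N := by
    intro m
    -- conjugate `sr i` by `r j` with `i - 2 j = m`
    let j : ZMod k := (↑u⁻¹ : ZMod k) * (i - m)
    have hj : i - 2 * j = m := by
      have h2u : (2 : ZMod k) * (↑u⁻¹ : ZMod k) = 1 := by
        have : ((2 : ℕ) : ZMod k) = (u : ZMod k) := hu.symm
        have h' : (u : ZMod k) * (↑u⁻¹ : ZMod k) = 1 := by
          rw [← Units.val_mul, mul_inv_cancel, Units.val_one]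
        have h3 : ((2 : ℕ) : ZMod k) = (2 : ZMod k) := by norm_num
        rw [← h3, this]; exact h'
      show i - 2 * ((↑u⁻¹ : ZMod k) * (i - m)) = m
      rw [← mul_assoc, h2u, one_mul]; ring
    have hconj := hN.conj_mem _ hi (DihedralGroup.r j)
    have : DihedralGroup.r j * DihedralGroup.sr i * (DihedralGroup.r j)⁻¹ = DihedralGroup.sr m := by
      rw [DihedralGroup.inv_r, DihedralGroup.r_mul_sr, DihedralGroup.sr_mul_r]
      congr 1
      rw [← hj]; ring
    rwa [this] at hconj
  rw [eq_top_iff]
  intro x _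
  cases x with
  | r m =>
    have : DihedralGroup.r m = DihedralGroup.sr 0 * DihedralGroup.sr m := by
      rw [DihedralGroup.sr_mul_sr]; simp
    rw [this]; exact N.mul_mem (hsr 0) (hsr m)
  | sr m => exact hsr m

/-- transported form: `M ≃* D_k`, `k` odd -/
theorem normal_top_of_equiv_dihedral_odd {M : Type*} [Group M] (k : ℕ) (hk : Odd k)
    (e : M ≃* DihedralGroup k) (H : Subgroup M) [hH : H.Normal] (hnc : ¬ IsMulCommutative H) :
    H = ⊤ := by
  have hmapn : (H.map e.toMonoidHom).Normal :=
    hH.map e.toMonoidHom e.surjective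
  have hnc' : ¬ IsMulCommutative (H.map e.toMonoidHom) := by
    intro hc
    apply hnc
    refine ⟨⟨?_⟩⟩
    rintro ⟨x, hx⟩ ⟨y, hy⟩
    apply Subtype.ext
    show x * y = y * x
    have := hc.is_comm.comm ⟨e x, Subgroup.mem_map_of_mem _ hx⟩ ⟨e y, Subgroup.mem_map_of_mem _ hy⟩
    have h2 : e x * e y = e y * e x := congrArg Subtype.val this
    apply e.injective
    rw [map_mul, map_mul, h2]
  have htop := dihedral_odd_normal_top k hk (H.map e.toMonoidHom) hnc'
  rw [eq_top_iff]
  intro x _
  have : e x ∈ H.map e.toMonoidHom := by rw [htop]; trivial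
  obtain ⟨y, hy, hyx⟩ := this
  have : y = x := e.injective hyx
  rwa [← this]

/-- a normal non-commutative subgroup of a simple group is everything -/
theorem normal_top_of_simple {M : Type*} [Group M] [IsSimpleGroup M] (H : Subgroup M) [hH : H.Normal]
    (hnc : ¬ IsMulCommutative H) : H = ⊤ := by
  rcases hH.eq_bot_or_eq_top with h | h
  · exfalso
    apply hnc
    refine ⟨⟨?_⟩⟩
    rintro ⟨x, hx⟩ ⟨y, hy⟩
    rw [h, Subgroup.mem_bot] at hx hy
    subst hx; subst hy; rfl
  · exact h

/-- a non-commutative subgroup of a group of order `2 * r`, `r` prime, is everything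
(order 6: `PSL₂(F₂) ≅ S₃`) -/
theorem top_of_card_two_mul_prime {M : Type*} [Group M] [Finite M] (r : ℕ) (hr : r.Prime)
    (hcard : Nat.card M = 2 * r) (H : Subgroup M) (hnc : ¬ IsMulCommutative H) : H = ⊤ := by
  have hdvd : Nat.card H ∣ 2 * r := hcard ▸ Subgroup.card_subgroup_dvd_card H
  have hcyc : ∀ p : ℕ, p.Prime → Nat.card H = p → False := by
    intro p hp hHp
    have : Fact p.Prime := ⟨hp⟩
    have hc : IsCyclic H := isCyclic_of_prime_card hHp
    apply hnc
    refine ⟨⟨?_⟩⟩
    intro a b
    obtain ⟨g, hg⟩ := hc.exists_generator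
    obtain ⟨m, rfl⟩ := Subgroup.mem_zpowers_iff.1 (hg a)
    obtain ⟨n, rfl⟩ := Subgroup.mem_zpowers_iff.1 (hg b)
    exact (Commute.zpow_zpow_self g m n).eq
  have h1 : Nat.card H ≠ 1 := by
    intro h
    apply hnc
    have hs : Subsingleton H := (Nat.card_eq_one_iff_unique.1 h).1
    exact ⟨⟨fun a b => Subsingleton.elim _ _⟩⟩
  -- divisors of `2 * r`
  have hdiv : Nat.card H = 1 ∨ Nat.card H = 2 ∨ Nat.card H = r ∨ Nat.card H = 2 * r := by
    have := (Nat.dvd_mul).1 hdvd
    obtain ⟨a, b, ha, hb, hab⟩ := this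
    rcases (Nat.dvd_prime Nat.prime_two).1 ha with rfl | rfl <;>
    rcases (Nat.dvd_prime hr).1 hb with rfl | rfl
    · left; simpa using hab.symm
    · right; right; left; simpa using hab.symm
    · right; left; simpa using hab.symm
    · right; right; right; exact hab.symm
  rcases hdiv with h | h | h | h
  · exact absurd h h1
  · exact (hcyc 2 Nat.prime_two h).elim
  · exact (hcyc r hr h).elim
  · apply Subgroup.eq_top_of_card_eq
    rw [h, hcard]

end Cfsg.Agent.Lib.Helper63.SN
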