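import Mathlib
import Cfsg.Agent.Lib.Helper72.SNCDefs
import Cfsg.Agent.Lib.Helper63.SNNormalTop

/-! K-SNC-3 (S4073 converse pack, architect helper72): abelian groups and simple groups are NNT. -/

set_option autoImplicit false

namespace Cfsg.Agent.Lib.Helper63.SNC

open Cfsg.Agent.Lib.Helper72.SNC

universe u v

/-- 407303 SNC-3 (a): abelian groups are NNT. -/
theorem nnt_of_comm {X : Type u} [Group X] (h : IsMulCommutative X) : NNT X := by
  intro N _ hnc
  exfalso
  apply hnc
  refine ⟨⟨?_⟩⟩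
  rintro ⟨x, hx⟩ ⟨y, hy⟩
  apply Subtype.ext
  exact h.is_comm.comm x y

/-- 407303 SNC-3 (b): simple groups are NNT. -/
theorem nnt_of_isSimpleGroup {X : Type u} [Group X] [IsSimpleGroup X] : NNT X := by
  intro N hN hnc
  haveI := hN
  exact Cfsg.Agent.Lib.Helper63.SN.normal_top_of_simple N hnc

end Cfsg.Agent.Lib.Helper63.SNC
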