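import Mathlib
import Cfsg.Agent.Lib.Helper72.SNCDefs
import Cfsg.Agent.Lib.Helper63.SNNormalTop

/-! K-SNC-4 (S4073 converse pack, architect helper72): dihedral groups of odd degree are NNT. -/

set_option autoImplicit false

namespace Cfsg.Agent.Lib.Helper63.SNC

open Cfsg.Agent.Lib.Helper72.SNC

universe u v

/-- 407304 SNC-4: dihedral group of order `2k`, `k` odd. -/
theorem nnt_dihedral (k : ℕ) (hk : Odd k) : NNT (DihedralGroup k) := by
  intro N hN hnc
  haveI := hN
  exact Cfsg.Agent.Lib.Helper63.SN.dihedral_odd_normal_top k hk N hnc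

end Cfsg.Agent.Lib.Helper63.SNC
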