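import Mathlib
import Cfsg.Agent.Lib.Helper72.SNCDefs
import Cfsg.Agent.Lib.Helper63.SNAlt4

/-! K-SNC-5 (S4073 converse pack, architect helper72): `A₄` is NNT. -/

set_option autoImplicit false

namespace Cfsg.Agent.Lib.Helper63.SNC

open Cfsg.Agent.Lib.Helper72.SNC

universe u v

/-- 407305 SNC-5: every non-abelian normal subgroup of `A₄` is `A₄`. -/
theorem nnt_alternating_four : NNT ↥(alternatingGroup (Fin 4)) := by
  intro N hN hnc
  haveI := hN
  exact Cfsg.Agent.Lib.Helper63.SN.alt4_normal_top N hnc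

end Cfsg.Agent.Lib.Helper63.SNC
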