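import Mathlib
import Cfsg.Agent.Lib.Helper72.SNCDefs
import Cfsg.Agent.Lib.Helper63.SNNormalTop

/-! K-SNC-6 (S4073 converse pack, architect helper72): groups of order 6 are NNT. -/

set_option autoImplicit false

namespace Cfsg.Agent.Lib.Helper63.SNC

open Cfsg.Agent.Lib.Helper72.SNC

universe u v

/-- 407306 SNC-6: order 6: a proper subgroup has order 1, 2 or 3, hence is cyclic. -/
theorem nnt_of_card_six {X : Type u} [Group X] [Finite X] (h : Nat.card X = 6) : NNT X := by
  intro N _ hnc
  exact Cfsg.Agent.Lib.Helper63.SN.top_of_card_two_mul_prime 3 Nat.prime_three (by rw [h]) N hnc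

end Cfsg.Agent.Lib.Helper63.SNC
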