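import Mathlib
import Cfsg.Prelude.Def_GeometricClasses
import Cfsg.Agent.Lib.Helper73.SU6Defs
import Cfsg.Agent.Lib.Helper51.FieldAutU1
import Cfsg.Agent.Lib.Helper19.Unitary
import Cfsg.Agent.Lib.Helper36.F4

/-!
# K-SU6-F3 (keystone 580203, architect helper73): over the field with four elements `t = 1 + J`
(`J` the all-ones matrix) lies in `SU_6(2)`, preserves the root set and does not stabilise the standard frame
-/

set_option autoImplicit false

namespace Cfsg.Agent.Lib.Helper63.SU6K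

open Cfsg Cfsg.Geo Cfsg.Agent.Lib.Helper73.SU6 Cfsg.Agent.Lib.Helper36
open scoped Matrix MatrixGroups

/-- the matrix `1 + J` over the prime field -/
def tM2 : Matrix (Fin 6) (Fin 6) (ZMod 2) :=
  fun i j => (if i = j then 1 else 0) + 1

theorem tM2_mul_self : tM2 * tM2 = 1 := by decide

theorem tM2_transpose : tM2ᵀ = tM2 := by decide

/-! ### the root set over the computable field `F4` -/

/-- `0` or `1` according to `a = 0` or not -/
def nz : F4 → ℕ
  | .z => 0
  | _ => 1

/-- explicit form of `IsRoot ![a, b, c, d, e, f]` -/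
def RootP (a b c d e f : F4) : Prop :=
  nz a + nz b + nz c + nz d + nz e + nz f = 2 ∨
    ((a ≠ 0 ∧ b ≠ 0 ∧ c ≠ 0 ∧ d ≠ 0 ∧ e ≠ 0 ∧ f ≠ 0) ∧ a * b * c * d * e * f = 1)

instance (a b c d e f : F4) : Decidable (RootP a b c d e f) := by
  unfold RootP; infer_instance

set_option maxRecDepth 100000 in
theorem rootP_key : ∀ a b c d e f : F4, RootP a b c d e f →
    RootP (a + (a + b + c + d + e + f)) (b + (a + b + c + d + e + f))
      (c + (a + b + c + d + e + f)) (d + (a + b + c + d + e + f))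
      (e + (a + b + c + d + e + f)) (f + (a + b + c + d + e + f)) := by
  decide

theorem nz_eq (a : F4) : (if a ≠ 0 then 1 else 0) = nz a := by
  revert a; decide

theorem isRoot_vec_iff (a b c d e f : F4) : IsRoot ![a, b, c, d, e, f] ↔ RootP a b c d e f := by
  unfold IsRoot RootP
  have h1 : Set.ncard {i : Fin 6 | ![a, b, c, d, e, f] i ≠ 0} =
      nz a + nz b + nz c + nz d + nz e + nz f := by
    rw [Set.ncard_eq_toFinset_card', Set.toFinset_ofPred, Finset.card_filter, Fin.sum_univ_six]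
    simp only [← nz_eq]
    rfl
  have h2 : (∀ i : Fin 6, ![a, b, c, d, e, f] i ≠ 0) ↔
      (a ≠ 0 ∧ b ≠ 0 ∧ c ≠ 0 ∧ d ≠ 0 ∧ e ≠ 0 ∧ f ≠ 0) := by
    constructor
    · intro h
      exact ⟨h 0, h 1, h 2, h 3, h 4, h 5⟩
    · rintro ⟨h0, h1, h2, h3, h4, h5⟩ i
      fin_cases i
      · exact h0
      · exact h1
      · exact h2
      · exact h3
      · exact h4
      · exact h5
  have h3 : ∏ i : Fin 6, ![a, b, c, d, e, f] i = a * b * c * d * e * f := by
    rw [Fin.prod_univ_six]
    rfl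
  rw [h1, h2, h3]

theorem isRoot_T4 (y : Fin 6 → F4) : IsRoot (fun i => y i + ∑ j, y j) ↔ IsRoot y := by
  have hfwd : ∀ y : Fin 6 → F4, IsRoot y → IsRoot (fun i => y i + ∑ j, y j) := by
    intro y hy
    have hy' : y = ![y 0, y 1, y 2, y 3, y 4, y 5] := by
      funext i; fin_cases i <;> rfl
    have hT : (fun i => y i + ∑ j, y j) =
        ![y 0 + (y 0 + y 1 + y 2 + y 3 + y 4 + y 5), y 1 + (y 0 + y 1 + y 2 + y 3 + y 4 + y 5),
          y 2 + (y 0 + y 1 + y 2 + y 3 + y 4 + y 5), y 3 + (y 0 + y 1 + y 2 + y 3 + y 4 + y 5),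
          y 4 + (y 0 + y 1 + y 2 + y 3 + y 4 + y 5), y 5 + (y 0 + y 1 + y 2 + y 3 + y 4 + y 5)] := by
      funext i
      rw [Fin.sum_univ_six]
      fin_cases i <;> rfl
    rw [hT, isRoot_vec_iff]
    rw [hy', isRoot_vec_iff] at hy
    exact rootP_key _ _ _ _ _ _ hy
  have hinv : ∀ y : Fin 6 → F4, (fun i => (y i + ∑ j, y j) + ∑ k, (y k + ∑ j, y j)) = y := by
    intro y
    funext i
    rw [Finset.sum_add_distrib, Finset.sum_const, Finset.card_univ, Fintype.card_fin]
    generalize ∑ j, y j = s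
    generalize y i = a
    revert a s
    decide
  constructor
  · intro h
    have h1 := hfwd _ h
    rwa [hinv] at h1
  · exact hfwd y

/-! ### transfer along a ring isomorphism -/

theorem isRoot_map {F K : Type*} [Field F] [Field K] (e : F ≃+* K) (x : Fin 6 → F) :
    IsRoot (fun i => e (x i)) ↔ IsRoot x := by
  unfold IsRoot
  have h1 : {i : Fin 6 | e (x i) ≠ 0} = {i : Fin 6 | x i ≠ 0} := by
    ext i
    simp
  have h2 : (∀ i : Fin 6, e (x i) ≠ 0) ↔ ∀ i : Fin 6, x i ≠ 0 := by
    simp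
  have h3 : ∏ i : Fin 6, e (x i) = 1 ↔ ∏ i : Fin 6, x i = 1 := by
    rw [← map_prod, map_eq_one_iff e e.injective]
  rw [h1, h2, h3]

variable {F : Type*} [Field F] [Fintype F]

theorem isRoot_T (hF : Fintype.card F = 4) (x : Fin 6 → F) :
    IsRoot (fun i => x i + ∑ j, x j) ↔ IsRoot x := by
  obtain ⟨e⟩ : Nonempty (F ≃+* F4) := ⟨FiniteField.ringEquivOfCardEq (hF.trans F4.card_eq.symm)⟩
  rw [← isRoot_map e (fun i => x i + ∑ j, x j), ← isRoot_map e x]
  have h : (fun i => e (x i + ∑ j, x j)) = fun i => e (x i) + ∑ j, e (x j) := by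
    funext i
    rw [map_add, map_sum]
  rw [h]
  exact isRoot_T4 (fun i => e (x i))

/-- **K-SU6-F3**. -/
theorem exists_extra (hF : Fintype.card F = 4) :
    ∃ t : GL (Fin 6) F, t ∈ GU 6 F 2 ⊓ specialLinear (Fin 6) F ∧ t ∈ rootStab F ∧
      t ∉ decompositionStabilizer (stdFrame F 6) := by
  have hchar : ringChar F = 2 := FiniteField.even_card_iff_char_two.mpr (by rw [hF])
  have hcp : CharP F 2 := by rw [← hchar]; exact ringChar.charP F
  have h2 : (2 : F) = 0 := by
    have := CharP.cast_eq_zero F 2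
    exact_mod_cast this
  have hF' : Fintype.card F = 2 ^ 2 := by rw [hF]; norm_num
  obtain ⟨f, -⟩ : ∃ f : ZMod 2 →+* F, True := ⟨ZMod.castHom (dvd_refl 2) F, trivial⟩
  obtain ⟨tF, htF⟩ : ∃ tF : Matrix (Fin 6) (Fin 6) F, tF = tM2.map f := ⟨_, rfl⟩
  have hsq : tF * tF = 1 := by
    rw [htF, ← Matrix.map_mul, tM2_mul_self, Matrix.map_one _ (map_zero f) (map_one f)]
  have hsT : tFᵀ = tF := by
    rw [htF, ← Matrix.transpose_map, tM2_transpose]
  have hsφ : tF.map (Cfsg.Agent.Lib.Helper19.frobQ hF') = tF := by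
    rw [htF, Matrix.map_map]
    ext i j
    simp only [Matrix.map_apply, Function.comp_apply]
    rw [Cfsg.Agent.Lib.Helper19.frobQ_apply, ← map_pow]
    congr 1
    generalize tM2 i j = z
    revert z
    decide
  have hentry : ∀ i j : Fin 6, tF i j = (if i = j then 1 else 0) + 1 := by
    intro i j
    rw [htF, Matrix.map_apply]
    show f ((if i = j then 1 else 0) + 1) = _
    rw [map_add, map_one]
    split_ifs
    · rw [map_one]
    · rw [map_zero]
  have hmv : ∀ x : Fin 6 → F, tF *ᵥ x = fun i => x i + ∑ j, x j := by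
    intro x
    funext i
    simp only [Matrix.mulVec, dotProduct, hentry, add_mul, one_mul, Finset.sum_add_distrib]
    congr 1
    rw [Finset.sum_eq_single i]
    · simp
    · intro j _ hji
      simp [Ne.symm hji]
    · simp
  refine ⟨⟨tF, tF, hsq, hsq⟩, Subgroup.mem_inf.2 ⟨?_, ?_⟩, ?_, ?_⟩
  · apply (Cfsg.Agent.Lib.Helper51.mem_GU_iff_mul (Cfsg.Agent.Lib.Helper19.frobQ hF')
      (Cfsg.Agent.Lib.Helper19.frobQ_apply hF') _).2
    show tFᵀ * tF.map (Cfsg.Agent.Lib.Helper19.frobQ hF') = 1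
    rw [hsT, hsφ, hsq]
  · unfold specialLinear
    rw [MonoidHom.mem_ker]
    apply Units.ext
    rw [Matrix.GeneralLinearGroup.val_det_apply, Units.val_one]
    have hd2 : tF.det * tF.det = 1 := by rw [← Matrix.det_mul, hsq, Matrix.det_one]
    have h0 : (tF.det - 1) * (tF.det - 1) = 0 := by
      linear_combination hd2 + (1 - tF.det) * h2
    exact sub_eq_zero.1 (mul_self_eq_zero.1 h0)
  · rw [mem_rootStab_iff]
    intro x
    show IsRoot (tF *ᵥ x) ↔ IsRoot x
    rw [hmv]
    exact isRoot_T hF x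
  · rintro ⟨σ, hσ⟩
    have h0 := hσ 0
    have hmem : tF *ᵥ (Pi.single 0 1) ∈ stdFrame F 6 (σ 0) := by
      rw [← h0]
      refine ⟨Pi.single 0 1, Submodule.subset_span rfl, ?_⟩
      show Matrix.toLin' tF (Pi.single 0 1) = _
      rw [Matrix.toLin'_apply]
    obtain ⟨c, hc⟩ := Submodule.mem_span_singleton.mp hmem
    rw [hmv] at hc
    -- two coordinates different from `0`
    have hsum : ∑ j : Fin 6, (Pi.single 0 1 : Fin 6 → F) j = 1 := by
      rw [Finset.sum_eq_single 0]
      · simp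
      · intro j _ hj
        simp [hj]
      · simp
    have hcoord : ∀ j : Fin 6, j ≠ 0 → j ≠ σ 0 → False := by
      intro j hj0 hjσ
      have := congrFun hc j
      simp only [Pi.smul_apply, smul_eq_mul, hsum] at this
      rw [Pi.single_eq_of_ne hjσ, Pi.single_eq_of_ne hj0] at this
      simp at this
    by_cases h1 : σ 0 = 1
    · exact hcoord 2 (by decide) (by rw [h1]; decide)
    · exact hcoord 1 (by decide) (fun h => h1 h.symm)

end Cfsg.Agent.Lib.Helper63.SU6K
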