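import Mathlib
import Cfsg.Prelude.Def_FusionSystem
import Cfsg.Agent.Lib.Helper54.SmallNorm
import Cfsg.Agent.Lib.Helper58.PGroupNormal

/-!
# K-S5296-GT: small abelian subgroups controlling `Aut_F(Q)`

For a fully normalized `Q` there is an abelian subgroup `A ≤ Q ∩ hyp(F)` of small exponent,
normal in `N_S(Q)`, such that every `F`-automorphism of `Q` fixing `A` pointwise is induced by `S`.
-/

set_option autoImplicit false

namespace Cfsg.Agent.Lib.Helper63.SmallAbGT

open Cfsg Cfsg.FusionSystem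
open Cfsg.Agent.Lib.Helper87 (finite_of_le)
open Cfsg.Agent.Lib.Helper89 (conjAut conjAut_apply conjAut_mem_autInducedBy)
open Cfsg.Agent.Lib.Helper54

/-- Relative version of "a maximal normal abelian subgroup of a `p`-group is self-centralizing":
inside a normal subgroup `W` of a finite `p`-group `G` there is an abelian subgroup `A`, normal in
`G`, with `C_W(A) ≤ A`. -/
theorem exists_rel_self_centralizing {G : Type*} [Group G] [Finite G] {p : ℕ} [Fact p.Prime]
    (hG : IsPGroup p G) (W : Subgroup G) (hW : W.Normal) :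
    ∃ A : Subgroup G, A.Normal ∧ A ≤ W ∧ IsMulCommutative A ∧
      W ⊓ Subgroup.centralizer (A : Set G) ≤ A := by
  classical
  let T := {B : Subgroup G // B.Normal ∧ B ≤ W ∧ IsMulCommutative B}
  have : Nonempty T := ⟨⟨⊥, inferInstance, bot_le, inferInstance⟩⟩
  have : Finite T := Subtype.finite
  obtain ⟨⟨A, hAn, hAW, hAc⟩, hmax⟩ := Finite.exists_max (fun B : T => Nat.card B.1)
  refine ⟨A, hAn, hAW, hAc, ?_⟩
  by_contra hnot
  set C := W ⊓ Subgroup.centralizer (A : Set G) with hC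
  have hCn : C.Normal := by
    have := hAn
    have := hW
    have : (Subgroup.centralizer (A : Set G)).Normal := Subgroup.normal_centralizer
    exact Subgroup.normal_inf_normal _ _
  set π := QuotientGroup.mk' A with hπ
  have hNn : (C.map π).Normal := hCn.map π (QuotientGroup.mk'_surjective A)
  have hNne : C.map π ≠ ⊥ := by
    intro hbot
    apply hnot
    intro c hc
    have : π c ∈ C.map π := ⟨c, hc, rfl⟩
    rw [hbot, Subgroup.mem_bot] at this
    exact (QuotientGroup.eq_one_iff c).mp this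
  have hQ : IsPGroup p (G ⧸ A) := hG.to_quotient A
  obtain ⟨q, hqN, hq1, hqc⟩ :=
    Cfsg.Agent.Lib.Helper58.exists_central_in_normal hQ (C.map π) hNne
  obtain ⟨x, hxC, rfl⟩ := hqN
  have hxA : x ∉ A := fun h => hq1 ((QuotientGroup.eq_one_iff x).mpr h)
  have hxW : x ∈ W := hxC.1
  have hxcent : x ∈ Subgroup.centralizer (A : Set G) := hxC.2
  set A₁ := Subgroup.closure ((A : Set G) ∪ {x}) with hA₁
  have hAA₁ : A ≤ A₁ := fun a ha => Subgroup.subset_closure (Or.inl ha)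
  have hxA₁ : x ∈ A₁ := Subgroup.subset_closure (Or.inr rfl)
  have hA₁c : IsMulCommutative A₁ := by
    apply Subgroup.isMulCommutative_closure
    rintro u (hu | hu) v (hv | hv)
    · exact Cfsg.Agent.Lib.Helper58.comm_of_isMulCommutative hAc hu hv
    · rw [Set.mem_singleton_iff] at hv; subst hv
      exact (hxcent u hu)
    · rw [Set.mem_singleton_iff] at hu; subst hu
      exact (hxcent v hv).symm
    · rw [Set.mem_singleton_iff] at hu hv; subst hu; subst hv; rfl
  have hA₁n : A₁.Normal := by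
    rw [← Subgroup.normalizer_eq_top_iff, eq_top_iff, hA₁, Subgroup.le_normalizer_closure_iff]
    rintro g - y (hy | hy)
    · exact hAA₁ (hAn.conj_mem y hy g)
    · rw [Set.mem_singleton_iff] at hy; subst hy
      have h1 : π g * π y = π y * π g := (Subgroup.mem_center_iff.mp hqc (π g))
      have h2 : g * y * g⁻¹ * y⁻¹ ∈ A := by
        rw [← QuotientGroup.eq_one_iff]
        have : ((g * y * g⁻¹ * y⁻¹ : G) : G ⧸ A) = π g * π y * (π g)⁻¹ * (π y)⁻¹ := by
          simp [hπ]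
        rw [this, h1]; group
      have : g * y * g⁻¹ = (g * y * g⁻¹ * y⁻¹) * y := by group
      rw [this]
      exact A₁.mul_mem (hAA₁ h2) hxA₁
  have hA₁W : A₁ ≤ W := by
    rw [hA₁, Subgroup.closure_le]
    rintro y (hy | hy)
    · exact hAW hy
    · rw [Set.mem_singleton_iff] at hy; subst hy; exact hxW
  have hle := hmax ⟨A₁, hA₁n, hA₁W, hA₁c⟩
  have heq : A = A₁ := Subgroup.eq_of_le_of_card_ge hAA₁ hle
  rw [← heq] at hxA₁
  exact hxA hxA₁

variable {Ω : Type*} [Group Ω] {S : Subgroup Ω}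

/-- K-S5296-GT. For a fully normalized `Q` there is a small abelian subgroup `A ≤ Q ∩ hyp(F)`,
normal in `N_S(Q)`, such that every `F`-automorphism of `Q` fixing `A` pointwise is induced by `S`. -/
theorem exists_small_abelian [Finite S] (p : ℕ) [Fact p.Prime] (hS : IsPGroup p S)
    (F : FusionSystem S) (hF : F.IsSaturated p) {Q : Subgroup Ω} (hQfn : F.IsFullyNormalized Q) :
    ∃ A : Subgroup Ω, A ≤ Q ∧ A ≤ F.hyperfocalSubgroup p ∧
      normalizerIn S Q ≤ Subgroup.normalizer (A : Set Ω) ∧ IsMulCommutative A ∧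
      (∀ a ∈ A, a ^ Cfsg.Agent.Lib.Helper54.CritOmega.qexp p = 1) ∧
      ∀ α ∈ F.autGroup Q, (∀ x : Q, (x : Ω) ∈ A → α x = x) → α ∈ autInducedBy S Q := by
  have hp : Fact p.Prime := inferInstance
  have hQS : Q ≤ S := hQfn.1
  have : Finite Q := finite_of_le hQS
  have hQp : IsPGroup p Q := hS.to_le hQS
  obtain ⟨H, cr⟩ := Cfsg.Agent.Lib.Helper40.Narrow.exists_crit hQp
  set Γ := F.autGroup Q with hΓ
  set V : Subgroup Q := CritOmega.omegaQ cr hQp with hV
  set W : Subgroup Q := V ⊓ (F.hyperfocalSubgroup p).subgroupOf Q with hW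
  have hmemW : ∀ x : Q, x ∈ W ↔ (x ∈ V ∧ (x : Ω) ∈ F.hyperfocalSubgroup p) := fun x => Iff.rfl
  -- invariance of `W`
  have hinvW : ∀ α ∈ Γ, ∀ x ∈ W, α x ∈ W := by
    intro α hα x hx
    rw [hmemW] at hx ⊢
    exact ⟨CritOmega.map_mem_omegaQ cr hQp α hx.1,
      SmallNorm.aut_mem_hyperfocal p hS F hF hQS hα hx.2⟩
  -- faithfulness on `W`
  have hfaithW : ∀ a ∈ Γ, (orderOf a).Coprime p → (∀ x ∈ W, a x = x) → a = 1 := by
    intro a ha hcop hfix
    apply CritOmega.faithful_omegaQ cr hQp a hcop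
    intro x hx
    apply Cfsg.Agent.Lib.Helper04.aut_fix_of_fix_commutator hQp a hcop x
    apply hfix
    rw [hmemW]
    refine ⟨V.mul_mem (V.inv_mem hx) (CritOmega.map_mem_omegaQ cr hQp a hx), ?_⟩
    apply Subgroup.subset_closure
    refine ⟨Q, ⟨a, ha⟩, x, hQS, Subgroup.subset_closure ?_, ?_⟩
    · show Nat.Coprime (orderOf (⟨a, ha⟩ : F.autGroup Q)) p
      rw [← Subgroup.orderOf_coe]
      exact hcop
    · simp
  have hexpV : ∀ x ∈ V, x ^ CritOmega.qexp p = 1 := fun x hx =>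
    ((CritOmega.mem_omegaQ cr hQp).mp hx).2
  -- Step 1: the `p`-group `N = N_S(Q)` and the normal subgroup `W'`
  set N : Subgroup Ω := normalizerIn S Q with hN
  have hQN : Q ≤ N := Cfsg.Agent.Lib.Helper87.le_normalizerIn hQS
  have hNS : N ≤ S := inf_le_left
  have : Finite N := finite_of_le hNS
  have hNp : IsPGroup p N := hS.to_le hNS
  set ι : Q →* N := Subgroup.inclusion hQN with hι
  have hιcoe : ∀ x : Q, ((ι x : N) : Ω) = (x : Ω) := fun x => rfl
  set W' : Subgroup N := W.map ι with hW'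
  have hconjΓ : ∀ g : N, ∃ hgN : (g : Ω) ∈ Subgroup.normalizer (Q : Set Ω),
      conjAut Q (g : Ω) hgN ∈ Γ := by
    intro g
    have hgS : (g : Ω) ∈ S := hNS g.2
    have hgN : (g : Ω) ∈ Subgroup.normalizer (Q : Set Ω) := g.2.2
    exact ⟨hgN, Cfsg.Agent.Lib.Helper89.autInducedBy_le_autGroup F hQS
      (conjAut_mem_autInducedBy hgS hgN)⟩
  have hW'n : W'.Normal := by
    constructor
    rintro _ ⟨w, hw, rfl⟩ g
    obtain ⟨hgN, hβΓ⟩ := hconjΓ g
    refine ⟨conjAut Q (g : Ω) hgN w, hinvW _ hβΓ w hw, ?_⟩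
    apply Subtype.ext
    rw [hιcoe, conjAut_apply]
    simp [hιcoe]
  -- Step 2: the relative self-centralizing abelian subgroup
  obtain ⟨A', hA'n, hA'W, hA'c, hA'cent⟩ := exists_rel_self_centralizing hNp W' hW'n
  -- Step 3
  set A : Subgroup Ω := A'.map N.subtype with hA
  have hAdesc : ∀ a ∈ A, ∃ w : Q, w ∈ W ∧ ι w ∈ A' ∧ (w : Ω) = a := by
    rintro _ ⟨a', ha', rfl⟩
    obtain ⟨w, hw, hwa⟩ := hA'W ha'
    refine ⟨w, hw, ?_, ?_⟩
    · rw [hwa]; exact ha'
    · rw [← hιcoe, hwa]; rfl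
  have hAiff : ∀ y : Q, (y : Ω) ∈ A ↔ ι y ∈ A' := by
    intro y
    constructor
    · rintro ⟨a', ha', hay⟩
      have : ι y = a' := Subtype.ext (by rw [hιcoe]; exact hay.symm)
      rw [this]; exact ha'
    · intro h
      exact ⟨ι y, h, rfl⟩
  have hAQ : A ≤ Q := by
    intro a ha
    obtain ⟨w, -, -, rfl⟩ := hAdesc a ha
    exact w.2
  have hAhyp : A ≤ F.hyperfocalSubgroup p := by
    intro a ha
    obtain ⟨w, hw, -, rfl⟩ := hAdesc a ha
    exact ((hmemW w).mp hw).2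
  have hAexp : ∀ a ∈ A, a ^ CritOmega.qexp p = 1 := by
    intro a ha
    obtain ⟨w, hw, -, rfl⟩ := hAdesc a ha
    have h1 := hexpV w ((hmemW w).mp hw).1
    have h2 := congrArg (Subtype.val) h1
    simpa using h2
  have : Finite A := finite_of_le (hAQ.trans hQS)
  have hAc : IsMulCommutative A := by
    have := hA'c
    exact inferInstance
  have hNA : N ≤ Subgroup.normalizer (A : Set Ω) := by
    intro g hg
    apply Cfsg.Agent.Lib.Helper87.mem_normalizer_of_conj_mem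
    rintro _ ⟨a', ha', rfl⟩
    refine ⟨(⟨g, hg⟩ : N) * a' * (⟨g, hg⟩ : N)⁻¹, hA'n.conj_mem a' ha' ⟨g, hg⟩, ?_⟩
    simp
  -- Step 4: faithfulness on `A`
  have hfaithA : ∀ a ∈ Γ, (orderOf a).Coprime p → (∀ x : Q, (x : Ω) ∈ A → a x = x) → a = 1 := by
    intro a ha hcop hfix
    apply hfaithW a ha hcop
    intro w hw
    have hu : w⁻¹ * a w ∈ W := W.mul_mem (W.inv_mem hw) (hinvW a ha w hw)
    have hcentu : ι (w⁻¹ * a w) ∈ Subgroup.centralizer (A' : Set N) := by
      rw [Subgroup.mem_centralizer_iff]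
      intro y' hy'
      obtain ⟨y, hyW, rfl⟩ := hA'W hy'
      have hyA : (y : Ω) ∈ A := (hAiff y).mpr hy'
      have hzA' : ι (w * y * w⁻¹) ∈ A' := by
        rw [map_mul, map_mul, map_inv]
        exact hA'n.conj_mem _ hy' _
      have hzA : ((w * y * w⁻¹ : Q) : Ω) ∈ A := (hAiff _).mpr hzA'
      have h1 : a (w * y * w⁻¹) = w * y * w⁻¹ := hfix _ hzA
      have h2 : a y = y := hfix _ hyA
      rw [map_mul, map_mul, map_inv, h2] at h1
      have h3 : y * (w⁻¹ * a w) = (w⁻¹ * a w) * y := by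
        calc y * (w⁻¹ * a w) = w⁻¹ * (w * y * w⁻¹) * a w := by group
          _ = w⁻¹ * (a w * y * (a w)⁻¹) * a w := by rw [h1]
          _ = (w⁻¹ * a w) * y := by group
      rw [← map_mul, ← map_mul, h3]
    have hιu : ι (w⁻¹ * a w) ∈ A' := hA'cent ⟨Subgroup.mem_map_of_mem ι hu, hcentu⟩
    have huA : ((w⁻¹ * a w : Q) : Ω) ∈ A := (hAiff _).mpr hιu
    exact Cfsg.Agent.Lib.Helper04.aut_fix_of_fix_commutator hQp a hcop w (hfix _ huA)
  -- Step 5: the pointwise stabilizer of `A` in `Γ` is a `p`-group normalized by `Aut_S(Q)`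
  let K : Subgroup (MulAut Q) :=
    { carrier := {α | ∀ x : Q, (x : Ω) ∈ A → α x = x}
      one_mem' := fun x _ => rfl
      mul_mem' := by
        intro α β hα hβ x hx
        rw [MulAut.mul_apply, hβ x hx, hα x hx]
      inv_mem' := by
        intro α hα x hx
        have h1 := hα x hx
        calc α⁻¹ x = α⁻¹ (α x) := by rw [h1]
          _ = x := by simp }
  have hKmem : ∀ α : MulAut Q, α ∈ K ↔ ∀ x : Q, (x : Ω) ∈ A → α x = x := fun α => Iff.rfl
  set KΓ : Subgroup Γ := K.subgroupOf Γ with hKΓ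
  have hKp : IsPGroup p KΓ := by
    rintro ⟨⟨b, hbΓ⟩, hbK⟩
    rw [hKΓ, Subgroup.mem_subgroupOf] at hbK
    have hbK' : b ∈ K := hbK
    have ho : orderOf b ≠ 0 := (orderOf_pos b).ne'
    obtain ⟨k, m, hpm, hkm⟩ := Nat.exists_eq_pow_mul_and_not_dvd ho p hp.out.ne_one
    refine ⟨k, ?_⟩
    apply Subtype.ext
    apply Subtype.ext
    show b ^ p ^ k = 1
    set ψ : MulAut Q := b ^ p ^ k with hψ
    have hψm : ψ ^ m = 1 := by
      rw [hψ, ← pow_mul, ← hkm, pow_orderOf_eq_one]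
    have hmcop : m.Coprime p :=
      (Nat.Coprime.symm ((Nat.Prime.coprime_iff_not_dvd hp.out).mpr hpm))
    have hψΓ : ψ ∈ Γ := Γ.pow_mem hbΓ _
    have hψK : ψ ∈ K := K.pow_mem hbK' _
    have hψcop : (orderOf ψ).Coprime p :=
      Nat.Coprime.coprime_dvd_left (orderOf_dvd_of_pow_eq_one hψm) hmcop
    exact hfaithA ψ hψΓ hψcop ((hKmem ψ).mp hψK)
  -- `Aut_S(Q)` normalizes `K`
  have hconjK : ∀ τ ∈ autInducedBy S Q, ∀ α ∈ K, τ * α * τ⁻¹ ∈ K := by
    intro τ hτ α hα
    obtain ⟨g, hgS, hg⟩ := (Cfsg.Agent.Lib.Helper89.mem_autInducedBy_iff S Q τ).mp hτ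
    have hgNQ : g ∈ Subgroup.normalizer (Q : Set Ω) := by
      apply Cfsg.Agent.Lib.Helper87.mem_normalizer_of_conj_mem
      intro y hy
      have := hg ⟨y, hy⟩
      rw [← this]
      exact (τ ⟨y, hy⟩).2
    have hgA : g ∈ Subgroup.normalizer (A : Set Ω) := hNA ⟨hgS, hgNQ⟩
    rw [hKmem]
    intro x hx
    have hx' : ((τ⁻¹ x : Q) : Ω) ∈ A := by
      rw [Subgroup.mem_normalizer_iff] at hgA
      rw [hgA]
      rw [← hg (τ⁻¹ x)]
      simpa using hx
    have h1 : α (τ⁻¹ x) = τ⁻¹ x := (hKmem α).mp hα _ hx'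
    rw [MulAut.mul_apply, MulAut.mul_apply, h1]
    simp
  obtain ⟨-, R, hR⟩ := (Cfsg.Agent.Lib.Helper87.fullyNormalized_props p hS F hF Q hQfn).2
  have hRnorm : (R : Subgroup Γ) ≤ Subgroup.normalizer (KΓ : Set Γ) := by
    intro r hr
    rw [hR, Subgroup.mem_subgroupOf] at hr
    have hr' : ((r⁻¹ : Γ) : MulAut Q) ∈ autInducedBy S Q := by
      rw [Subgroup.coe_inv]; exact (autInducedBy S Q).inv_mem hr
    rw [Subgroup.mem_normalizer_iff]
    intro h
    rw [hKΓ, Subgroup.mem_subgroupOf, Subgroup.mem_subgroupOf]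
    constructor
    · intro hh
      have := hconjK _ hr _ hh
      simpa using this
    · intro hh
      have := hconjK _ hr' _ hh
      simpa [mul_assoc] using this
  have hsup : IsPGroup p (KΓ ⊔ (R : Subgroup Γ) : Subgroup Γ) :=
    IsPGroup.to_sup_of_normal_left' hKp R.isPGroup' hRnorm
  have hmaxR := R.is_maximal' hsup le_sup_right
  have hKR : KΓ ≤ (R : Subgroup Γ) := by
    rw [← hmaxR]; exact le_sup_left
  refine ⟨A, hAQ, hAhyp, hNA, hAc, hAexp, ?_⟩
  intro α hα hfix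
  have h1 : (⟨α, hα⟩ : Γ) ∈ KΓ := by
    rw [hKΓ, Subgroup.mem_subgroupOf]
    exact (hKmem α).mpr hfix
  have h2 := hKR h1
  rw [hR, Subgroup.mem_subgroupOf] at h2
  exact h2

end Cfsg.Agent.Lib.Helper63.SmallAbGT
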