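import Mathlib
import Cfsg.Prelude.Def_ClassicalGeometry
import Cfsg.Agent.Lib.Helper48.Sp2GDefs

set_option autoImplicit false
set_option linter.unusedSimpArgs false

/-!
# K-Sp2G leaf C (keystone 241104, S2411): the torus trick `[hT k, b hT k b⁻¹] = sx ((k-1)²/k)`
-/

namespace Cfsg.Agent.Lib.Helper63.Sp2G

open Matrix Cfsg.Agent.Lib.Helper48.RSp Cfsg.Agent.Lib.Helper48.Sp2G Cfsg.Agent.Lib.Helper18

section aux

variable (m : ℕ) {F : Type*} [Field F]

/-- the diagonal `(1, k, 1, …, 1)` -/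
def d1vec (k : F) : Fin (m + 2) → F := fun j => if j = 1 then k else 1

theorem one_ne_zero_fin : (1 : Fin (m + 2)) ≠ 0 := by
  intro h
  have := congrArg Fin.val h
  simp at this

theorem last_ne_zero_fin : (Fin.last (m + 1) : Fin (m + 2)) ≠ 0 := by
  intro h
  have := congrArg Fin.val h
  simp at this

theorem nup_apply (i j : Fin (m + 2)) :
    Nup m F i j = if i.val + 1 = j.val then 1 else 0 := rfl

/-- `Nᵀ diag(k,1,…) = diag(1,k,1,…) Nᵀ` -/
theorem nupT_mul_diag (k : F) :
    (Nup m F)ᵀ * Matrix.diagonal (kvec m k) = Matrix.diagonal (d1vec m k) * (Nup m F)ᵀ := by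
  ext i j
  rw [Matrix.mul_diagonal, Matrix.diagonal_mul, Matrix.transpose_apply, nup_apply]
  unfold kvec d1vec
  by_cases h : j.val + 1 = i.val
  · rw [if_pos h, one_mul, mul_one]
    by_cases hj : j = 0
    · subst hj
      have hi : i = 1 := by
        ext
        simpa using h.symm
      rw [if_pos rfl, if_pos hi]
    · have hi : i ≠ 1 := by
        intro hi
        subst hi
        apply hj
        ext
        simp at h
        simpa using h
      rw [if_neg hj, if_neg hi]
  · rw [if_neg h, zero_mul, mul_zero]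

/-- `E_{0,last} diag(c,1,…) = E_{0,last}` -/
theorem e0l_mul_diag (c : F) :
    Matrix.single (0 : Fin (m + 2)) (Fin.last (m + 1)) (1 : F) * Matrix.diagonal (kvec m c) =
      Matrix.single (0 : Fin (m + 2)) (Fin.last (m + 1)) (1 : F) := by
  ext i j
  rw [Matrix.mul_diagonal, Matrix.single_apply]
  unfold kvec
  by_cases h : (0 : Fin (m + 2)) = i ∧ Fin.last (m + 1) = j
  · rw [if_pos h, one_mul]
    rw [if_neg]
    rw [← h.2]
    exact last_ne_zero_fin m
  · rw [if_neg h, zero_mul]

/-- `diag(1,c,1,…) E_{0,last} = E_{0,last}` -/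
theorem diag_mul_e0l (c : F) :
    Matrix.diagonal (d1vec m c) * Matrix.single (0 : Fin (m + 2)) (Fin.last (m + 1)) (1 : F) =
      Matrix.single (0 : Fin (m + 2)) (Fin.last (m + 1)) (1 : F) := by
  ext i j
  rw [Matrix.diagonal_mul, Matrix.single_apply]
  unfold d1vec
  by_cases h : (0 : Fin (m + 2)) = i ∧ Fin.last (m + 1) = j
  · rw [if_pos h, mul_one]
    rw [if_neg]
    rw [← h.1]
    exact (one_ne_zero_fin m).symm
  · rw [if_neg h, mul_zero]

/-- `l(diag(1,k,1,…))` -/
def lD1 (k : F) : BM m F :=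
  Matrix.fromBlocks (Matrix.diagonal (d1vec m k)) 0 0 (Matrix.diagonal (d1vec m k⁻¹))

/-- step (1): `wC * hT k = l(D₁) * wC` -/
theorem wC_mul_hT (k : F) : wC m F * hT m k = lD1 m k * wC m F := by
  unfold wC hT lD1
  rw [Matrix.fromBlocks_multiply, Matrix.fromBlocks_multiply]
  congr 1
  · rw [Matrix.mul_zero, add_zero, Matrix.zero_mul, add_zero, nupT_mul_diag]
  · rw [Matrix.mul_zero, zero_add, Matrix.zero_mul, add_zero, Matrix.neg_mul, Matrix.mul_neg,
      e0l_mul_diag, diag_mul_e0l]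
  · rw [Matrix.mul_zero, add_zero, Matrix.zero_mul, zero_add, e0l_mul_diag, diag_mul_e0l]
  · rw [Matrix.mul_zero, zero_add, Matrix.zero_mul, zero_add, nupT_mul_diag]

/-- `diag(v) E_{ij}(a) = E_{ij}(v_i a)` -/
theorem diag_mul_single (v : Fin (m + 2) → F) (i j : Fin (m + 2)) (a : F) :
    Matrix.diagonal v * Matrix.single i j a = Matrix.single i j (v i * a) := by
  ext x y
  rw [Matrix.diagonal_mul, Matrix.single_apply, Matrix.single_apply]
  by_cases h : i = x ∧ j = y
  · rw [if_pos h, if_pos h, ← h.1]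
  · rw [if_neg h, if_neg h, mul_zero]

/-- `E_{ij}(a) diag(v) = E_{ij}(a v_j)` -/
theorem single_mul_diag (v : Fin (m + 2) → F) (i j : Fin (m + 2)) (a : F) :
    Matrix.single i j a * Matrix.diagonal v = Matrix.single i j (a * v j) := by
  ext x y
  rw [Matrix.mul_diagonal, Matrix.single_apply, Matrix.single_apply]
  by_cases h : i = x ∧ j = y
  · rw [if_pos h, if_pos h, ← h.2]
  · rw [if_neg h, if_neg h, zero_mul]

theorem d1vec_zero (c : F) : d1vec m c 0 = 1 := by
  unfold d1vec
  rw [if_neg (one_ne_zero_fin m).symm]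

theorem d1vec_one (c : F) : d1vec m c 1 = c := by
  unfold d1vec
  rw [if_pos rfl]

theorem kvec_zero (c : F) : kvec m c 0 = c := by
  unfold kvec
  rw [if_pos rfl]

theorem kvec_one (c : F) : kvec m c 1 = 1 := by
  unfold kvec
  rw [if_neg (one_ne_zero_fin m)]

/-- the conjugate `Y = sx 1 * l(D₁) * (sx 1)⁻¹` -/
def yC (k : F) : BM m F :=
  Matrix.fromBlocks (Matrix.diagonal (d1vec m k) + Matrix.single (0 : Fin (m + 2)) 1 (k - 1)) 0 0
    (Matrix.diagonal (d1vec m k⁻¹) - Matrix.single (1 : Fin (m + 2)) 0 ((k - 1) / k))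

/-- step (2): `sx 1 * l(D₁) = Y * sx 1` -/
theorem sx_mul_lD1 (k : F) (hk : k ≠ 0) : sx m (1 : F) * lD1 m k = yC m k * sx m (1 : F) := by
  unfold sx lD1 yC
  rw [Matrix.fromBlocks_multiply, Matrix.fromBlocks_multiply]
  have h01 : (1 : Fin (m + 2)) ≠ 0 := one_ne_zero_fin m
  congr 1
  · simp only [Matrix.mul_zero, Matrix.zero_mul, add_zero, zero_add]
    rw [Matrix.add_mul, Matrix.one_mul,
      Matrix.mul_add, Matrix.mul_one, Matrix.add_mul, single_mul_diag, d1vec_one, diag_mul_single,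
      d1vec_zero, Matrix.single_mul_single_of_ne _ _ _ _ h01]
    rw [add_zero, add_assoc, ← Matrix.single_add]
    congr 2
    ring
  · simp only [Matrix.mul_zero, Matrix.zero_mul, add_zero, zero_add]
  · simp only [Matrix.mul_zero, Matrix.zero_mul, add_zero, zero_add]
  · simp only [Matrix.mul_zero, Matrix.zero_mul, add_zero, zero_add]
    rw [Matrix.sub_mul, Matrix.one_mul,
      Matrix.mul_sub, Matrix.mul_one, Matrix.sub_mul, single_mul_diag, d1vec_zero, diag_mul_single,
      d1vec_one, Matrix.single_mul_single_of_ne _ _ _ _ h01.symm]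
    rw [sub_zero, sub_sub, ← Matrix.single_add]
    congr 2
    field_simp
    ring

/-- step (3): `hT k * Y = sx ((k-1)²/k) * Y * hT k` -/
theorem hT_mul_yC (k : F) (hk : k ≠ 0) :
    hT m k * yC m k = sx m ((k - 1) ^ 2 / k) * yC m k * hT m k := by
  unfold sx hT yC
  rw [Matrix.fromBlocks_multiply, Matrix.fromBlocks_multiply, Matrix.fromBlocks_multiply]
  have h01 : (1 : Fin (m + 2)) ≠ 0 := one_ne_zero_fin m
  congr 1
  · simp only [Matrix.mul_zero, Matrix.zero_mul, add_zero, zero_add]
    simp only [Matrix.mul_add, Matrix.add_mul, Matrix.one_mul, diag_mul_single, kvec_zero,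
      single_mul_diag, d1vec_one, Matrix.single_mul_single_of_ne _ _ _ _ h01, kvec_one,
      Matrix.diagonal_mul_diagonal, add_zero]
    rw [add_assoc, ← Matrix.single_add]
    congr 2
    · ext j
      ring
    · field_simp
      ring
  · simp only [Matrix.mul_zero, Matrix.zero_mul, add_zero, zero_add]
  · simp only [Matrix.mul_zero, Matrix.zero_mul, add_zero, zero_add]
  · simp only [Matrix.mul_zero, Matrix.zero_mul, add_zero, zero_add]
    simp only [Matrix.mul_sub, Matrix.sub_mul, Matrix.one_mul, diag_mul_single, kvec_zero,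
      single_mul_diag, d1vec_zero, Matrix.single_mul_single_of_ne _ _ _ _ h01.symm, kvec_one,
      Matrix.diagonal_mul_diagonal, sub_zero]
    rw [sub_sub, ← Matrix.single_add]
    congr 2
    · ext j
      ring
    · field_simp
      ring

end aux

/-- LEAF C of K-Sp2G: the torus trick -/
theorem inG_sx_of {m : ℕ} {F : Type*} [Field F] {G : Subgroup (SpG m F)} (k : F) (hk0 : k ≠ 0)
    (hh : InG G (hT m k)) (hB : InG G (sx m (1 : F) * wC m F)) :
    InG G (sx m ((k - 1) ^ 2 / k)) := by
  have hconj : (sx m (1 : F) * wC m F) * hT m k = yC m k * (sx m (1 : F) * wC m F) := by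
    rw [Matrix.mul_assoc, wC_mul_hT, ← Matrix.mul_assoc, sx_mul_lD1 m k hk0, Matrix.mul_assoc]
  have hY : InG G (yC m k) := inG_of_conj hB hh hconj
  have h3 : InG G (sx m ((k - 1) ^ 2 / k) * yC m k * hT m k) := by
    rw [← hT_mul_yC m k hk0]
    exact inG_mul hh hY
  exact inG_of_mul_right hY (inG_of_mul_right hh h3)

end Cfsg.Agent.Lib.Helper63.Sp2G
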