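import Mathlib
import Cfsg.Prelude.Def_Transfer
import Cfsg.Agent.Lib.Helper73.Ito

/-!
# S4130 keystone L2: inheritance of `p²`-free class sizes to centralizers of `p`-elements
(when the Sylow `p`-subgroups are abelian).
-/

set_option autoImplicit false

namespace Cfsg.Agent.Lib.Helper63.SqF

open Subgroup

universe u

/-- a `p`-subgroup of `G` inside a subgroup `L` lies in (the image of) a Sylow `p`-subgroup of
`L`. -/
theorem exists_sylow_map_ge {G : Type u} [Group G] [Finite G] (p : ℕ) [Fact p.Prime]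
    (L K : Subgroup G) (hK : IsPGroup p K) (hKL : K ≤ L) :
    ∃ S : Subgroup G, K ≤ S ∧ S ≤ L ∧ IsPGroup p S ∧
      Nat.card S = p ^ (Nat.card L).factorization p := by
  have hK' : IsPGroup p (K.subgroupOf L) := hK.comap_subtype
  obtain ⟨Q, hQ⟩ := hK'.exists_le_sylow
  refine ⟨(Q : Subgroup L).map L.subtype, ?_, ?_, ?_, ?_⟩
  · intro k hk
    refine ⟨⟨k, hKL hk⟩, hQ (mem_subgroupOf.2 hk), rfl⟩
  · rintro _ ⟨x, _, rfl⟩
    exact x.2
  · exact Q.2.map _
  · rw [Nat.card_congr ((Q : Subgroup L).equivMapOfInjective L.subtype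
      L.subtype_injective).symm.toEquiv]
    exact Q.card_eq_multiplicity

theorem sfp_centralizer {G : Type u} [Group G] [Finite G] (p : ℕ) [Fact p.Prime]
    (hab : ∀ P : Sylow p G, ∀ a ∈ (P : Subgroup G), ∀ b ∈ (P : Subgroup G), a * b = b * a)
    (h : ∀ x : G, ¬ p ^ 2 ∣ (centralizer ({x} : Set G)).index)
    (u : G) (hu : ∃ k : ℕ, u ^ p ^ k = 1) :
    ∀ y : ↥(centralizer ({u} : Set G)),
      ¬ p ^ 2 ∣ (centralizer ({y} : Set ↥(centralizer ({u} : Set G)))).index := by
  intro y hdvd
  have hp : p.Prime := Fact.out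
  obtain ⟨a, b, hab', ha, hb, ⟨ka, hka⟩, hbcop⟩ := Cfsg.Agent.Lib.Helper73.dec' (y : G) p hp
  have hzy : zpowers (y : G) ≤ centralizer ({u} : Set G) := zpowers_le.2 y.2
  have hau : a * u = u * a := mem_centralizer_singleton_iff.1 (hzy ha)
  have hbu : b * u = u * b := mem_centralizer_singleton_iff.1 (hzy hb)
  have hcomm : a * b = b * a := by
    obtain ⟨i, rfl⟩ := mem_zpowers_iff.1 ha
    obtain ⟨j, rfl⟩ := mem_zpowers_iff.1 hb
    rw [← zpow_add, ← zpow_add, add_comm]
  -- the subgroup `K = ⟨u⟩⟨a⟩`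
  obtain ⟨k, hk⟩ := hu
  have hpu : IsPGroup p (zpowers u) := by
    obtain ⟨j, _, hj⟩ := (Nat.dvd_prime_pow hp).1 (orderOf_dvd_of_pow_eq_one hk)
    exact IsPGroup.of_card (n := j) (by rw [Nat.card_zpowers, hj])
  have hpa : IsPGroup p (zpowers a) :=
    IsPGroup.of_card (n := ka) (by rw [Nat.card_zpowers, hka])
  have hnorm : zpowers u ≤ normalizer ((zpowers a : Subgroup G) : Set G) := by
    refine le_trans ?_ (centralizer_le_normalizer ((zpowers a : Subgroup G) : Set G))
    rw [zpowers_le]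
    rw [mem_centralizer_iff]
    intro g hg
    obtain ⟨i, rfl⟩ := mem_zpowers_iff.1 hg
    have : Commute a u := hau
    exact (this.zpow_left i).eq
  have hK : IsPGroup p (zpowers u ⊔ zpowers a : Subgroup G) :=
    IsPGroup.to_sup_of_normal_right' hpu hpa hnorm
  have hKL : (zpowers u ⊔ zpowers a : Subgroup G) ≤ centralizer ({b} : Set G) := by
    rw [sup_le_iff, zpowers_le, zpowers_le]
    exact ⟨mem_centralizer_singleton_iff.2 hbu.symm, mem_centralizer_singleton_iff.2 hcomm⟩
  obtain ⟨S, hKS, hSL, hSp, hScard⟩ :=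
    exists_sylow_map_ge p (centralizer ({b} : Set G)) _ hK hKL
  obtain ⟨P, hSP⟩ := hSp.exists_le_sylow
  have huS : u ∈ S := hKS (le_sup_left (a := zpowers u) (mem_zpowers u))
  have haS : a ∈ S := hKS (le_sup_right (b := zpowers a) (mem_zpowers a))
  -- `S` centralizes `u` and `y`
  have hSu : ∀ s ∈ S, s * u = u * s := fun s hs => hab P s (hSP hs) u (hSP huS)
  have hSa : ∀ s ∈ S, s * a = a * s := fun s hs => hab P s (hSP hs) a (hSP haS)
  have hSb : ∀ s ∈ S, s * b = b * s := fun s hs =>
    mem_centralizer_singleton_iff.1 (hSL hs)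
  have hSy : ∀ s ∈ S, s * (y : G) = (y : G) * s := by
    intro s hs
    rw [← hab', ← mul_assoc, hSa s hs, mul_assoc, hSb s hs, mul_assoc]
  have hSH : S ≤ centralizer ({u} : Set G) := fun s hs =>
    mem_centralizer_singleton_iff.2 (hSu s hs)
  have hSC : S.subgroupOf (centralizer ({u} : Set G)) ≤
      centralizer ({y} : Set ↥(centralizer ({u} : Set G))) := by
    intro s hs
    rw [mem_subgroupOf] at hs
    rw [mem_centralizer_singleton_iff]
    apply Subtype.ext
    simpa using hSy s hs
  -- counting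
  have hcardS : Nat.card (S.subgroupOf (centralizer ({u} : Set G))) = Nat.card S :=
    Nat.card_congr (subgroupOfEquivOfLe hSH).toEquiv
  have hd1 : Nat.card S ∣
      Nat.card (centralizer ({y} : Set ↥(centralizer ({u} : Set G)))) := by
    rw [← hcardS]
    exact card_dvd_of_le hSC
  have hd2 : p ^ 2 * Nat.card S ∣ Nat.card G := by
    have h1 : p ^ 2 * Nat.card S ∣ Nat.card ↥(centralizer ({u} : Set G)) := by
      rw [← (centralizer ({y} : Set ↥(centralizer ({u} : Set G)))).index_mul_card]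
      exact mul_dvd_mul hdvd hd1
    exact h1.trans (card_subgroup_dvd_card _)
  -- `p`-parts
  have hG0 : Nat.card G ≠ 0 := Nat.card_pos.ne'
  have hL0 : Nat.card ↥(centralizer ({b} : Set G)) ≠ 0 := Nat.card_pos.ne'
  have hI0 : (centralizer ({b} : Set G)).index ≠ 0 := index_ne_zero_of_finite
  have hfac : (Nat.card G).factorization p =
      ((centralizer ({b} : Set G)).index).factorization p +
        (Nat.card ↥(centralizer ({b} : Set G))).factorization p := by
    rw [← (centralizer ({b} : Set G)).index_mul_card, Nat.factorization_mul hI0 hL0]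
    rfl
  have hI1 : ((centralizer ({b} : Set G)).index).factorization p ≤ 1 := by
    by_contra hcon
    push Not at hcon
    exact h b ((hp.pow_dvd_iff_le_factorization hI0).2 hcon)
  rw [hScard, ← pow_add] at hd2
  have := (hp.pow_dvd_iff_le_factorization hG0).1 hd2
  omega

end Cfsg.Agent.Lib.Helper63.SqF
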