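import Cfsg.Agent.Lib.Helper69.StNDefs

/-!
# K-StN-A3 (keystone 240102, S2401 pack, architect helper69): `conj_col`

`w_ij(u) x_ki(t) w_ij(u)⁻¹ = x_kj(-tu)` and `w_ij(u) x_kj(t) w_ij(u)⁻¹ = x_ki(t/u)` from the
Steinberg relations (pure relation chasing).
-/

set_option autoImplicit false

namespace Cfsg.Agent.Lib.Helper63.StN

open Cfsg.Agent.Lib.Helper69.StN

variable {n : ℕ} {K : Type*} [Field K] {S : Type*} [Group S] {X : Fin n → Fin n → K → S}

/-- conjugating by a commuting element -/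
theorem a3_conj_of_comm {g x : S} (h : g * x = x * g) : g * x * g⁻¹ = x := by
  rw [h, mul_assoc, mul_inv_cancel, mul_one]

theorem a3_conj_mul (g x y : S) : g * (x * y) * g⁻¹ = (g * x * g⁻¹) * (g * y * g⁻¹) := by
  group

/-- `x_ij(u) x_ki(s) x_ij(u)⁻¹ = x_ki(s) x_kj(-su)` -/
theorem a3_conj1 (hX : IsSt X) {i j k : Fin n} (hij : i ≠ j) (hik : i ≠ k) (hjk : j ≠ k)
    (u s : K) :
    X i j u * X k i s * (X i j u)⁻¹ = X k i s * X k j (-(s * u)) := by
  have h := hX.comm3 k i j hik.symm hij hjk.symm (-s) u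
  have hinv : (X k i (-s))⁻¹ = X k i s := by rw [hX.inv hik.symm, neg_neg]
  rw [hinv] at h
  have e : X i j u * X k i s * (X i j u)⁻¹ =
      X k i s * (X k i (-s) * X i j u * X k i s * (X i j u)⁻¹) := by
    have h1 : X k i s * X k i (-s) = 1 := by
      rw [hX.add k i hik.symm, add_neg_cancel, hX.zero hik.symm]
    calc X i j u * X k i s * (X i j u)⁻¹
        = (X k i s * X k i (-s)) * X i j u * X k i s * (X i j u)⁻¹ := by rw [h1, one_mul]
      _ = _ := by group
  rw [e, h, neg_mul]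

/-- `x_ki`, `x_kj` commute -/
theorem a3_comm_same_row (hX : IsSt X) {i j k : Fin n} (_hij : i ≠ j) (hik : i ≠ k)
    (hjk : j ≠ k) (s r : K) : X k i s * X k j r = X k j r * X k i s :=
  hX.comm k i k j hik.symm hjk.symm hjk.symm hik s r

/-- **LEAF A3 (240102)** -/
theorem conj_col (hX : IsSt X) {i j k : Fin n} (hij : i ≠ j) (hik : i ≠ k) (hjk : j ≠ k)
    {u : K} (hu : u ≠ 0) (t : K) :
    w X i j u * X k i t * (w X i j u)⁻¹ = X k j (-(t * u)) ∧
    w X i j u * X k j t * (w X i j u)⁻¹ = X k i (t * u⁻¹) := by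
  have hw : ∀ g : S, w X i j u * g * (w X i j u)⁻¹ =
      X i j u * (X j i (-u⁻¹) * (X i j u * g * (X i j u)⁻¹) * (X j i (-u⁻¹))⁻¹) * (X i j u)⁻¹ := by
    intro g
    unfold w
    group
  -- commuting conjugations
  have c1 : ∀ r : K, X i j u * X k j r * (X i j u)⁻¹ = X k j r := fun r =>
    a3_conj_of_comm (hX.comm i j k j hij hjk.symm hij hjk u r)
  have c2 : ∀ r : K, X j i (-u⁻¹) * X k i r * (X j i (-u⁻¹))⁻¹ = X k i r := fun r =>
    a3_conj_of_comm (hX.comm j i k i hij.symm hik.symm hij.symm hik (-u⁻¹) r)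
  -- the two non-trivial conjugations
  have d1 : ∀ s : K, X i j u * X k i s * (X i j u)⁻¹ = X k i s * X k j (-(s * u)) := fun s =>
    a3_conj1 hX hij hik hjk u s
  have d2 : ∀ r : K, X j i (-u⁻¹) * X k j r * (X j i (-u⁻¹))⁻¹ =
      X k j r * X k i (-(r * -u⁻¹)) := fun r =>
    a3_conj1 hX hij.symm hjk hik (-u⁻¹) r
  constructor
  · have e1 : -(-(t * u) * -u⁻¹) = -t := by
      field_simp
    have s2 : X j i (-u⁻¹) * (X k i t * X k j (-(t * u))) * (X j i (-u⁻¹))⁻¹ =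
        X k i t * (X k j (-(t * u)) * X k i (-t)) := by
      rw [a3_conj_mul (X j i (-u⁻¹)) (X k i t) (X k j (-(t * u))), c2, d2, e1]
    have e2 : X k i t * (X k j (-(t * u)) * X k i (-t)) = X k j (-(t * u)) := by
      rw [← a3_comm_same_row hX hij hik hjk (-t) (-(t * u)), ← mul_assoc,
        hX.add k i hik.symm, add_neg_cancel, hX.zero hik.symm, one_mul]
    rw [hw, d1, s2, e2, c1]
  · have e1 : -(t * -u⁻¹) = t * u⁻¹ := by ring
    have e2 : -(t * u⁻¹ * u) = -t := by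
      field_simp
    have s3 : X i j u * (X k j t * X k i (t * u⁻¹)) * (X i j u)⁻¹ =
        X k j t * (X k i (t * u⁻¹) * X k j (-t)) := by
      rw [a3_conj_mul (X i j u) (X k j t) (X k i (t * u⁻¹)), c1, d1, e2]
    have e3 : X k j t * (X k i (t * u⁻¹) * X k j (-t)) = X k i (t * u⁻¹) := by
      rw [a3_comm_same_row hX hij hik hjk (t * u⁻¹) (-t), ← mul_assoc,
        hX.add k j hjk.symm, add_neg_cancel, hX.zero hjk.symm, one_mul]
    rw [hw, c1, d2, e1, s3, e3]

end Cfsg.Agent.Lib.Helper63.StN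

#print axioms Cfsg.Agent.Lib.Helper63.StN.conj_col
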