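import Cfsg.Agent.Lib.Helper69.StNDefs

/-!
# K-StN-H1 (keystone 240119, S2401 pack, architect helper69): `phi_mon_eq_one`

`φ (Upos X)` consists of upper unitriangular matrices, `φ (Nmon X)` of monomial matrices, and a
monomial matrix with unit diagonal is `1`.
-/

set_option autoImplicit false
set_option linter.unusedVariables false

namespace Cfsg.Agent.Lib.Helper63.StN

open Cfsg.Agent.Lib.Helper69.StN Matrix

variable {n : ℕ} {K : Type*} [Field K]

/-- the matrix of the inverse in `SL_n` is the matrix inverse -/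
theorem h1_coe_inv (A : SpecialLinearGroup (Fin n) K) :
    ((A⁻¹ : SpecialLinearGroup (Fin n) K) : Matrix (Fin n) (Fin n) K) =
      (A : Matrix (Fin n) (Fin n) K)⁻¹ := by
  symm
  apply Matrix.inv_eq_left_inv
  exact congrArg Subtype.val (inv_mul_cancel A)

theorem h1_coe_inv_mul (A : SpecialLinearGroup (Fin n) K) :
    ((A⁻¹ : SpecialLinearGroup (Fin n) K) : Matrix (Fin n) (Fin n) K) *
      (A : Matrix (Fin n) (Fin n) K) = 1 :=
  congrArg Subtype.val (inv_mul_cancel A)

theorem h1_coe_mul_inv (A : SpecialLinearGroup (Fin n) K) :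
    (A : Matrix (Fin n) (Fin n) K) *
      ((A⁻¹ : SpecialLinearGroup (Fin n) K) : Matrix (Fin n) (Fin n) K) = 1 :=
  congrArg Subtype.val (mul_inv_cancel A)

/-- upper unitriangular matrices -/
def IsUT (M : Matrix (Fin n) (Fin n) K) : Prop :=
  (∀ r c : Fin n, c < r → M r c = 0) ∧ ∀ r : Fin n, M r r = 1

theorem h1_isUT_one : IsUT (1 : Matrix (Fin n) (Fin n) K) :=
  ⟨fun _ _ h => Matrix.one_apply_ne (ne_of_gt h), fun r => Matrix.one_apply_eq r⟩

theorem h1_isUT_mul {M N : Matrix (Fin n) (Fin n) K} (hM : IsUT M) (hN : IsUT N) :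
    IsUT (M * N) := by
  refine ⟨fun r c h => ?_, fun r => ?_⟩
  · rw [Matrix.mul_apply]
    refine Finset.sum_eq_zero fun k _ => ?_
    by_cases hk : k < r
    · rw [hM.1 r k hk, zero_mul]
    · have : c < k := lt_of_lt_of_le h (not_lt.1 hk)
      rw [hN.1 k c this, mul_zero]
  · rw [Matrix.mul_apply, Finset.sum_eq_single r]
    · rw [hM.2, hN.2, mul_one]
    · intro k _ hk
      rcases lt_or_gt_of_ne hk with h | h
      · rw [hM.1 r k h, zero_mul]
      · rw [hN.1 k r h, mul_zero]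
    · intro h; exact absurd (Finset.mem_univ r) h

theorem h1_isUT_inv (A : SpecialLinearGroup (Fin n) K)
    (hA : IsUT (A : Matrix (Fin n) (Fin n) K)) :
    IsUT ((A⁻¹ : SpecialLinearGroup (Fin n) K) : Matrix (Fin n) (Fin n) K) := by
  have hdet : IsUnit (A : Matrix (Fin n) (Fin n) K).det := by
    rw [A.2]; exact isUnit_one
  have hinvertible : Invertible (A : Matrix (Fin n) (Fin n) K) :=
    Matrix.invertibleOfIsUnitDet _ hdet
  have hbt : (A : Matrix (Fin n) (Fin n) K).BlockTriangular id := fun r c h => hA.1 r c h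
  have hbt' : ((A : Matrix (Fin n) (Fin n) K)⁻¹).BlockTriangular id :=
    Matrix.blockTriangular_inv_of_blockTriangular hbt
  rw [← h1_coe_inv] at hbt'
  refine ⟨fun r c h => hbt' h, fun r => ?_⟩
  have h1 := congrFun (congrFun (h1_coe_mul_inv A) r) r
  rw [Matrix.mul_apply, Matrix.one_apply_eq, Finset.sum_eq_single r] at h1
  · rw [hA.2, one_mul] at h1
    exact h1
  · intro k _ hk
    rcases lt_or_gt_of_ne hk with h | h
    · rw [hA.1 r k h, zero_mul]
    · rw [hbt' h, mul_zero]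
  · intro h; exact absurd (Finset.mem_univ r) h

/-- the upper unitriangular subgroup of `SL_n` -/
def UTsub (n : ℕ) (K : Type*) [Field K] : Subgroup (SpecialLinearGroup (Fin n) K) where
  carrier := {A | IsUT (A : Matrix (Fin n) (Fin n) K)}
  mul_mem' := fun {A B} hA hB => h1_isUT_mul hA hB
  one_mem' := h1_isUT_one
  inv_mem' := fun {A} hA => h1_isUT_inv A hA

/-- monomial matrices -/
def IsMono (M : Matrix (Fin n) (Fin n) K) : Prop :=
  ∃ σ : Equiv.Perm (Fin n), ∀ r c : Fin n, M r c ≠ 0 → r = σ c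

theorem h1_isMono_one : IsMono (1 : Matrix (Fin n) (Fin n) K) := by
  refine ⟨1, fun r c h => ?_⟩
  by_contra hrc
  exact h (Matrix.one_apply_ne hrc)

theorem h1_isMono_mul {M N : Matrix (Fin n) (Fin n) K} (hM : IsMono M) (hN : IsMono N) :
    IsMono (M * N) := by
  obtain ⟨σ, hσ⟩ := hM
  obtain ⟨τ, hτ⟩ := hN
  refine ⟨σ * τ, fun r c h => ?_⟩
  rw [Matrix.mul_apply] at h
  obtain ⟨k, _, hk⟩ := Finset.exists_ne_zero_of_sum_ne_zero h
  have h1 : M r k ≠ 0 := fun h0 => hk (by rw [h0, zero_mul])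
  have h2 : N k c ≠ 0 := fun h0 => hk (by rw [h0, mul_zero])
  show r = σ (τ c)
  rw [hσ r k h1, hτ k c h2]

theorem h1_isMono_inv (A : SpecialLinearGroup (Fin n) K)
    (hA : IsMono (A : Matrix (Fin n) (Fin n) K)) :
    IsMono ((A⁻¹ : SpecialLinearGroup (Fin n) K) : Matrix (Fin n) (Fin n) K) := by
  obtain ⟨σ, hσ⟩ := hA
  -- entries of `A⁻¹ * A`
  have ent : ∀ r c : Fin n,
      ((A⁻¹ : SpecialLinearGroup (Fin n) K) : Matrix (Fin n) (Fin n) K) r (σ c) *
        (A : Matrix (Fin n) (Fin n) K) (σ c) c = (1 : Matrix (Fin n) (Fin n) K) r c := by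
    intro r c
    have h1 := congrFun (congrFun (h1_coe_inv_mul A) r) c
    rw [Matrix.mul_apply] at h1
    rw [← h1]
    symm
    refine Finset.sum_eq_single (σ c) (fun k _ hk => ?_)
      (fun h => absurd (Finset.mem_univ _) h)
    have h0 : (A : Matrix (Fin n) (Fin n) K) k c = 0 := by
      by_contra h0
      exact hk (hσ k c h0)
    rw [h0, mul_zero]
  refine ⟨σ⁻¹, fun r k h => ?_⟩
  obtain ⟨c, rfl⟩ := σ.surjective k
  show r = σ.symm (σ c)
  rw [Equiv.symm_apply_apply]
  by_contra hrc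
  have h2 := ent r c
  rw [Matrix.one_apply_ne hrc] at h2
  have h3 := ent c c
  rw [Matrix.one_apply_eq] at h3
  have h4 : (A : Matrix (Fin n) (Fin n) K) (σ c) c ≠ 0 := by
    intro h0
    rw [h0, mul_zero] at h3
    exact zero_ne_one h3
  rcases mul_eq_zero.1 h2 with h5 | h5
  · exact h h5
  · exact h4 h5

/-- the monomial subgroup of `SL_n` -/
def MonoSub (n : ℕ) (K : Type*) [Field K] : Subgroup (SpecialLinearGroup (Fin n) K) where
  carrier := {A | IsMono (A : Matrix (Fin n) (Fin n) K)}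
  mul_mem' := fun {A B} hA hB => h1_isMono_mul hA hB
  one_mem' := h1_isMono_one
  inv_mem' := fun {A} hA => h1_isMono_inv A hA

/-- a monomial matrix with unit diagonal is `1` -/
theorem h1_eq_one_of_mono_of_diag {M : Matrix (Fin n) (Fin n) K} (hM : IsMono M)
    (hd : ∀ r, M r r = 1) : M = 1 := by
  obtain ⟨σ, hσ⟩ := hM
  have hfix : ∀ c, c = σ c := fun c => hσ c c (by rw [hd]; exact one_ne_zero)
  ext r c
  by_cases hrc : r = c
  · subst hrc
    rw [hd, Matrix.one_apply_eq]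
  · rw [Matrix.one_apply_ne hrc]
    by_contra h0
    exact hrc ((hσ r c h0).trans (hfix c).symm)

variable {S : Type*} [Group S] {X : Fin n → Fin n → K → S}

theorem h1_Upos_le {φ : S →* SpecialLinearGroup (Fin n) K} (hφ : IsPhi X φ) :
    Upos X ≤ (UTsub n K).comap φ := by
  unfold Upos
  rw [Subgroup.closure_le]
  rintro g ⟨i, j, t, hij, rfl⟩
  show IsUT ((φ (X i j t) : SpecialLinearGroup (Fin n) K) : Matrix (Fin n) (Fin n) K)
  rw [hφ i j (ne_of_lt hij) t, SpecialLinearGroup.transvection_coe]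
  refine ⟨fun r c h => ?_, fun r => ?_⟩
  · rw [Matrix.add_apply, Matrix.one_apply_ne (ne_of_gt h), Matrix.single_apply, zero_add,
      if_neg]
    rintro ⟨rfl, rfl⟩
    exact absurd hij (not_lt.2 (le_of_lt h))
  · rw [Matrix.add_apply, Matrix.one_apply_eq, Matrix.single_apply, if_neg, add_zero]
    rintro ⟨rfl, h2⟩
    exact (ne_of_lt hij) h2.symm

theorem h1_Nmon_le {φ : S →* SpecialLinearGroup (Fin n) K}
    (hphiw : ∀ {i j : Fin n}, i ≠ j → ∀ {u : K}, u ≠ 0 →
      ((φ (w X i j u) : SpecialLinearGroup (Fin n) K) : Matrix (Fin n) (Fin n) K) =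
        Matrix.of (fun r c => if r = i ∧ c = j then u else if r = j ∧ c = i then -u⁻¹
          else if r = c ∧ r ≠ i ∧ r ≠ j then 1 else 0)) :
    Nmon X ≤ (MonoSub n K).comap φ := by
  unfold Nmon
  rw [Subgroup.closure_le]
  rintro g ⟨i, j, u, hij, hu, rfl⟩
  show IsMono ((φ (w X i j u) : SpecialLinearGroup (Fin n) K) : Matrix (Fin n) (Fin n) K)
  rw [hphiw hij hu]
  refine ⟨Equiv.swap i j, fun r c h => ?_⟩
  rw [Matrix.of_apply] at h
  by_cases h1 : r = i ∧ c = j
  · rw [h1.1, h1.2, Equiv.swap_apply_right]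
  · rw [if_neg h1] at h
    by_cases h2 : r = j ∧ c = i
    · rw [h2.1, h2.2, Equiv.swap_apply_left]
    · rw [if_neg h2] at h
      by_cases h3 : r = c ∧ r ≠ i ∧ r ≠ j
      · obtain ⟨rfl, h4, h5⟩ := h3
        rw [Equiv.swap_apply_of_ne_of_ne h4 h5]
      · rw [if_neg h3] at h
        exact absurd rfl h

/-- **LEAF H1 (240119)** -/
theorem phi_mon_eq_one {φ : S →* SpecialLinearGroup (Fin n) K} (hφ : IsPhi X φ)
    (hphiw : ∀ {i j : Fin n}, i ≠ j → ∀ {u : K}, u ≠ 0 →
      ((φ (w X i j u) : SpecialLinearGroup (Fin n) K) : Matrix (Fin n) (Fin n) K) =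
        Matrix.of (fun r c => if r = i ∧ c = j then u else if r = j ∧ c = i then -u⁻¹
          else if r = c ∧ r ≠ i ∧ r ≠ j then 1 else 0))
    {u m u' : S} (hu : u ∈ Upos X) (hm : m ∈ Nmon X) (hu' : u' ∈ Upos X)
    (h : φ (u * m * u') = 1) : φ m = 1 := by
  have hm1 : φ m = φ (u⁻¹ * u'⁻¹) := by
    rw [map_mul, map_mul] at h
    rw [map_mul, map_inv, map_inv]
    have e : φ m = (φ u)⁻¹ * (φ u * φ m * φ u') * (φ u')⁻¹ := by group
    rw [e, h, mul_one]
  have hv : u⁻¹ * u'⁻¹ ∈ Upos X := (Upos X).mul_mem ((Upos X).inv_mem hu) ((Upos X).inv_mem hu')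
  have hUT : IsUT ((φ m : SpecialLinearGroup (Fin n) K) : Matrix (Fin n) (Fin n) K) := by
    rw [hm1]
    exact h1_Upos_le hφ hv
  have hMono : IsMono ((φ m : SpecialLinearGroup (Fin n) K) : Matrix (Fin n) (Fin n) K) :=
    h1_Nmon_le hphiw hm
  apply Subtype.ext
  exact h1_eq_one_of_mono_of_diag hMono hUT.2

end Cfsg.Agent.Lib.Helper63.StN

#print axioms Cfsg.Agent.Lib.Helper63.StN.phi_mon_eq_one
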