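import Cfsg.Agent.Lib.Helper53.StOmDefs
import Cfsg.Agent.Lib.Helper90.StOmR0a

/-!
# K-StOm-M1 (keystone 254911, S2549, architect helper53): the elements of `N = ⟨S⟩ T` are
BLOCK monomial

Port of `Lib/Helper42/StOM1.lean` (itself a port of `Lib/Helper63/StSpM1.lean`) to
`O⁻_{2m+2}(F)`, where `MonWith` only records the `pos`-classes.
-/

set_option autoImplicit false
set_option linter.unusedSectionVars false
set_option linter.unusedVariables false

namespace Cfsg.Agent.Lib.Helper63.StOm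

open Cfsg Cfsg.Agent.Lib.Helper53.StOm

variable {m : ℕ} {F : Type*} [Field F] {a b : F}

theorem m1_monWith_one : MonWith m F a b (1 : OG m F a b) 1 := by
  have key : ∀ x y : MI m, mat (1 : OG m F a b) x y ≠ 0 → pos m x = pos m y := by
    intro x y h
    rw [mat_one, Matrix.one_apply] at h
    by_cases hxy : x = y
    · rw [hxy]
    · rw [if_neg hxy] at h
      exact absurd rfl h
  refine ⟨fun x y h => key x y h, fun x y h => ?_, fun x => rfl⟩
  rw [inv_one] at h
  exact key x y h

/-- a non-zero entry of a product comes from a pair of non-zero entries -/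
theorem m1_exists_of_mul_ne_zero (g h : OG m F a b) (x y : MI m) (hne : mat (g * h) x y ≠ 0) :
    ∃ c, mat g x c ≠ 0 ∧ mat h c y ≠ 0 := by
  by_contra hcon
  apply hne
  rw [mat_mul, Matrix.mul_apply]
  refine Finset.sum_eq_zero fun c _ => ?_
  by_cases h1 : mat g x c = 0
  · rw [h1, zero_mul]
  · by_cases h2 : mat h c y = 0
    · rw [h2, mul_zero]
    · exact absurd ⟨c, h1, h2⟩ hcon

theorem m1_monWith_mul {n n' : OG m F a b} {σ σ' : Equiv.Perm (MI m)}
    (h : MonWith m F a b n σ) (h' : MonWith m F a b n' σ') :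
    MonWith m F a b (n * n') (σ * σ') := by
  refine ⟨fun x y hne => ?_, fun x y hne => ?_, fun x => ?_⟩
  · obtain ⟨c, h1, h2⟩ := m1_exists_of_mul_ne_zero n n' x y hne
    have e1 := h.1 x c h1
    have e2 := h'.1 c y h2
    have e3 := pos_perm_congr m σ h.2.2 c (σ' y) e2
    show pos m x = pos m (σ (σ' y))
    rw [e1, e3]
  · rw [mul_inv_rev] at hne
    obtain ⟨c, h1, h2⟩ := m1_exists_of_mul_ne_zero n'⁻¹ n⁻¹ x y hne
    have e1 := h'.2.1 x c h1
    have e2 := h.2.1 c y h2
    have e3 := pos_perm_congr m σ'.symm (symm_dualE m σ' h'.2.2) c (σ.symm y) e2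
    show pos m x = pos m (σ'.symm (σ.symm y))
    rw [e1, e3]
  · show σ (σ' (dualE m x)) = dualE m (σ (σ' x))
    rw [h'.2.2, h.2.2]

theorem m1_monWith_inv {n : OG m F a b} {σ : Equiv.Perm (MI m)}
    (h : MonWith m F a b n σ) : MonWith m F a b n⁻¹ σ⁻¹ := by
  refine ⟨fun x y hne => ?_, fun x y hne => ?_, fun x => ?_⟩
  · exact h.2.1 x y hne
  · rw [inv_inv] at hne
    exact h.1 x y hne
  · exact symm_dualE m σ h.2.2 x

/-- block diagonal isometries are block monomial -/
theorem m1_monWith_of_mem_T {t : OG m F a b} (ht : t ∈ Tsub m F a b) :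
    MonWith m F a b t 1 := by
  have key : ∀ s : OG m F a b, s ∈ Tsub m F a b →
      ∀ x y : MI m, mat s x y ≠ 0 → pos m x = pos m y := by
    intro s hs x y hne
    by_contra hxy
    exact hne ((mem_Tsub_iff s).1 hs x y hxy)
  exact ⟨fun x y hne => key t ht x y hne,
    fun x y hne => key t⁻¹ ((Tsub m F a b).inv_mem ht) x y hne, fun x => rfl⟩

theorem m1_permMatrix_apply (σ : Equiv.Perm (MI m)) (x y : MI m) :
    (σ.permMatrix F) x y = if σ x = y then 1 else 0 := by
  simp only [Equiv.Perm.permMatrix, PEquiv.toMatrix_apply, Equiv.toPEquiv_apply,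
    Option.mem_def, Option.some.injEq]

/-- an element whose matrix is a permutation matrix (of a permutation commuting with the duality)
is block monomial -/
theorem m1_monWith_of_permMatrix (n : OG m F a b) (σ : Equiv.Perm (MI m))
    (h : mat n = σ.permMatrix F) (hd : ∀ x, σ (dualE m x) = dualE m (σ x)) :
    MonWith m F a b n σ⁻¹ := by
  have hinv : mat n⁻¹ = (σ⁻¹).permMatrix F := by
    have h2 : mat n * (σ⁻¹).permMatrix F = 1 := by
      rw [h, ← Matrix.permMatrix_mul, inv_mul_cancel, Matrix.permMatrix_one]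
    calc mat n⁻¹ = mat n⁻¹ * (mat n * (σ⁻¹).permMatrix F) := by rw [h2, Matrix.mul_one]
      _ = (mat n⁻¹ * mat n) * (σ⁻¹).permMatrix F := by rw [Matrix.mul_assoc]
      _ = (σ⁻¹).permMatrix F := by rw [mat_inv_mul_mat, Matrix.one_mul]
  refine ⟨fun x y hne => ?_, fun x y hne => ?_, fun x => ?_⟩
  · rw [h, m1_permMatrix_apply] at hne
    by_cases h1 : σ x = y
    · rw [← h1]
      show pos m x = pos m (σ.symm (σ x))
      rw [Equiv.symm_apply_apply]
    · rw [if_neg h1] at hne
      exact absurd rfl hne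
  · rw [hinv, m1_permMatrix_apply] at hne
    by_cases h1 : σ⁻¹ x = y
    · rw [← h1]
      show pos m x = pos m (σ (σ.symm x))
      rw [Equiv.apply_symm_apply]
    · rw [if_neg h1] at hne
      exact absurd rfl hne
  · exact symm_dualE m σ hd x

theorem m1_swapE_dualE (i j : Fin m) (x : MI m) :
    swapE m i j (dualE m x) = dualE m (swapE m i j x) := by
  rcases x with (x | x) | x <;> rfl

theorem m1_flipE_dualE (k : Fin m) (x : MI m) :
    flipE m k (dualE m x) = dualE m (flipE m k x) := by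
  rcases x with (x | x) | x
  · show Equiv.swap (eI k) (fI k) (fI x) = dualE m (Equiv.swap (eI k) (fI k) (eI x))
    by_cases h : x = k
    · subst h
      rw [Equiv.swap_apply_left, Equiv.swap_apply_right]
      rfl
    · have h1 : (eI x : MI m) ≠ eI k := fun e => h (Sum.inl.inj (Sum.inl.inj e))
      have h2 : (fI x : MI m) ≠ fI k := fun e => h (Sum.inr.inj (Sum.inl.inj e))
      rw [Equiv.swap_apply_of_ne_of_ne h1 (by simp), Equiv.swap_apply_of_ne_of_ne (by simp) h2]
      rfl
  · show Equiv.swap (eI k) (fI k) (eI x) = dualE m (Equiv.swap (eI k) (fI k) (fI x))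
    by_cases h : x = k
    · subst h
      rw [Equiv.swap_apply_left, Equiv.swap_apply_right]
      rfl
    · have h1 : (eI x : MI m) ≠ eI k := fun e => h (Sum.inl.inj (Sum.inl.inj e))
      have h2 : (fI x : MI m) ≠ fI k := fun e => h (Sum.inr.inj (Sum.inl.inj e))
      rw [Equiv.swap_apply_of_ne_of_ne h1 (by simp), Equiv.swap_apply_of_ne_of_ne (by simp) h2]
      rfl
  · show Equiv.swap (eI k) (fI k) (zI x) = dualE m (Equiv.swap (eI k) (fI k) (zI x))
    rw [Equiv.swap_apply_of_ne_of_ne (by simp) (by simp)]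
    rfl

theorem m1_monWith_sPerm (i j : Fin m) :
    MonWith m F a b (sPerm m F a b i j) (swapE m i j)⁻¹ :=
  m1_monWith_of_permMatrix _ _ (Cfsg.Agent.Lib.Helper90.StOm.mat_sPerm i j) (m1_swapE_dualE i j)

theorem m1_monWith_sFlip (k : Fin m) :
    MonWith m F a b (sFlip m F a b k) (flipE m k)⁻¹ :=
  m1_monWith_of_permMatrix _ _ (Cfsg.Agent.Lib.Helper90.StOm.mat_sFlip k) (m1_flipE_dualE k)

theorem m1_monWith_w0 : MonWith m F a b (w0 m F a b) (dualE m)⁻¹ :=
  m1_monWith_of_permMatrix _ _ Cfsg.Agent.Lib.Helper90.StOm.mat_w0 (fun _ => rfl)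

/-- the subgroup of block monomial elements -/
def m1_monSub (m : ℕ) (F : Type*) [Field F] (a b : F) : Subgroup (OG m F a b) where
  carrier := {n | ∃ σ : Equiv.Perm (MI m), MonWith m F a b n σ}
  mul_mem' := by
    rintro g h ⟨σ, hg⟩ ⟨σ', hh⟩
    exact ⟨σ * σ', m1_monWith_mul hg hh⟩
  one_mem' := ⟨1, m1_monWith_one⟩
  inv_mem' := by
    rintro g ⟨σ, hg⟩
    exact ⟨σ⁻¹, m1_monWith_inv hg⟩

/-- **LEAF M1 (254911).** -/
theorem exists_monWith (n : OG m F a b) (hn : n ∈ Nsub m F a b) :
    ∃ σ : Equiv.Perm (MI m), MonWith m F a b n σ := by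
  have hle : Nsub m F a b ≤ m1_monSub m F a b := by
    unfold Nsub
    apply sup_le
    · rw [Subgroup.closure_le]
      rintro s (⟨i, hi, rfl⟩ | ⟨hm, rfl⟩)
      · exact ⟨_, m1_monWith_sPerm i (nxt i hi)⟩
      · exact ⟨_, m1_monWith_sFlip (lastF hm)⟩
    · intro t ht
      exact ⟨1, m1_monWith_of_mem_T ht⟩
  exact hle hn

end Cfsg.Agent.Lib.Helper63.StOm

#print axioms Cfsg.Agent.Lib.Helper63.StOm.exists_monWith
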