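import Cfsg.Agent.Lib.Helper49.StSpDefs

/-!
# K-StSp-M5 (keystone 254510, S2545, architect helper49): monomial matrices normalise `T`
-/

set_option autoImplicit false
set_option linter.unusedSectionVars false
set_option linter.unusedVariables false

namespace Cfsg.Agent.Lib.Helper63.StSp

open Cfsg Cfsg.Agent.Lib.Helper49.StSp

variable {m : ℕ} {F : Type*} [Field F]

/-- **LEAF M5 (254510).** -/
theorem conj_mem_T (n : SpG m F) (σ : Equiv.Perm (Fin m ⊕ Fin m)) (h : MonWith m F n σ)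
    (t : SpG m F) (ht : t ∈ Tsub m F) : n * t * n⁻¹ ∈ Tsub m F := by
  rw [mem_Tsub_iff] at ht ⊢
  intro a b hab
  have key : ((n * t * n⁻¹ : SpG m F).1 : Matrix (Fin m ⊕ Fin m) (Fin m ⊕ Fin m) F) * n.1 =
      n.1 * t.1 := by
    have h1 : (n * t * n⁻¹) * n = n * t := by group
    exact congrArg Subtype.val h1
  have hc := congrFun (congrFun key a) (σ.symm b)
  rw [Matrix.mul_apply, Matrix.mul_apply] at hc
  have e1 : ∑ c, ((n * t * n⁻¹ : SpG m F).1 : Matrix (Fin m ⊕ Fin m) (Fin m ⊕ Fin m) F) a c *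
      (n.1 : Matrix (Fin m ⊕ Fin m) (Fin m ⊕ Fin m) F) c (σ.symm b) =
      ((n * t * n⁻¹ : SpG m F).1 : Matrix (Fin m ⊕ Fin m) (Fin m ⊕ Fin m) F) a b *
        (n.1 : Matrix (Fin m ⊕ Fin m) (Fin m ⊕ Fin m) F) b (σ.symm b) := by
    refine Finset.sum_eq_single b (fun c _ hc' => ?_) (fun hb => absurd (Finset.mem_univ _) hb)
    have h0 : (n.1 : Matrix (Fin m ⊕ Fin m) (Fin m ⊕ Fin m) F) c (σ.symm b) = 0 := by
      by_contra h0
      exact hc' (by rw [(h.1 c (σ.symm b)).1 h0]; simp)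
    rw [h0, mul_zero]
  have e2 : ∑ c, (n.1 : Matrix (Fin m ⊕ Fin m) (Fin m ⊕ Fin m) F) a c *
      (t.1 : Matrix (Fin m ⊕ Fin m) (Fin m ⊕ Fin m) F) c (σ.symm b) =
      (n.1 : Matrix (Fin m ⊕ Fin m) (Fin m ⊕ Fin m) F) a (σ.symm b) *
        (t.1 : Matrix (Fin m ⊕ Fin m) (Fin m ⊕ Fin m) F) (σ.symm b) (σ.symm b) := by
    refine Finset.sum_eq_single (σ.symm b) (fun c _ hc' => ?_)
      (fun hb => absurd (Finset.mem_univ _) hb)
    rw [ht c (σ.symm b) hc', mul_zero]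
  rw [e1, e2] at hc
  have hn0 : (n.1 : Matrix (Fin m ⊕ Fin m) (Fin m ⊕ Fin m) F) a (σ.symm b) = 0 := by
    by_contra h0
    exact hab (by rw [(h.1 a (σ.symm b)).1 h0]; simp)
  have hn1 : (n.1 : Matrix (Fin m ⊕ Fin m) (Fin m ⊕ Fin m) F) b (σ.symm b) ≠ 0 :=
    (h.1 b (σ.symm b)).2 (by simp)
  rw [hn0, zero_mul] at hc
  exact (mul_eq_zero.1 hc).resolve_right hn1

end Cfsg.Agent.Lib.Helper63.StSp
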