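import Mathlib
import Cfsg.Agent.Lib.Helper63.MobiusWeight

set_option autoImplicit false
set_option linter.unusedSectionVars false

/-!
# Casolo's subnormalizer formula for `p`-subgroups

`#{g : H ≤ some p-subgroup normalized by g} = #{Sylow Q ⊇ H} * #N_G(P)`.
-/

namespace Cfsg.Agent.Lib.Helper63.Subnormalizer

open Classical
open Cfsg.Agent.Lib.Helper63.MobiusWeight

variable {G : Type*} [Group G]

theorem mem_normalizer_inf {A B : Subgroup G} {g : G}
    (hA : g ∈ Subgroup.normalizer (A : Set G)) (hB : g ∈ Subgroup.normalizer (B : Set G)) :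
    g ∈ Subgroup.normalizer ((A ⊓ B : Subgroup G) : Set G) := by
  rw [Subgroup.mem_normalizer_iff] at *
  intro h
  rw [Subgroup.mem_inf, Subgroup.mem_inf, ← hA h, ← hB h]

theorem mem_normalizer_sInf {S : Set (Subgroup G)} {g : G}
    (hS : ∀ T ∈ S, g ∈ Subgroup.normalizer (T : Set G)) :
    g ∈ Subgroup.normalizer ((sInf S : Subgroup G) : Set G) := by
  rw [Subgroup.mem_normalizer_iff]
  intro h
  rw [Subgroup.mem_sInf, Subgroup.mem_sInf]
  constructor
  · intro hh T hT
    exact (Subgroup.mem_normalizer_iff.1 (hS T hT) h).1 (hh T hT)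
  · intro hh T hT
    exact (Subgroup.mem_normalizer_iff.1 (hS T hT) h).2 (hh T hT)

/-- a set in a finite type, as a finset -/
noncomputable def fs {β : Type*} [Finite β] (s : Set β) : Finset β := (Set.toFinite s).toFinset

@[simp] theorem mem_fs {β : Type*} [Finite β] {s : Set β} {x : β} : x ∈ fs s ↔ x ∈ s :=
  Set.Finite.mem_toFinset _

theorem card_fs {β : Type*} [Finite β] (s : Set β) : (fs s).card = Nat.card s := by
  rw [Nat.card_coe_set_eq, Set.ncard_eq_toFinset_card s (Set.toFinite s)]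
  rfl

variable [Finite G] (p : ℕ) [Fact p.Prime]

/-- the `p`-subgroups inside `K` normalized by `g` -/
noncomputable def PS (K : Subgroup G) (g : G) : Finset (Subgroup G) :=
  fs {T : Subgroup G | T ≤ K ∧ IsPGroup p T ∧ g ∈ Subgroup.normalizer (T : Set G)}

theorem mem_PS {K : Subgroup G} {g : G} {T : Subgroup G} :
    T ∈ PS p K g ↔ T ≤ K ∧ IsPGroup p T ∧ g ∈ Subgroup.normalizer (T : Set G) := by
  simp [PS]

/-- normalizers grow in `p`-groups -/
theorem eq_of_inf_normalizer_eq {T T' : Subgroup G} (hT' : IsPGroup p T') (hle : T ≤ T')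
    (h : T' ⊓ Subgroup.normalizer (T : Set G) = T) : T' = T := by
  by_contra hne
  have hlt : T < T' := lt_of_le_of_ne hle (Ne.symm hne)
  have : Group.IsNilpotent ↥T' := hT'.isNilpotent
  have hnc : NormalizerCondition ↥T' := Group.normalizerCondition_of_isNilpotent
  have h1 : T.subgroupOf T' < ⊤ := by
    rw [lt_top_iff_ne_top, Ne, Subgroup.subgroupOf_eq_top]
    exact not_le_of_gt hlt
  have h2 := hnc _ h1
  have h3 : (Subgroup.normalizer (T : Set G)).subgroupOf T' = T.subgroupOf T' := by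
    rw [← Subgroup.inf_subgroupOf_left (Subgroup.normalizer (T : Set G)) T', h]
  rw [← Subgroup.subgroupOf_normalizer_eq hle, h3] at h2
  exact lt_irrefl _ h2

/-- the weight of `T` computed inside `K` equals the weight computed inside `N_K(T)`. -/
theorem nu_PS_restrict {K T : Subgroup G} {g : G} (hTK : T ≤ K) (hT : IsPGroup p T)
    (hg : g ∈ Subgroup.normalizer (T : Set G)) :
    nu (PS p K g) T = nu (PS p (K ⊓ Subgroup.normalizer (T : Set G)) g) T := by
  apply nu_retract _ _ T (fun T' => T' ⊓ Subgroup.normalizer (T : Set G))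
  · exact (mem_PS p).2 ⟨hTK, hT, hg⟩
  · exact (mem_PS p).2 ⟨le_inf hTK Subgroup.le_normalizer, hT, hg⟩
  · intro T' hT' hle
    obtain ⟨h1, h2, h3⟩ := (mem_PS p).1 hT'
    refine ⟨(mem_PS p).2 ⟨inf_le_inf_right _ h1, h2.to_le inf_le_left, ?_⟩,
      le_inf hle Subgroup.le_normalizer, inf_le_left⟩
    exact mem_normalizer_inf h3 (Subgroup.le_normalizer hg)
  · intro y _ y' _ _ hyy'
    exact inf_le_inf_right _ hyy'
  · intro z hz _
    obtain ⟨h1, h2, h3⟩ := (mem_PS p).1 hz
    exact ⟨(mem_PS p).2 ⟨h1.trans inf_le_left, h2, h3⟩, inf_eq_left.2 (h1.trans inf_le_right)⟩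
  · intro T' hT' hle h
    obtain ⟨_, h2, _⟩ := (mem_PS p).1 hT'
    exact eq_of_inf_normalizer_eq p h2 hle h


/-! ### relative Sylow subgroups -/

/-- the Sylow `p`-subgroups of `K`, as subgroups of `G` -/
def SylIn (K : Subgroup G) : Set (Subgroup G) :=
  {Q | Q ≤ K ∧ IsPGroup p Q ∧ ¬ p ∣ Q.relIndex K}

theorem isPGroup_subgroupOf {T : Subgroup G} (hT : IsPGroup p T) (K : Subgroup G) :
    IsPGroup p ↥(T.subgroupOf K) :=
  hT.comap_of_injective K.subtype K.subtype_injective

theorem le_of_mem_SylIn {K T Q : Subgroup G} (hQ : Q ∈ SylIn p K) (hTK : T ≤ K)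
    (hKT : K ≤ Subgroup.normalizer (T : Set G)) (hT : IsPGroup p T) : T ≤ Q := by
  obtain ⟨hQK, hQp, hQi⟩ := hQ
  have hN : (T.subgroupOf K).Normal := (Subgroup.normal_subgroupOf_iff_le_normalizer hTK).2 hKT
  have hTp : IsPGroup p ↥(T.subgroupOf K) := isPGroup_subgroupOf p hT K
  have hQp' : IsPGroup p ↥(Q.subgroupOf K) := isPGroup_subgroupOf p hQp K
  have hidx : ¬ p ∣ (Q.subgroupOf K).index := hQi
  have h1 : T.subgroupOf K ≤ ((hQp'.toSylow hidx : Sylow p ↥K) : Subgroup ↥K) :=
    hTp.le_sylow_of_normal _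
  intro x hx
  have hx' : (⟨x, hTK hx⟩ : ↥K) ∈ T.subgroupOf K := Subgroup.mem_subgroupOf.2 hx
  exact Subgroup.mem_subgroupOf.1 (h1 hx')

theorem not_dvd_relIndex_of_normalizer {K T' : Subgroup G} (hle : T' ≤ K) (hp' : IsPGroup p T')
    (h : ¬ p ∣ T'.relIndex (K ⊓ Subgroup.normalizer (T' : Set G))) : ¬ p ∣ T'.relIndex K := by
  obtain ⟨n, hn⟩ := (IsPGroup.iff_card).1 (isPGroup_subgroupOf p hp' K)
  have h1 := Sylow.card_quotient_normalizer_modEq_card_quotient hn
  have h2 : Nat.card (↥K ⧸ T'.subgroupOf K) = T'.relIndex K := (Subgroup.index_eq_card _).symm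
  have h3 : Nat.card (↥(Subgroup.normalizer ((T'.subgroupOf K : Subgroup ↥K) : Set ↥K)) ⧸
      Subgroup.comap (Subgroup.normalizer ((T'.subgroupOf K : Subgroup ↥K) : Set ↥K)).subtype
        (T'.subgroupOf K)) = T'.relIndex (K ⊓ Subgroup.normalizer (T' : Set G)) := by
    rw [← Subgroup.index_eq_card]
    show (T'.subgroupOf K).relIndex (Subgroup.normalizer ((T'.subgroupOf K : Subgroup ↥K) : Set ↥K)) = _
    rw [← Subgroup.subgroupOf_normalizer_eq hle]
    have h4 : (Subgroup.normalizer (T' : Set G)).subgroupOf K =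
        (K ⊓ Subgroup.normalizer (T' : Set G)).subgroupOf K := (Subgroup.inf_subgroupOf_left _ K).symm
    rw [h4, Subgroup.relIndex_subgroupOf inf_le_left]
  rw [h2, h3] at h1
  intro hd
  exact h ((h1.dvd_iff dvd_rfl).2 hd)

theorem card_subgroupOf_eq (A K : Subgroup G) : Nat.card ↥(A.subgroupOf K) = Nat.card ↥(K ⊓ A) := by
  rw [← Subgroup.inf_subgroupOf_left A K]
  exact Nat.card_congr (Subgroup.subgroupOfEquivOfLe inf_le_left).toEquiv

theorem sum_card_normalizer_SylIn (K : Subgroup G) :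
    ∑ Q ∈ fs (SylIn p K), (Nat.card ↥(K ⊓ Subgroup.normalizer (Q : Set G)) : ℤ) = Nat.card ↥K := by
  let _ : Fintype (Sylow p ↥K) := Fintype.ofFinite _
  have hbij : ∑ S : Sylow p ↥K, (Nat.card ↥(Subgroup.normalizer ((S : Subgroup ↥K) : Set ↥K)) : ℤ) =
      ∑ Q ∈ fs (SylIn p K), (Nat.card ↥(K ⊓ Subgroup.normalizer (Q : Set G)) : ℤ) := by
    apply Finset.sum_bij (fun (S : Sylow p ↥K) _ => (S : Subgroup ↥K).map K.subtype)
    · intro S _
      rw [mem_fs]
      refine ⟨Subgroup.map_subtype_le _, S.isPGroup'.map _, ?_⟩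
      show ¬ p ∣ (((S : Subgroup ↥K).map K.subtype).subgroupOf K).index
      rw [Subgroup.subgroupOf, Subgroup.comap_map_eq_self_of_injective K.subtype_injective]
      exact S.not_dvd_index
    · intro S₁ _ S₂ _ h
      exact Sylow.ext (Subgroup.map_injective K.subtype_injective h)
    · intro Q hQ
      rw [mem_fs] at hQ
      obtain ⟨hQK, hQp, hQi⟩ := hQ
      have hQp' : IsPGroup p ↥(Q.subgroupOf K) := isPGroup_subgroupOf p hQp K
      have hidx : ¬ p ∣ (Q.subgroupOf K).index := hQi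
      refine ⟨hQp'.toSylow hidx, Finset.mem_univ _, ?_⟩
      show (Q.subgroupOf K).map K.subtype = Q
      exact Subgroup.map_subgroupOf_eq_of_le hQK
    · intro S _
      have h1 : ((S : Subgroup ↥K).map K.subtype).subgroupOf K = S := by
        rw [Subgroup.subgroupOf, Subgroup.comap_map_eq_self_of_injective K.subtype_injective]
      rw [← card_subgroupOf_eq, Subgroup.subgroupOf_normalizer_eq (Subgroup.map_subtype_le _), h1]
  rw [← hbij]
  have hterm : ∀ S : Sylow p ↥K,
      (Nat.card ↥(Subgroup.normalizer ((S : Subgroup ↥K) : Set ↥K)) : ℤ) * (Fintype.card (Sylow p ↥K) : ℤ)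
        = (Nat.card ↥K : ℤ) := by
    intro S
    have h1 : Nat.card (Sylow p ↥K) = (Subgroup.normalizer ((S : Subgroup ↥K) : Set ↥K)).index :=
      Sylow.card_eq_index_normalizer S
    have h2 := Subgroup.card_mul_index (Subgroup.normalizer ((S : Subgroup ↥K) : Set ↥K))
    have h3 : Nat.card (Sylow p ↥K) = Fintype.card (Sylow p ↥K) := Nat.card_eq_fintype_card
    rw [← h1, h3] at h2
    exact_mod_cast h2
  have hn : (Fintype.card (Sylow p ↥K) : ℤ) ≠ 0 := by
    have : 0 < Fintype.card (Sylow p ↥K) := Fintype.card_pos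
    exact_mod_cast this.ne'
  apply mul_right_cancel₀ hn
  rw [Finset.sum_mul, Finset.sum_congr rfl (fun S _ => hterm S), Finset.sum_const, Finset.card_univ]
  simp [mul_comm]


/-! ### the vanishing of the weight sums -/

theorem dvd_relIndex_of_lt {T T' : Subgroup G} (hT' : IsPGroup p T') (hlt : T < T') :
    p ∣ T.relIndex T' := by
  obtain ⟨n, hn⟩ := hT'.index (T.subgroupOf T')
  have hne : T.relIndex T' ≠ 1 := by
    rw [Ne, Subgroup.relIndex_eq_one]
    exact not_le_of_gt hlt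
  have h1 : T.relIndex T' = p ^ n := hn
  rcases n with _ | n
  · rw [pow_zero] at h1
    exact absurd h1 hne
  · rw [h1]
    exact dvd_pow_self p (Nat.succ_ne_zero n)

theorem Z_eq (T : Subgroup G) : ∀ K : Subgroup G, T ≤ K → K ≤ Subgroup.normalizer (T : Set G) →
    IsPGroup p T →
    ∑ g ∈ fs (K : Set G), nu (PS p K g) T =
      if p ∣ T.relIndex K then 0 else (Nat.card ↥K : ℤ) := by
  induction T using WellFoundedGT.induction with
  | _ T ih =>
  intro K hTK hKT hT
  split_ifs with hdvd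
  · -- main case
    have hone : ∀ g ∈ fs (K : Set G),
        ∑ T' ∈ (PS p K g).filter (fun y => T ≤ y), nu (PS p K g) T' = 1 := by
      intro g hg
      apply nu_sum
      exact (mem_PS p).2 ⟨hTK, hT, hKT (mem_fs.1 hg)⟩
    have hcard : (Nat.card ↥K : ℤ) = ∑ g ∈ fs (K : Set G),
        ∑ T' ∈ (PS p K g).filter (fun y => T ≤ y), nu (PS p K g) T' := by
      rw [Finset.sum_congr rfl hone]
      simp only [Finset.sum_const, nsmul_eq_mul, mul_one, card_fs]
      rfl
    set 𝒯 := fs {T' : Subgroup G | T ≤ T' ∧ T' ≤ K ∧ IsPGroup p T'} with h𝒯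
    have hswap : ∑ g ∈ fs (K : Set G),
          ∑ T' ∈ (PS p K g).filter (fun y => T ≤ y), nu (PS p K g) T'
        = ∑ T' ∈ 𝒯, ∑ g ∈ fs ((K ⊓ Subgroup.normalizer (T' : Set G) : Subgroup G) : Set G),
            nu (PS p K g) T' := by
      apply Finset.sum_comm'
      intro g T'
      simp only [mem_fs, Finset.mem_filter, mem_PS, h𝒯, Set.mem_ofPred_eq, SetLike.mem_coe,
        Subgroup.mem_inf]
      tauto
    have hres : ∀ T' ∈ 𝒯,
        ∑ g ∈ fs ((K ⊓ Subgroup.normalizer (T' : Set G) : Subgroup G) : Set G), nu (PS p K g) T'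
        = ∑ g ∈ fs ((K ⊓ Subgroup.normalizer (T' : Set G) : Subgroup G) : Set G),
            nu (PS p (K ⊓ Subgroup.normalizer (T' : Set G)) g) T' := by
      intro T' hT'
      apply Finset.sum_congr rfl
      intro g hg
      rw [mem_fs] at hg hT'
      exact nu_PS_restrict p hT'.2.1 hT'.2.2 hg.2
    have hT𝒯 : T ∈ 𝒯 := by
      rw [h𝒯, mem_fs]
      exact ⟨le_rfl, hTK, hT⟩
    rw [hswap, Finset.sum_congr rfl hres, ← Finset.add_sum_erase _ _ hT𝒯] at hcard
    have hKN : K ⊓ Subgroup.normalizer (T : Set G) = K := inf_eq_left.2 hKT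
    rw [hKN] at hcard
    have hrest : ∑ T' ∈ 𝒯.erase T,
        ∑ g ∈ fs ((K ⊓ Subgroup.normalizer (T' : Set G) : Subgroup G) : Set G),
          nu (PS p (K ⊓ Subgroup.normalizer (T' : Set G)) g) T' = (Nat.card ↥K : ℤ) := by
      have h1 : ∀ T' ∈ 𝒯.erase T,
          (∑ g ∈ fs ((K ⊓ Subgroup.normalizer (T' : Set G) : Subgroup G) : Set G),
            nu (PS p (K ⊓ Subgroup.normalizer (T' : Set G)) g) T') =
          if p ∣ T'.relIndex (K ⊓ Subgroup.normalizer (T' : Set G)) then 0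
            else (Nat.card ↥(K ⊓ Subgroup.normalizer (T' : Set G)) : ℤ) := by
        intro T' hT'
        rw [Finset.mem_erase, h𝒯, mem_fs] at hT'
        obtain ⟨hne, hle, hT'K, hT'p⟩ := hT'
        exact ih T' (lt_of_le_of_ne hle (Ne.symm hne)) _ (le_inf hT'K Subgroup.le_normalizer)
          inf_le_right hT'p
      rw [Finset.sum_congr rfl h1, Finset.sum_ite, Finset.sum_const_zero, zero_add]
      have hset : (𝒯.erase T).filter
          (fun T' => ¬ p ∣ T'.relIndex (K ⊓ Subgroup.normalizer (T' : Set G))) = fs (SylIn p K) := by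
        ext Q
        simp only [Finset.mem_filter, Finset.mem_erase, h𝒯, mem_fs, Set.mem_ofPred_eq]
        constructor
        · rintro ⟨⟨_, _, hQK, hQp⟩, hnd⟩
          exact ⟨hQK, hQp, not_dvd_relIndex_of_normalizer p hQK hQp hnd⟩
        · rintro ⟨hQK, hQp, hnd⟩
          have hTQ : T ≤ Q := le_of_mem_SylIn p ⟨hQK, hQp, hnd⟩ hTK hKT hT
          refine ⟨⟨?_, hTQ, hQK, hQp⟩, ?_⟩
          · rintro rfl
            exact hnd hdvd
          · intro hd
            apply hnd
            have h2 := Subgroup.relIndex_mul_relIndex Q (K ⊓ Subgroup.normalizer (Q : Set G)) K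
              (le_inf hQK Subgroup.le_normalizer) inf_le_left
            rw [← h2]
            exact dvd_mul_of_dvd_left hd _
      rw [hset]
      exact sum_card_normalizer_SylIn p K
    linarith
  · -- all weights are 1
    have h1 : ∀ g ∈ fs (K : Set G), nu (PS p K g) T = 1 := by
      intro g _
      rw [nu_eq]
      have h2 : (PS p K g).filter (fun y => T < y) = ∅ := by
        rw [Finset.filter_eq_empty_iff]
        intro T' hT' hlt
        obtain ⟨h1, h2, _⟩ := (mem_PS p).1 hT'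
        apply hdvd
        have h3 : T.relIndex T' * T'.relIndex K = T.relIndex K :=
          Subgroup.relIndex_mul_relIndex T T' K hlt.le h1
        rw [← h3]
        exact dvd_mul_of_dvd_left (dvd_relIndex_of_lt p h2 hlt) _
      rw [h2]
      simp
    rw [Finset.sum_congr rfl h1]
    simp only [Finset.sum_const, nsmul_eq_mul, mul_one, card_fs]
    rfl


/-! ### the subnormalizer count -/

/-- the subnormalizer set of a `p`-subgroup, in its "local" description -/
def SubN (H : Subgroup G) : Set G :=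
  {g | ∃ T : Subgroup G, H ≤ T ∧ IsPGroup p T ∧ g ∈ Subgroup.normalizer (T : Set G)}

theorem inner_sum_eq (H : Subgroup G) (g : G) :
    ∑ T ∈ (PS p ⊤ g).filter (fun T => H ≤ T), nu (PS p ⊤ g) T =
      if g ∈ SubN p H then 1 else 0 := by
  split_ifs with hg
  · obtain ⟨T₀, hHT₀, hT₀p, hT₀g⟩ := hg
    set S : Set (Subgroup G) := {T | T ∈ PS p ⊤ g ∧ H ≤ T} with hS
    have hT₀S : T₀ ∈ S := ⟨(mem_PS p).2 ⟨le_top, hT₀p, hT₀g⟩, hHT₀⟩
    set H₁ := sInf S with hH₁
    have hH₁mem : H₁ ∈ PS p ⊤ g := by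
      refine (mem_PS p).2 ⟨le_top, hT₀p.to_le (sInf_le hT₀S), ?_⟩
      apply mem_normalizer_sInf
      intro T hT
      exact ((mem_PS p).1 hT.1).2.2
    have hHH₁ : H ≤ H₁ := le_sInf (fun T hT => hT.2)
    have hfilter : (PS p ⊤ g).filter (fun T => H ≤ T) = (PS p ⊤ g).filter (fun T => H₁ ≤ T) := by
      apply Finset.filter_congr
      intro T hT
      constructor
      · intro h
        exact sInf_le ⟨hT, h⟩
      · intro h
        exact hHH₁.trans h
    rw [hfilter]
    exact nu_sum _ hH₁mem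
  · have : (PS p ⊤ g).filter (fun T => H ≤ T) = ∅ := by
      rw [Finset.filter_eq_empty_iff]
      intro T hT hHT
      obtain ⟨_, h2, h3⟩ := (mem_PS p).1 hT
      exact hg ⟨T, hHT, h2, h3⟩
    rw [this]
    simp

theorem card_SubN (H : Subgroup G) :
    (Nat.card ↥(SubN p H) : ℤ) =
      ∑ Q ∈ (fs (SylIn p ⊤)).filter (fun Q => H ≤ Q),
        (Nat.card ↥(Subgroup.normalizer (Q : Set G)) : ℤ) := by
  have h0 : (Nat.card ↥(SubN p H) : ℤ) = ∑ g ∈ fs (Set.univ : Set G),
      ∑ T ∈ (PS p ⊤ g).filter (fun T => H ≤ T), nu (PS p ⊤ g) T := by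
    rw [Finset.sum_congr rfl (fun g _ => inner_sum_eq p H g), Finset.sum_ite,
      Finset.sum_const_zero, add_zero, Finset.sum_const, nsmul_eq_mul, mul_one, ← card_fs]
    congr 2
    ext g
    simp
  set 𝒯 := fs {T : Subgroup G | H ≤ T ∧ IsPGroup p T} with h𝒯
  have hswap : ∑ g ∈ fs (Set.univ : Set G),
        ∑ T ∈ (PS p ⊤ g).filter (fun T => H ≤ T), nu (PS p ⊤ g) T
      = ∑ T ∈ 𝒯, ∑ g ∈ fs ((Subgroup.normalizer (T : Set G) : Subgroup G) : Set G),
          nu (PS p ⊤ g) T := by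
    apply Finset.sum_comm'
    intro g T
    simp only [mem_fs, Finset.mem_filter, mem_PS, h𝒯, Set.mem_ofPred_eq, SetLike.mem_coe,
      Set.mem_univ, le_top, true_and]
    tauto
  have hres : ∀ T ∈ 𝒯,
      ∑ g ∈ fs ((Subgroup.normalizer (T : Set G) : Subgroup G) : Set G), nu (PS p ⊤ g) T
      = if p ∣ T.relIndex (Subgroup.normalizer (T : Set G)) then 0
          else (Nat.card ↥(Subgroup.normalizer (T : Set G)) : ℤ) := by
    intro T hT
    rw [h𝒯, mem_fs] at hT
    rw [← Z_eq p T _ Subgroup.le_normalizer le_rfl hT.2]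
    apply Finset.sum_congr rfl
    intro g hg
    rw [mem_fs] at hg
    have := nu_PS_restrict p (le_top : T ≤ ⊤) hT.2 hg
    rwa [top_inf_eq] at this
  rw [h0, hswap, Finset.sum_congr rfl hres, Finset.sum_ite, Finset.sum_const_zero, zero_add]
  apply Finset.sum_congr _ (fun _ _ => rfl)
  ext Q
  simp only [Finset.mem_filter, h𝒯, mem_fs, Set.mem_ofPred_eq, SylIn]
  constructor
  · rintro ⟨⟨hHQ, hQp⟩, hnd⟩
    refine ⟨⟨le_top, hQp, ?_⟩, hHQ⟩
    apply not_dvd_relIndex_of_normalizer p le_top hQp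
    rwa [top_inf_eq]
  · rintro ⟨⟨_, hQp, hnd⟩, hHQ⟩
    refine ⟨⟨hHQ, hQp⟩, ?_⟩
    intro hd
    apply hnd
    have h2 := Subgroup.relIndex_mul_relIndex Q (Subgroup.normalizer (Q : Set G)) ⊤
      Subgroup.le_normalizer le_top
    rw [← h2]
    exact dvd_mul_of_dvd_left hd _


/-! ### conversion to the Sylow count -/

theorem card_normalizer_sylow_eq (P Q : Sylow p G) :
    Nat.card ↥(Subgroup.normalizer ((Q : Subgroup G) : Set G)) =
      Nat.card ↥(Subgroup.normalizer ((P : Subgroup G) : Set G)) := by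
  have h1 : Nat.card (Sylow p G) = (Subgroup.normalizer ((P : Subgroup G) : Set G)).index :=
    Sylow.card_eq_index_normalizer P
  have h2 : Nat.card (Sylow p G) = (Subgroup.normalizer ((Q : Subgroup G) : Set G)).index :=
    Sylow.card_eq_index_normalizer Q
  have h3 := Subgroup.card_mul_index (Subgroup.normalizer ((P : Subgroup G) : Set G))
  have h4 := Subgroup.card_mul_index (Subgroup.normalizer ((Q : Subgroup G) : Set G))
  rw [← h1] at h3
  rw [← h2, ← h3] at h4
  have hpos : 0 < Nat.card (Sylow p G) := Nat.card_pos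
  exact Nat.eq_of_mul_eq_mul_right hpos h4

theorem card_SubN_eq (H : Subgroup G) (P : Sylow p G) :
    Nat.card ↥(SubN p H) =
      Nat.card {Q : Sylow p G // H ≤ (Q : Subgroup G)} *
        Nat.card ↥(Subgroup.normalizer ((P : Subgroup G) : Set G)) := by
  have h1 := card_SubN p H
  have hterm : ∀ Q ∈ (fs (SylIn p ⊤)).filter (fun Q => H ≤ Q),
      (Nat.card ↥(Subgroup.normalizer (Q : Set G)) : ℤ) =
        (Nat.card ↥(Subgroup.normalizer ((P : Subgroup G) : Set G)) : ℤ) := by
    intro Q hQ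
    rw [Finset.mem_filter, mem_fs] at hQ
    obtain ⟨⟨_, hQp, hnd⟩, _⟩ := hQ
    rw [Subgroup.relIndex_top_right] at hnd
    have := card_normalizer_sylow_eq p P (hQp.toSylow hnd)
    exact_mod_cast this
  rw [Finset.sum_congr rfl hterm, Finset.sum_const, nsmul_eq_mul] at h1
  have hF : ((fs (SylIn p ⊤)).filter (fun Q => H ≤ Q)).card =
      Nat.card {Q : Sylow p G // H ≤ (Q : Subgroup G)} := by
    have h2 : (fs (SylIn p ⊤)).filter (fun Q => H ≤ Q) =
        fs {Q : Subgroup G | Q ∈ SylIn p (⊤ : Subgroup G) ∧ H ≤ Q} := by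
      ext Q
      simp
    rw [h2, card_fs]
    apply Nat.card_congr
    have hidx : ∀ Q : Subgroup G, Q ∈ SylIn p (⊤ : Subgroup G) → ¬ p ∣ Q.index := by
      intro Q hQ
      have := hQ.2.2
      rwa [Subgroup.relIndex_top_right] at this
    refine ⟨fun Q => ⟨(Q.2.1.2.1).toSylow (hidx Q.1 Q.2.1), Q.2.2⟩,
      fun Q => ⟨(Q.1 : Subgroup G), ⟨le_top, Q.1.isPGroup', ?_⟩, Q.2⟩, ?_, ?_⟩
    · rw [Subgroup.relIndex_top_right]
      exact Q.1.not_dvd_index
    · intro Q
      apply Subtype.ext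
      rfl
    · intro Q
      apply Subtype.ext
      apply Sylow.ext
      rfl
  rw [hF] at h1
  exact_mod_cast h1

end Cfsg.Agent.Lib.Helper63.Subnormalizer
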