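import Mathlib
import Cfsg.Agent.Lib.Helper63.Subnormalizer
import Cfsg.Agent.Lib.Helper54.Subnormal

set_option autoImplicit false
set_option linter.unusedSectionVars false

/-!
# The subnormalizer of a `p`-subgroup, in terms of normalized `p`-overgroups

`H` is subnormal in `⟨H, g⟩` iff `g` normalizes some `p`-subgroup containing `H`.
-/

namespace Cfsg.Agent.Lib.Helper63.Subnormalizer

open Classical

variable {G : Type*} [Group G] [Finite G] (p : ℕ) [Fact p.Prime]

theorem isSubnormal_iff_mem_SubN {H : Subgroup G} (hH : IsPGroup p H) (g : G) :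
    (H.subgroupOf (H ⊔ Subgroup.zpowers g)).IsSubnormal ↔ g ∈ SubN p H := by
  have hHK : H ≤ H ⊔ Subgroup.zpowers g := le_sup_left
  have hgK : g ∈ H ⊔ Subgroup.zpowers g :=
    (le_sup_right : Subgroup.zpowers g ≤ H ⊔ Subgroup.zpowers g) (Subgroup.mem_zpowers g)
  constructor
  · intro hs
    have hp' : IsPGroup p ↥(H.subgroupOf (H ⊔ Subgroup.zpowers g)) := isPGroup_subgroupOf p hH _
    have hle := Cfsg.Agent.Lib.Helper54.le_pCore_of_isSubnormal_of_isPGroup hs hp'
    refine ⟨Cfsg.pCoreOf p (H ⊔ Subgroup.zpowers g), ?_,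
      Cfsg.Agent.Lib.Helper54.isPGroup_pCoreOf p _,
      Cfsg.Agent.Lib.Helper54.le_normalizer_pCoreOf p _ hgK⟩
    intro x hx
    exact ⟨⟨x, hHK hx⟩, hle (Subgroup.mem_subgroupOf.2 hx), rfl⟩
  · rintro ⟨T, hHT, hT, hgT⟩
    have hKN : H ⊔ Subgroup.zpowers g ≤ Subgroup.normalizer (T : Set G) := by
      apply sup_le
      · exact hHT.trans Subgroup.le_normalizer
      · rw [Subgroup.zpowers_le]; exact hgT
    have hBn : (T.subgroupOf (H ⊔ Subgroup.zpowers g)).Normal := by
      constructor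
      intro n hn k
      have hk := hKN k.2
      rw [Subgroup.mem_normalizer_iff] at hk
      exact (hk n).1 hn
    have hBp : IsPGroup p ↥(T.subgroupOf (H ⊔ Subgroup.zpowers g)) := isPGroup_subgroupOf p hT _
    have hHB : H.subgroupOf (H ⊔ Subgroup.zpowers g) ≤ T.subgroupOf (H ⊔ Subgroup.zpowers g) :=
      fun x hx => hHT hx
    have h1 : ((H.subgroupOf (H ⊔ Subgroup.zpowers g)).subgroupOf
        (T.subgroupOf (H ⊔ Subgroup.zpowers g))).IsSubnormal :=
      Cfsg.Agent.Lib.Helper54.isSubnormal_of_isPGroup hBp _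
    exact Subgroup.IsSubnormal.trans hHB h1 hBn.isSubnormal

theorem card_subnormalizer_eq {H : Subgroup G} (hH : IsPGroup p H) (P : Sylow p G) :
    Nat.card {g : G // (H.subgroupOf (H ⊔ Subgroup.zpowers g)).IsSubnormal} =
      Nat.card {Q : Sylow p G // H ≤ (Q : Subgroup G)} *
        Nat.card ↥(Subgroup.normalizer ((P : Subgroup G) : Set G)) := by
  rw [← card_SubN_eq p H P]
  apply Nat.card_congr
  exact Equiv.subtypeEquivRight (fun g => isSubnormal_iff_mem_SubN p hH g)

end Cfsg.Agent.Lib.Helper63.Subnormalizer
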