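import Mathlib

set_option autoImplicit false
set_option linter.unusedSectionVars false

namespace Cfsg.Agent.Lib.Helper63.TIAbs

open Finset

variable {I : Type*} [DecidableEq I]

theorem int_sq_le_two {x : ℤ} (h : x * x ≤ 2) : x = 0 ∨ x = 1 ∨ x = -1 := by
  have h1 : x ≤ 1 := by nlinarith
  have h2 : -1 ≤ x := by nlinarith
  omega

theorem int_sq_le_three {x : ℤ} (h : x * x ≤ 3) : x = 0 ∨ x = 1 ∨ x = -1 := by
  have h1 : x ≤ 1 := by nlinarith
  have h2 : -1 ≤ x := by nlinarith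
  omega

/-- an integer family with square sum `1` has one entry `±1`, the others zero. -/
theorem sq_sum_one (s : Finset I) (v : I → ℤ) (h : ∑ i ∈ s, v i * v i = 1) :
    ∃ a ∈ s, (v a = 1 ∨ v a = -1) ∧ ∀ i ∈ s, i ≠ a → v i = 0 := by
  have hex : ∃ a ∈ s, v a ≠ 0 := by
    by_contra hcon
    push Not at hcon
    have : ∑ i ∈ s, v i * v i = 0 := Finset.sum_eq_zero (fun i hi => by rw [hcon i hi]; ring)
    omega
  obtain ⟨a, ha, hva⟩ := hex
  have hsplit := Finset.add_sum_erase s (fun i => v i * v i) ha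
  have hnn : 0 ≤ ∑ i ∈ s.erase a, v i * v i := Finset.sum_nonneg (fun i _ => mul_self_nonneg _)
  have hpos : 1 ≤ v a * v a := by
    have : 0 < v a * v a := mul_self_pos.mpr hva
    omega
  have hva1 : v a * v a = 1 := by omega
  have hrest : ∑ i ∈ s.erase a, v i * v i = 0 := by omega
  refine ⟨a, ha, ?_, ?_⟩
  · have := int_sq_le_two (x := v a) (by omega)
    rcases this with h0 | h0 | h0
    · exact absurd h0 hva
    · exact Or.inl h0
    · exact Or.inr h0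
  · intro i hi hia
    have := (Finset.sum_eq_zero_iff_of_nonneg (fun i _ => mul_self_nonneg (v i))).mp hrest i
      (Finset.mem_erase.mpr ⟨hia, hi⟩)
    exact mul_self_eq_zero.mp this

/-- an integer family with square sum `2` has two entries `±1`, the others zero. -/
theorem sq_sum_two (s : Finset I) (v : I → ℤ) (h : ∑ i ∈ s, v i * v i = 2) :
    ∃ a ∈ s, ∃ b ∈ s, a ≠ b ∧ (v a = 1 ∨ v a = -1) ∧ (v b = 1 ∨ v b = -1) ∧
      ∀ i ∈ s, i ≠ a → i ≠ b → v i = 0 := by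
  have hex : ∃ a ∈ s, v a ≠ 0 := by
    by_contra hcon
    push Not at hcon
    have : ∑ i ∈ s, v i * v i = 0 := Finset.sum_eq_zero (fun i hi => by rw [hcon i hi]; ring)
    omega
  obtain ⟨a, ha, hva⟩ := hex
  have hsplit := Finset.add_sum_erase s (fun i => v i * v i) ha
  have hnn : 0 ≤ ∑ i ∈ s.erase a, v i * v i := Finset.sum_nonneg (fun i _ => mul_self_nonneg _)
  have hpos : 1 ≤ v a * v a := by
    have : 0 < v a * v a := mul_self_pos.mpr hva
    omega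
  have hle : v a * v a ≤ 2 := by omega
  have hva' := int_sq_le_two hle
  have hva1 : v a * v a = 1 := by
    rcases hva' with h0 | h0 | h0
    · exact absurd h0 hva
    · rw [h0]; norm_num
    · rw [h0]; norm_num
  have hrest : ∑ i ∈ s.erase a, v i * v i = 1 := by omega
  obtain ⟨b, hb, hvb, hz⟩ := sq_sum_one (s.erase a) v hrest
  refine ⟨a, ha, b, Finset.mem_of_mem_erase hb, (Finset.ne_of_mem_erase hb).symm, ?_, hvb, ?_⟩
  · rcases hva' with h0 | h0 | h0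
    · exact absurd h0 hva
    · exact Or.inl h0
    · exact Or.inr h0
  · intro i hi hia hib
    exact hz i (Finset.mem_erase.mpr ⟨hia, hi⟩) hib

theorem sum_three [Fintype I] {R : Type*} [CommRing R] (z f : I → R) (o a b : I) (hoa : a ≠ o)
    (hob : b ≠ o) (hab : a ≠ b) (h0 : ∀ i, i ≠ o → i ≠ a → i ≠ b → z i = 0) :
    ∑ i, z i * f i = z o * f o + z a * f a + z b * f b := by
  have hpt : ∀ i, z i * f i = (if i = o then z o * f o else 0) + (if i = a then z a * f a else 0)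
      + (if i = b then z b * f b else 0) := by
    intro i
    by_cases h1 : i = o
    · subst h1
      rw [if_pos rfl, if_neg hoa.symm, if_neg hob.symm]; ring
    · by_cases h2 : i = a
      · subst h2
        rw [if_neg h1, if_pos rfl, if_neg hab]; ring
      · by_cases h3 : i = b
        · subst h3
          rw [if_neg h1, if_neg h2, if_pos rfl]; ring
        · rw [if_neg h1, if_neg h2, if_neg h3, h0 i h1 h2 h3]; ring
  rw [Finset.sum_congr rfl (fun i _ => hpt i), Finset.sum_add_distrib, Finset.sum_add_distrib,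
    Finset.sum_ite_eq', Finset.sum_ite_eq', Finset.sum_ite_eq']
  simp


/-- shape of a coefficient vector of norm three with coefficient one at the trivial index and total
degree zero. -/
theorem shape [Fintype I] (z d : I → ℤ) (o : I) (hz : ∑ i, z i * z i = 3) (ho : z o = 1)
    (hd : ∀ i, 1 ≤ d i) (hd1 : ∀ i, d i = 1 → i = o) (hdo : d o = 1)
    (hdeg : ∑ i, z i * d i = 0) :
    ∃ a b, a ≠ o ∧ b ≠ o ∧ a ≠ b ∧ z a = 1 ∧ z b = -1 ∧
      (∀ i, i ≠ o → i ≠ a → i ≠ b → z i = 0) ∧ d b = d a + 1 := by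
  have hsplit := Finset.add_sum_erase Finset.univ (fun i => z i * z i) (Finset.mem_univ o)
  simp only [ho] at hsplit
  have h2 : ∑ i ∈ Finset.univ.erase o, z i * z i = 2 := by omega
  obtain ⟨a, ha, b, hb, hab, hva, hvb, h0⟩ := sq_sum_two _ z h2
  have hao : a ≠ o := Finset.ne_of_mem_erase ha
  have hbo : b ≠ o := Finset.ne_of_mem_erase hb
  have h0' : ∀ i, i ≠ o → i ≠ a → i ≠ b → z i = 0 := fun i h1 h2 h3 =>
    h0 i (Finset.mem_erase.mpr ⟨h1, Finset.mem_univ i⟩) h2 h3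
  have hs := sum_three z d o a b hao hbo hab h0'
  rw [hdeg, ho, hdo] at hs
  have hda : 2 ≤ d a := by
    have := hd a
    by_contra hcon
    exact hao (hd1 a (by omega))
  have hdb : 2 ≤ d b := by
    have := hd b
    by_contra hcon
    exact hbo (hd1 b (by omega))
  rcases hva with hva | hva <;> rcases hvb with hvb | hvb
  · rw [hva, hvb] at hs; omega
  · exact ⟨a, b, hao, hbo, hab, hva, hvb, h0', by rw [hva, hvb] at hs; omega⟩
  · refine ⟨b, a, hbo, hao, hab.symm, hvb, hva, fun i h1 h2 h3 => h0' i h1 h3 h2, ?_⟩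
    rw [hva, hvb] at hs; omega
  · rw [hva, hvb] at hs; omega


/-- four distinct nonzero entries force square sum at least four -/
theorem four_le_sq_sum (s : Finset I) (w : I → ℤ) (a b c e : I) (ha : a ∈ s) (hb : b ∈ s)
    (hc : c ∈ s) (he : e ∈ s) (hab : a ≠ b) (hac : a ≠ c) (hae : a ≠ e) (hbc : b ≠ c)
    (hbe : b ≠ e) (hce : c ≠ e) (wa : w a ≠ 0) (wb : w b ≠ 0) (wc : w c ≠ 0) (we : w e ≠ 0) :
    4 ≤ ∑ i ∈ s, w i * w i := by
  set T : Finset I := {a, b, c, e} with hT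
  have hTs : T ⊆ s := by
    intro x hx
    simp only [hT, Finset.mem_insert, Finset.mem_singleton] at hx
    rcases hx with rfl | rfl | rfl | rfl <;> assumption
  have hcard : T.card = 4 := by
    rw [hT, Finset.card_insert_of_notMem, Finset.card_insert_of_notMem,
      Finset.card_insert_of_notMem, Finset.card_singleton]
    · simp [hce]
    · simp [hbc, hbe]
    · simp [hab, hac, hae]
  have h1 : ∀ x ∈ T, (1 : ℤ) ≤ w x * w x := by
    intro x hx
    simp only [hT, Finset.mem_insert, Finset.mem_singleton] at hx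
    have hx0 : w x ≠ 0 := by rcases hx with rfl | rfl | rfl | rfl <;> assumption
    have : 0 < w x * w x := mul_self_pos.mpr hx0
    omega
  have h2 := Finset.card_nsmul_le_sum T (fun x => w x * w x) 1 h1
  have h3 : ∑ i ∈ T, w i * w i ≤ ∑ i ∈ s, w i * w i :=
    Finset.sum_le_sum_of_subset_of_nonneg hTs (fun i _ _ => mul_self_nonneg _)
  rw [hcard] at h2
  simp only [nsmul_eq_mul, Nat.cast_ofNat, mul_one] at h2
  omega

theorem exists_notMem_of_card_lt {D : Type*} [Fintype D] [DecidableEq D] (S : Finset D)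
    (h : S.card < Fintype.card D) : ∃ μ, μ ∉ S := by
  by_contra hcon
  push Not at hcon
  have : S = Finset.univ := Finset.eq_univ_iff_forall.mpr hcon
  rw [this, Finset.card_univ] at h
  exact lt_irrefl _ h


theorem arithA (c m x : ℤ) (hc : 10 ≤ c) (hm : m = c ^ 2 - c + 1) (hx : 2 ≤ x)
    (h : m * (x - 1) ^ 2 = 2 * c ^ 2 * x * (x + 1)) : False := by
  subst hm
  have h1 : 0 < c ^ 2 - c + 1 := by nlinarith
  have h2 : c ^ 2 - c + 1 < 2 * c ^ 2 := by nlinarith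
  have h3 : (x - 1) ^ 2 < x * (x + 1) := by nlinarith
  have h4 : 0 < x * (x + 1) := by nlinarith
  have h5 : 0 ≤ (x - 1) ^ 2 := sq_nonneg _
  have : (c ^ 2 - c + 1) * (x - 1) ^ 2 < 2 * c ^ 2 * (x * (x + 1)) := by
    calc (c ^ 2 - c + 1) * (x - 1) ^ 2 ≤ (c ^ 2 - c + 1) * (x * (x + 1)) := by
          apply mul_le_mul_of_nonneg_left (le_of_lt h3) (le_of_lt h1)
      _ < 2 * c ^ 2 * (x * (x + 1)) := by
          apply mul_lt_mul_of_pos_right h2 h4
  nlinarith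

theorem arithB (c m x : ℤ) (hc : 10 ≤ c) (hm : m = c ^ 2 - c + 1) (hx : 3 ≤ x)
    (h : m * (x + 1) ^ 2 = 2 * c ^ 2 * x * (x - 1)) : False := by
  subst hm
  by_cases hx5 : 5 ≤ x
  · have h1 : 0 < c ^ 2 - c + 1 := by nlinarith
    have h2 : 9 * (c ^ 2 - c + 1) < 10 * c ^ 2 := by nlinarith
    have h3 : 5 * (x + 1) ^ 2 ≤ 9 * (x * (x - 1)) := by nlinarith
    have h4 : 0 < x * (x - 1) := by nlinarith
    have : 5 * ((c ^ 2 - c + 1) * (x + 1) ^ 2) < 5 * (2 * c ^ 2 * (x * (x - 1))) := by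
      calc 5 * ((c ^ 2 - c + 1) * (x + 1) ^ 2) = (c ^ 2 - c + 1) * (5 * (x + 1) ^ 2) := by ring
        _ ≤ (c ^ 2 - c + 1) * (9 * (x * (x - 1))) :=
            mul_le_mul_of_nonneg_left h3 (le_of_lt h1)
        _ = (9 * (c ^ 2 - c + 1)) * (x * (x - 1)) := by ring
        _ < (10 * c ^ 2) * (x * (x - 1)) := mul_lt_mul_of_pos_right h2 h4
        _ = 5 * (2 * c ^ 2 * (x * (x - 1))) := by ring
    nlinarith
  · have hx' : x = 3 ∨ x = 4 := by omega
    rcases hx' with rfl | rfl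
    · have : (c - 2) ^ 2 = 0 := by nlinarith
      have : c - 2 = 0 := by exact pow_eq_zero_iff (by norm_num) |>.mp this
      omega
    · have h1 : c ^ 2 - 25 * c + 25 = 0 := by nlinarith
      have h2 : c ≤ 25 := by nlinarith
      interval_cases c <;> omega

section Main

variable {D : Type*} [Fintype I] [CommGroup D] [Fintype D] [DecidableEq D]
  (o : I) (lam : D) (z : D → I → ℤ) (d : I → ℤ)
  (hlam : ∀ μ : D, μ * μ = 1 ↔ μ = 1 ∨ μ = lam)
  (hG1 : ∀ μ ν, μ ≠ 1 → ν ≠ 1 → ∑ i, z μ i * z ν i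
      = 2 + (if μ = ν then 1 else 0) + (if μ = ν⁻¹ then 1 else 0))
  (hG2 : ∀ μ, μ ≠ 1 → z μ o = 1)
  (hd : ∀ i, 1 ≤ d i) (hd1 : ∀ i, d i = 1 → i = o) (hdo : d o = 1)
  (hG3 : ∀ μ, μ ≠ 1 → ∑ i, z μ i * d i = 0)

include hlam in
theorem lam_inv : lam⁻¹ = lam := by
  have h := (hlam lam).mpr (Or.inr rfl)
  exact (eq_inv_of_mul_eq_one_left h).symm

include hlam in
theorem nr_inv (μ : D) (h1 : μ ≠ 1) (h2 : μ ≠ lam) : μ⁻¹ ≠ μ ∧ μ⁻¹ ≠ 1 ∧ μ⁻¹ ≠ lam := by
  refine ⟨?_, ?_, ?_⟩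
  · intro h
    have : μ * μ = 1 := by
      nth_rewrite 1 [← h]
      exact inv_mul_cancel μ
    rcases (hlam μ).mp this with h' | h'
    · exact h1 h'
    · exact h2 h'
  · intro h
    exact h1 (inv_eq_one.mp h)
  · intro h
    apply h2
    rw [← inv_inv μ, h, lam_inv lam hlam]

include hlam hG1 in
theorem z_inv (μ : D) (h1 : μ ≠ 1) (h2 : μ ≠ lam) : z μ⁻¹ = z μ := by
  obtain ⟨h3, h4, h5⟩ := nr_inv lam hlam μ h1 h2
  have n1 := hG1 μ μ h1 h1
  have n2 := hG1 μ⁻¹ μ⁻¹ h4 h4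
  have n3 := hG1 μ μ⁻¹ h1 h4
  rw [if_pos rfl, if_neg (Ne.symm h3)] at n1
  rw [if_pos rfl, inv_inv, if_neg h3] at n2
  rw [if_neg (Ne.symm h3), inv_inv, if_pos rfl] at n3
  have hsum : ∑ i, (z μ i - z μ⁻¹ i) * (z μ i - z μ⁻¹ i) = 0 := by
    have : ∀ i, (z μ i - z μ⁻¹ i) * (z μ i - z μ⁻¹ i)
        = z μ i * z μ i - 2 * (z μ i * z μ⁻¹ i) + z μ⁻¹ i * z μ⁻¹ i := fun i => by ring
    rw [Finset.sum_congr rfl (fun i _ => this i), Finset.sum_add_distrib, Finset.sum_sub_distrib,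
      ← Finset.mul_sum, n1, n2, n3]
    norm_num
  funext i
  have := (Finset.sum_eq_zero_iff_of_nonneg (fun i _ => mul_self_nonneg (z μ i - z μ⁻¹ i))).mp hsum i
    (Finset.mem_univ i)
  have := mul_self_eq_zero.mp this
  omega

include hlam hG1 hG2 hd hd1 hdo hG3 in
theorem exists_PM : ∃ P M : D → I, ∀ μ, (μ ≠ 1 ∧ μ ≠ lam) →
    P μ ≠ o ∧ M μ ≠ o ∧ P μ ≠ M μ ∧ z μ (P μ) = 1 ∧ z μ (M μ) = -1 ∧
      (∀ i, i ≠ o → i ≠ P μ → i ≠ M μ → z μ i = 0) ∧ d (M μ) = d (P μ) + 1 := by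
  have key : ∀ μ, (μ ≠ 1 ∧ μ ≠ lam) → ∃ a b, a ≠ o ∧ b ≠ o ∧ a ≠ b ∧ z μ a = 1 ∧ z μ b = -1 ∧
      (∀ i, i ≠ o → i ≠ a → i ≠ b → z μ i = 0) ∧ d b = d a + 1 := by
    rintro μ ⟨h1, h2⟩
    obtain ⟨h3, h4, h5⟩ := nr_inv lam hlam μ h1 h2
    have n1 := hG1 μ μ h1 h1
    rw [if_pos rfl, if_neg (Ne.symm h3)] at n1
    exact shape (z μ) d o (by rw [n1]; norm_num) (hG2 μ h1) hd hd1 hdo (hG3 μ h1)
  have : Nonempty I := ⟨o⟩
  choose! P M hPM using key
  exact ⟨P, M, hPM⟩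

section PM

variable (P M : D → I)
  (hPM : ∀ μ, (μ ≠ 1 ∧ μ ≠ lam) →
    P μ ≠ o ∧ M μ ≠ o ∧ P μ ≠ M μ ∧ z μ (P μ) = 1 ∧ z μ (M μ) = -1 ∧
      (∀ i, i ≠ o → i ≠ P μ → i ≠ M μ → z μ i = 0) ∧ d (M μ) = d (P μ) + 1)

include hG2 hPM in
theorem val (μ : D) (h1 : μ ≠ 1) (h2 : μ ≠ lam) (i : I) :
    z μ i = if i = o then 1 else if i = P μ then 1 else if i = M μ then -1 else 0 := by
  obtain ⟨p1, p2, p3, p4, p5, p6, p7⟩ := hPM μ ⟨h1, h2⟩
  by_cases e1 : i = o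
  · rw [if_pos e1, e1, hG2 μ h1]
  · rw [if_neg e1]
    by_cases e2 : i = P μ
    · rw [if_pos e2, e2, p4]
    · rw [if_neg e2]
      by_cases e3 : i = M μ
      · rw [if_pos e3, e3, p5]
      · rw [if_neg e3, p6 i e1 e2 e3]

include hG2 hPM in
theorem PM_eq_of_z_eq (μ ν : D) (h1 : μ ≠ 1) (h2 : μ ≠ lam) (k1 : ν ≠ 1) (k2 : ν ≠ lam)
    (h : z μ = z ν) : P μ = P ν ∧ M μ = M ν := by
  obtain ⟨p1, p2, p3, p4, p5, p6, p7⟩ := hPM μ ⟨h1, h2⟩
  obtain ⟨q1, q2, q3, q4, q5, q6, q7⟩ := hPM ν ⟨k1, k2⟩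
  constructor
  · have e := val o lam z d hG2 P M hPM ν k1 k2 (P μ)
    rw [← h, p4, if_neg p1] at e
    by_contra hne
    rw [if_neg hne] at e
    by_cases e3 : P μ = M ν
    · rw [if_pos e3] at e; omega
    · rw [if_neg e3] at e; omega
  · have e := val o lam z d hG2 P M hPM ν k1 k2 (M μ)
    rw [← h, p5, if_neg p2] at e
    by_contra hne
    by_cases e2 : M μ = P ν
    · rw [if_pos e2] at e; omega
    · rw [if_neg e2, if_neg hne] at e; omega

include hlam hG1 in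
theorem z_ne_of_unrelated (μ ν : D) (h1 : μ ≠ 1) (h2 : μ ≠ lam) (k1 : ν ≠ 1)
    (u1 : ν ≠ μ) (u2 : ν ≠ μ⁻¹) : z μ ≠ z ν := by
  intro h
  obtain ⟨h3, h4, h5⟩ := nr_inv lam hlam μ h1 h2
  have n1 := hG1 μ μ h1 h1
  rw [if_pos rfl, if_neg (Ne.symm h3)] at n1
  have n2 := hG1 μ ν h1 k1
  have u2' : μ ≠ ν⁻¹ := by
    intro e
    apply u2
    rw [e, inv_inv]
  rw [if_neg (Ne.symm u1), if_neg u2', ← h, n1] at n2
  omega

include hlam hG1 hG2 hPM in
/-- two unrelated non-real indices share exactly one of their two special positions -/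
theorem pair (μ ν : D) (h1 : μ ≠ 1) (h2 : μ ≠ lam) (k1 : ν ≠ 1) (k2 : ν ≠ lam)
    (u1 : ν ≠ μ) (u2 : ν ≠ μ⁻¹) :
    (P μ = P ν ∧ M μ ≠ M ν) ∨ (P μ ≠ P ν ∧ M μ = M ν) := by
  obtain ⟨p1, p2, p3, p4, p5, p6, p7⟩ := hPM μ ⟨h1, h2⟩
  obtain ⟨q1, q2, q3, q4, q5, q6, q7⟩ := hPM ν ⟨k1, k2⟩
  have n2 := hG1 μ ν h1 k1
  have u2' : μ ≠ ν⁻¹ := by
    intro e
    apply u2
    rw [e, inv_inv]
  rw [if_neg (Ne.symm u1), if_neg u2'] at n2
  rw [sum_three (z μ) (z ν) o (P μ) (M μ) p1 p2 p3 p6, hG2 μ h1, hG2 ν k1, p4, p5] at n2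
  have eP := val o lam z d hG2 P M hPM ν k1 k2 (P μ)
  have eM := val o lam z d hG2 P M hPM ν k1 k2 (M μ)
  rw [if_neg p1] at eP
  rw [if_neg p2] at eM
  -- cross equalities are impossible
  have c1 : P μ ≠ M ν := by
    intro e
    have d1 : d (P μ) = d (P ν) + 1 := by rw [e, q7]
    have e2 : P μ ≠ P ν := by rw [e]; exact Ne.symm q3
    rw [if_neg e2, if_pos e] at eP
    have e3 : M μ ≠ P ν := by
      intro e'
      have : d (M μ) = d (P ν) := by rw [e']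
      omega
    have e4 : M μ ≠ M ν := by rw [← e]; exact Ne.symm p3
    rw [if_neg e3, if_neg e4] at eM
    rw [eP, eM] at n2
    omega
  have c2 : M μ ≠ P ν := by
    intro e
    have d1 : d (P ν) = d (P μ) + 1 := by rw [← e, p7]
    have e2 : P μ ≠ P ν := by
      intro e'
      have : d (P μ) = d (P ν) := by rw [e']
      omega
    rw [if_neg e2, if_neg c1] at eP
    rw [if_pos e] at eM
    rw [eP, eM] at n2
    omega
  rw [if_neg c1] at eP
  rw [if_neg c2] at eM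
  by_cases a1 : P μ = P ν
  · left
    refine ⟨a1, ?_⟩
    intro a2
    rw [if_pos a1] at eP
    rw [if_pos a2] at eM
    rw [eP, eM] at n2
    omega
  · right
    refine ⟨a1, ?_⟩
    by_contra a2
    rw [if_neg a1] at eP
    rw [if_neg a2] at eM
    rw [eP, eM] at n2
    omega

end PM

end Main

end Cfsg.Agent.Lib.Helper63.TIAbs
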