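import Cfsg.Agent.Lib.Helper63.TIAbs

set_option autoImplicit false
set_option linter.unusedSectionVars false

namespace Cfsg.Agent.Lib.Helper63.TIAbs

open Finset

variable {I : Type*} [DecidableEq I]

section Main

variable {D : Type*} [Fintype I] [CommGroup D] [Fintype D] [DecidableEq D]
  (o : I) (lam : D) (z : D → I → ℤ) (d : I → ℤ)
  (hlam : ∀ μ : D, μ * μ = 1 ↔ μ = 1 ∨ μ = lam)
  (hG1 : ∀ μ ν, μ ≠ 1 → ν ≠ 1 → ∑ i, z μ i * z ν i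
      = 2 + (if μ = ν then 1 else 0) + (if μ = ν⁻¹ then 1 else 0))
  (hG2 : ∀ μ, μ ≠ 1 → z μ o = 1)
  (hd : ∀ i, 1 ≤ d i) (hd1 : ∀ i, d i = 1 → i = o) (hdo : d o = 1)
  (hG3 : ∀ μ, μ ≠ 1 → ∑ i, z μ i * d i = 0)
  (P M : D → I)
  (hPM : ∀ μ, (μ ≠ 1 ∧ μ ≠ lam) →
    P μ ≠ o ∧ M μ ≠ o ∧ P μ ≠ M μ ∧ z μ (P μ) = 1 ∧ z μ (M μ) = -1 ∧
      (∀ i, i ≠ o → i ≠ P μ → i ≠ M μ → z μ i = 0) ∧ d (M μ) = d (P μ) + 1)

include hlam hG1 hG2 hPM in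
theorem PM_of_related (μ ν : D) (h1 : μ ≠ 1) (h2 : μ ≠ lam) (h : ν = μ ∨ ν = μ⁻¹) :
    z ν = z μ ∧ P ν = P μ ∧ M ν = M μ := by
  rcases h with rfl | rfl
  · exact ⟨rfl, rfl, rfl⟩
  · have hz := z_inv lam z hlam hG1 μ h1 h2
    obtain ⟨h3, h4, h5⟩ := nr_inv lam hlam μ h1 h2
    exact ⟨hz, PM_eq_of_z_eq o lam z d hG2 P M hPM μ⁻¹ μ h4 h5 h1 h2 hz⟩

include hlam hG1 hG2 hPM in
theorem starA (μ1 μ2 : D) (a1 : μ1 ≠ 1) (a2 : μ1 ≠ lam) (b1 : μ2 ≠ 1) (b2 : μ2 ≠ lam)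
    (u1 : μ2 ≠ μ1) (u2 : μ2 ≠ μ1⁻¹) (hP : P μ1 = P μ2) (μ : D) (h1 : μ ≠ 1) (h2 : μ ≠ lam) :
    P μ = P μ1 := by
  by_cases r1 : μ = μ1 ∨ μ = μ1⁻¹
  · exact (PM_of_related o lam z d hlam hG1 hG2 P M hPM μ1 μ a1 a2 r1).2.1
  by_cases r2 : μ = μ2 ∨ μ = μ2⁻¹
  · rw [hP]
    exact (PM_of_related o lam z d hlam hG1 hG2 P M hPM μ2 μ b1 b2 r2).2.1
  push Not at r1 r2
  have p12 := pair o lam z d hlam hG1 hG2 P M hPM μ1 μ2 a1 a2 b1 b2 u1 u2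
  have p1 := pair o lam z d hlam hG1 hG2 P M hPM μ1 μ a1 a2 h1 h2 r1.1 r1.2
  have p2 := pair o lam z d hlam hG1 hG2 P M hPM μ2 μ b1 b2 h1 h2 r2.1 r2.2
  rcases p1 with ⟨e, _⟩ | ⟨_, e1⟩
  · exact e.symm
  rcases p2 with ⟨e, _⟩ | ⟨_, e2⟩
  · rw [hP]; exact e.symm
  rcases p12 with ⟨_, ne⟩ | ⟨ne, _⟩
  · exact absurd (e1.trans e2.symm) ne
  · exact absurd hP ne

include hlam hG1 hG2 hPM in
theorem starB (μ1 μ2 : D) (a1 : μ1 ≠ 1) (a2 : μ1 ≠ lam) (b1 : μ2 ≠ 1) (b2 : μ2 ≠ lam)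
    (u1 : μ2 ≠ μ1) (u2 : μ2 ≠ μ1⁻¹) (hM : M μ1 = M μ2) (μ : D) (h1 : μ ≠ 1) (h2 : μ ≠ lam) :
    M μ = M μ1 := by
  by_cases r1 : μ = μ1 ∨ μ = μ1⁻¹
  · exact (PM_of_related o lam z d hlam hG1 hG2 P M hPM μ1 μ a1 a2 r1).2.2
  by_cases r2 : μ = μ2 ∨ μ = μ2⁻¹
  · rw [hM]
    exact (PM_of_related o lam z d hlam hG1 hG2 P M hPM μ2 μ b1 b2 r2).2.2
  push Not at r1 r2
  have p12 := pair o lam z d hlam hG1 hG2 P M hPM μ1 μ2 a1 a2 b1 b2 u1 u2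
  have p1 := pair o lam z d hlam hG1 hG2 P M hPM μ1 μ a1 a2 h1 h2 r1.1 r1.2
  have p2 := pair o lam z d hlam hG1 hG2 P M hPM μ2 μ b1 b2 h1 h2 r2.1 r2.2
  rcases p1 with ⟨e1, _⟩ | ⟨_, e⟩
  swap
  · exact e.symm
  rcases p2 with ⟨e2, _⟩ | ⟨_, e⟩
  swap
  · rw [hM]; exact e.symm
  rcases p12 with ⟨_, ne⟩ | ⟨ne, _⟩
  · exact absurd hM ne
  · exact absurd (e1.trans e2.symm) ne

end Main

section Tau

variable {D : Type*} [Fintype I] [CommGroup D] [Fintype D] [DecidableEq D]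
  (sgn : D → ℤ) (z : D → I → ℤ) (τ : I → ℤ)
  (hsgn_inv : ∀ μ, sgn μ⁻¹ = sgn μ) (hsgn1 : sgn 1 = 1)
  (hsgnsum : ∑ μ, sgn μ = 0)
  (hG4 : ∀ i, τ i = - ∑ μ, (if μ = 1 then 0 else sgn μ * z μ i))

include hsgn1 hsgnsum hG4 in
theorem tau_const (i : I) (ε : ℤ) (h : ∀ μ, μ ≠ 1 → z μ i = ε) : τ i = ε := by
  rw [hG4 i]
  have hpt : ∀ μ : D, (if μ = 1 then 0 else sgn μ * z μ i)
      = ε * sgn μ - (if μ = 1 then ε else 0) := by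
    intro μ
    by_cases e : μ = 1
    · rw [if_pos e, if_pos e, e, hsgn1]; ring
    · rw [if_neg e, if_neg e, h μ e]; ring
  rw [Finset.sum_congr rfl (fun μ _ => hpt μ), Finset.sum_sub_distrib, ← Finset.mul_sum, hsgnsum,
    Finset.sum_ite_eq']
  simp

include hsgn_inv hG4 in
theorem tau_two (i : I) (μ1 : D) (a1 : μ1 ≠ 1) (a3 : μ1⁻¹ ≠ μ1) (ε : ℤ)
    (h1 : ∀ μ, μ ≠ 1 → (μ = μ1 ∨ μ = μ1⁻¹) → z μ i = ε)
    (h0 : ∀ μ, μ ≠ 1 → μ ≠ μ1 → μ ≠ μ1⁻¹ → z μ i = 0) : τ i = - (2 * ε * sgn μ1) := by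
  rw [hG4 i]
  have a4 : μ1⁻¹ ≠ 1 := fun e => a1 (inv_eq_one.mp e)
  have hpt : ∀ μ : D, (if μ = 1 then 0 else sgn μ * z μ i)
      = (if μ = μ1 then ε * sgn μ1 else 0) + (if μ = μ1⁻¹ then ε * sgn μ1 else 0) := by
    intro μ
    by_cases e : μ = 1
    · rw [if_pos e, e, if_neg (Ne.symm a1), if_neg (Ne.symm a4)]; ring
    · rw [if_neg e]
      by_cases e1 : μ = μ1
      · rw [if_pos e1, e1, if_neg (Ne.symm a3), h1 μ1 a1 (Or.inl rfl)]; ring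
      · rw [if_neg e1]
        by_cases e2 : μ = μ1⁻¹
        · rw [if_pos e2, e2, hsgn_inv, h1 μ1⁻¹ a4 (Or.inr rfl)]; ring
        · rw [if_neg e2, h0 μ e e1 e2]; ring
  rw [Finset.sum_congr rfl (fun μ _ => hpt μ), Finset.sum_add_distrib, Finset.sum_ite_eq',
    Finset.sum_ite_eq']
  simp
  ring

end Tau

/-- the abstract contradiction: no coefficient system as produced by the characters `(1_C - μ)^G` exists. -/
theorem abs_contra {I D : Type*} [Fintype I] [DecidableEq I] [CommGroup D] [Fintype D]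
    [DecidableEq D]
    (o : I) (lam : D) (sgn : D → ℤ) (z : D → I → ℤ) (d τ : I → ℤ) (c m : ℤ)
    (hc : 10 ≤ c) (hcard : (Fintype.card D : ℤ) = c)
    (hlam : ∀ μ : D, μ * μ = 1 ↔ μ = 1 ∨ μ = lam) (hlam1 : lam ≠ 1)
    (hsgn_inv : ∀ μ, sgn μ⁻¹ = sgn μ) (hsgn1 : sgn 1 = 1)
    (hsgn : ∀ μ, sgn μ = 1 ∨ sgn μ = -1)
    (hsgnsum : ∑ μ, sgn μ = 0)
    (hG1 : ∀ μ ν, μ ≠ 1 → ν ≠ 1 → ∑ i, z μ i * z ν i
      = 2 + (if μ = ν then 1 else 0) + (if μ = ν⁻¹ then 1 else 0))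
    (hG2 : ∀ μ, μ ≠ 1 → z μ o = 1)
    (hd : ∀ i, 1 ≤ d i) (hd1 : ∀ i, d i = 1 → i = o) (hdo : d o = 1)
    (hG3 : ∀ μ, μ ≠ 1 → ∑ i, z μ i * d i = 0)
    (hG4 : ∀ i, τ i = - ∑ μ, (if μ = 1 then 0 else sgn μ * z μ i))
    (hG5 : ∀ μ, μ ≠ 1 →
      (m : ℚ) * ∑ i, (z μ i : ℚ) * ((τ i : ℚ) ^ 2 / (d i : ℚ)) = 2 * (c : ℚ) ^ 2)
    (hm : m = c ^ 2 - c + 1) : False := by
  obtain ⟨P, M, hPM⟩ := exists_PM o lam z d hlam hG1 hG2 hd hd1 hdo hG3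
  have hcardN : 10 ≤ Fintype.card D := by omega
  have hlaminv := lam_inv lam hlam
  -- choose four pairwise unrelated non-real elements
  obtain ⟨μ1, hμ1⟩ := exists_notMem_of_card_lt ({1, lam} : Finset D)
    (lt_of_le_of_lt Finset.card_le_two (by omega))
  obtain ⟨μ2, hμ2⟩ := exists_notMem_of_card_lt ({1, lam, μ1, μ1⁻¹} : Finset D)
    (lt_of_le_of_lt Finset.card_le_four (by omega))
  obtain ⟨μ3, hμ3⟩ := exists_notMem_of_card_lt ({1, lam, μ1, μ1⁻¹, μ2, μ2⁻¹} : Finset D)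
    (lt_of_le_of_lt Finset.card_le_six (by omega))
  obtain ⟨μ4, hμ4⟩ := exists_notMem_of_card_lt
    (insert μ3 (insert μ3⁻¹ ({1, lam, μ1, μ1⁻¹, μ2, μ2⁻¹} : Finset D)))
    (by
      have h6 : ({1, lam, μ1, μ1⁻¹, μ2, μ2⁻¹} : Finset D).card ≤ 6 := Finset.card_le_six
      have h7 := Finset.card_insert_le μ3⁻¹ ({1, lam, μ1, μ1⁻¹, μ2, μ2⁻¹} : Finset D)
      have h8 := Finset.card_insert_le μ3 (insert μ3⁻¹ ({1, lam, μ1, μ1⁻¹, μ2, μ2⁻¹} : Finset D))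
      omega)
  simp only [Finset.mem_insert, Finset.mem_singleton, not_or] at hμ1 hμ2 hμ3 hμ4
  obtain ⟨a1, a2⟩ := hμ1
  obtain ⟨b1, b2, b3, b4⟩ := hμ2
  obtain ⟨c1, c2, c3, c4, c5, c6⟩ := hμ3
  obtain ⟨e7, e8, e1, e2, e3, e4, e5, e6⟩ := hμ4
  -- the vector of `lam`
  have hw4 : ∑ i, z lam i * z lam i = 4 := by
    have := hG1 lam lam hlam1 hlam1
    rw [if_pos rfl, hlaminv, if_pos rfl] at this
    rw [this]; norm_num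
  have hwo : z lam o = 1 := hG2 lam hlam1
  have hw3 : ∑ i ∈ Finset.univ.erase o, z lam i * z lam i = 3 := by
    have hsplit := Finset.add_sum_erase Finset.univ (fun i => z lam i * z lam i) (Finset.mem_univ o)
    simp only [hwo] at hsplit
    omega
  have hwμ : ∀ μ, μ ≠ 1 → μ ≠ lam → z lam (P μ) - z lam (M μ) = 1 := by
    intro μ h1 h2
    obtain ⟨p1, p2, p3, p4, p5, p6, p7⟩ := hPM μ ⟨h1, h2⟩
    have := hG1 μ lam h1 hlam1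
    rw [if_neg h2, hlaminv, if_neg h2,
      sum_three (z μ) (z lam) o (P μ) (M μ) p1 p2 p3 p6, hG2 μ h1, hwo, p4, p5] at this
    omega
  have hmemo : ∀ i, i ≠ o → i ∈ Finset.univ.erase o := fun i hi =>
    Finset.mem_erase.mpr ⟨hi, Finset.mem_univ i⟩
  have hsgnsq : ∀ μ, (sgn μ) ^ 2 = 1 := by
    intro μ
    rcases hsgn μ with h | h <;> rw [h] <;> norm_num
  obtain ⟨h3, h4, h5⟩ := nr_inv lam hlam μ1 a1 a2
  have τo : τ o = 1 := tau_const sgn z τ hsgn1 hsgnsum hG4 o 1 hG2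
  have hTo : ((τ o : ℚ)) ^ 2 / (d o : ℚ) = 1 := by rw [τo, hdo]; norm_num
  obtain ⟨p1, p2, p3, p4, p5, p6, p7⟩ := hPM μ1 ⟨a1, a2⟩
  have hG5' := hG5 μ1 a1
  rw [sum_three (fun i => (z μ1 i : ℚ)) (fun i => (τ i : ℚ) ^ 2 / (d i : ℚ)) o (P μ1) (M μ1)
    p1 p2 p3 (fun i q1 q2 q3 => by show ((z μ1 i : ℤ) : ℚ) = 0; rw [p6 i q1 q2 q3]; norm_num)] at hG5'
  simp only [hG2 μ1 a1, p4, p5, hTo] at hG5'
  rcases pair o lam z d hlam hG1 hG2 P M hPM μ1 μ2 a1 a2 b1 b2 b3 b4 with ⟨hP, hMne⟩ | ⟨hPne, hM⟩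
  · -- case A : all share `P`
    set X := P μ1 with hXdef
    have hX : ∀ μ, μ ≠ 1 → μ ≠ lam → P μ = X := fun μ h1 h2 =>
      starA o lam z d hlam hG1 hG2 P M hPM μ1 μ2 a1 a2 b1 b2 b3 b4 hP μ h1 h2
    have Mdist : ∀ μ ν, μ ≠ 1 → μ ≠ lam → ν ≠ 1 → ν ≠ lam → ν ≠ μ → ν ≠ μ⁻¹ → M μ ≠ M ν := by
      intro μ ν h1 h2 k1 k2 u1 u2
      rcases pair o lam z d hlam hG1 hG2 P M hPM μ ν h1 h2 k1 k2 u1 u2 with ⟨_, ne⟩ | ⟨ne, _⟩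
      · exact ne
      · exact absurd ((hX μ h1 h2).trans (hX ν k1 k2).symm) ne
    have hwX : z lam X = 1 := by
      by_contra hne
      have hnz : ∀ μ, μ ≠ 1 → μ ≠ lam → z lam (M μ) ≠ 0 := by
        intro μ h1 h2
        have := hwμ μ h1 h2
        rw [hX μ h1 h2] at this
        omega
      have := four_le_sq_sum (Finset.univ.erase o) (z lam) (M μ1) (M μ2) (M μ3) (M μ4)
        (hmemo _ (hPM μ1 ⟨a1, a2⟩).2.1) (hmemo _ (hPM μ2 ⟨b1, b2⟩).2.1)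
        (hmemo _ (hPM μ3 ⟨c1, c2⟩).2.1) (hmemo _ (hPM μ4 ⟨e1, e2⟩).2.1)
        (Mdist μ1 μ2 a1 a2 b1 b2 b3 b4) (Mdist μ1 μ3 a1 a2 c1 c2 c3 c4)
        (Mdist μ1 μ4 a1 a2 e1 e2 e3 e4) (Mdist μ2 μ3 b1 b2 c1 c2 c5 c6)
        (Mdist μ2 μ4 b1 b2 e1 e2 e5 e6) (Mdist μ3 μ4 c1 c2 e1 e2 e7 e8)
        (hnz μ1 a1 a2) (hnz μ2 b1 b2) (hnz μ3 c1 c2) (hnz μ4 e1 e2)
      omega
    have hwM : ∀ μ, μ ≠ 1 → μ ≠ lam → z lam (M μ) = 0 := by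
      intro μ h1 h2
      have := hwμ μ h1 h2
      rw [hX μ h1 h2, hwX] at this
      omega
    have zX : ∀ μ, μ ≠ 1 → z μ X = 1 := by
      intro μ h1
      by_cases h2 : μ = lam
      · rw [h2]; exact hwX
      · rw [← hX μ h1 h2]; exact (hPM μ ⟨h1, h2⟩).2.2.2.1
    have τX : τ X = 1 := tau_const sgn z τ hsgn1 hsgnsum hG4 X 1 zX
    have zL1 : ∀ μ, μ ≠ 1 → (μ = μ1 ∨ μ = μ1⁻¹) → z μ (M μ1) = -1 := by
      intro μ _ hr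
      obtain ⟨hz, _, _⟩ := PM_of_related o lam z d hlam hG1 hG2 P M hPM μ1 μ a1 a2 hr
      rw [hz]; exact p5
    have zL0 : ∀ μ, μ ≠ 1 → μ ≠ μ1 → μ ≠ μ1⁻¹ → z μ (M μ1) = 0 := by
      intro μ h1 u1 u2
      by_cases h2 : μ = lam
      · rw [h2]; exact hwM μ1 a1 a2
      · rw [val o lam z d hG2 P M hPM μ h1 h2 (M μ1), if_neg p2, hX μ h1 h2,
          if_neg (Ne.symm p3), if_neg (Mdist μ1 μ a1 a2 h1 h2 u1 u2)]
    have τL : τ (M μ1) = - (2 * (-1) * sgn μ1) :=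
      tau_two sgn z τ hsgn_inv hG4 (M μ1) μ1 a1 h3 (-1) zL1 zL0
    have τL2 : (τ (M μ1)) ^ 2 = 4 := by
      rw [τL]
      have := hsgnsq μ1
      nlinarith
    have τL2q : ((τ (M μ1) : ℤ) : ℚ) ^ 2 = 4 := by exact_mod_cast τL2
    set x := d X with hxdef
    have hx2 : 2 ≤ x := by
      have := hd X
      by_contra hcon
      exact p1 (hd1 X (by omega))
    have hxq : (x : ℚ) ≠ 0 := by
      have : (0 : ℚ) < x := by exact_mod_cast (by omega : 0 < x)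
      exact ne_of_gt this
    have hx1q : (x : ℚ) + 1 ≠ 0 := by
      have : (0 : ℚ) < x := by exact_mod_cast (by omega : 0 < x)
      linarith
    rw [τX, τL2q, p7] at hG5'
    push_cast at hG5'
    have key : (1 * 1 + 1 * (1 ^ 2 / (x : ℚ)) + -1 * (4 / ((x : ℚ) + 1)))
        = ((x : ℚ) - 1) ^ 2 / ((x : ℚ) * ((x : ℚ) + 1)) := by
      field_simp
      ring
    rw [key, ← mul_div_assoc, div_eq_iff (mul_ne_zero hxq hx1q)] at hG5'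
    have hint : m * (x - 1) ^ 2 = 2 * c ^ 2 * x * (x + 1) := by
      have : ((m * (x - 1) ^ 2 : ℤ) : ℚ) = ((2 * c ^ 2 * x * (x + 1) : ℤ) : ℚ) := by
        push_cast
        linarith
      exact_mod_cast this
    exact arithA c m x hc hm hx2 hint
  · -- case B : all share `M`
    set X := M μ1 with hXdef
    have hX : ∀ μ, μ ≠ 1 → μ ≠ lam → M μ = X := fun μ h1 h2 =>
      starB o lam z d hlam hG1 hG2 P M hPM μ1 μ2 a1 a2 b1 b2 b3 b4 hM μ h1 h2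
    have Pdist : ∀ μ ν, μ ≠ 1 → μ ≠ lam → ν ≠ 1 → ν ≠ lam → ν ≠ μ → ν ≠ μ⁻¹ → P μ ≠ P ν := by
      intro μ ν h1 h2 k1 k2 u1 u2
      rcases pair o lam z d hlam hG1 hG2 P M hPM μ ν h1 h2 k1 k2 u1 u2 with ⟨_, ne⟩ | ⟨ne, _⟩
      · exact absurd ((hX μ h1 h2).trans (hX ν k1 k2).symm) ne
      · exact ne
    have hwX : z lam X = -1 := by
      by_contra hne
      have hnz : ∀ μ, μ ≠ 1 → μ ≠ lam → z lam (P μ) ≠ 0 := by
        intro μ h1 h2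
        have := hwμ μ h1 h2
        rw [hX μ h1 h2] at this
        omega
      have := four_le_sq_sum (Finset.univ.erase o) (z lam) (P μ1) (P μ2) (P μ3) (P μ4)
        (hmemo _ (hPM μ1 ⟨a1, a2⟩).1) (hmemo _ (hPM μ2 ⟨b1, b2⟩).1)
        (hmemo _ (hPM μ3 ⟨c1, c2⟩).1) (hmemo _ (hPM μ4 ⟨e1, e2⟩).1)
        (Pdist μ1 μ2 a1 a2 b1 b2 b3 b4) (Pdist μ1 μ3 a1 a2 c1 c2 c3 c4)
        (Pdist μ1 μ4 a1 a2 e1 e2 e3 e4) (Pdist μ2 μ3 b1 b2 c1 c2 c5 c6)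
        (Pdist μ2 μ4 b1 b2 e1 e2 e5 e6) (Pdist μ3 μ4 c1 c2 e1 e2 e7 e8)
        (hnz μ1 a1 a2) (hnz μ2 b1 b2) (hnz μ3 c1 c2) (hnz μ4 e1 e2)
      omega
    have hwP : ∀ μ, μ ≠ 1 → μ ≠ lam → z lam (P μ) = 0 := by
      intro μ h1 h2
      have := hwμ μ h1 h2
      rw [hX μ h1 h2, hwX] at this
      omega
    have zX : ∀ μ, μ ≠ 1 → z μ X = -1 := by
      intro μ h1
      by_cases h2 : μ = lam
      · rw [h2]; exact hwX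
      · rw [← hX μ h1 h2]; exact (hPM μ ⟨h1, h2⟩).2.2.2.2.1
    have τX : τ X = -1 := tau_const sgn z τ hsgn1 hsgnsum hG4 X (-1) zX
    have zL1 : ∀ μ, μ ≠ 1 → (μ = μ1 ∨ μ = μ1⁻¹) → z μ (P μ1) = 1 := by
      intro μ _ hr
      obtain ⟨hz, _, _⟩ := PM_of_related o lam z d hlam hG1 hG2 P M hPM μ1 μ a1 a2 hr
      rw [hz]; exact p4
    have zL0 : ∀ μ, μ ≠ 1 → μ ≠ μ1 → μ ≠ μ1⁻¹ → z μ (P μ1) = 0 := by
      intro μ h1 u1 u2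
      by_cases h2 : μ = lam
      · rw [h2]; exact hwP μ1 a1 a2
      · rw [val o lam z d hG2 P M hPM μ h1 h2 (P μ1), if_neg p1,
          if_neg (Pdist μ1 μ a1 a2 h1 h2 u1 u2), hX μ h1 h2, if_neg p3]
    have τL : τ (P μ1) = - (2 * 1 * sgn μ1) :=
      tau_two sgn z τ hsgn_inv hG4 (P μ1) μ1 a1 h3 1 zL1 zL0
    have τL2 : (τ (P μ1)) ^ 2 = 4 := by
      rw [τL]
      have := hsgnsq μ1
      nlinarith
    have τL2q : ((τ (P μ1) : ℤ) : ℚ) ^ 2 = 4 := by exact_mod_cast τL2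
    set x := d X with hxdef
    have hdL : d (P μ1) = x - 1 := by have := p7; omega
    have hx3 : 3 ≤ x := by
      have := hd (P μ1)
      by_contra hcon
      exact p1 (hd1 (P μ1) (by omega))
    have hxq : (x : ℚ) ≠ 0 := by
      have : (0 : ℚ) < x := by exact_mod_cast (by omega : 0 < x)
      exact ne_of_gt this
    have hx1q : (x : ℚ) - 1 ≠ 0 := by
      have : (3 : ℚ) ≤ x := by exact_mod_cast hx3
      linarith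
    rw [τX, τL2q, hdL] at hG5'
    push_cast at hG5'
    have key : (1 * 1 + 1 * (4 / ((x : ℚ) - 1)) + -1 * ((-1) ^ 2 / (x : ℚ)))
        = ((x : ℚ) + 1) ^ 2 / ((x : ℚ) * ((x : ℚ) - 1)) := by
      field_simp
      ring
    rw [key, ← mul_div_assoc, div_eq_iff (mul_ne_zero hxq hx1q)] at hG5'
    have hint : m * (x + 1) ^ 2 = 2 * c ^ 2 * x * (x - 1) := by
      have : ((m * (x + 1) ^ 2 : ℤ) : ℚ) = ((2 * c ^ 2 * x * (x - 1) : ℤ) : ℚ) := by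
        push_cast
        linarith
      exact_mod_cast this
    exact arithB c m x hc hm hx3 hint

end Cfsg.Agent.Lib.Helper63.TIAbs
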