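import Cfsg.Agent.Lib.Helper63.TIAbs2
import Cfsg.Agent.Lib.Helper04.IndFun
import Cfsg.Agent.Lib.Helper34.GenChar
import Cfsg.Agent.Lib.Helper22.InvolutionConv
import Cfsg.Agent.Lib.Helper75.JordanDual
import Cfsg.Agent.Lib.Helper05.CharBasic

set_option autoImplicit false
set_option linter.unusedSectionVars false
set_option linter.style.haveILetI false

namespace Cfsg.Agent.Lib.Helper63.TIChar

open Cfsg
open scoped ComplexConjugate

universe u

section Grp

variable {G : Type u} [Group G] (C N : Subgroup G) (u : G)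
  (hCN : C ≤ N) (hab : ∀ a ∈ C, ∀ b ∈ C, a * b = b * a)
  (hN2 : Nat.card N = 2 * Nat.card C) (huN : u ∈ N) (huC : u ∉ C)
  (hinv : ∀ z ∈ C, u * z * u⁻¹ = z⁻¹)

include hCN hN2 huN huC in
theorem mem_cases [Finite G] {g : G} (hg : g ∈ N) : g ∈ C ∨ u⁻¹ * g ∈ C := by
  have hidx : (C.subgroupOf N).index = 2 := by
    have h1 := Subgroup.relIndex_mul_relIndex ⊥ C N bot_le hCN
    rw [Subgroup.relIndex_bot_left, Subgroup.relIndex_bot_left, hN2] at h1
    have hpos : 0 < Nat.card C := Nat.card_pos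
    have : C.relIndex N = 2 := by
      have : Nat.card C * C.relIndex N = Nat.card C * 2 := by rw [h1]; ring
      exact Nat.eq_of_mul_eq_mul_left hpos this
    exact this
  by_cases hgC : g ∈ C
  · exact Or.inl hgC
  · right
    have key := Subgroup.mul_mem_iff_of_index_two hidx
      (a := (⟨u⁻¹, N.inv_mem huN⟩ : N)) (b := (⟨g, hg⟩ : N))
    have h1 : (⟨u⁻¹, N.inv_mem huN⟩ : N) ∉ C.subgroupOf N := by
      rw [Subgroup.mem_subgroupOf]
      intro h
      exact huC (by simpa using C.inv_mem h)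
    have h2 : (⟨g, hg⟩ : N) ∉ C.subgroupOf N := by
      rw [Subgroup.mem_subgroupOf]
      exact hgC
    have h3 : (⟨u⁻¹, N.inv_mem huN⟩ : N) * ⟨g, hg⟩ ∈ C.subgroupOf N :=
      key.mpr ⟨fun h => absurd h h1, fun h => absurd h h2⟩
    rw [Subgroup.mem_subgroupOf] at h3
    exact h3

include hab hinv in
theorem conj_of_mem_C {g z : G} (hg : g ∈ C) (hz : z ∈ C) : g⁻¹ * z * g = z := by
  have := hab g hg z hz
  calc g⁻¹ * z * g = g⁻¹ * (z * g) := by group
    _ = g⁻¹ * (g * z) := by rw [this]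
    _ = z := by group

include hab hinv in
theorem conj_of_mem_uC {g z : G} (hg : u⁻¹ * g ∈ C) (hz : z ∈ C) : g⁻¹ * z * g = z⁻¹ := by
  have h1 : u⁻¹ * z * u = z⁻¹ := by
    have := hinv z⁻¹ (C.inv_mem hz)
    rw [inv_inv] at this
    calc u⁻¹ * z * u = u⁻¹ * (u * z⁻¹ * u⁻¹) * u := by rw [this]
      _ = z⁻¹ := by group
  have h2 := conj_of_mem_C C u hab hinv hg (C.inv_mem hz)
  calc g⁻¹ * z * g = (u⁻¹ * g)⁻¹ * (u⁻¹ * z * u) * (u⁻¹ * g) := by group
    _ = (u⁻¹ * g)⁻¹ * z⁻¹ * (u⁻¹ * g) := by rw [h1]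
    _ = z⁻¹ := h2

end Grp

section Ind

variable {G : Type u} [Group G] [Fintype G] (C N : Subgroup G) (u : G)
  (hCN : C ≤ N) (hab : ∀ a ∈ C, ∀ b ∈ C, a * b = b * a)
  (hN2 : Nat.card N = 2 * Nat.card C) (huN : u ∈ N) (huC : u ∉ C)
  (hinv : ∀ z ∈ C, u * z * u⁻¹ = z⁻¹)
  (hTI : ∀ z ∈ C, z ≠ 1 → ∀ g : G, g * z * g⁻¹ ∈ C → g ∈ N)

open Classical in
theorem sum_ite_mem (a : ℂ) : ∑ x : G, (if x ∈ C then a else 0) = (Nat.card C : ℂ) * a := by
  have : ∀ x : G, (if x ∈ C then a else 0) = a * (if x ∈ C then 1 else 0) := by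
    intro x; split_ifs <;> ring
  rw [Finset.sum_congr rfl (fun x _ => this x), ← Finset.mul_sum, Finset.sum_boole,
    Nat.card_eq_fintype_card, Fintype.card_subtype]
  ring

include hCN hab hN2 huN huC hinv hTI in
theorem indFun_apply_of_mem (φ : C → ℂ) (hφ1 : φ 1 = 0) (z : G) (hz : z ∈ C) :
    indFun C φ z = φ ⟨z, hz⟩ + φ ⟨z⁻¹, C.inv_mem hz⟩ := by
  classical
  rw [Cfsg.Agent.Lib.Helper04.indFun_apply]
  have hcpos : (Nat.card C : ℂ) ≠ 0 := by
    have : 0 < Nat.card C := Nat.card_pos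
    exact_mod_cast this.ne'
  by_cases hz1 : z = 1
  · subst hz1
    have h1 : ∀ x : G, extendByZero C φ (x⁻¹ * 1 * x) = 0 := by
      intro x
      have : x⁻¹ * 1 * x = ((1 : C) : G) := by simp
      rw [this, Cfsg.Agent.Lib.Helper04.extendByZero_apply_mem, hφ1]
    rw [Finset.sum_eq_zero (fun x _ => h1 x), mul_zero]
    have e1 : (⟨1, hz⟩ : C) = 1 := rfl
    have e2 : (⟨(1 : G)⁻¹, C.inv_mem hz⟩ : C) = 1 := by
      apply Subtype.ext; simp
    rw [e1, e2, hφ1]; ring
  · have hpt : ∀ x : G, extendByZero C φ (x⁻¹ * z * x)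
        = (if x ∈ C then φ ⟨z, hz⟩ else 0) + (if u⁻¹ * x ∈ C then φ ⟨z⁻¹, C.inv_mem hz⟩ else 0) := by
      intro x
      by_cases hx : x ∈ C
      · have hx' : u⁻¹ * x ∉ C := by
          intro h
          apply huC
          have : u = x * (u⁻¹ * x)⁻¹ := by group
          rw [this]
          exact C.mul_mem hx (C.inv_mem h)
        rw [if_pos hx, if_neg hx', add_zero]
        have e := conj_of_mem_C C u hab hinv hx hz
        rw [Cfsg.Agent.Lib.Helper04.extendByZero_apply_of_mem C φ _ (by rw [e]; exact hz)]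
        congr 1
        exact Subtype.ext e
      · rw [if_neg hx, zero_add]
        by_cases hx2 : u⁻¹ * x ∈ C
        · rw [if_pos hx2]
          have e := conj_of_mem_uC C u hab hinv hx2 hz
          rw [Cfsg.Agent.Lib.Helper04.extendByZero_apply_of_mem C φ _
            (by rw [e]; exact C.inv_mem hz)]
          congr 1
          exact Subtype.ext e
        · rw [if_neg hx2]
          apply Cfsg.Agent.Lib.Helper04.extendByZero_apply_not_mem
          intro hmem
          have hxN : x⁻¹ ∈ N := by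
            apply hTI z hz hz1 x⁻¹
            rw [inv_inv]
            exact hmem
          have hxN' : x ∈ N := by simpa using N.inv_mem hxN
          rcases mem_cases C N u hCN hN2 huN huC hxN' with h | h
          · exact hx h
          · exact hx2 h
    rw [Finset.sum_congr rfl (fun x _ => hpt x), Finset.sum_add_distrib, sum_ite_mem]
    have hshift : ∑ x : G, (if u⁻¹ * x ∈ C then φ ⟨z⁻¹, C.inv_mem hz⟩ else 0)
        = ∑ y : G, (if y ∈ C then φ ⟨z⁻¹, C.inv_mem hz⟩ else 0) :=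
      Equiv.sum_comp (Equiv.mulLeft u⁻¹) (fun y => if y ∈ C then φ ⟨z⁻¹, C.inv_mem hz⟩ else 0)
    rw [hshift, sum_ite_mem]
    field_simp

end Ind

section Dual

variable {H : Type u} [Group H] [Fintype H] (hcomm : ∀ a b : H, a * b = b * a)

include hcomm in
theorem dual_facts [Fintype (H →* ℂˣ)] [DecidableEq H] [DecidableEq (H →* ℂˣ)] :
    (∀ β γ : H →* ℂˣ, ∑ h : H, ((β h : ℂ))⁻¹ * (γ h : ℂ)
        = if β = γ then (Nat.card H : ℂ) else 0) ∧
    (∀ h : H, ∑ β : H →* ℂˣ, (β h : ℂ) = if h = 1 then (Nat.card H : ℂ) else 0) ∧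
    (∀ (β : H →* ℂˣ) (h : H), ‖(β h : ℂ)‖ = 1) ∧
    Nat.card (H →* ℂˣ) = Nat.card H ∧ Nonempty ((H →* ℂˣ) ≃* H) := by
  let _ : CommGroup H := { ‹Group H› with mul_comm := hcomm }
  have : NeZero (Monoid.exponent H) := ⟨(Monoid.exponent_pos_of_exists (Fintype.card H)
    Fintype.card_pos (fun g => pow_card_eq_one)).ne'⟩
  obtain ⟨h1, h2, h3⟩ := Cfsg.Agent.Lib.Helper75.Jordan.dual_orthogonality (H := H)
  rw [Nat.card_eq_fintype_card]
  refine ⟨h1, h2, h3, ?_, ?_⟩
  · have := CommGroup.card_monoidHom_of_hasEnoughRootsOfUnity H ℂ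
    rw [Nat.card_eq_fintype_card, Nat.card_eq_fintype_card] at this
    rw [Nat.card_eq_fintype_card]
    exact this
  · exact CommGroup.monoidHom_mulEquiv_of_hasEnoughRootsOfUnity H ℂ

include hcomm in
theorem conj_lin (β : H →* ℂˣ) (h : H) : conj (β h : ℂ) = ((β⁻¹ h : ℂˣ) : ℂ) := by
  classical
  letI : Fintype (H →* ℂˣ) := Fintype.ofFinite _
  obtain ⟨_, _, h3, _, _⟩ := dual_facts hcomm
  rw [← Complex.inv_eq_conj (h3 β h)]
  simp [MonoidHom.inv_apply]

include hcomm in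
theorem sum_lin [DecidableEq (H →* ℂˣ)] (β : H →* ℂˣ) :
    ∑ h : H, (β h : ℂ) = if β = 1 then (Nat.card H : ℂ) else 0 := by
  classical
  letI : Fintype (H →* ℂˣ) := Fintype.ofFinite _
  obtain ⟨h1, _, _, _, _⟩ := dual_facts hcomm
  have := h1 1 β
  simp only [MonoidHom.one_apply, Units.val_one, inv_one, one_mul] at this
  rw [this]
  by_cases hb : β = 1
  · rw [if_pos hb, if_pos hb.symm]
  · rw [if_neg hb, if_neg (fun h => hb h.symm)]

include hcomm in
theorem sum_dual [Fintype (H →* ℂˣ)] [DecidableEq H] (h : H) :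
    ∑ β : H →* ℂˣ, (β h : ℂ) = if h = 1 then (Nat.card H : ℂ) else 0 := by
  classical
  obtain ⟨_, h2, _, _, _⟩ := dual_facts hcomm
  rw [h2 h]

include hcomm in
theorem card_dual : Nat.card (H →* ℂˣ) = Nat.card H := by
  classical
  letI : Fintype (H →* ℂˣ) := Fintype.ofFinite _
  exact (dual_facts hcomm).2.2.2.1

include hcomm in
theorem exists_lam (t : H) (ht1 : t ≠ 1) (ht2 : t * t = 1)
    (htu : ∀ z : H, z * z = 1 → z = 1 ∨ z = t) :
    ∃ lam : H →* ℂˣ, lam ≠ 1 ∧ ∀ μ : H →* ℂˣ, μ * μ = 1 ↔ μ = 1 ∨ μ = lam := by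
  classical
  letI : Fintype (H →* ℂˣ) := Fintype.ofFinite _
  obtain ⟨e⟩ := (dual_facts hcomm).2.2.2.2
  refine ⟨e.symm t, ?_, ?_⟩
  · intro h
    apply ht1
    have := congrArg e h
    simpa using this
  · intro μ
    constructor
    · intro h
      have h' : e μ * e μ = 1 := by rw [← map_mul, h, map_one]
      rcases htu _ h' with h1 | h1
      · left
        exact (EmbeddingLike.map_eq_one_iff (f := e)).mp h1
      · right
        rw [← h1, MulEquiv.symm_apply_apply]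
    · rintro (h | h)
      · rw [h]; exact one_mul (1 : H →* ℂˣ)
      · rw [h, ← map_mul, ht2, map_one]

open Classical in
/-- sign of a linear character at an involution -/
noncomputable def sgnAt (t : H) (μ : H →* ℂˣ) : ℤ := if μ t = 1 then 1 else -1

theorem sgnAt_cases (t : H) (μ : H →* ℂˣ) : sgnAt t μ = 1 ∨ sgnAt t μ = -1 := by
  unfold sgnAt
  split_ifs
  · left; rfl
  · right; rfl

theorem sgnAt_one (t : H) : sgnAt t (1 : H →* ℂˣ) = 1 := by
  unfold sgnAt
  rw [if_pos]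
  rfl

theorem sgnAt_cast (t : H) (ht2 : t * t = 1) (μ : H →* ℂˣ) :
    ((sgnAt t μ : ℤ) : ℂ) = ((μ t : ℂˣ) : ℂ) := by
  have h1 : μ t * μ t = 1 := by rw [← map_mul, ht2, map_one]
  have h2 : ((μ t : ℂˣ) : ℂ) * ((μ t : ℂˣ) : ℂ) = 1 := by
    rw [← Units.val_mul, h1, Units.val_one]
  unfold sgnAt
  split_ifs with h
  · rw [h]; simp
  · rcases mul_self_eq_one_iff.mp h2 with h3 | h3
    · exact absurd (Units.ext h3) h
    · rw [h3]; simp

theorem sgnAt_inv (t : H) (ht2 : t * t = 1) (μ : H →* ℂˣ) : sgnAt t μ⁻¹ = sgnAt t μ := by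
  have h1 : μ t * μ t = 1 := by rw [← map_mul, ht2, map_one]
  have h2 : (μ⁻¹) t = μ t := by
    rw [MonoidHom.inv_apply]
    exact inv_eq_of_mul_eq_one_left h1
  unfold sgnAt
  rw [h2]

end Dual

end Cfsg.Agent.Lib.Helper63.TIChar
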