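import Cfsg.Agent.Lib.Helper63.TICharA

set_option autoImplicit false
set_option linter.unusedSectionVars false
set_option linter.style.haveILetI false

namespace Cfsg.Agent.Lib.Helper63.TIChar

open Cfsg
open scoped ComplexConjugate

universe u

section Main

variable {G : Type u} [Group G] [Fintype G] (C N : Subgroup G) (t u : G)
  (hCN : C ≤ N) (hab : ∀ a ∈ C, ∀ b ∈ C, a * b = b * a)
  (hN2 : Nat.card N = 2 * Nat.card C) (huN : u ∈ N) (huC : u ∉ C)
  (hinv : ∀ z ∈ C, u * z * u⁻¹ = z⁻¹)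
  (hTI : ∀ z ∈ C, z ≠ 1 → ∀ g : G, g * z * g⁻¹ ∈ C → g ∈ N)

/-- the generalized character induced from `1 - μ` -/
noncomputable def gam (μ : C →* ℂˣ) : G → ℂ := indFun C (fun z => 1 - ((μ z : ℂˣ) : ℂ))

theorem gam_isClassFunction (μ : C →* ℂˣ) : IsClassFunction G (gam C μ) :=
  Cfsg.Agent.Lib.Helper04.indFun_isClassFunction C _

theorem gam_isGeneralizedCharacter (μ : C →* ℂˣ) : IsGeneralizedCharacter G (gam C μ) := by
  apply Cfsg.Agent.Lib.Helper34.isGeneralizedCharacter_indFun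
  exact ⟨fun _ => 1, fun z => ((μ z : ℂˣ) : ℂ), Cfsg.Agent.Lib.Helper83.isCharacter_one,
    Cfsg.Agent.Lib.Helper83.isCharacter_of_hom μ, rfl⟩

include hCN hab hN2 huN huC hinv hTI in
theorem gam_apply_coe (μ : C →* ℂˣ) (z : C) :
    gam C μ (z : G) = (1 - ((μ z : ℂˣ) : ℂ)) + (1 - ((μ z⁻¹ : ℂˣ) : ℂ)) := by
  unfold gam
  rw [indFun_apply_of_mem C N u hCN hab hN2 huN huC hinv hTI _ (by simp) (z : G) z.2]
  rfl

theorem frob [Fintype C] (μ : C →* ℂˣ) (χ : G → ℂ) (hχ : IsClassFunction G χ) :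
    classInner (gam C μ) χ
      = (Nat.card C : ℂ)⁻¹ * ∑ z : C, (1 - ((μ z : ℂˣ) : ℂ)) * conj (χ z) := by
  unfold gam
  rw [Cfsg.Agent.Lib.Helper04.frobenius_reciprocity C _ χ hχ]
  rfl

include hab in
theorem hcommC : ∀ a b : C, a * b = b * a := fun a b => Subtype.ext (hab a a.2 b b.2)

include hCN hab hN2 huN huC hinv hTI in
theorem gram [Fintype C] [DecidableEq (C →* ℂˣ)] (μ ν : C →* ℂˣ) (hμ : μ ≠ 1) (hν : ν ≠ 1) :
    classInner (gam C μ) (gam C ν)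
      = 2 + (if μ = ν then 1 else 0) + (if μ = ν⁻¹ then 1 else 0) := by
  have hc := hcommC C hab
  rw [frob C μ _ (gam_isClassFunction C ν)]
  have hpt : ∀ z : C, (1 - ((μ z : ℂˣ) : ℂ)) * conj (gam C ν (z : G))
      = 2 - (((ν⁻¹) z : ℂˣ) : ℂ) - ((ν z : ℂˣ) : ℂ) - 2 * ((μ z : ℂˣ) : ℂ)
        + (((μ * ν⁻¹) z : ℂˣ) : ℂ) + (((μ * ν) z : ℂˣ) : ℂ) := by
    intro z
    rw [gam_apply_coe C N u hCN hab hN2 huN huC hinv hTI ν z, map_add, map_sub, map_sub, map_one,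
      conj_lin hc, conj_lin hc]
    have e1 : (((ν⁻¹) z⁻¹ : ℂˣ) : ℂ) = ((ν z : ℂˣ) : ℂ) := by
      rw [MonoidHom.inv_apply, map_inv, inv_inv]
    rw [e1, MonoidHom.mul_apply, MonoidHom.mul_apply, Units.val_mul, Units.val_mul]
    ring
  rw [Finset.sum_congr rfl (fun z _ => hpt z)]
  simp only [Finset.sum_add_distrib, Finset.sum_sub_distrib, ← Finset.mul_sum, sum_lin hc,
    Finset.sum_const, Finset.card_univ]
  have hν' : ν⁻¹ ≠ 1 := by
    intro h
    have e0 : ν⁻¹ = 1 ↔ ν = 1 := inv_eq_one (a := ν)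
    exact hν (e0.mp h)
  rw [if_neg hν', if_neg hν, if_neg hμ]
  have hcpos : (Nat.card C : ℂ) ≠ 0 := by
    have : 0 < Nat.card C := Nat.card_pos
    exact_mod_cast this.ne'
  have e2 : (μ * ν⁻¹ = 1) ↔ μ = ν := mul_inv_eq_one (a := μ) (b := ν)
  have e3 : (μ * ν = 1) ↔ μ = ν⁻¹ := mul_eq_one_iff_eq_inv (a := μ) (b := ν)
  simp only [e2, e3]
  rw [← Nat.card_eq_fintype_card]
  split_ifs <;> field_simp <;> ring

theorem inner_const_one [Fintype C] [DecidableEq (C →* ℂˣ)] (μ : C →* ℂˣ) (hμ : μ ≠ 1)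
    (hab : ∀ a ∈ C, ∀ b ∈ C, a * b = b * a)
    (χ : G → ℂ) (hχ : IsClassFunction G χ) (hχ1 : ∀ g, χ g = 1) :
    classInner (gam C μ) χ = 1 := by
  have hc := hcommC C hab
  rw [frob C μ χ hχ]
  have hpt : ∀ z : C, (1 - ((μ z : ℂˣ) : ℂ)) * conj (χ (z : G)) = 1 - ((μ z : ℂˣ) : ℂ) := by
    intro z
    rw [hχ1, map_one, mul_one]
  rw [Finset.sum_congr rfl (fun z _ => hpt z), Finset.sum_sub_distrib, sum_lin hc, if_neg hμ,
    Finset.sum_const, Finset.card_univ, ← Nat.card_eq_fintype_card]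
  have hcpos : (Nat.card C : ℂ) ≠ 0 := by
    have : 0 < Nat.card C := Nat.card_pos
    exact_mod_cast this.ne'
  simp only [nsmul_eq_mul, mul_one, sub_zero]
  field_simp

include hCN hab hN2 huN huC hinv hTI in
theorem gam_one (μ : C →* ℂˣ) : gam C μ 1 = 0 := by
  have := gam_apply_coe C N u hCN hab hN2 huN huC hinv hTI μ (1 : C)
  simpa using this

theorem inner_conv [Fintype C] [DecidableEq (C →* ℂˣ)] (μ : C →* ℂˣ) (hμ : μ ≠ 1)
    (hab : ∀ a ∈ C, ∀ b ∈ C, a * b = b * a)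
    (hconv : ∀ z ∈ C, z ≠ 1 → Cfsg.Agent.Lib.Helper22.invConv z = (Nat.card C : ℂ)) :
    classInner (gam C μ) (Cfsg.Agent.Lib.Helper22.invConv (G := G)) = (Nat.card C : ℂ) := by
  have hc := hcommC C hab
  rw [frob C μ _ Cfsg.Agent.Lib.Helper22.isClassFunction_invConv]
  have hpt : ∀ z : C, (1 - ((μ z : ℂˣ) : ℂ)) * conj (Cfsg.Agent.Lib.Helper22.invConv (z : G))
      = (1 - ((μ z : ℂˣ) : ℂ)) * (Nat.card C : ℂ) := by
    intro z
    by_cases hz : z = 1
    · subst hz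
      simp
    · have hz' : (z : G) ≠ 1 := fun h => hz (Subtype.ext h)
      rw [hconv z z.2 hz', Complex.conj_natCast]
  rw [Finset.sum_congr rfl (fun z _ => hpt z), ← Finset.sum_mul, Finset.sum_sub_distrib,
    sum_lin hc, if_neg hμ, Finset.sum_const, Finset.card_univ, ← Nat.card_eq_fintype_card]
  have hcpos : (Nat.card C : ℂ) ≠ 0 := by
    have : 0 < Nat.card C := Nat.card_pos
    exact_mod_cast this.ne'
  simp only [nsmul_eq_mul, mul_one, sub_zero]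
  field_simp

theorem sum_sgn_inner [Fintype C] [DecidableEq C] [Fintype (C →* ℂˣ)]
    (hab : ∀ a ∈ C, ∀ b ∈ C, a * b = b * a)
    (htC : t ∈ C) (ht2 : t * t = 1) (ht1 : t ≠ 1) (ψ : G → ℂ) (hψ : IsCharacter G ψ) :
    ∑ μ : C →* ℂˣ, ((sgnAt (⟨t, htC⟩ : C) μ : ℤ) : ℂ) * classInner (gam C μ) ψ = - ψ t := by
  have hc := hcommC C hab
  set tC : C := ⟨t, htC⟩ with htCdef
  have htC2 : tC * tC = 1 := Subtype.ext ht2
  have htC1 : tC ≠ 1 := fun h => ht1 (congrArg Subtype.val h)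
  have hcpos : (Nat.card C : ℂ) ≠ 0 := by
    have : 0 < Nat.card C := Nat.card_pos
    exact_mod_cast this.ne'
  have hpt : ∀ μ : C →* ℂˣ, ((sgnAt tC μ : ℤ) : ℂ) * classInner (gam C μ) ψ
      = (Nat.card C : ℂ)⁻¹ * ∑ z : C, conj (ψ (z : G)) *
          (((μ tC : ℂˣ) : ℂ) - ((μ (tC * z) : ℂˣ) : ℂ)) := by
    intro μ
    rw [frob C μ ψ (Cfsg.Agent.Lib.Helper83.char_isClassFunction hψ), sgnAt_cast tC htC2 μ,
      mul_left_comm, Finset.mul_sum]
    congr 1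
    apply Finset.sum_congr rfl
    intro z _
    rw [map_mul, Units.val_mul]
    ring
  rw [Finset.sum_congr rfl (fun μ _ => hpt μ), ← Finset.mul_sum, Finset.sum_comm]
  have hz : ∀ z : C, ∑ μ : C →* ℂˣ, conj (ψ (z : G)) *
          (((μ tC : ℂˣ) : ℂ) - ((μ (tC * z) : ℂˣ) : ℂ))
      = conj (ψ (z : G)) * (- (if z = tC then (Nat.card C : ℂ) else 0)) := by
    intro z
    rw [← Finset.mul_sum, Finset.sum_sub_distrib, sum_dual hc, sum_dual hc, if_neg htC1, zero_sub]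
    have : (tC * z = 1) ↔ z = tC := by
      constructor
      · intro h
        have : z = tC⁻¹ := eq_inv_of_mul_eq_one_right h
        rw [this]
        exact inv_eq_of_mul_eq_one_left htC2
      · intro h; rw [h]; exact htC2
    simp only [this]
  rw [Finset.sum_congr rfl (fun z _ => hz z)]
  simp only [mul_neg, Finset.sum_neg_distrib, mul_ite, mul_zero, Finset.sum_ite_eq',
    Finset.mem_univ, if_true]
  have h1 : conj (ψ (tC : G)) = ψ t := by
    rw [← Cfsg.Agent.Lib.Helper83.char_inv hψ]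
    congr 1
    exact inv_eq_of_mul_eq_one_left ht2
  rw [h1]
  field_simp

end Main

end Cfsg.Agent.Lib.Helper63.TIChar
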