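import Cfsg.Agent.Lib.Helper63.TICharB
import Cfsg.Agent.Lib.Helper83.Abelian
import Cfsg.Agent.Lib.Helper83.Linear

set_option autoImplicit false
set_option linter.unusedSectionVars false
set_option linter.style.haveILetI false

namespace Cfsg.Agent.Lib.Helper63.TIChar

open Cfsg
open scoped ComplexConjugate

universe u

theorem conv_coeff (g c m S ψt ψ1 : ℂ) (hg : g = 2 * c * m) (hg0 : g ≠ 0) (hψ1 : ψ1 ≠ 0)
    (hS : S * (2 * c) = g * ψt) :
    g⁻¹ * (S * S / ψ1) = m * (ψt ^ 2 / ψ1) / (2 * c) := by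
  have hc : c ≠ 0 := by
    rintro rfl; apply hg0; rw [hg]; ring
  have hm : m ≠ 0 := by
    rintro rfl; apply hg0; rw [hg]; ring
  have hS' : S = m * ψt := by
    have h2c : (2 * c) ≠ 0 := mul_ne_zero two_ne_zero hc
    apply mul_right_cancel₀ h2c
    rw [hS, hg]; ring
  rw [hS', hg]
  field_simp

section Main

variable {G : Type u} [Group G] [Fintype G] (C N : Subgroup G) (t u : G)
  (hCN : C ≤ N) (hab : ∀ a ∈ C, ∀ b ∈ C, a * b = b * a)
  (hN2 : Nat.card N = 2 * Nat.card C) (huN : u ∈ N) (huC : u ∉ C)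
  (hinv : ∀ z ∈ C, u * z * u⁻¹ = z⁻¹)
  (hTI : ∀ z ∈ C, z ≠ 1 → ∀ g : G, g * z * g⁻¹ ∈ C → g ∈ N)

theorem gam_triv : gam C (1 : C →* ℂˣ) = 0 := by
  unfold gam
  have : (fun z : C => (1 : ℂ) - (((1 : C →* ℂˣ) z : ℂˣ) : ℂ)) = 0 := by
    funext z; simp
  rw [this, Cfsg.Agent.Lib.Helper34.indFun_zero]

theorem inner_invConv_irr (htord : orderOf t = 2) (hone : ∀ s : G, orderOf s = 2 → IsConj t s)
    (c m : ℂ) (hG : (Nat.card G : ℂ) = 2 * c * m)
    (hcent : (Nat.card (Subgroup.centralizer ({t} : Set G)) : ℂ) = 2 * c)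
    (ψ : IrrCharacter G) :
    classInner (ψ : G → ℂ) (Cfsg.Agent.Lib.Helper22.invConv (G := G))
      = m * ((ψ : G → ℂ) t ^ 2 / (ψ : G → ℂ) 1) / (2 * c) := by
  rw [← Cfsg.Agent.Lib.Helper83.classInner_conj_symm, Cfsg.Agent.Lib.Helper22.classInner_invConv,
    map_mul, Complex.conj_conj, map_inv₀, Complex.conj_natCast]
  have hS := Cfsg.Agent.Lib.Helper22.sum_invInd_mul_of_conj t htord hone ψ
  rw [hcent] at hS
  exact conv_coeff _ c m _ _ _ hG Cfsg.Agent.Lib.Helper83.card_ne_zero_complex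
    (Cfsg.Agent.Lib.Helper83.irr_degree_ne_zero ψ) hS

set_option maxHeartbeats 2000000 in
include hCN hab hN2 huN huC hinv hTI in
theorem charK (c : ℕ) (hcard : Nat.card C = c) (hc10 : 10 ≤ c)
    (hG : (Nat.card G : ℤ) = 2 * (c : ℤ) * ((c : ℤ) ^ 2 - c + 1))
    (htC : t ∈ C) (htord : orderOf t = 2)
    (htu : ∀ z ∈ C, z * z = 1 → z = 1 ∨ z = t)
    (hone : ∀ s : G, orderOf s = 2 → IsConj t s)
    (hcent : Nat.card (Subgroup.centralizer ({t} : Set G)) = 2 * c)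
    (hconv : ∀ z ∈ C, z ≠ 1 → Cfsg.Agent.Lib.Helper22.invConv z = (c : ℂ))
    (hperf : ∀ ψ : IrrCharacter G, (ψ : G → ℂ) 1 = 1 → ψ = Cfsg.Agent.Lib.Helper83.trivChar G) :
    False := by
  classical
  letI : Fintype C := Fintype.ofFinite _
  letI : Fintype (C →* ℂˣ) := Fintype.ofFinite _
  letI : Fintype (IrrCharacter G) := Fintype.ofFinite _
  subst hcard
  have hc := hcommC C hab
  have ht2 : t * t = 1 := by
    have := pow_orderOf_eq_one t
    rw [htord, pow_two] at this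
    exact this
  have ht1 : t ≠ 1 := by
    rintro rfl
    rw [orderOf_one] at htord
    omega
  set tC : C := ⟨t, htC⟩ with htCdef
  have htC2 : tC * tC = 1 := Subtype.ext ht2
  have htC1 : tC ≠ 1 := fun h => ht1 (congrArg Subtype.val h)
  obtain ⟨lam, hlam1, hlam⟩ := exists_lam hc tC htC1 htC2 (fun z hz => by
    rcases htu (z : G) z.2 (congrArg Subtype.val hz) with h | h
    · left; exact Subtype.ext h
    · right; exact Subtype.ext h)
  choose zc hz using fun μ : C →* ℂˣ =>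
    Cfsg.Agent.Lib.Helper34.exists_int_coeff (gam_isGeneralizedCharacter C μ)
  have hzi : ∀ (μ : C →* ℂˣ) (ψ : IrrCharacter G),
      classInner (gam C μ) (ψ : G → ℂ) = (zc μ ψ : ℂ) := by
    intro μ ψ
    conv_lhs => rw [hz μ]
    exact Cfsg.Agent.Lib.Helper83.classInner_sum_irr_left _ ψ
  have hcpos : (Nat.card C : ℂ) ≠ 0 := by
    have : 0 < Nat.card C := Nat.card_pos
    exact_mod_cast this.ne'
  have hd_cast : ∀ ψ : IrrCharacter G,
      (((charDegree (ψ : G → ℂ) : ℕ) : ℤ) : ℂ) = (ψ : G → ℂ) 1 := by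
    intro ψ
    rw [Int.cast_natCast]
    exact Cfsg.Agent.Lib.Helper83.charDegree_cast (Cfsg.Agent.Lib.Helper83.IrrCharacter_isCharacter ψ)
  have hτ : ∀ ψ : IrrCharacter G,
      (((- ∑ μ : C →* ℂˣ, (if μ = 1 then 0 else sgnAt tC μ * zc μ ψ) : ℤ)) : ℂ)
        = (ψ : G → ℂ) t := by
    intro ψ
    have h := sum_sgn_inner C t hab htC ht2 ht1 (ψ : G → ℂ)
      (Cfsg.Agent.Lib.Helper83.IrrCharacter_isCharacter ψ)
    have e : ((∑ μ : C →* ℂˣ, (if μ = 1 then 0 else sgnAt tC μ * zc μ ψ) : ℤ) : ℂ)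
        = ∑ μ : C →* ℂˣ, ((sgnAt tC μ : ℤ) : ℂ) * classInner (gam C μ) (ψ : G → ℂ) := by
      push_cast
      apply Finset.sum_congr rfl
      intro μ _
      by_cases hμ : μ = 1
      · rw [if_pos hμ, hμ, gam_triv]
        simp [Cfsg.Agent.Lib.Helper83.classInner_zero_left]
      · rw [if_neg hμ, hzi]
    rw [Int.cast_neg, e, h, neg_neg]
  refine Cfsg.Agent.Lib.Helper63.TIAbs.abs_contra (I := IrrCharacter G) (D := C →* ℂˣ) (Cfsg.Agent.Lib.Helper83.trivChar G) lam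
    (sgnAt tC) zc (fun ψ => (charDegree (ψ : G → ℂ) : ℤ))
    (fun ψ => - ∑ μ : C →* ℂˣ, (if μ = 1 then 0 else sgnAt tC μ * zc μ ψ))
    (Nat.card C : ℤ) ((Nat.card C : ℤ) ^ 2 - (Nat.card C : ℤ) + 1)
    (by exact_mod_cast hc10) ?_ hlam hlam1 (fun μ => sgnAt_inv tC htC2 μ) (sgnAt_one tC)
    (sgnAt_cases tC) ?_ ?_ ?_ ?_ ?_ ?_ ?_ (fun _ => rfl) ?_ rfl
  · -- card
    have := card_dual hc
    rw [Nat.card_eq_fintype_card] at this
    rw [this]
  · -- sum of signs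
    have h : ((∑ μ : C →* ℂˣ, sgnAt tC μ : ℤ) : ℂ) = 0 := by
      push_cast
      rw [Finset.sum_congr rfl (fun μ _ => sgnAt_cast tC htC2 μ), sum_dual hc, if_neg htC1]
    exact_mod_cast h
  · -- Gram
    intro μ ν hμ hν
    have h := gram C N u hCN hab hN2 huN huC hinv hTI μ ν hμ hν
    conv_lhs at h => rw [hz μ, hz ν]
    rw [Cfsg.Agent.Lib.Helper34.classInner_int_combo] at h
    have h' : ((∑ φ : IrrCharacter G, zc μ φ * zc ν φ : ℤ) : ℂ)
        = ((2 + (if μ = ν then 1 else 0) + (if μ = ν⁻¹ then 1 else 0) : ℤ) : ℂ) := by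
      rw [h]; push_cast; rfl
    exact_mod_cast h'
  · -- trivial coefficient
    intro μ hμ
    have h := inner_const_one C μ hμ hab (Cfsg.Agent.Lib.Helper83.trivChar G : G → ℂ)
      (Cfsg.Agent.Lib.Helper83.isClassFunction_irr _) (fun g => rfl)
    rw [hzi] at h
    exact_mod_cast h
  · -- degrees positive
    intro ψ
    have := Cfsg.Agent.Lib.Helper83.irr_charDegree_pos ψ
    omega
  · -- perfect
    intro ψ hψ
    apply hperf
    rw [← hd_cast ψ, hψ]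
    simp
  · -- degree of trivial
    simp [Cfsg.Agent.Lib.Helper83.charDegree_trivChar]
  · -- value at one
    intro μ hμ
    have h := gam_one C N u hCN hab hN2 huN huC hinv hTI μ
    rw [hz μ] at h
    simp only [Finset.sum_apply, Pi.smul_apply, smul_eq_mul] at h
    have h' : ((∑ ψ : IrrCharacter G, zc μ ψ * (charDegree (ψ : G → ℂ) : ℤ) : ℤ) : ℂ) = 0 := by
      rw [← h]
      push_cast
      apply Finset.sum_congr rfl
      intro ψ _
      rw [← hd_cast ψ]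
      push_cast
      rfl
    exact_mod_cast h'
  · -- class algebra constant
    intro μ hμ
    have h := inner_conv C μ hμ hab hconv
    have hGc : (Nat.card G : ℂ) = 2 * (Nat.card C : ℂ) *
        ((((Nat.card C : ℤ) ^ 2 - (Nat.card C : ℤ) + 1 : ℤ)) : ℂ) := by
      have : ((Nat.card G : ℤ) : ℂ) = ((2 * (Nat.card C : ℤ) *
          ((Nat.card C : ℤ) ^ 2 - (Nat.card C : ℤ) + 1) : ℤ) : ℂ) := by rw [hG]
      push_cast at this ⊢
      exact this
    have hcentc : (Nat.card (Subgroup.centralizer ({t} : Set G)) : ℂ) = 2 * (Nat.card C : ℂ) := by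
      rw [hcent]; push_cast; rfl
    conv_lhs at h => rw [hz μ]
    rw [Cfsg.Agent.Lib.Helper83.classInner_sum_left] at h
    have hterm : ∀ ψ : IrrCharacter G,
        classInner ((zc μ ψ : ℂ) • (ψ : G → ℂ)) (Cfsg.Agent.Lib.Helper22.invConv (G := G))
        = (zc μ ψ : ℂ) * (((((Nat.card C : ℤ) ^ 2 - (Nat.card C : ℤ) + 1 : ℤ)) : ℂ) *
          ((((- ∑ μ : C →* ℂˣ, (if μ = 1 then 0 else sgnAt tC μ * zc μ ψ) : ℤ)) : ℂ) ^ 2 /
            (((charDegree (ψ : G → ℂ) : ℕ) : ℤ) : ℂ)) / (2 * (Nat.card C : ℂ))) := by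
      intro ψ
      rw [Cfsg.Agent.Lib.Helper83.classInner_smul_left,
        inner_invConv_irr t htord hone _ _ hGc hcentc ψ, hτ ψ, hd_cast ψ]
    rw [Finset.sum_congr rfl (fun ψ _ => hterm ψ)] at h
    apply Rat.cast_injective (α := ℂ)
    simp only [Rat.cast_mul, Rat.cast_sum, Rat.cast_div, Rat.cast_pow, Rat.cast_intCast,
      Rat.cast_ofNat]
    have h2 : ∀ ψ : IrrCharacter G, (zc μ ψ : ℂ) * (((((Nat.card C : ℤ) ^ 2 - (Nat.card C : ℤ) + 1 : ℤ)) : ℂ) *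
          ((((- ∑ μ : C →* ℂˣ, (if μ = 1 then 0 else sgnAt tC μ * zc μ ψ) : ℤ)) : ℂ) ^ 2 /
            (((charDegree (ψ : G → ℂ) : ℕ) : ℤ) : ℂ)) / (2 * (Nat.card C : ℂ)))
        = (((((Nat.card C : ℤ) ^ 2 - (Nat.card C : ℤ) + 1 : ℤ)) : ℂ) / (2 * (Nat.card C : ℂ))) *
          ((zc μ ψ : ℂ) * ((((- ∑ μ : C →* ℂˣ, (if μ = 1 then 0 else sgnAt tC μ * zc μ ψ) : ℤ)) : ℂ) ^ 2 /
            (((charDegree (ψ : G → ℂ) : ℕ) : ℤ) : ℂ))) := by
      intro ψ; ring
    rw [Finset.sum_congr rfl (fun ψ _ => h2 ψ), ← Finset.mul_sum] at h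
    set SS := ∑ ψ : IrrCharacter G, ((zc μ ψ : ℂ) *
      ((((- ∑ μ : C →* ℂˣ, (if μ = 1 then 0 else sgnAt tC μ * zc μ ψ) : ℤ)) : ℂ) ^ 2 /
            (((charDegree (ψ : G → ℂ) : ℕ) : ℤ) : ℂ))) with hSS
    set M : ℂ := ((((Nat.card C : ℤ) ^ 2 - (Nat.card C : ℤ) + 1 : ℤ)) : ℂ) with hM
    have h3 : M * SS = 2 * (Nat.card C : ℂ) * (M / (2 * (Nat.card C : ℂ)) * SS) := by
      field_simp
    rw [Int.cast_natCast, h3, h]
    ring

end Main

end Cfsg.Agent.Lib.Helper63.TIChar
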