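import Cfsg.Agent.Lib.Helper63.TICharC
import Cfsg.Agent.Lib.Helper22.FourSylow
import Cfsg.Agent.Lib.Helper23.ExceptionalSimple
import Cfsg.Prelude.Def_OddOrderLocal

set_option autoImplicit false
set_option linter.unusedSectionVars false
set_option linter.style.haveILetI false

namespace Cfsg.Agent.Lib.Helper63.TIGroup

open Cfsg

universe u

section Basic

variable {G : Type u} [Group G] [Finite G] (P : Sylow 3 G)

theorem P_le_C (hab : IsMulCommutative P) :
    (P : Subgroup G) ≤ Subgroup.centralizer ((P : Subgroup G) : Set G) := by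
  intro x hx
  rw [Subgroup.mem_centralizer_iff]
  intro y hy
  have := hab.is_comm.comm (⟨y, hy⟩ : P) ⟨x, hx⟩
  exact congrArg Subtype.val this

theorem N_conj_C {n z : G} (hn : n ∈ Subgroup.normalizer ((P : Subgroup G) : Set G))
    (hz : z ∈ Subgroup.centralizer ((P : Subgroup G) : Set G)) :
    n * z * n⁻¹ ∈ Subgroup.centralizer ((P : Subgroup G) : Set G) := by
  rw [Subgroup.mem_centralizer_iff] at hz ⊢
  intro p hp
  have hn' : n⁻¹ ∈ Subgroup.normalizer ((P : Subgroup G) : Set G) := Subgroup.inv_mem _ hn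
  have h1 : n⁻¹ * p * n ∈ (P : Subgroup G) := by
    have := (Subgroup.mem_normalizer_iff.mp hn' p).mp hp
    simpa using this
  have h2 := hz _ h1
  calc p * (n * z * n⁻¹) = n * ((n⁻¹ * p * n) * z) * n⁻¹ := by group
    _ = n * (z * (n⁻¹ * p * n)) * n⁻¹ := by rw [h2]
    _ = n * z * n⁻¹ * p := by group

theorem card_P_pow : ∃ a : ℕ, Nat.card (P : Subgroup G) = 3 ^ a :=
  ⟨_, Sylow.card_eq_multiplicity P⟩

theorem pow_card_P {x : G} (hx : x ∈ (P : Subgroup G)) : x ^ Nat.card (P : Subgroup G) = 1 := by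
  have := pow_card_eq_one' (G := (P : Subgroup G)) (x := ⟨x, hx⟩)
  exact congrArg Subtype.val this

theorem odd_card_P : Odd (Nat.card (P : Subgroup G)) := by
  obtain ⟨a, ha⟩ := card_P_pow P
  rw [ha]
  exact Odd.pow (by decide)

/-- an element of `P` whose square is trivial is trivial -/
theorem eq_one_of_sq {x : G} (hx : x ∈ (P : Subgroup G)) (h2 : x * x = 1) : x = 1 := by
  have h1 := pow_card_P P hx
  obtain ⟨k, hk⟩ := odd_card_P P
  rw [hk, pow_succ, pow_mul, pow_two, h2, one_pow, one_mul] at h1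
  exact h1

end Basic

section Struct

variable {G : Type u} [Group G] [Finite G] (P : Sylow 3 G)
  (hab : IsMulCommutative P)
  (hC : Nat.card (Subgroup.centralizer ((P : Subgroup G) : Set G)) = 2 * Nat.card (P : Subgroup G))

include hC in
theorem exists_t : ∃ t : G, t ∈ Subgroup.centralizer ((P : Subgroup G) : Set G) ∧ orderOf t = 2 := by
  have h2 : 2 ∣ Nat.card (Subgroup.centralizer ((P : Subgroup G) : Set G)) := ⟨_, hC⟩
  obtain ⟨x, hx⟩ := exists_prime_orderOf_dvd_card' 2 h2
  exact ⟨x.1, x.2, by rw [Subgroup.orderOf_coe]; exact hx⟩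

theorem t_not_mem_P {t : G} (ht : orderOf t = 2) : t ∉ (P : Subgroup G) := by
  intro h
  have h1 := Subgroup.orderOf_dvd_natCard (P : Subgroup G) h
  rw [ht] at h1
  have h2 := odd_card_P P
  rw [← Nat.not_even_iff_odd] at h2
  exact h2 (even_iff_two_dvd.mpr h1)

theorem sq_of_order_two {t : G} (ht : orderOf t = 2) : t * t = 1 := by
  have := pow_orderOf_eq_one t
  rw [ht, pow_two] at this
  exact this

theorem ne_one_of_order_two {t : G} (ht : orderOf t = 2) : t ≠ 1 := by
  rintro rfl
  rw [orderOf_one] at ht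
  omega

include hab hC in
theorem C_cases {t : G} (htC : t ∈ Subgroup.centralizer ((P : Subgroup G) : Set G))
    (ht : orderOf t = 2) {g : G} (hg : g ∈ Subgroup.centralizer ((P : Subgroup G) : Set G)) :
    g ∈ (P : Subgroup G) ∨ t⁻¹ * g ∈ (P : Subgroup G) :=
  Cfsg.Agent.Lib.Helper63.TIChar.mem_cases (P : Subgroup G) _ t (P_le_C P hab) hC htC
    (t_not_mem_P P ht) hg

theorem comm_of_mem_P {a x : G} (ha : a ∈ (P : Subgroup G))
    (hx : x ∈ Subgroup.centralizer ((P : Subgroup G) : Set G)) : a * x = x * a :=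
  (Subgroup.mem_centralizer_iff.mp hx) a ha

include hab hC in
theorem C_comm : ∀ a ∈ Subgroup.centralizer ((P : Subgroup G) : Set G),
    ∀ b ∈ Subgroup.centralizer ((P : Subgroup G) : Set G), a * b = b * a := by
  obtain ⟨t, htC, ht⟩ := exists_t P hC
  intro a ha b hb
  rcases C_cases P hab hC htC ht ha with ha1 | ha1
  · exact comm_of_mem_P P ha1 hb
  · rcases C_cases P hab hC htC ht hb with hb1 | hb1
    · exact (comm_of_mem_P P hb1 ha).symm
    · have e1 : (t⁻¹ * a) * t = t * (t⁻¹ * a) := comm_of_mem_P P ha1 htC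
      have e2 : (t⁻¹ * b) * t = t * (t⁻¹ * b) := comm_of_mem_P P hb1 htC
      have e3 : (t⁻¹ * a) * (t⁻¹ * b) = (t⁻¹ * b) * (t⁻¹ * a) :=
        comm_of_mem_P P ha1 (P_le_C P hab hb1)
      calc a * b = t * ((t⁻¹ * a) * t) * (t⁻¹ * b) := by group
        _ = t * (t * (t⁻¹ * a)) * (t⁻¹ * b) := by rw [e1]
        _ = t * t * ((t⁻¹ * a) * (t⁻¹ * b)) := by group
        _ = t * t * ((t⁻¹ * b) * (t⁻¹ * a)) := by rw [e3]
        _ = t * (t * (t⁻¹ * b)) * (t⁻¹ * a) := by group
        _ = t * ((t⁻¹ * b) * t) * (t⁻¹ * a) := by rw [e2]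
        _ = b * a := by group

include hab hC in
theorem t_unique {t : G} (htC : t ∈ Subgroup.centralizer ((P : Subgroup G) : Set G))
    (ht : orderOf t = 2) : ∀ z ∈ Subgroup.centralizer ((P : Subgroup G) : Set G),
    z * z = 1 → z = 1 ∨ z = t := by
  intro z hz hz2
  rcases C_cases P hab hC htC ht hz with h1 | h1
  · left; exact eq_one_of_sq P h1 hz2
  · right
    have ht2 := sq_of_order_two ht
    have e1 : z * t⁻¹ = t⁻¹ * z := C_comm P hab hC z hz t⁻¹ (Subgroup.inv_mem _ htC)
    have h2 : (t⁻¹ * z) * (t⁻¹ * z) = 1 := by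
      calc (t⁻¹ * z) * (t⁻¹ * z) = t⁻¹ * (z * t⁻¹) * z := by group
        _ = t⁻¹ * (t⁻¹ * z) * z := by rw [e1]
        _ = (t * t)⁻¹ * (z * z) := by group
        _ = 1 := by rw [ht2, hz2]; group
    have h3 := eq_one_of_sq P h1 h2
    calc z = t * (t⁻¹ * z) := by group
      _ = t := by rw [h3, mul_one]

end Struct

section NC

variable {G : Type u} [Group G] [Finite G] (P : Sylow 3 G)
  (hab : IsMulCommutative P)
  (hN : Nat.card (Subgroup.normalizer ((P : Subgroup G) : Set G)) = 4 * Nat.card (P : Subgroup G))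
  (hC : Nat.card (Subgroup.centralizer ((P : Subgroup G) : Set G)) = 2 * Nat.card (P : Subgroup G))
  (hTI : Cfsg.IsTISubset (Subgroup.centralizer ((P : Subgroup G) : Set G) : Set G))
  (heven : ∀ H : Subgroup G, H ≠ ⊤ → 2 ∣ Nat.card H → Nat.card H ∣ 4 * Nat.card (P : Subgroup G))

include hab hC in
theorem t_central_N {t : G} (htC : t ∈ Subgroup.centralizer ((P : Subgroup G) : Set G))
    (ht : orderOf t = 2) {n : G} (hn : n ∈ Subgroup.normalizer ((P : Subgroup G) : Set G)) :
    n * t * n⁻¹ = t := by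
  have h1 := N_conj_C P hn htC
  have h2 : (n * t * n⁻¹) * (n * t * n⁻¹) = 1 := by
    calc (n * t * n⁻¹) * (n * t * n⁻¹) = n * (t * t) * n⁻¹ := by group
      _ = 1 := by rw [sq_of_order_two ht]; group
  rcases t_unique P hab hC htC ht _ h1 h2 with h | h
  · exfalso
    apply ne_one_of_order_two ht
    calc t = n⁻¹ * (n * t * n⁻¹) * n := by group
      _ = 1 := by rw [h]; group
  · exact h

theorem exists_orderOf_of_mem_P {x : G} (hx : x ∈ (P : Subgroup G)) : ∃ k : ℕ, orderOf x = 3 ^ k := by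
  obtain ⟨k, hk⟩ := (IsPGroup.iff_orderOf.mp P.isPGroup') ⟨x, hx⟩
  refine ⟨k, ?_⟩
  rw [← hk]
  exact Subgroup.orderOf_coe (⟨x, hx⟩ : (P : Subgroup G))

include hab in
theorem normalizerC_le_N :
    Subgroup.normalizer ((Subgroup.centralizer ((P : Subgroup G) : Set G) : Subgroup G) : Set G)
      ≤ Subgroup.normalizer ((P : Subgroup G) : Set G) := by
  have key : ∀ g ∈ Subgroup.normalizer
      ((Subgroup.centralizer ((P : Subgroup G) : Set G) : Subgroup G) : Set G),
      ∀ h ∈ (P : Subgroup G), g * h * g⁻¹ ∈ (P : Subgroup G) := by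
    intro g hg h hh
    have h1 : g * h * g⁻¹ ∈ Subgroup.centralizer ((P : Subgroup G) : Set G) :=
      (Subgroup.mem_normalizer_iff.mp hg h).mp (P_le_C P hab hh)
    have h2 := Subgroup.centralizer_le_normalizer _ h1
    obtain ⟨k, hk⟩ := exists_orderOf_of_mem_P P hh
    apply Cfsg.Agent.Lib.Helper22.mem_sylow_of_mem_normalizer P _ h2
    exact ⟨k, by rw [Cfsg.Agent.Lib.Helper22.orderOf_conj_eq, hk]⟩
  intro g hg
  rw [Subgroup.mem_normalizer_iff]
  intro h
  constructor
  · exact key g hg h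
  · intro hh
    have := key g⁻¹ (Subgroup.inv_mem _ hg) _ hh
    have e : g⁻¹ * (g * h * g⁻¹) * g⁻¹⁻¹ = h := by group
    rw [e] at this
    exact this

include hab hTI in
theorem ti_mem_N : ∀ z ∈ Subgroup.centralizer ((P : Subgroup G) : Set G), z ≠ 1 →
    ∀ g : G, g * z * g⁻¹ ∈ Subgroup.centralizer ((P : Subgroup G) : Set G) →
    g ∈ Subgroup.normalizer ((P : Subgroup G) : Set G) := by
  intro z hz hz1 g hg
  by_contra hgN
  apply hz1
  apply hTI g (fun h => hgN (normalizerC_le_N P hab h)) z hz hg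

include hN in
theorem four_dvd_card : 4 * Nat.card (P : Subgroup G) ∣ Nat.card G := by
  rw [← hN]
  exact Subgroup.card_subgroup_dvd_card _

include hab hN hC heven in
theorem centralizer_t_eq (hs : IsSimpleGroup G) {t : G}
    (htC : t ∈ Subgroup.centralizer ((P : Subgroup G) : Set G)) (ht : orderOf t = 2) :
    Subgroup.normalizer ((P : Subgroup G) : Set G) = Subgroup.centralizer ({t} : Set G) := by
  have hle : Subgroup.normalizer ((P : Subgroup G) : Set G) ≤ Subgroup.centralizer ({t} : Set G) := by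
    intro n hn
    rw [Subgroup.mem_centralizer_iff]
    intro h hh
    rw [Set.mem_singleton_iff] at hh
    subst hh
    have := t_central_N P hab hC htC ht hn
    calc h * n = (n * h * n⁻¹) * n := by rw [this]
      _ = n * h := by group
  have htmem : t ∈ Subgroup.centralizer ({t} : Set G) := by
    rw [Subgroup.mem_centralizer_iff]
    intro h hh
    rw [Set.mem_singleton_iff] at hh
    rw [hh]
  have h2 : 2 ∣ Nat.card (Subgroup.centralizer ({t} : Set G)) := by
    rw [← ht]
    exact Subgroup.orderOf_dvd_natCard _ htmem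
  have hne : Subgroup.centralizer ({t} : Set G) ≠ ⊤ := by
    intro htop
    have hcen : ∀ g : G, g * t = t * g := by
      intro g
      have : g ∈ Subgroup.centralizer ({t} : Set G) := by rw [htop]; trivial
      exact ((Subgroup.mem_centralizer_iff.mp this) t rfl).symm
    have hnorm : (Subgroup.zpowers t).Normal := by
      constructor
      intro x hx g
      obtain ⟨k, rfl⟩ := Subgroup.mem_zpowers_iff.mp hx
      have : g * t ^ k * g⁻¹ = t ^ k := by
        have hc : Commute g t := hcen g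
        have := hc.zpow_right k
        calc g * t ^ k * g⁻¹ = t ^ k * g * g⁻¹ := by rw [this.eq]
          _ = t ^ k := by group
      rw [this]
      exact Subgroup.zpow_mem_zpowers t k
    rcases hnorm.eq_bot_or_eq_top with h | h
    · apply ne_one_of_order_two ht
      rw [← Subgroup.zpowers_eq_bot]
      exact h
    · have h1 : Nat.card (Subgroup.zpowers t) = 2 := by rw [Nat.card_zpowers, ht]
      rw [h, Subgroup.card_top] at h1
      have h3 := four_dvd_card P hN
      rw [h1] at h3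
      have hpos : 0 < Nat.card (P : Subgroup G) := Nat.card_pos
      have := Nat.le_of_dvd (by norm_num) h3
      omega
  have h3 := heven _ hne h2
  have h4 : Nat.card (Subgroup.centralizer ({t} : Set G))
      ≤ Nat.card (Subgroup.normalizer ((P : Subgroup G) : Set G)) := by
    rw [hN]
    exact Nat.le_of_dvd (by have : 0 < Nat.card (P : Subgroup G) := Nat.card_pos; omega) h3
  exact Subgroup.eq_of_le_of_card_ge hle h4

include hN heven in
theorem card_G_four_odd (hq : Nat.card (P : Subgroup G) ≠ 1) :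
    ∃ g₀ : ℕ, Odd g₀ ∧ Nat.card G = 4 * g₀ := by
  have hodd := odd_card_P P
  have h4 : 4 ∣ Nat.card G := Dvd.dvd.trans (Dvd.intro _ rfl) (four_dvd_card P hN)
  obtain ⟨g₀, hg₀⟩ := h4
  refine ⟨g₀, ?_, hg₀⟩
  by_contra hne
  rw [Nat.not_odd_iff_even] at hne
  obtain ⟨k, hk⟩ := hne
  have h8 : 2 ^ 3 ∣ Nat.card G := ⟨k, by rw [hg₀, hk]; ring⟩
  obtain ⟨K, hK⟩ := Sylow.exists_subgroup_card_pow_prime 2 h8
  have hKne : K ≠ ⊤ := by
    rintro rfl
    rw [Subgroup.card_top] at hK
    have h3 := four_dvd_card P hN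
    rw [hK] at h3
    obtain ⟨j, hj⟩ := h3
    obtain ⟨i, hi⟩ := hodd
    rcases j with _ | _ | j
    · omega
    · omega
    · have : 4 * Nat.card (P : Subgroup G) * (j + 1 + 1) ≥ 4 * Nat.card (P : Subgroup G) * 2 :=
        Nat.mul_le_mul_left _ (by omega)
      have hpos : 0 < Nat.card (P : Subgroup G) := Nat.card_pos
      omega
  have h2 : 2 ∣ Nat.card K := by rw [hK]; norm_num
  have h3 := heven K hKne h2
  rw [hK] at h3
  obtain ⟨i, hi⟩ := hodd
  obtain ⟨j, hj⟩ := h3
  omega

include hab hN hC heven in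
theorem klein_facts (hs : IsSimpleGroup G) (hq : Nat.card (P : Subgroup G) ≠ 1) {t : G}
    (ht : orderOf t = 2) :
    ∃ S : Sylow 2 G, t ∈ (S : Subgroup G) ∧ IsKleinFour (S : Subgroup G) ∧
      ∀ s : G, orderOf s = 2 → IsConj t s := by
  obtain ⟨g₀, hg₀, hG⟩ := card_G_four_odd P hN heven hq
  have hp : IsPGroup 2 (Subgroup.zpowers t) :=
    IsPGroup.of_card (n := 1) (by rw [Nat.card_zpowers, ht]; norm_num)
  obtain ⟨S, hS⟩ := hp.exists_le_sylow
  have htS : t ∈ (S : Subgroup G) := hS (Subgroup.mem_zpowers t)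
  have hnc : ¬ ∃ K : Subgroup G, K.Normal ∧ Nat.card K = g₀ := by
    rintro ⟨K, hKn, hK⟩
    rcases hKn.eq_bot_or_eq_top with h | h
    · rw [h, Subgroup.card_bot] at hK
      have h3 := four_dvd_card P hN
      rw [hG, ← hK] at h3
      have hpos : 0 < Nat.card (P : Subgroup G) := Nat.card_pos
      have := Nat.le_of_dvd (by norm_num) h3
      omega
    · rw [h, Subgroup.card_top, hG] at hK
      obtain ⟨i, hi⟩ := hg₀
      omega
  obtain ⟨h1, h2⟩ := Cfsg.Agent.Lib.Helper22.four_sylow_no_complement g₀ hg₀ hG hnc S t htS ht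
  exact ⟨S, htS, h1, h2⟩

include hab hC in
theorem exists_u {t : G} (htC : t ∈ Subgroup.centralizer ((P : Subgroup G) : Set G))
    (ht : orderOf t = 2) (S : Sylow 2 G) (htS : t ∈ (S : Subgroup G))
    (hK : IsKleinFour (S : Subgroup G))
    (hNt : Subgroup.normalizer ((P : Subgroup G) : Set G) = Subgroup.centralizer ({t} : Set G)) :
    ∃ u : G, u ∈ Subgroup.normalizer ((P : Subgroup G) : Set G) ∧
      u ∉ Subgroup.centralizer ((P : Subgroup G) : Set G) ∧ u * u = 1 := by
  have hsq : ∀ x ∈ (S : Subgroup G), x * x = 1 := by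
    intro x hx
    have := IsKleinFour.mul_self (⟨x, hx⟩ : (S : Subgroup G))
    exact congrArg Subtype.val this
  have hcomm : ∀ a ∈ (S : Subgroup G), ∀ b ∈ (S : Subgroup G), a * b = b * a := by
    intro a ha b hb
    have := mul_comm_of_exponent_two (IsKleinFour.exponent_two (G := (S : Subgroup G)))
      (⟨a, ha⟩ : (S : Subgroup G)) ⟨b, hb⟩
    exact congrArg Subtype.val this
  have hSN : (S : Subgroup G) ≤ Subgroup.normalizer ((P : Subgroup G) : Set G) := by
    rw [hNt]
    intro x hx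
    rw [Subgroup.mem_centralizer_iff]
    intro h hh
    rw [Set.mem_singleton_iff] at hh
    subst hh
    exact hcomm h htS x hx
  by_contra hne
  push Not at hne
  have hall : ∀ x ∈ (S : Subgroup G), x = 1 ∨ x = t := by
    intro x hx
    have hxC : x ∈ Subgroup.centralizer ((P : Subgroup G) : Set G) := by
      by_contra hxC
      exact hne x (hSN hx) hxC (hsq x hx)
    exact t_unique P hab hC htC ht x hxC (hsq x hx)
  have hsub : ((S : Subgroup G) : Set G) ⊆ {1, t} := by
    intro x hx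
    rcases hall x hx with h | h
    · left; exact h
    · right; exact h
  have h1 : Nat.card (S : Subgroup G) = (((S : Subgroup G) : Set G)).ncard :=
    (Nat.card_coe_set_eq _)
  have h2 := Set.ncard_le_ncard hsub (Set.toFinite _)
  have h3 : ({1, t} : Set G).ncard ≤ 2 := by
    have := Set.ncard_insert_le (1 : G) ({t} : Set G)
    rw [Set.ncard_singleton] at this
    exact this
  have h4 : Nat.card (S : Subgroup G) = 4 := IsKleinFour.card_four
  omega

include hab hN hC hTI heven in
theorem u_inverts_P (hs : IsSimpleGroup G) {t : G}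
    (htC : t ∈ Subgroup.centralizer ((P : Subgroup G) : Set G)) (ht : orderOf t = 2)
    (hconj : ∀ s : G, orderOf s = 2 → IsConj t s) {u : G}
    (huN : u ∈ Subgroup.normalizer ((P : Subgroup G) : Set G))
    (huC : u ∉ Subgroup.centralizer ((P : Subgroup G) : Set G)) (hu2 : u * u = 1) :
    ∀ x ∈ (P : Subgroup G), u * x * u⁻¹ = x⁻¹ := by
  have hNt := centralizer_t_eq P hab hN hC heven hs htC ht
  have hu1 : u ≠ 1 := by
    rintro rfl
    exact huC (Subgroup.one_mem _)
  have huo : orderOf u = 2 := orderOf_eq_prime (by rw [pow_two]; exact hu2) hu1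
  obtain ⟨g, hg⟩ := isConj_iff.mp (hconj u huo)
  have huinv : u⁻¹ = u := inv_eq_of_mul_eq_one_left hu2
  -- fixed points are trivial
  have hfix : ∀ y ∈ (P : Subgroup G), u * y = y * u → y = 1 := by
    intro y hy hyu
    by_contra hy1
    have h1 : g⁻¹ * y * g ∈ Subgroup.centralizer ({t} : Set G) := by
      rw [Subgroup.mem_centralizer_iff]
      intro h hh
      rw [Set.mem_singleton_iff] at hh
      subst hh
      have e : u = g * h * g⁻¹ := hg.symm
      calc h * (g⁻¹ * y * g) = g⁻¹ * ((g * h * g⁻¹) * y) * g := by group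
        _ = g⁻¹ * (y * (g * h * g⁻¹)) * g := by rw [← e, hyu]
        _ = g⁻¹ * y * g * h := by group
    rw [← hNt] at h1
    obtain ⟨k, hk⟩ := exists_orderOf_of_mem_P P hy
    have h2 : g⁻¹ * y * g ∈ (P : Subgroup G) := by
      apply Cfsg.Agent.Lib.Helper22.mem_sylow_of_mem_normalizer P _ h1
      refine ⟨k, ?_⟩
      have := Cfsg.Agent.Lib.Helper22.orderOf_conj_eq g⁻¹ y
      rw [inv_inv] at this
      rw [this, hk]
    have h3 : g⁻¹ * y * g⁻¹⁻¹ ∈ Subgroup.centralizer ((P : Subgroup G) : Set G) := by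
      rw [inv_inv]; exact P_le_C P hab h2
    have h4 := ti_mem_N P hab hTI y (P_le_C P hab hy) hy1 g⁻¹ h3
    have h5 : g ∈ Subgroup.normalizer ((P : Subgroup G) : Set G) := by
      have := Subgroup.inv_mem _ h4
      rwa [inv_inv] at this
    have h6 := t_central_N P hab hC htC ht h5
    rw [hg] at h6
    exact huC (h6 ▸ htC)
  intro x hx
  have hux : u * x * u⁻¹ ∈ (P : Subgroup G) := (Subgroup.mem_normalizer_iff.mp huN x).mp hx
  have hcomm : x * (u * x * u⁻¹) = (u * x * u⁻¹) * x := by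
    have := hab.is_comm.comm (⟨x, hx⟩ : P) ⟨u * x * u⁻¹, hux⟩
    exact congrArg Subtype.val this
  have hy : x * (u * x * u⁻¹) ∈ (P : Subgroup G) := Subgroup.mul_mem _ hx hux
  have hyu : u * (x * (u * x * u⁻¹)) = (x * (u * x * u⁻¹)) * u := by
    calc u * (x * (u * x * u⁻¹)) = (u * x * u⁻¹) * (u * u) * x * u⁻¹ := by group
      _ = (u * x * u⁻¹) * x * u⁻¹ := by rw [hu2, mul_one]
      _ = x * (u * x * u⁻¹) * u⁻¹ := by rw [hcomm]
      _ = (x * (u * x * u⁻¹)) * u := by rw [huinv]
  have := hfix _ hy hyu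
  exact (eq_inv_of_mul_eq_one_right this)

end NC

end Cfsg.Agent.Lib.Helper63.TIGroup
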