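import Cfsg.Agent.Lib.Helper63.TIGroupA

set_option autoImplicit false
set_option linter.unusedSectionVars false
set_option linter.style.haveILetI false

namespace Cfsg.Agent.Lib.Helper63.TIGroup

open Cfsg
open Cfsg.Agent.Lib.Helper63.TIChar
open Cfsg.Agent.Lib.Helper22 (invInd invConv)
open scoped ComplexConjugate

universe u

section Abs

variable {G : Type u} [Group G] [Fintype G] (C N : Subgroup G) (t u : G)
  (hCN : C ≤ N) (hab : ∀ a ∈ C, ∀ b ∈ C, a * b = b * a)
  (hN2 : Nat.card N = 2 * Nat.card C) (huN : u ∈ N) (huC : u ∉ C) (hu2 : u * u = 1)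
  (hinv : ∀ z ∈ C, u * z * u⁻¹ = z⁻¹)
  (hTI : ∀ z ∈ C, z ≠ 1 → ∀ g : G, g * z * g⁻¹ ∈ C → g ∈ N)
  (htC : t ∈ C) (ht : orderOf t = 2) (htu : ∀ z ∈ C, z * z = 1 → z = 1 ∨ z = t)

include hCN hN2 huN huC hu2 hinv in
theorem order_two_of_mem_diff {v : G} (hvN : v ∈ N) (hvC : v ∉ C) : orderOf v = 2 := by
  have hv1 : v ≠ 1 := by
    rintro rfl
    exact hvC (Subgroup.one_mem _)
  rcases mem_cases C N u hCN hN2 huN huC hvN with h | h
  · exact absurd h hvC
  · have h1 := hinv _ h
    have hvv : v * v = 1 := by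
      calc v * v = (u * (u⁻¹ * v) * u⁻¹) * (u * u) * (u⁻¹ * v) := by group
        _ = (u⁻¹ * v)⁻¹ * (u * u) * (u⁻¹ * v) := by rw [h1]
        _ = 1 := by rw [hu2]; group
    exact orderOf_eq_prime (by rw [pow_two]; exact hvv) hv1

include hCN hab hN2 huN huC hinv in
theorem inverts_of_mem_diff {v : G} (hvN : v ∈ N) (hvC : v ∉ C) :
    ∀ z ∈ C, v * z * v⁻¹ = z⁻¹ := by
  intro z hz
  rcases mem_cases C N u hCN hN2 huN huC hvN with h | h
  · exact absurd h hvC
  · have h1 : (u⁻¹ * v) * z * (u⁻¹ * v)⁻¹ = z := by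
      have := hab _ h z hz
      calc (u⁻¹ * v) * z * (u⁻¹ * v)⁻¹ = ((u⁻¹ * v) * z) * (u⁻¹ * v)⁻¹ := by group
        _ = (z * (u⁻¹ * v)) * (u⁻¹ * v)⁻¹ := by rw [this]
        _ = z := by group
    calc v * z * v⁻¹ = u * ((u⁻¹ * v) * z * (u⁻¹ * v)⁻¹) * u⁻¹ := by group
      _ = u * z * u⁻¹ := by rw [h1]
      _ = z⁻¹ := hinv z hz

theorem invInd_eq_one {v : G} (h : orderOf v = 2) : invInd v = 1 := by
  unfold Cfsg.Agent.Lib.Helper22.invInd
  rw [if_pos h]

theorem invInd_eq_zero {v : G} (h : orderOf v ≠ 2) : invInd v = 0 := by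
  unfold Cfsg.Agent.Lib.Helper22.invInd
  rw [if_neg h]

open Classical in
include hCN hab hN2 huN huC hu2 hinv hTI htC ht htu in
theorem invConv_eq_card {z : G} (hz : z ∈ C) (hz1 : z ≠ 1) :
    invConv z = (Nat.card C : ℂ) := by
  unfold Cfsg.Agent.Lib.Helper22.invConv
  have hpt : ∀ v : G, invInd v * invInd (v⁻¹ * z)
      = (if v ∈ N then (1 : ℂ) else 0) - (if v ∈ C then (1 : ℂ) else 0) := by
    intro v
    by_cases hvN : v ∈ N
    · by_cases hvC : v ∈ C
      · rw [if_pos hvN, if_pos hvC, sub_self]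
        by_cases h1 : orderOf v = 2
        · -- then v = t
          have hvv : v * v = 1 := sq_of_order_two h1
          have hvt : v = t := by
            rcases htu v hvC hvv with h | h
            · exact absurd h (ne_one_of_order_two h1)
            · exact h
          have h2 : orderOf (v⁻¹ * z) ≠ 2 := by
            intro h2
            have hwC : v⁻¹ * z ∈ C := Subgroup.mul_mem _ (Subgroup.inv_mem _ hvC) hz
            have hww := sq_of_order_two h2
            rcases htu _ hwC hww with h | h
            · exact ne_one_of_order_two h2 h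
            · apply hz1
              rw [hvt] at h
              have htt := sq_of_order_two ht
              calc z = t * (t⁻¹ * z) := by group
                _ = 1 := by rw [h, htt]
          rw [invInd_eq_zero h2, mul_zero]
        · rw [invInd_eq_zero h1, zero_mul]
      · rw [if_pos hvN, if_neg hvC, sub_zero]
        have h1 := order_two_of_mem_diff C N u hCN hN2 huN huC hu2 hinv hvN hvC
        have hwN : v⁻¹ * z ∈ N := Subgroup.mul_mem _ (Subgroup.inv_mem _ hvN) (hCN hz)
        have hwC : v⁻¹ * z ∉ C := by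
          intro h
          apply hvC
          have : v = z * (v⁻¹ * z)⁻¹ := by group
          rw [this]
          exact Subgroup.mul_mem _ hz (Subgroup.inv_mem _ h)
        have h2 := order_two_of_mem_diff C N u hCN hN2 huN huC hu2 hinv hwN hwC
        rw [invInd_eq_one h1, invInd_eq_one h2, mul_one]
    · have hvC : v ∉ C := fun h => hvN (hCN h)
      rw [if_neg hvN, if_neg hvC, sub_zero]
      by_cases h1 : orderOf v = 2
      · by_cases h2 : orderOf (v⁻¹ * z) = 2
        · exfalso
          apply hvN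
          have hvv := sq_of_order_two h1
          have hww := sq_of_order_two h2
          have hvinv : v⁻¹ = v := inv_eq_of_mul_eq_one_left hvv
          apply hTI z hz hz1 v
          have : v * z * v⁻¹ = z⁻¹ := by
            rw [hvinv] at hww ⊢
            have : v * z * v * z = 1 := by rw [← hww]; group
            calc v * z * v = (v * z * v * z) * z⁻¹ := by group
              _ = z⁻¹ := by rw [this, one_mul]
          rw [this]
          exact Subgroup.inv_mem _ hz
        · rw [invInd_eq_zero h2, mul_zero]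
      · rw [invInd_eq_zero h1, zero_mul]
  rw [Finset.sum_congr rfl (fun v _ => hpt v), Finset.sum_sub_distrib, sum_ite_mem, sum_ite_mem,
    hN2]
  push_cast
  ring

theorem conj_invConv (x : G) : conj (invConv x) = invConv x := by
  unfold Cfsg.Agent.Lib.Helper22.invConv
  rw [map_sum]
  apply Finset.sum_congr rfl
  intro v _
  rw [map_mul, Cfsg.Agent.Lib.Helper22.conj_invInd, Cfsg.Agent.Lib.Helper22.conj_invInd]

theorem sum_invConv : ∑ x : G, invConv x = (∑ v : G, invInd v) ^ 2 := by
  unfold Cfsg.Agent.Lib.Helper22.invConv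
  rw [Finset.sum_comm, pow_two, Finset.sum_mul]
  apply Finset.sum_congr rfl
  intro v _
  rw [← Finset.mul_sum]
  congr 1
  exact Equiv.sum_comp (Equiv.mulLeft v⁻¹) (fun y => invInd y)

theorem invInd_inv (v : G) : invInd v⁻¹ = invInd v := by
  unfold Cfsg.Agent.Lib.Helper22.invInd
  rw [orderOf_inv]

theorem invInd_mul_self (v : G) : invInd v * invInd v = invInd v := by
  unfold Cfsg.Agent.Lib.Helper22.invInd
  split_ifs <;> simp

theorem invConv_one : invConv (1 : G) = ∑ v : G, invInd v := by
  unfold Cfsg.Agent.Lib.Helper22.invConv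
  apply Finset.sum_congr rfl
  intro v _
  rw [mul_one, invInd_inv, invInd_mul_self]

theorem sum_invInd_mul_card (hone : ∀ s : G, orderOf s = 2 → IsConj t s) (ht : orderOf t = 2) :
    (∑ v : G, invInd v) * (Nat.card (Subgroup.centralizer ({t} : Set G)) : ℂ)
      = (Nat.card G : ℂ) := by
  have := Cfsg.Agent.Lib.Helper22.sum_invInd_mul_of_conj t ht hone (Cfsg.Agent.Lib.Helper83.trivChar G)
  simpa [Cfsg.Agent.Lib.Helper83.trivChar_apply] using this

open Classical in
include hCN hab hN2 huN huC hu2 hinv hTI htC ht htu in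
theorem order_formula (hone : ∀ s : G, orderOf s = 2 → IsConj t s)
    (hcent : Nat.card (Subgroup.centralizer ({t} : Set G)) = 2 * Nat.card C)
    (hsupp : ∀ x : G, x ≠ 1 → invConv x ≠ 0 → ∃ g : G, g⁻¹ * x * g ∈ C) :
    (Nat.card G : ℤ) = 2 * (Nat.card C : ℤ) * ((Nat.card C : ℤ) ^ 2 - (Nat.card C : ℤ) + 1) := by
  letI : Fintype C := Fintype.ofFinite _
  set φ₀ : C → ℂ := fun z => if z = 1 then 0 else 1 with hφ₀
  have hφ1 : φ₀ 1 = 0 := by simp [hφ₀]
  set m : ℂ := ∑ v : G, invInd v with hm
  have hcpos : (Nat.card C : ℂ) ≠ 0 := by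
    have : 0 < Nat.card C := Nat.card_pos
    exact_mod_cast this.ne'
  have hgpos : (Nat.card G : ℂ) ≠ 0 := Cfsg.Agent.Lib.Helper83.card_ne_zero_complex
  -- Frobenius side
  have hF : classInner (indFun C φ₀) (invConv (G := G)) = (Nat.card C : ℂ) - 1 := by
    rw [Cfsg.Agent.Lib.Helper04.frobenius_reciprocity C φ₀ _
      Cfsg.Agent.Lib.Helper22.isClassFunction_invConv]
    unfold classInner
    have hpt : ∀ z : C, φ₀ z * conj (invConv (z : G))
        = (Nat.card C : ℂ) - (if z = 1 then (Nat.card C : ℂ) else 0) := by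
      intro z
      by_cases hz : z = 1
      · rw [if_pos hz, hφ₀]
        simp [hz]
      · rw [if_neg hz, hφ₀]
        have hz' : (z : G) ≠ 1 := fun h => hz (Subtype.ext h)
        rw [conj_invConv, invConv_eq_card C N t u hCN hab hN2 huN huC hu2 hinv hTI htC ht htu z.2 hz']
        simp [hz]
    rw [Finset.sum_congr rfl (fun z _ => hpt z), Finset.sum_sub_distrib, Finset.sum_const,
      Finset.card_univ, ← Nat.card_eq_fintype_card, Finset.sum_ite_eq' Finset.univ (1 : C)]
    simp only [Finset.mem_univ, if_true, nsmul_eq_mul]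
    field_simp
  -- direct side
  have hD : classInner (indFun C φ₀) (invConv (G := G))
      = (Nat.card G : ℂ)⁻¹ * (2 * (m ^ 2 - m)) := by
    unfold classInner
    congr 1
    have hpt : ∀ x : G, indFun C φ₀ x * conj (invConv x)
        = 2 * invConv x - (if x = 1 then 2 * invConv (1 : G) else 0) := by
      intro x
      rw [conj_invConv]
      by_cases hx : x = 1
      · subst hx
        rw [if_pos rfl, sub_self]
        rw [indFun_apply_of_mem C N u hCN hab hN2 huN huC hinv hTI φ₀ hφ1 1 (Subgroup.one_mem _)]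
        have e1 : (⟨1, Subgroup.one_mem _⟩ : C) = 1 := rfl
        have e2 : (⟨(1 : G)⁻¹, Subgroup.inv_mem _ (Subgroup.one_mem _)⟩ : C) = 1 := by
          apply Subtype.ext; simp
        rw [e1, e2, hφ1]; ring
      · rw [if_neg hx, sub_zero]
        by_cases h0 : invConv x = 0
        · rw [h0, mul_zero, mul_zero]
        · obtain ⟨g, hg⟩ := hsupp x hx h0
          have hcl := Cfsg.Agent.Lib.Helper04.indFun_isClassFunction C φ₀ x g⁻¹
          rw [inv_inv] at hcl
          rw [← hcl, indFun_apply_of_mem C N u hCN hab hN2 huN huC hinv hTI φ₀ hφ1 _ hg]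
          have hne : g⁻¹ * x * g ≠ 1 := by
            intro h
            apply hx
            calc x = g * (g⁻¹ * x * g) * g⁻¹ := by group
              _ = 1 := by rw [h]; group
          have e1 : φ₀ ⟨g⁻¹ * x * g, hg⟩ = 1 := by
            rw [hφ₀]
            simp only
            rw [if_neg]
            intro h
            exact hne (congrArg Subtype.val h)
          have e2 : φ₀ ⟨(g⁻¹ * x * g)⁻¹, Subgroup.inv_mem _ hg⟩ = 1 := by
            rw [hφ₀]
            simp only
            rw [if_neg]
            intro h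
            apply hne
            have h' : (g⁻¹ * x * g)⁻¹ = 1 := congrArg Subtype.val h
            exact inv_eq_one.mp h'
          rw [e1, e2]
          ring
    rw [Finset.sum_congr rfl (fun x _ => hpt x), Finset.sum_sub_distrib, ← Finset.mul_sum,
      sum_invConv, Finset.sum_ite_eq' Finset.univ (1 : G)]
    simp only [Finset.mem_univ, if_true]
    rw [invConv_one]
    ring
  have hmc := sum_invInd_mul_card t hone ht
  rw [hcent, ← hm] at hmc
  rw [hF] at hD
  -- algebra
  have hm0 : m ≠ 0 := by
    intro h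
    rw [h, zero_mul] at hmc
    exact hgpos hmc.symm
  have hkey : m = (Nat.card C : ℂ) ^ 2 - (Nat.card C : ℂ) + 1 := by
    have h1 : ((Nat.card C : ℂ) - 1) * (Nat.card G : ℂ) = 2 * (m ^ 2 - m) := by
      rw [hD]; field_simp
    rw [← hmc] at h1
    push_cast at h1
    have h2 : m * (2 * (Nat.card C : ℂ) * ((Nat.card C : ℂ) - 1)) = m * (2 * (m - 1)) := by
      linear_combination h1
    have h3 := mul_left_cancel₀ hm0 h2
    linear_combination (-1 / 2 : ℂ) * h3
  have hfin : ((Nat.card G : ℤ) : ℂ)
      = ((2 * (Nat.card C : ℤ) * ((Nat.card C : ℤ) ^ 2 - (Nat.card C : ℤ) + 1) : ℤ) : ℂ) := by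
    push_cast
    rw [← hmc, hkey]
    push_cast
    ring
  exact_mod_cast hfin

end Abs

end Cfsg.Agent.Lib.Helper63.TIGroup
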