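import Cfsg.Agent.Lib.Helper63.TIGroupB

set_option autoImplicit false
set_option linter.unusedSectionVars false
set_option linter.style.haveILetI false

namespace Cfsg.Agent.Lib.Helper63.TIGroup

open Cfsg
open Cfsg.Agent.Lib.Helper63.TIChar
open Cfsg.Agent.Lib.Helper22 (invInd invConv)
open scoped ComplexConjugate

universe u


theorem fac372 : (372 : ℕ).factorization 31 = 1 := by
  have h : (372 : ℕ) = 31 ^ 1 * 12 := by norm_num
  rw [h, Nat.factorization_mul (by norm_num) (by norm_num), Finsupp.add_apply,
    Nat.Prime.factorization_pow (by norm_num : Nat.Prime 31)]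
  have : (12 : ℕ).factorization 31 = 0 := Nat.factorization_eq_zero_of_not_dvd (by norm_num)
  rw [this]
  simp

theorem not_simple_372 {G : Type*} [Group G] [Finite G] (h : Nat.card G = 372) :
    ¬ IsSimpleGroup G := by
  intro hs
  have : Fact (Nat.Prime 31) := ⟨by norm_num⟩
  obtain ⟨Q⟩ : Nonempty (Sylow 31 G) := inferInstance
  have hQ : Nat.card (Q : Subgroup G) = 31 := by
    rw [Sylow.card_eq_multiplicity Q, h, fac372]; norm_num
  have hidx : (Q : Subgroup G).index = 12 := by
    have := Subgroup.card_mul_index (Q : Subgroup G)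
    rw [hQ, h] at this
    omega
  have h1 := card_sylow_modEq_one 31 G
  have h2 := Sylow.card_dvd_index Q
  rw [hidx] at h2
  have hle : Nat.card (Sylow 31 G) ≤ 12 := Nat.le_of_dvd (by norm_num) h2
  have hn : Nat.card (Sylow 31 G) = 1 := by
    unfold Nat.ModEq at h1
    have hpos : 0 < Nat.card (Sylow 31 G) := Nat.card_pos
    omega
  have hsub : Subsingleton (Sylow 31 G) := (Nat.card_eq_one_iff_unique.mp hn).1
  have hnorm : (Q : Subgroup G).Normal := Sylow.normal_of_subsingleton Q
  rcases hnorm.eq_bot_or_eq_top with h3 | h3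
  · rw [h3, Subgroup.card_bot] at hQ; omega
  · rw [h3, Subgroup.card_top, h] at hQ; omega

section Conc

variable {G : Type u} [Group G] [Fintype G] (P : Sylow 3 G)
  (hab : IsMulCommutative P)
  (hN : Nat.card (Subgroup.normalizer ((P : Subgroup G) : Set G)) = 4 * Nat.card (P : Subgroup G))
  (hC : Nat.card (Subgroup.centralizer ((P : Subgroup G) : Set G)) = 2 * Nat.card (P : Subgroup G))
  (hTI : Cfsg.IsTISubset (Subgroup.centralizer ((P : Subgroup G) : Set G) : Set G))
  (heven : ∀ H : Subgroup G, H ≠ ⊤ → 2 ∣ Nat.card H → Nat.card H ∣ 4 * Nat.card (P : Subgroup G))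

include hab hN hC hTI heven in
theorem u_inverts_C (hs : IsSimpleGroup G) {t : G}
    (htC : t ∈ Subgroup.centralizer ((P : Subgroup G) : Set G)) (ht : orderOf t = 2)
    (hconj : ∀ s : G, orderOf s = 2 → IsConj t s) {u : G}
    (huN : u ∈ Subgroup.normalizer ((P : Subgroup G) : Set G))
    (huC : u ∉ Subgroup.centralizer ((P : Subgroup G) : Set G)) (hu2 : u * u = 1) :
    ∀ z ∈ Subgroup.centralizer ((P : Subgroup G) : Set G), u * z * u⁻¹ = z⁻¹ := by
  have hP := u_inverts_P P hab hN hC hTI heven hs htC ht hconj huN huC hu2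
  intro z hz
  rcases C_cases P hab hC htC ht hz with h | h
  · exact hP z h
  · have h1 := hP _ h
    have h2 := t_central_N P hab hC htC ht huN
    have htt := sq_of_order_two ht
    have htinv : t⁻¹ = t := inv_eq_of_mul_eq_one_left htt
    have h3 : (t⁻¹ * z)⁻¹ * t = t * (t⁻¹ * z)⁻¹ :=
      comm_of_mem_P P (Subgroup.inv_mem _ h) htC
    calc u * z * u⁻¹ = (u * t * u⁻¹) * (u * (t⁻¹ * z) * u⁻¹) := by group
      _ = t * (t⁻¹ * z)⁻¹ := by rw [h1, h2]
      _ = (t⁻¹ * z)⁻¹ * t := h3.symm
      _ = (t⁻¹ * z)⁻¹ * t⁻¹ := by rw [htinv]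
      _ = z⁻¹ := by group

include hN hC in
theorem card_N_eq : Nat.card (Subgroup.normalizer ((P : Subgroup G) : Set G))
    = 2 * Nat.card (Subgroup.centralizer ((P : Subgroup G) : Set G)) := by
  rw [hN, hC]; ring

include hab hN hC hTI heven in
theorem conj_mem_C_of_prod (hs : IsSimpleGroup G) {t : G}
    (htC : t ∈ Subgroup.centralizer ((P : Subgroup G) : Set G)) (ht : orderOf t = 2)
    (S : Sylow 2 G) (hK : IsKleinFour (S : Subgroup G))
    (hconj : ∀ s : G, orderOf s = 2 → IsConj t s) {u : G}
    (huN : u ∈ Subgroup.normalizer ((P : Subgroup G) : Set G))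
    (huC : u ∉ Subgroup.centralizer ((P : Subgroup G) : Set G)) (hu2 : u * u = 1)
    {v w : G} (hv : orderOf v = 2) (hw : orderOf w = 2) (hx : v * w ≠ 1) :
    ∃ g : G, g⁻¹ * (v * w) * g ∈ Subgroup.centralizer ((P : Subgroup G) : Set G) := by
  have hinvC := u_inverts_C P hab hN hC hTI heven hs htC ht hconj huN huC hu2
  have hCN : Subgroup.centralizer ((P : Subgroup G) : Set G)
      ≤ Subgroup.normalizer ((P : Subgroup G) : Set G) := Subgroup.centralizer_le_normalizer _
  have hCab := C_comm P hab hC
  have hN2 := card_N_eq P hN hC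
  have hvv := sq_of_order_two hv
  have hww := sq_of_order_two hw
  have hvinv : v⁻¹ = v := inv_eq_of_mul_eq_one_left hvv
  have hwinv : w⁻¹ = w := inv_eq_of_mul_eq_one_left hww
  set x := v * w with hxdef
  have hvx : v * x * v⁻¹ = x⁻¹ := by
    rw [hxdef, hvinv]
    calc v * (v * w) * v = (v * v) * w * v := by group
      _ = w * v := by rw [hvv, one_mul]
      _ = w⁻¹ * v⁻¹ := by rw [hvinv, hwinv]
      _ = (v * w)⁻¹ := by group
  -- the normalizer of the cyclic group generated by x
  have hvH : v ∈ Subgroup.normalizer ((Subgroup.zpowers x : Subgroup G) : Set G) := by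
    have key : ∀ y ∈ Subgroup.zpowers x, v * y * v⁻¹ ∈ Subgroup.zpowers x := by
      intro y hy
      obtain ⟨k, rfl⟩ := Subgroup.mem_zpowers_iff.mp hy
      rw [← conj_zpow, hvx]
      exact Subgroup.zpow_mem _ (Subgroup.inv_mem _ (Subgroup.mem_zpowers x)) k
    rw [Subgroup.mem_normalizer_iff]
    intro y
    constructor
    · exact key y
    · intro h
      have := key _ h
      rw [hvinv] at this
      have e : v * (v * y * v) * v = (v * v) * y * (v * v) := by group
      rw [e, hvv, one_mul, mul_one] at this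
      exact this
  have h2H : 2 ∣ Nat.card (Subgroup.normalizer ((Subgroup.zpowers x : Subgroup G) : Set G)) := by
    rw [← hv]
    exact Subgroup.orderOf_dvd_natCard _ hvH
  have hHne : Subgroup.normalizer ((Subgroup.zpowers x : Subgroup G) : Set G) ≠ ⊤ := by
    intro htop
    have hnorm : (Subgroup.zpowers x).Normal := Subgroup.normalizer_eq_top_iff.mp htop
    rcases hnorm.eq_bot_or_eq_top with h | h
    · exact hx (Subgroup.zpowers_eq_bot.mp h)
    · have hvz : v ∈ Subgroup.zpowers x := by rw [h]; trivial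
      obtain ⟨k, hk⟩ := Subgroup.mem_zpowers_iff.mp hvz
      have hcomm : v * x = x * v := by
        rw [← hk]
        exact ((Commute.refl x).zpow_left k).eq
      have hxx : x * x = 1 := by
        have : x = x⁻¹ := by
          calc x = (x * v) * v⁻¹ := by group
            _ = (v * x) * v⁻¹ := by rw [hcomm]
            _ = x⁻¹ := hvx
        calc x * x = x * x⁻¹ := by rw [← this]
          _ = 1 := mul_inv_cancel x
      have hox : orderOf x ∣ 2 := orderOf_dvd_of_pow_eq_one (by rw [pow_two]; exact hxx)
      have hcard : Nat.card G = orderOf x := by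
        rw [← Nat.card_zpowers, h, Subgroup.card_top]
      have h3 := four_dvd_card P hN
      rw [hcard] at h3
      have h4 := Nat.le_of_dvd (by norm_num) (h3.trans hox)
      have hpos : 0 < Nat.card (P : Subgroup G) := Nat.card_pos
      omega
  have hdvd : orderOf x ∣ 4 * Nat.card (P : Subgroup G) :=
    (Subgroup.orderOf_dvd_natCard _ (Subgroup.le_normalizer (Subgroup.mem_zpowers x))).trans
      (heven _ hHne h2H)
  by_cases h3 : 3 ∣ orderOf x
  · -- case A
    have hox0 : orderOf x ≠ 0 := (orderOf_pos x).ne'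
    set y := x ^ (orderOf x / 3) with hy
    have hoy : orderOf y = 3 := orderOf_pow_orderOf_div hox0 h3
    obtain ⟨g, hg⟩ := Cfsg.Agent.Lib.Helper22.exists_conj_mem_sylow P y ⟨1, by rw [hoy]; norm_num⟩
    have hy1 : g * y * g⁻¹ ≠ 1 := by
      intro h
      have : orderOf (g * y * g⁻¹) = 3 := by
        rw [Cfsg.Agent.Lib.Helper22.orderOf_conj_eq, hoy]
      rw [h, orderOf_one] at this
      omega
    have hxy : x * y = y * x := ((Commute.refl x).pow_right _).eq
    have hconj1 : (g * x * g⁻¹) * (g * y * g⁻¹) * (g * x * g⁻¹)⁻¹ = g * y * g⁻¹ := by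
      calc (g * x * g⁻¹) * (g * y * g⁻¹) * (g * x * g⁻¹)⁻¹ = g * ((x * y) * x⁻¹) * g⁻¹ := by group
        _ = g * ((y * x) * x⁻¹) * g⁻¹ := by rw [hxy]
        _ = g * y * g⁻¹ := by group
    have hyC := P_le_C P hab hg
    have hxN : g * x * g⁻¹ ∈ Subgroup.normalizer ((P : Subgroup G) : Set G) := by
      apply ti_mem_N P hab hTI _ hyC hy1
      rw [hconj1]; exact hyC
    have hxC : g * x * g⁻¹ ∈ Subgroup.centralizer ((P : Subgroup G) : Set G) := by
      by_contra hxC
      have h5 := inverts_of_mem_diff _ _ u hCN hCab hN2 huN huC hinvC hxN hxC _ hyC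
      rw [hconj1] at h5
      apply hy1
      apply eq_one_of_sq P hg
      calc (g * y * g⁻¹) * (g * y * g⁻¹) = (g * y * g⁻¹) * (g * y * g⁻¹)⁻¹ := by rw [← h5]
        _ = 1 := mul_inv_cancel _
    refine ⟨g⁻¹, ?_⟩
    rw [inv_inv]
    exact hxC
  · -- case B
    obtain ⟨a, ha⟩ := card_P_pow P
    have hcop : Nat.Coprime (orderOf x) (Nat.card (P : Subgroup G)) := by
      rw [ha]
      apply Nat.Coprime.pow_right
      rw [Nat.coprime_comm]
      exact (Nat.Prime.coprime_iff_not_dvd Nat.prime_three).mpr h3
    have h4 : orderOf x ∣ 4 := hcop.dvd_of_dvd_mul_right hdvd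
    have hle : orderOf x ≤ 4 := Nat.le_of_dvd (by norm_num) h4
    have hpos := orderOf_pos x
    have hcases : orderOf x = 1 ∨ orderOf x = 2 ∨ orderOf x = 4 := by
      interval_cases h : orderOf x
      · left; rfl
      · right; left; rfl
      · exfalso; revert h4; decide
      · right; right; rfl
    rcases hcases with h | h | h
    · exact absurd (orderOf_eq_one_iff.mp h) hx
    · obtain ⟨g, hg⟩ := isConj_iff.mp (hconj x h)
      refine ⟨g, ?_⟩
      rw [← hg]
      have : g⁻¹ * (g * t * g⁻¹) * g = t := by group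
      rw [this]
      exact htC
    · exfalso
      obtain ⟨g, hg⟩ := Cfsg.Agent.Lib.Helper22.exists_conj_mem_sylow S x ⟨2, by rw [h]; norm_num⟩
      have hsq := IsKleinFour.mul_self (⟨g * x * g⁻¹, hg⟩ : (S : Subgroup G))
      have hsq' : (g * x * g⁻¹) * (g * x * g⁻¹) = 1 := congrArg Subtype.val hsq
      have hxx : x * x = 1 := by
        calc x * x = g⁻¹ * ((g * x * g⁻¹) * (g * x * g⁻¹)) * g := by group
          _ = 1 := by rw [hsq']; group
      have hox : orderOf x ∣ 2 := orderOf_dvd_of_pow_eq_one (by rw [pow_two]; exact hxx)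
      rw [h] at hox
      revert hox
      decide

include hN hC in
theorem not_comm : ¬ IsMulCommutative G := by
  intro hcomm
  have hCtop : Subgroup.centralizer ((P : Subgroup G) : Set G) = ⊤ := by
    rw [eq_top_iff]
    intro g _
    rw [Subgroup.mem_centralizer_iff]
    intro h _
    exact hcomm.is_comm.comm h g
  have hNtop : Subgroup.normalizer ((P : Subgroup G) : Set G) = ⊤ := by
    rw [eq_top_iff, ← hCtop]
    exact Subgroup.centralizer_le_normalizer _
  rw [hCtop, Subgroup.card_top] at hC
  rw [hNtop, Subgroup.card_top] at hN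
  have hpos : 0 < Nat.card (P : Subgroup G) := Nat.card_pos
  omega

include hab hN hC hTI heven in
theorem main_false (hs : IsSimpleGroup G) : False := by
  classical
  by_cases hq : Nat.card (P : Subgroup G) = 1
  · have hPbot : (P : Subgroup G) = ⊥ := Subgroup.eq_bot_of_card_eq _ hq
    have hbot : ∀ h ∈ (P : Subgroup G), h = 1 := by
      intro h hh
      rw [hPbot] at hh
      exact Subgroup.mem_bot.mp hh
    have hCtop : Subgroup.centralizer ((P : Subgroup G) : Set G) = ⊤ := by
      rw [eq_top_iff]
      intro g _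
      rw [Subgroup.mem_centralizer_iff]
      intro h hh
      rw [hbot h hh, one_mul, mul_one]
    have hNtop : Subgroup.normalizer ((P : Subgroup G) : Set G) = ⊤ := by
      rw [eq_top_iff, ← hCtop]
      exact Subgroup.centralizer_le_normalizer _
    rw [hCtop, Subgroup.card_top] at hC
    rw [hNtop, Subgroup.card_top] at hN
    omega
  · obtain ⟨t, htC, ht⟩ := exists_t P hC
    obtain ⟨S, htS, hK, hconj⟩ := klein_facts P hab hN hC heven hs hq ht
    have hNt := centralizer_t_eq P hab hN hC heven hs htC ht
    obtain ⟨u, huN, huC, hu2⟩ := exists_u P hab hC htC ht S htS hK hNt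
    have hinvC := u_inverts_C P hab hN hC hTI heven hs htC ht hconj huN huC hu2
    have hCN : Subgroup.centralizer ((P : Subgroup G) : Set G)
        ≤ Subgroup.normalizer ((P : Subgroup G) : Set G) := Subgroup.centralizer_le_normalizer _
    have hCab := C_comm P hab hC
    have hN2 := card_N_eq P hN hC
    have hTI' := ti_mem_N P hab hTI
    have htu := t_unique P hab hC htC ht
    have hcent : Nat.card (Subgroup.centralizer ({t} : Set G))
        = 2 * Nat.card (Subgroup.centralizer ((P : Subgroup G) : Set G)) := by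
      rw [← hNt]; exact hN2
    have hsupp : ∀ x : G, x ≠ 1 → invConv x ≠ 0 →
        ∃ g : G, g⁻¹ * x * g ∈ Subgroup.centralizer ((P : Subgroup G) : Set G) := by
      intro x hx h0
      unfold Cfsg.Agent.Lib.Helper22.invConv at h0
      obtain ⟨v, _, hv⟩ := Finset.exists_ne_zero_of_sum_ne_zero h0
      have hv1 : orderOf v = 2 := by
        by_contra h; apply hv; rw [invInd_eq_zero h, zero_mul]
      have hv2 : orderOf (v⁻¹ * x) = 2 := by
        by_contra h; apply hv; rw [invInd_eq_zero h, mul_zero]
      have e : v * (v⁻¹ * x) = x := by group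
      have := conj_mem_C_of_prod P hab hN hC hTI heven hs htC ht S hK hconj huN huC hu2 hv1 hv2
        (by rw [e]; exact hx)
      rw [e] at this
      exact this
    have hord := order_formula _ _ t u hCN hCab hN2 huN huC hu2 hinvC hTI' htC ht htu hconj hcent
      hsupp
    have hperf := Cfsg.Agent.Lib.Helper23.Exceptional.linear_trivial_of_simple
      (not_comm P hN hC)
    obtain ⟨a, ha⟩ := card_P_pow P
    rcases a with _ | _ | a
    · exact hq (by rw [ha]; norm_num)
    · -- order 372
      rw [hC, ha] at hord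
      have h372 : Nat.card G = 372 := by
        have : ((Nat.card G : ℕ) : ℤ) = 372 := by rw [hord]; norm_num
        exact_mod_cast this
      exact not_simple_372 h372 hs
    · -- large case
      have hc10 : 10 ≤ Nat.card (Subgroup.centralizer ((P : Subgroup G) : Set G)) := by
        rw [hC, ha]
        have : 3 ^ (a + 1 + 1) = 9 * 3 ^ a := by ring
        have hpos : 0 < 3 ^ a := by positivity
        omega
      exact charK _ _ t u hCN hCab hN2 huN huC hinvC hTI' _ rfl hc10 hord htC ht htu hconj hcent
        (fun z hz hz1 => invConv_eq_card _ _ t u hCN hCab hN2 huN huC hu2 hinvC hTI' htC ht htu hz hz1)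
        hperf

end Conc

end Cfsg.Agent.Lib.Helper63.TIGroup
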