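import Mathlib
import Cfsg.Agent.S0058

/-! # Keystone K-TT68-G1 (555505, architect helper94): coprime generation for a Heisenberg-mod-centre
3-group acting on a 2-group.

`R` a 2-subgroup, `L` a 3-subgroup centralizing `R, y, y', a`; `y, y'` of order 3 inverted by the
involution `a`, normalizing `R`, with commutator in `L`, `y ≠ 1` and `y' ∉ <y> L`. If `a` centralizes
`C_R(k)` for every nontrivial `a`-inverted `k ∈ <y,y'> L`, then `a` centralizes `R`.
(The hypothesis `y ≠ 1` is needed: `G = S₄`, `R = V₄`, `L = 1`, `y = 1`, `y' = (123)`, `a = (12)`.) -/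

set_option autoImplicit false

namespace Cfsg.Agent.Lib.Helper63.TT68

/-- an element `k₀` with `a k₀ a k₀ ∈ L` can be corrected by an element of the 3-group `L`
(centralizing `a` and `k₀`) to an element inverted by `a` -/
theorem exists_inverted_adjust {G : Type*} [Group G] (L : Subgroup G) (hL3 : IsPGroup 3 L) (a k₀ : G)
    (hLa : ∀ l ∈ L, Commute l a) (hLk : ∀ l ∈ L, Commute l k₀) (hl₀ : a * k₀ * a * k₀ ∈ L) :
    ∃ l' ∈ L, a * (k₀ * l') * a = (k₀ * l')⁻¹ := by
  set l₀ := a * k₀ * a * k₀ with hl₀def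
  obtain ⟨s, hs⟩ := hL3 ⟨l₀, hl₀⟩
  have hpow : l₀ ^ (3 ^ s) = 1 := by
    have := congrArg Subtype.val hs
    simpa using this
  obtain ⟨m, hm⟩ : Odd (3 ^ s) := Odd.pow (by decide)
  have hlm : l₀ ^ m ∈ L := L.pow_mem hl₀ m
  refine ⟨l₀ ^ m, hlm, ?_⟩
  have e1 : a * k₀ * a = l₀ * k₀⁻¹ := by
    rw [hl₀def]
    group
  have e2 : l₀ ^ (m + 1) * l₀ ^ m = 1 := by
    rw [← pow_add, show m + 1 + m = 3 ^ s by omega, hpow]
  have c1 : Commute (l₀ ^ m) a := hLa _ hlm
  have c2 : Commute (l₀ ^ m) k₀ := hLk _ hlm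
  calc a * (k₀ * l₀ ^ m) * a = a * k₀ * (l₀ ^ m * a) := by group
    _ = a * k₀ * (a * l₀ ^ m) := by rw [c1.eq]
    _ = (a * k₀ * a) * l₀ ^ m := by group
    _ = l₀ * k₀⁻¹ * l₀ ^ m := by rw [e1]
    _ = l₀ * (l₀ ^ m * k₀⁻¹) := by rw [mul_assoc, c2.inv_right.eq]
    _ = l₀ ^ (m + 1) * k₀⁻¹ := by rw [← mul_assoc, ← pow_succ']
    _ = (l₀ ^ m)⁻¹ * k₀⁻¹ := by rw [eq_inv_of_mul_eq_one_left e2]
    _ = (k₀ * l₀ ^ m)⁻¹ := by rw [mul_inv_rev]

/-- the case where `L` is normal -/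
theorem heis_generation_normal {G : Type*} [Group G] [Finite G] (R L : Subgroup G) [L.Normal]
    (y y' a : G)
    (hR2 : IsPGroup 2 R) (hL3 : IsPGroup 3 L)
    (hy3 : y ^ 3 = 1) (hy'3 : y' ^ 3 = 1) (hy1 : y ≠ 1) (ha : a * a = 1)
    (hay : a * y * a = y⁻¹) (hay' : a * y' * a = y'⁻¹)
    (hLR : ∀ l ∈ L, ∀ r ∈ R, Commute l r)
    (hLy : ∀ l ∈ L, Commute l y) (hLy' : ∀ l ∈ L, Commute l y') (hLa : ∀ l ∈ L, Commute l a)
    (hcomm : y⁻¹ * y'⁻¹ * y * y' ∈ L)
    (hnc : ∀ (i : ℤ), ∀ l ∈ L, y' ≠ y ^ i * l)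
    (hyR : ∀ r ∈ R, y * r * y⁻¹ ∈ R) (hy'R : ∀ r ∈ R, y' * r * y'⁻¹ ∈ R)
    (hkey : ∀ k : G, k ∈ Subgroup.closure ({y, y'} : Set G) ⊔ L → a * k * a = k⁻¹ → k ≠ 1 →
      ∀ r ∈ R, Commute r k → Commute r a) :
    ∀ r ∈ R, Commute r a := by
  classical
  have hp2 : Fact (Nat.Prime 2) := ⟨Nat.prime_two⟩
  have hp3 : Fact (Nat.Prime 3) := ⟨Nat.prime_three⟩
  set π : G →* G ⧸ L := QuotientGroup.mk' L with hπdef
  have hπ : ∀ g : G, π g = 1 ↔ g ∈ L := fun g => QuotientGroup.eq_one_iff g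
  have hRL : Disjoint R L := IsPGroup.disjoint_of_ne 2 3 (by norm_num) R L hR2 hL3
  have hRL' : ∀ g, g ∈ R → g ∈ L → g = 1 := by
    intro g h1 h2
    have := hRL.le_bot (Subgroup.mem_inf.mpr ⟨h1, h2⟩)
    simpa using this
  -- `y ∉ L`
  have hyL : y ∉ L := by
    intro h
    have c := hLa y h
    have h1 : y⁻¹ = y := by rw [← hay, ← c.eq, mul_assoc, ha, mul_one]
    have h2 : y * y = 1 := by
      nth_rewrite 1 [← h1]
      exact inv_mul_cancel y
    apply hy1
    have h3 : y ^ 3 = y * y * y := by rw [pow_succ, pow_two]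
    rw [h3, h2, one_mul] at hy3
    exact hy3
  -- `H = <y, y'>`
  set H := Subgroup.closure ({y, y'} : Set G) with hH
  have hLH : ∀ l ∈ L, ∀ k ∈ H, Commute l k := by
    intro l hl k hk
    have hle : H ≤ Subgroup.centralizer {l} := by
      rw [hH, Subgroup.closure_le]
      rintro x (rfl | rfl)
      · exact Subgroup.mem_centralizer_singleton_iff.mpr (hLy l hl).eq.symm
      · exact Subgroup.mem_centralizer_singleton_iff.mpr (hLy' l hl).eq.symm
    exact (Subgroup.mem_centralizer_singleton_iff.mp (hle hk)).symm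
  have hHR : H ≤ Subgroup.normalizer (R : Set G) := by
    rw [hH, Subgroup.closure_le]
    rintro x (rfl | rfl)
    · exact Subgroup.mem_normalizer_fintype hyR
    · exact Subgroup.mem_normalizer_fintype hy'R
  -- the image of `H` in the quotient
  have hcommπ : π y * π y' = π y' * π y := by
    have h1 := (hπ _).mpr hcomm
    rw [map_mul, map_mul, map_mul, map_inv, map_inv] at h1
    calc π y * π y' = π y' * π y * ((π y)⁻¹ * (π y')⁻¹ * π y * π y') := by group
      _ = π y' * π y := by rw [h1, mul_one]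
  set A : Subgroup (G ⧸ L) := Subgroup.closure ({π y, π y'} : Set (G ⧸ L)) with hA
  have hAmap : A = H.map π := by
    rw [hA, hH, MonoidHom.map_closure, Set.image_pair]
  have hAcomm : IsMulCommutative A := by
    apply Subgroup.isMulCommutative_closure
    rintro x (rfl | rfl) z (rfl | rfl)
    · rfl
    · exact hcommπ
    · exact hcommπ.symm
    · rfl
  have hAc : ∀ x ∈ A, ∀ z ∈ A, x * z = z * x := by
    intro x hx z hz
    have := mul_comm' (⟨x, hx⟩ : A) ⟨z, hz⟩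
    exact congrArg Subtype.val this
  have hyA : π y ∈ A := Subgroup.subset_closure (by simp)
  have hy'A : π y' ∈ A := Subgroup.subset_closure (by simp)
  have hA3 : ∀ x ∈ A, x ^ 3 = 1 := by
    intro x hx
    induction hx using Subgroup.closure_induction with
    | mem x hx =>
      rcases hx with rfl | rfl
      · rw [← map_pow, hy3, map_one]
      · rw [← map_pow, hy'3, map_one]
    | one => exact one_pow 3
    | mul x z hx hz ihx ihz =>
      rw [(show Commute x z from hAc x hx z hz).mul_pow, ihx, ihz, one_mul]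
    | inv x hx ih => rw [inv_pow, ih, inv_one]
  have hπa : π a * π a = 1 := by rw [← map_mul, ha, map_one]
  have hAinv : ∀ x ∈ A, π a * x * π a = x⁻¹ := by
    intro x hx
    induction hx using Subgroup.closure_induction with
    | mem x hx =>
      rcases hx with rfl | rfl
      · rw [← map_mul, ← map_mul, hay, map_inv]
      · rw [← map_mul, ← map_mul, hay', map_inv]
    | one => rw [mul_one, hπa, inv_one]
    | mul x z hx hz ihx ihz =>
      calc π a * (x * z) * π a = (π a * x * π a) * (π a * z * π a) := by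
            have : π a * x * π a * (π a * z * π a) = π a * x * (π a * π a) * z * π a := by group
            rw [this, hπa]
            group
        _ = x⁻¹ * z⁻¹ := by rw [ihx, ihz]
        _ = (x * z)⁻¹ := by rw [mul_inv_rev, hAc x⁻¹ (A.inv_mem hx) z⁻¹ (A.inv_mem hz)]
    | inv x hx ih =>
      have hπai : (π a)⁻¹ = π a := inv_eq_of_mul_eq_one_right hπa
      calc π a * x⁻¹ * π a = (π a * x * π a)⁻¹ := by
            rw [mul_inv_rev, mul_inv_rev, hπai, mul_assoc]
        _ = x⁻¹⁻¹ := by rw [ih]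
  -- `A` is not cyclic
  have hAnc : ¬ IsCyclic A := by
    intro hcyc
    have hexp : Monoid.exponent A ∣ 3 :=
      Monoid.exponent_dvd_of_forall_pow_eq_one (fun g => Subtype.ext (by
        rw [Subgroup.coe_pow, Subgroup.coe_one]
        exact hA3 g.1 g.2))
    have hcard : Nat.card A ∣ 3 := by
      rw [← IsCyclic.exponent_eq_card]
      exact hexp
    have hπy1 : π y ≠ 1 := fun h => hyL ((hπ y).mp h)
    have hord : orderOf (π y) = 3 := by
      have h1 : orderOf (π y) ∣ 3 :=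
        orderOf_dvd_of_pow_eq_one (by rw [← map_pow, hy3, map_one])
      rcases (Nat.dvd_prime Nat.prime_three).mp h1 with h | h
      · exact absurd (orderOf_eq_one_iff.mp h) hπy1
      · exact h
    have hle : Subgroup.zpowers (π y) ≤ A := Subgroup.zpowers_le.mpr hyA
    have hcz : Nat.card (Subgroup.zpowers (π y)) = 3 := by rw [Nat.card_zpowers, hord]
    have hAle : Nat.card A ≤ 3 := Nat.le_of_dvd (by norm_num) hcard
    have heq : Subgroup.zpowers (π y) = A :=
      Subgroup.eq_of_le_of_card_ge hle (by rw [hcz]; exact hAle)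
    have hmem : π y' ∈ Subgroup.zpowers (π y) := by rw [heq]; exact hy'A
    obtain ⟨i, hi⟩ := Subgroup.mem_zpowers_iff.mp hmem
    have hL' : (y ^ i)⁻¹ * y' ∈ L :=
      (hπ _).mp (by rw [map_mul, map_inv, map_zpow, hi, inv_mul_cancel])
    exact hnc i _ hL' (by group)
  -- `A` normalizes the image of `R`, with coprime orders
  set K : Subgroup (G ⧸ L) := R.map π with hK
  have hAK : A ≤ Subgroup.normalizer (K : Set (G ⧸ L)) := by
    rw [hAmap]
    exact (Subgroup.map_mono hHR).trans (Subgroup.le_normalizer_map π)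
  have hA3g : IsPGroup 3 A := by
    intro g
    refine ⟨1, Subtype.ext ?_⟩
    rw [pow_one, Subgroup.coe_pow, Subgroup.coe_one]
    exact hA3 g.1 g.2
  have hK2 : IsPGroup 2 K := hR2.map π
  have hcop : (Nat.card A).Coprime (Nat.card K) :=
    IsPGroup.coprime_card_of_ne 3 2 (by norm_num) A K hA3g hK2
  have hgen := Cfsg.Agent.S0058.result A K hAnc hAK hcop
  -- every centralizer is in the image of `R ⊓ C(a)`
  have hKK₁ : K ≤ (R ⊓ Subgroup.centralizer {a}).map π := by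
    rw [← hgen]
    apply iSup₂_le
    rintro kb ⟨hkbA, hkb1⟩ x hx
    obtain ⟨hxK, hxC⟩ := Subgroup.mem_inf.mp hx
    obtain ⟨r, hrR, rfl⟩ := hxK
    have hkbA' := hkbA
    rw [hAmap] at hkbA'
    obtain ⟨k₀, hk₀H, rfl⟩ := hkbA'
    have hl₀ : a * k₀ * a * k₀ ∈ L :=
      (hπ _).mp (by rw [map_mul, map_mul, map_mul, hAinv (π k₀) hkbA, inv_mul_cancel])
    obtain ⟨l', hl'L, hinv⟩ := exists_inverted_adjust L hL3 a k₀ hLa
      (fun l hl => hLH l hl k₀ hk₀H) hl₀
    have hkmem : k₀ * l' ∈ H ⊔ L :=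
      Subgroup.mul_mem _ (Subgroup.mem_sup_left hk₀H) (Subgroup.mem_sup_right hl'L)
    have hπk : π (k₀ * l') = π k₀ := by rw [map_mul, (hπ l').mpr hl'L, mul_one]
    have hk1 : k₀ * l' ≠ 1 := fun h => hkb1 (by rw [← hπk, h, map_one])
    have hxC' : π k₀ * π r = π r * π k₀ := (Subgroup.mem_centralizer_singleton_iff.mp hxC).symm
    have hc : r⁻¹ * (k₀ * l')⁻¹ * r * (k₀ * l') ∈ L :=
      (hπ _).mp (by
        rw [map_mul, map_mul, map_mul, map_inv, map_inv, hπk]
        calc (π r)⁻¹ * (π k₀)⁻¹ * π r * π k₀ = (π r)⁻¹ * (π k₀)⁻¹ * (π r * π k₀) := by group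
          _ = (π r)⁻¹ * (π k₀)⁻¹ * (π k₀ * π r) := by rw [hxC']
          _ = 1 := by group)
    have hkr : (k₀ * l')⁻¹ * r * (k₀ * l') ∈ R := by
      have h1 : k₀⁻¹ * r * k₀ ∈ R :=
        (Subgroup.mem_set_normalizer_iff''.mp (hHR hk₀H) r).mp hrR
      have h2 : Commute l' (k₀⁻¹ * r * k₀) := hLR l' hl'L _ h1
      have h3 : (k₀ * l')⁻¹ * r * (k₀ * l') = l'⁻¹ * (k₀⁻¹ * r * k₀) * l' := by group
      rw [h3, mul_assoc, ← h2.eq, ← mul_assoc, inv_mul_cancel, one_mul]
      exact h1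
    have hcR : r⁻¹ * (k₀ * l')⁻¹ * r * (k₀ * l') ∈ R := by
      have := R.mul_mem (R.inv_mem hrR) hkr
      have e : r⁻¹ * ((k₀ * l')⁻¹ * r * (k₀ * l')) = r⁻¹ * (k₀ * l')⁻¹ * r * (k₀ * l') := by group
      rwa [e] at this
    have h1 := hRL' _ hcR hc
    have hrk : Commute r (k₀ * l') := by
      have : r * (k₀ * l') = (k₀ * l') * r * (r⁻¹ * (k₀ * l')⁻¹ * r * (k₀ * l')) := by group
      rw [h1, mul_one] at this
      exact this
    have hra := hkey (k₀ * l') hkmem hinv hk1 r hrR hrk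
    exact ⟨r, Subgroup.mem_inf.mpr ⟨hrR, Subgroup.mem_centralizer_singleton_iff.mpr hra.eq⟩, rfl⟩
  -- conclusion
  intro r hrR
  obtain ⟨r₁, hr₁, hπr⟩ := hKK₁ ⟨r, hrR, rfl⟩
  obtain ⟨hr₁R, hr₁a⟩ := Subgroup.mem_inf.mp hr₁
  have h1 : r₁⁻¹ * r ∈ L := (hπ _).mp (by rw [map_mul, map_inv, hπr, inv_mul_cancel])
  have h2 : r₁⁻¹ * r = 1 := hRL' _ (R.mul_mem (R.inv_mem hr₁R) hrR) h1
  have h3 : r = r₁ := by
    have := inv_mul_eq_one.mp h2
    exact this.symm
  rw [h3]
  exact Subgroup.mem_centralizer_singleton_iff.mp hr₁a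

/-- G1 (Heisenberg-mod-centre coprime generation), with the necessary extra hypothesis `y ≠ 1` -/
theorem heis_generation {G : Type*} [Group G] [Finite G] (R L : Subgroup G) (y y' a : G)
    (hR2 : IsPGroup 2 R) (hL3 : IsPGroup 3 L)
    (hy3 : y ^ 3 = 1) (hy'3 : y' ^ 3 = 1) (hy1 : y ≠ 1) (ha : a * a = 1)
    (hay : a * y * a = y⁻¹) (hay' : a * y' * a = y'⁻¹)
    (hLR : ∀ l ∈ L, ∀ r ∈ R, Commute l r)
    (hLy : ∀ l ∈ L, Commute l y) (hLy' : ∀ l ∈ L, Commute l y') (hLa : ∀ l ∈ L, Commute l a)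
    (hcomm : y⁻¹ * y'⁻¹ * y * y' ∈ L)
    (hnc : ∀ (i : ℤ), ∀ l ∈ L, y' ≠ y ^ i * l)
    (hyR : ∀ r ∈ R, y * r * y⁻¹ ∈ R) (hy'R : ∀ r ∈ R, y' * r * y'⁻¹ ∈ R)
    (hkey : ∀ k : G, k ∈ Subgroup.closure ({y, y'} : Set G) ⊔ L → a * k * a = k⁻¹ → k ≠ 1 →
      ∀ r ∈ R, Commute r k → Commute r a) :
    ∀ r ∈ R, Commute r a := by
  set N : Subgroup G := Subgroup.normalizer (L : Set G) with hN
  have hcentN : ∀ g : G, (∀ l ∈ L, Commute l g) → g ∈ N := by
    intro g hg
    rw [hN, Subgroup.mem_set_normalizer_iff]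
    intro h
    constructor
    · intro hh
      have e : g * h * g⁻¹ = h := by
        rw [← (hg h hh).eq, mul_assoc, mul_inv_cancel, mul_one]
      rw [e]
      exact hh
    · intro hh
      have c := (hg _ hh).eq
      have e : h = g * h * g⁻¹ := by
        have e1 : g * h * g⁻¹ * g = g * h := by group
        rw [e1] at c
        exact mul_left_cancel c
      rw [e]
      exact hh
  have hyN : y ∈ N := hcentN y hLy
  have hy'N : y' ∈ N := hcentN y' hLy'
  have haN : a ∈ N := hcentN a hLa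
  have hRN : R ≤ N := fun r hr => hcentN r (fun l hl => hLR l hl r hr)
  have hmapsup : ∀ k : N, k ∈ Subgroup.closure ({⟨y, hyN⟩, ⟨y', hy'N⟩} : Set N) ⊔ L.subgroupOf N →
      (k : G) ∈ Subgroup.closure ({y, y'} : Set G) ⊔ L := by
    intro k hk
    have h1 : (k : G) ∈ (Subgroup.closure ({⟨y, hyN⟩, ⟨y', hy'N⟩} : Set N) ⊔
        L.subgroupOf N).map N.subtype := ⟨k, hk, rfl⟩
    rw [Subgroup.map_sup, MonoidHom.map_closure, Set.image_pair,
      Subgroup.subgroupOf_map_subtype] at h1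
    have hle : Subgroup.closure ({y, y'} : Set G) ⊔ L ⊓ N ≤
        Subgroup.closure ({y, y'} : Set G) ⊔ L := sup_le_sup le_rfl inf_le_left
    exact hle h1
  have key := heis_generation_normal (G := N) (R.subgroupOf N) (L.subgroupOf N)
    ⟨y, hyN⟩ ⟨y', hy'N⟩ ⟨a, haN⟩ hR2.comap_subtype hL3.comap_subtype
    (Subtype.ext (by rw [Subgroup.coe_pow, Subgroup.coe_one]; exact hy3))
    (Subtype.ext (by rw [Subgroup.coe_pow, Subgroup.coe_one]; exact hy'3))
    (fun h => hy1 (congrArg Subtype.val h))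
    (Subtype.ext ha) (Subtype.ext hay) (Subtype.ext hay')
    (fun l hl r hr => Subtype.ext
      (hLR l.1 (Subgroup.mem_subgroupOf.mp hl) r.1 (Subgroup.mem_subgroupOf.mp hr)).eq)
    (fun l hl => Subtype.ext (hLy l.1 (Subgroup.mem_subgroupOf.mp hl)).eq)
    (fun l hl => Subtype.ext (hLy' l.1 (Subgroup.mem_subgroupOf.mp hl)).eq)
    (fun l hl => Subtype.ext (hLa l.1 (Subgroup.mem_subgroupOf.mp hl)).eq)
    (Subgroup.mem_subgroupOf.mpr hcomm)
    (fun i l hl h => hnc i l.1 (Subgroup.mem_subgroupOf.mp hl) (by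
      have := congrArg Subtype.val h
      rw [Subgroup.coe_mul, Subgroup.coe_zpow] at this
      exact this))
    (fun r hr => Subgroup.mem_subgroupOf.mpr (hyR r.1 (Subgroup.mem_subgroupOf.mp hr)))
    (fun r hr => Subgroup.mem_subgroupOf.mpr (hy'R r.1 (Subgroup.mem_subgroupOf.mp hr)))
    (fun k hk hinv hk1 r hr hrk => Subtype.ext
      (hkey k.1 (hmapsup k hk) (congrArg Subtype.val hinv) (fun h => hk1 (Subtype.ext h)) r.1
        (Subgroup.mem_subgroupOf.mp hr) (congrArg Subtype.val hrk.eq)).eq)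
  intro r hr
  exact congrArg Subtype.val (key ⟨r, hRN hr⟩ (Subgroup.mem_subgroupOf.mpr hr)).eq

end Cfsg.Agent.Lib.Helper63.TT68
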