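import Mathlib

set_option autoImplicit false
set_option linter.unusedSectionVars false

namespace Cfsg.Agent.Lib.Helper63

open scoped BigOperators

section Inv

variable {Ω : Type*} [Fintype Ω] [DecidableEq Ω] {G : Subgroup (Equiv.Perm Ω)}

/-- `F` is invariant under the action twisted by `β` on the second coordinate -/
def TwInv (β : MulAut G) (F : Ω → Ω → ℤ) : Prop :=
  ∀ (g : G) (x y : Ω), F (g • x) ((β g) • y) = F x y

theorem TwInv.transpose {β : MulAut G} {F : Ω → Ω → ℤ} (h : TwInv β F) :
    TwInv β⁻¹ (fun y x => F x y) := by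
  intro g y x
  have := h (β⁻¹ g) x y
  rw [MulAut.apply_inv_self] at this
  exact this

theorem TwInv.rowsum_const (ht : ∀ a b : Ω, ∃ g : G, g • a = b) {β : MulAut G}
    {F : Ω → Ω → ℤ} (h : TwInv β F) (x x' : Ω) : ∑ y, F x y = ∑ y, F x' y := by
  obtain ⟨g, rfl⟩ := ht x x'
  rw [← Equiv.sum_comp (MulAction.toPerm (β g)) (fun y => F (g • x) y)]
  apply Finset.sum_congr rfl
  intro y _
  exact (h g x y).symm

theorem TwInv.colsum_const (ht : ∀ a b : Ω, ∃ g : G, g • a = b) {β : MulAut G}
    {F : Ω → Ω → ℤ} (h : TwInv β F) (y y' : Ω) : ∑ x, F x y = ∑ x, F x y' :=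
  h.transpose.rowsum_const ht y y'

theorem TwInv.rowpair_const
    (h2 : ∀ a b c d : Ω, a ≠ b → c ≠ d → ∃ g : G, g • a = c ∧ g • b = d) {β : MulAut G}
    {F : Ω → Ω → ℤ} (h : TwInv β F) (x₁ x₂ x₁' x₂' : Ω) (hx : x₁ ≠ x₂) (hx' : x₁' ≠ x₂') :
    ∑ y, F x₁ y * F x₂ y = ∑ y, F x₁' y * F x₂' y := by
  obtain ⟨g, rfl, rfl⟩ := h2 x₁ x₂ x₁' x₂' hx hx'
  rw [← Equiv.sum_comp (MulAction.toPerm (β g)) (fun y => F (g • x₁) y * F (g • x₂) y)]
  apply Finset.sum_congr rfl
  intro y _
  show _ = F (g • x₁) ((β g) • y) * F (g • x₂) ((β g) • y)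
  rw [h g x₁ y, h g x₂ y]

theorem TwInv.colpair_const
    (h2 : ∀ a b c d : Ω, a ≠ b → c ≠ d → ∃ g : G, g • a = c ∧ g • b = d) {β : MulAut G}
    {F : Ω → Ω → ℤ} (h : TwInv β F) (y₁ y₂ y₁' y₂' : Ω) (hy : y₁ ≠ y₂) (hy' : y₁' ≠ y₂') :
    ∑ x, F x y₁ * F x y₂ = ∑ x, F x y₁' * F x y₂' :=
  h.transpose.rowpair_const h2 y₁ y₂ y₁' y₂' hy hy'

omit [DecidableEq Ω] in
/-- row sums equal column sums -/
theorem rowsum_eq_colsum [Nonempty Ω] {F : Ω → Ω → ℤ} {r r' : ℤ} (hr : ∀ x, ∑ y, F x y = r)
    (hr' : ∀ y, ∑ x, F x y = r') : r = r' := by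
  have h1 : ∑ x, ∑ y, F x y = (Fintype.card Ω : ℤ) * r := by
    simp only [hr, Finset.sum_const, Finset.card_univ, nsmul_eq_mul]
  have h2 : ∑ y, ∑ x, F x y = (Fintype.card Ω : ℤ) * r' := by
    simp only [hr', Finset.sum_const, Finset.card_univ, nsmul_eq_mul]
  rw [Finset.sum_comm, h2] at h1
  have hn : (Fintype.card Ω : ℤ) ≠ 0 := by
    have : 0 < Fintype.card Ω := Fintype.card_pos
    omega
  exact (mul_left_cancel₀ hn h1).symm

/-- the design equation `(n - 1) λ = r (r - 1)` -/
theorem pair_count {F : Ω → Ω → ℤ} {r lam : ℤ} (h01 : ∀ x y, F x y * F x y = F x y)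
    (hr : ∀ x, ∑ y, F x y = r) (hr' : ∀ y, ∑ x, F x y = r)
    (hlam : ∀ x₁ x₂, x₁ ≠ x₂ → ∑ y, F x₁ y * F x₂ y = lam) (x₁ : Ω) :
    ((Fintype.card Ω : ℤ) - 1) * lam = r * (r - 1) := by
  have h1 : ∑ x₂, ∑ y, F x₁ y * F x₂ y = r * r := by
    rw [Finset.sum_comm]
    have : ∀ y, ∑ x₂, F x₁ y * F x₂ y = F x₁ y * r := by
      intro y
      rw [← Finset.mul_sum, hr']
    simp only [this]
    rw [← Finset.sum_mul, hr]
  have h2 : ∑ x₂, ∑ y, F x₁ y * F x₂ y = r + ((Fintype.card Ω : ℤ) - 1) * lam := by
    rw [← Finset.add_sum_erase _ _ (Finset.mem_univ x₁)]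
    congr 1
    · simp only [h01, hr]
    · rw [Finset.sum_congr rfl (fun x₂ hx₂ => hlam x₁ x₂ (Finset.ne_of_mem_erase hx₂).symm)]
      rw [Finset.sum_const, Finset.card_erase_of_mem (Finset.mem_univ x₁), Finset.card_univ,
        nsmul_eq_mul]
      have : 0 < Fintype.card Ω := Fintype.card_pos_iff.mpr ⟨x₁⟩
      rw [Nat.cast_sub (by omega)]
      simp
  rw [h1] at h2
  linarith

end Inv

section Linked

variable {Ω : Type*} [Fintype Ω] [DecidableEq Ω]

/-- the counting core: two linked symmetric designs on `n` points, the first with block size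
coprime to `n`, force the second to have block size `1` or `n - 1` -/
theorem linked_count (A C : Ω → Ω → ℤ) (a c lamA lamC z₂ d₂ : ℤ)
    (hn : 2 ≤ Fintype.card Ω)
    (hA01 : ∀ x y, A x y * A x y = A x y)
    (hC01 : ∀ x y, C x y * C x y = C x y)
    (hArow : ∀ y, ∑ z, A y z = a) (hAcol : ∀ y, ∑ x, A x y = a)
    (hCrow : ∀ x, ∑ z, C x z = c)
    (hArowp : ∀ y y', y ≠ y' → ∑ z, A y z * A y' z = lamA)
    (hAcolp : ∀ y y', y ≠ y' → ∑ x, A x y * A x y' = lamA)
    (hlamA : ((Fintype.card Ω : ℤ) - 1) * lamA = a * (a - 1))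
    (hCrowp : ∀ x x', x ≠ x' → ∑ z, C x z * C x' z = lamC)
    (hlamC : ((Fintype.card Ω : ℤ) - 1) * lamC = c * (c - 1))
    (hN : ∀ y z, ∑ x, A x y * C x z = z₂ + d₂ * A y z)
    (ha0 : 0 < a) (han : a < Fintype.card Ω) (hcop : IsCoprime a (Fintype.card Ω : ℤ))
    (hc0 : 0 < c) (hcn : c < Fintype.card Ω) :
    c = 1 ∨ c = (Fintype.card Ω : ℤ) - 1 := by
  set n : ℤ := (Fintype.card Ω : ℤ) with hndef
  have hn2 : (2 : ℤ) ≤ n := by rw [hndef]; exact_mod_cast hn
  obtain ⟨y, y', hyy'⟩ := Fintype.exists_pair_of_one_lt_card (by omega : 1 < Fintype.card Ω)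
  -- first evaluation
  have w1 : ∀ u v : Ω, ∑ z, (∑ x, A x u * C x z) * (∑ x, A x v * C x z) =
      n * z₂ ^ 2 + 2 * a * z₂ * d₂ + d₂ ^ 2 * ∑ z, A u z * A v z := by
    intro u v
    have e : ∀ z, (∑ x, A x u * C x z) * (∑ x, A x v * C x z) =
        z₂ ^ 2 + z₂ * d₂ * A v z + z₂ * d₂ * A u z + d₂ ^ 2 * (A u z * A v z) := by
      intro z
      rw [hN, hN]
      ring
    simp only [e, Finset.sum_add_distrib, ← Finset.mul_sum, hArow, Finset.sum_const,
      Finset.card_univ, nsmul_eq_mul]
    ring
  -- second evaluation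
  have hCC : ∀ x x', ∑ z, C x z * C x' z = lamC + (c - lamC) * (if x = x' then 1 else 0) := by
    intro x x'
    by_cases h : x = x'
    · subst h
      simp only [hC01, hCrow, if_true]
      ring
    · rw [hCrowp x x' h, if_neg h]
      ring
  have w2 : ∀ u v : Ω, ∑ z, (∑ x, A x u * C x z) * (∑ x, A x v * C x z) =
      lamC * a ^ 2 + (c - lamC) * ∑ x, A x u * A x v := by
    intro u v
    have e1 : ∀ z, (∑ x, A x u * C x z) * (∑ x, A x v * C x z) =
        ∑ x, ∑ x', (A x u * A x' v) * (C x z * C x' z) := by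
      intro z
      rw [Finset.sum_mul_sum]
      apply Finset.sum_congr rfl
      intro x _
      apply Finset.sum_congr rfl
      intro x' _
      ring
    simp only [e1]
    rw [Finset.sum_comm]
    have e2 : ∀ x, ∑ z, ∑ x', (A x u * A x' v) * (C x z * C x' z) =
        ∑ x', (A x u * A x' v) * (lamC + (c - lamC) * (if x = x' then 1 else 0)) := by
      intro x
      rw [Finset.sum_comm]
      apply Finset.sum_congr rfl
      intro x' _
      rw [← Finset.mul_sum, hCC]
    simp only [e2]
    have e3 : ∀ x, ∑ x', (A x u * A x' v) * (lamC + (c - lamC) * (if x = x' then 1 else 0)) =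
        lamC * (A x u * a) + (c - lamC) * (A x u * A x v) := by
      intro x
      have : ∀ x', (A x u * A x' v) * (lamC + (c - lamC) * (if x = x' then 1 else 0)) =
          lamC * (A x u * A x' v) + (c - lamC) * (if x = x' then A x u * A x' v else 0) := by
        intro x'
        split_ifs <;> ring
      simp only [this, Finset.sum_add_distrib, ← Finset.mul_sum, Finset.sum_ite_eq,
        Finset.mem_univ, if_true, hAcol]
    simp only [e3, Finset.sum_add_distrib, ← Finset.mul_sum, ← Finset.sum_mul, hAcol]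
    ring
  -- comparing
  have E1 := (w1 y y).symm.trans (w2 y y)
  have E2 := (w1 y y').symm.trans (w2 y y')
  have hAyy : ∑ z, A y z * A y z = a := by simp only [hA01, hArow]
  have hAyy' : ∑ x, A x y * A x y = a := by simp only [hA01, hAcol]
  rw [hAyy, hAyy'] at E1
  rw [hArowp y y' hyy', hAcolp y y' hyy'] at E2
  have hne : a - lamA ≠ 0 := by
    intro h0
    have h1 : (n - 1) * (a - lamA) = a * (n - a) := by
      have : (n - 1) * (a - lamA) = (n - 1) * a - (n - 1) * lamA := by ring
      rw [this, hlamA]; ring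
    rw [h0, mul_zero] at h1
    have : 0 < a * (n - a) := mul_pos ha0 (by linarith)
    linarith
  have hd : d₂ ^ 2 = c - lamC := by
    have : (d₂ ^ 2 - (c - lamC)) * (a - lamA) = 0 := by linear_combination E1 - E2
    rcases mul_eq_zero.mp this with h | h
    · linarith
    · exact absurd h hne
  have hd' : (n - 1) * d₂ ^ 2 = c * (n - c) := by
    rw [hd]
    have : (n - 1) * (c - lamC) = (n - 1) * c - (n - 1) * lamC := by ring
    rw [this, hlamC]; ring
  -- row sums
  have hrow : n * z₂ = a * (c - d₂) := by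
    have r1 : ∑ z, ∑ x, A x y * C x z = a * c := by
      rw [Finset.sum_comm]
      simp only [← Finset.mul_sum, hCrow, ← Finset.sum_mul, hAcol]
    have r2 : ∑ z, ∑ x, A x y * C x z = n * z₂ + d₂ * a := by
      simp only [hN, Finset.sum_add_distrib, ← Finset.mul_sum, hArow, Finset.sum_const,
        Finset.card_univ, nsmul_eq_mul]
      rw [hndef]
    rw [r1] at r2
    linarith
  have hdvd : n ∣ c - d₂ := by
    have h1 : n ∣ a * (c - d₂) := ⟨z₂, hrow.symm⟩
    exact hcop.symm.dvd_of_dvd_mul_left h1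
  obtain ⟨t, ht⟩ := hdvd
  have hd2 : d₂ = c - n * t := by linarith
  have ht01 : t = 0 ∨ t = 1 := by
    have hbound : d₂ ^ 2 < n ^ 2 := by
      have h1 : c * (n - c) < n * n := by nlinarith
      nlinarith
    have h1 : -n < d₂ := by nlinarith
    have h2 : d₂ < n := by nlinarith
    have h3 : -1 < t := by nlinarith
    have h4 : t < 2 := by nlinarith
    omega
  rcases ht01 with h | h
  · left
    rw [h, mul_zero, sub_zero] at hd2
    rw [hd2] at hd'
    have : n * c * (c - 1) = 0 := by linear_combination hd'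
    rcases mul_eq_zero.mp this with h5 | h5
    · rcases mul_eq_zero.mp h5 with h6 | h6
      · omega
      · omega
    · linarith
  · right
    rw [h, mul_one] at hd2
    rw [hd2] at hd'
    have : (n - c) * (n * (n - 1 - c)) = 0 := by linear_combination hd'
    rcases mul_eq_zero.mp this with h5 | h5
    · omega
    · rcases mul_eq_zero.mp h5 with h6 | h6
      · omega
      · linarith

end Linked

section TwBurnside

variable {Ω : Type*} [Fintype Ω] [DecidableEq Ω] (G : Subgroup (Equiv.Perm Ω))

/-- pairs with the action twisted by `β` on the second coordinate -/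
structure TwPair (β : MulAut G) where
  /-- first coordinate -/
  fst : Ω
  /-- second coordinate -/
  snd : Ω

variable {G}

/-- pairs as a product -/
def TwPair.equivProd (β : MulAut G) : TwPair G β ≃ Ω × Ω where
  toFun p := (p.fst, p.snd)
  invFun q := ⟨q.1, q.2⟩
  left_inv _ := rfl
  right_inv _ := rfl

instance TwPair.instFinite (β : MulAut G) : Finite (TwPair G β) :=
  Finite.of_equiv _ (TwPair.equivProd β).symm

instance TwPair.instMulAction (β : MulAut G) : MulAction G (TwPair G β) where
  smul g p := ⟨g • p.fst, (β g) • p.snd⟩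
  one_smul p := by
    show (⟨(1 : G) • p.fst, (β 1) • p.snd⟩ : TwPair G β) = p
    rw [map_one, one_smul, one_smul]
  mul_smul g h p := by
    show (⟨(g * h) • p.fst, (β (g * h)) • p.snd⟩ : TwPair G β) =
      ⟨g • (h • p.fst), (β g) • ((β h) • p.snd)⟩
    rw [map_mul, mul_smul, mul_smul]

theorem TwPair.smul_fst (β : MulAut G) (g : G) (p : TwPair G β) : (g • p).fst = g • p.fst := rfl

theorem TwPair.smul_snd (β : MulAut G) (g : G) (p : TwPair G β) :
    (g • p).snd = (β g) • p.snd := rfl

theorem TwPair.ext' (β : MulAut G) {p q : TwPair G β} (h1 : p.fst = q.fst) (h2 : p.snd = q.snd) :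
    p = q := by
  cases p; cases q
  simp only at h1 h2
  subst h1; subst h2
  rfl

variable [Fintype G]

/-- the number of fixed points -/
noncomputable def fixCount (g : G) : ℕ := Nat.card (MulAction.fixedBy Ω g)

theorem card_fixedBy_twPair (β : MulAut G) (g : G) :
    Nat.card (MulAction.fixedBy (TwPair G β) g) = fixCount g * fixCount (β g) := by
  unfold fixCount
  rw [← Nat.card_prod]
  apply Nat.card_congr
  refine
    { toFun := fun p => (⟨p.1.fst, ?_⟩, ⟨p.1.snd, ?_⟩)
      invFun := fun q => ⟨⟨q.1.1, q.2.1⟩, ?_⟩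
      left_inv := fun p => rfl
      right_inv := fun q => rfl }
  · have := p.2
    rw [MulAction.mem_fixedBy] at this ⊢
    have h2 := congrArg TwPair.fst this
    exact h2
  · have := p.2
    rw [MulAction.mem_fixedBy] at this ⊢
    have h2 := congrArg TwPair.snd this
    exact h2
  · rw [MulAction.mem_fixedBy]
    apply TwPair.ext'
    · exact q.1.2
    · exact q.2.2

theorem burnside_nat {X : Type*} [MulAction G X] [Finite X] :
    ∑ g : G, Nat.card (MulAction.fixedBy X g) =
      Nat.card (MulAction.orbitRel.Quotient G X) * Nat.card G := by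
  classical
  have : Fintype X := Fintype.ofFinite X
  have : Fintype (MulAction.orbitRel.Quotient G X) := Fintype.ofFinite _
  have h := MulAction.sum_card_fixedBy_eq_card_orbits_mul_card_group G X
  simp only [Nat.card_eq_fintype_card]
  exact h

theorem card_orbits_twPair_le
    (h2 : ∀ a b c d : Ω, a ≠ b → c ≠ d → ∃ g : G, g • a = c ∧ g • b = d)
    (ht : ∀ a b : Ω, ∃ g : G, g • a = b) (β : MulAut G) :
    Nat.card (MulAction.orbitRel.Quotient G (TwPair G β)) ≤ 2 := by
  classical
  -- the untwisted count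
  have hQ1 : Nat.card (MulAction.orbitRel.Quotient G (TwPair G (1 : MulAut G))) ≤ 2 := by
    let f : MulAction.orbitRel.Quotient G (TwPair G (1 : MulAut G)) → Prop :=
      Quotient.lift (fun p => p.fst = p.snd) (by
        intro p q hpq
        have hpq' : p ∈ MulAction.orbit G q := hpq
        obtain ⟨g, rfl⟩ := hpq'
        apply propext
        show g • q.fst = (1 : MulAut G) g • q.snd ↔ q.fst = q.snd
        rw [MulAut.one_apply]
        constructor
        · intro h
          exact (MulAction.injective g) h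
        · intro h
          rw [h])
    have hf : Function.Injective f := by
      intro P Q
      induction P using Quotient.inductionOn with | _ p => ?_
      induction Q using Quotient.inductionOn with | _ q => ?_
      intro hPQ
      have hPQ' : (p.fst = p.snd) = (q.fst = q.snd) := hPQ
      apply Quotient.sound
      show p ∈ MulAction.orbit G q
      by_cases hq : q.fst = q.snd
      · have hp : p.fst = p.snd := by rw [hPQ']; exact hq
        obtain ⟨g, hg⟩ := ht q.fst p.fst
        refine ⟨g, ?_⟩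
        apply TwPair.ext'
        · rw [TwPair.smul_fst, hg]
        · rw [TwPair.smul_snd, MulAut.one_apply, ← hq, hg, hp]
      · have hp : p.fst ≠ p.snd := fun h => hq (by rw [← hPQ']; exact h)
        obtain ⟨g, hg1, hg2⟩ := h2 q.fst q.snd p.fst p.snd hq hp
        refine ⟨g, ?_⟩
        apply TwPair.ext'
        · rw [TwPair.smul_fst, hg1]
        · rw [TwPair.smul_snd, MulAut.one_apply, hg2]
    have := Nat.card_le_card_of_injective f hf
    rw [Nat.card_eq_fintype_card (α := Prop), Fintype.card_prop] at this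
    exact this
  have hB1 := burnside_nat (G := G) (X := TwPair G (1 : MulAut G))
  have hBβ := burnside_nat (G := G) (X := TwPair G β)
  simp only [card_fixedBy_twPair, MulAut.one_apply] at hB1 hBβ
  have hsum : ∑ g : G, fixCount (β g) * fixCount (β g) = ∑ g : G, fixCount g * fixCount g :=
    Equiv.sum_comp β.toEquiv (fun g => fixCount g * fixCount g)
  have hle : 2 * ∑ g : G, fixCount g * fixCount (β g) ≤
      ∑ g : G, fixCount g * fixCount g + ∑ g : G, fixCount (β g) * fixCount (β g) := by
    rw [Finset.mul_sum, ← Finset.sum_add_distrib]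
    apply Finset.sum_le_sum
    intro g _
    have : (0 : ℤ) ≤ ((fixCount g : ℤ) - fixCount (β g)) ^ 2 := sq_nonneg _
    zify
    nlinarith
  rw [hsum, hBβ, hB1] at hle
  have hG : 0 < Nat.card G := Nat.card_pos
  have h3 : Nat.card (MulAction.orbitRel.Quotient G (TwPair G β)) * Nat.card G ≤
      2 * Nat.card G := by nlinarith
  exact Nat.le_of_mul_le_mul_right h3 hG

/-- among any three pairs, two are related by the twisted action -/
theorem tw_three_pairs
    (h2 : ∀ a b c d : Ω, a ≠ b → c ≠ d → ∃ g : G, g • a = c ∧ g • b = d)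
    (ht : ∀ a b : Ω, ∃ g : G, g • a = b) (β : MulAut G) (p q r : Ω × Ω) :
    (∃ g : G, (g • p.1, (β g) • p.2) = q) ∨ (∃ g : G, (g • p.1, (β g) • p.2) = r) ∨
      (∃ g : G, (g • q.1, (β g) • q.2) = r) := by
  classical
  by_contra hcon
  push Not at hcon
  obtain ⟨h1, h2', h3⟩ := hcon
  let mk : Ω × Ω → MulAction.orbitRel.Quotient G (TwPair G β) :=
    fun s => Quotient.mk _ (⟨s.1, s.2⟩ : TwPair G β)
  have hmk : ∀ s t : Ω × Ω, mk s = mk t → ∃ g : G, (g • s.1, (β g) • s.2) = t := by
    intro s t hst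
    have : (⟨t.1, t.2⟩ : TwPair G β) ∈ MulAction.orbit G (⟨s.1, s.2⟩ : TwPair G β) :=
      Quotient.exact hst.symm
    obtain ⟨g, hg⟩ := this
    refine ⟨g, ?_⟩
    have e1 := congrArg TwPair.fst hg
    have e2 := congrArg TwPair.snd hg
    exact Prod.ext e1 e2
  have hcard := card_orbits_twPair_le h2 ht β
  have : Finite (MulAction.orbitRel.Quotient G (TwPair G β)) := inferInstance
  let f : Fin 3 → MulAction.orbitRel.Quotient G (TwPair G β) := ![mk p, mk q, mk r]
  have hf : Function.Injective f := by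
    intro i j hij
    fin_cases i <;> fin_cases j
    · rfl
    · exact absurd (hmk p q hij) (by push Not; exact h1)
    · exact absurd (hmk p r hij) (by push Not; exact h2')
    · exact absurd (hmk p q hij.symm) (by push Not; exact h1)
    · rfl
    · exact absurd (hmk q r hij) (by push Not; exact h3)
    · exact absurd (hmk p r hij.symm) (by push Not; exact h2')
    · exact absurd (hmk q r hij.symm) (by push Not; exact h3)
    · rfl
  have := Nat.card_le_card_of_injective f hf
  simp at this
  omega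

end TwBurnside

end Cfsg.Agent.Lib.Helper63
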