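import Mathlib

set_option autoImplicit false

namespace Cfsg.Agent.Lib.Helper63.Wagner

open Equiv

variable {α : Type*} [Fintype α] [DecidableEq α]

/-- elementary 2-transitivity of a permutation group -/
def T2 (N : Subgroup (Perm α)) : Prop :=
  ∀ a b c d : α, a ≠ b → c ≠ d → ∃ x ∈ N, x a = c ∧ x b = d

/-- elementary 3-transitivity of a permutation group -/
def T3 (G : Subgroup (Perm α)) : Prop :=
  ∀ a b c a' b' c' : α, a ≠ b → a ≠ c → b ≠ c → a' ≠ b' → a' ≠ c' → b' ≠ c' →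
    ∃ g ∈ G, g a = a' ∧ g b = b' ∧ g c = c'

/-- the two-point stabilizer of `a, b` is transitive on the remaining points -/
def Tab (N : Subgroup (Perm α)) (a b : α) : Prop :=
  ∀ c d : α, c ≠ a → c ≠ b → d ≠ a → d ≠ b → ∃ x ∈ N, x a = a ∧ x b = b ∧ x c = d

omit [Fintype α] [DecidableEq α] in
theorem T3_of_T2_Tab {N : Subgroup (Perm α)} (h2 : T2 N) (hab : ∀ a b : α, a ≠ b → Tab N a b) :
    T3 N := by
  intro a b c a' b' c' h1 h2' h3 h1' h2'' h3'
  obtain ⟨x, hx, hxa, hxb⟩ := h2 a b a' b' h1 h1'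
  have hxc1 : x c ≠ a' := by
    rw [← hxa]; intro h; exact h2' (x.injective h).symm
  have hxc2 : x c ≠ b' := by
    rw [← hxb]; intro h; exact h3 (x.injective h).symm
  obtain ⟨y, hy, hya, hyb, hyc⟩ := hab a' b' h1' (x c) c' hxc1 hxc2 h2''.symm h3'.symm
  refine ⟨y * x, N.mul_mem hy hx, ?_, ?_, ?_⟩
  · rw [Perm.mul_apply, hxa, hya]
  · rw [Perm.mul_apply, hxb, hyb]
  · rw [Perm.mul_apply, hyc]

omit [Fintype α] [DecidableEq α] in
theorem inv_app (f : Perm α) (x : α) : f⁻¹ (f x) = x := by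
  rw [Perm.inv_eq_iff_eq]

omit [Fintype α] [DecidableEq α] in
theorem app_inv (f : Perm α) (x : α) : f (f⁻¹ x) = x := by
  rw [← Perm.eq_inv_iff_eq]

omit [Fintype α] [DecidableEq α] in
theorem pow_swap_odd (u : Perm α) {a b : α} (h1 : u a = b) (h2 : u b = a) (m : ℕ) (hm : Odd m) :
    (u ^ m) a = b ∧ (u ^ m) b = a := by
  obtain ⟨k, rfl⟩ := hm
  have hsa : (u ^ 2) a = a := by rw [pow_two, Perm.mul_apply, h1, h2]
  have hsb : (u ^ 2) b = b := by rw [pow_two, Perm.mul_apply, h2, h1]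
  induction k with
  | zero => simp [h1, h2]
  | succ k ih =>
    have e : 2 * (k + 1) + 1 = (2 * k + 1) + 2 := by ring
    constructor
    · rw [e, pow_add, Perm.mul_apply, hsa]; exact ih.1
    · rw [e, pow_add, Perm.mul_apply, hsb]; exact ih.2

/-- the case of odd two-point stabilizers -/
theorem tab_of_odd (hodd : Odd (Fintype.card α)) (G N : Subgroup (Perm α))
    (hnorm : ∀ g ∈ G, ∀ x ∈ N, g * x * g⁻¹ ∈ N) (hG3 : T3 G) (hN2 : T2 N)
    (a b : α) (hab : a ≠ b)
    (hoddK : ∀ x ∈ N, x a = a → x b = b → Odd (orderOf x)) : Tab N a b := by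
  -- odd order of all two-point stabilizers
  have hoddK' : ∀ c d : α, c ≠ d → ∀ x ∈ N, x c = c → x d = d → Odd (orderOf x) := by
    intro c d hcd x hx hxc hxd
    obtain ⟨n, hn, hna, hnb⟩ := hN2 a b c d hab hcd
    have hmem : n⁻¹ * x * n ∈ N := N.mul_mem (N.mul_mem (N.inv_mem hn) hx) hn
    have h1 : (n⁻¹ * x * n) a = a := by
      rw [Perm.mul_apply, Perm.mul_apply, hna, hxc, ← hna, inv_app]
    have h2 : (n⁻¹ * x * n) b = b := by
      rw [Perm.mul_apply, Perm.mul_apply, hnb, hxd, ← hnb, inv_app]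
    have := hoddK _ hmem h1 h2
    have e : orderOf (n⁻¹ * x * n) = orderOf x := by
      have := orderOf_injective (MulAut.conj n⁻¹).toMonoidHom (MulAut.conj n⁻¹).injective x
      simpa [MulAut.conj_apply] using this
    rwa [e] at this
  -- involutions have a unique fixed point
  have hinv_order : ∀ t : Perm α, t ≠ 1 → t * t = 1 → orderOf t = 2 := by
    intro t ht1 ht2
    have : orderOf t ∣ 2 := by
      apply orderOf_dvd_of_pow_eq_one
      rw [pow_two]; exact ht2
    rcases (Nat.dvd_prime Nat.prime_two).mp this with h | h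
    · exact absurd (orderOf_eq_one_iff.mp h) ht1
    · exact h
  have hfix_ex : ∀ t : Perm α, t * t = 1 → ∃ c, t c = c := by
    intro t ht2
    have : Fact (Nat.Prime 2) := ⟨Nat.prime_two⟩
    apply Equiv.Perm.exists_fixed_point_of_prime (p := 2) (n := 1)
    · intro h
      have := hodd
      rw [Nat.odd_iff] at this
      omega
    · rw [pow_one, pow_two]; exact ht2
  have hfix_uniq : ∀ t ∈ N, t ≠ 1 → t * t = 1 → ∀ c d : α, t c = c → t d = d → c = d := by
    intro t ht ht1 ht2 c d hc hd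
    by_contra hcd
    have := hoddK' c d hcd t ht hc hd
    rw [hinv_order t ht1 ht2] at this
    exact (by decide : ¬ Odd 2) this
  -- an involution swapping a and b
  obtain ⟨u, hu, hua, hub⟩ := hN2 a b b a hab hab.symm
  have hu2 : Odd (orderOf (u * u)) := by
    apply hoddK _ (N.mul_mem hu hu)
    · rw [Perm.mul_apply, hua, hub]
    · rw [Perm.mul_apply, hub, hua]
  set m := orderOf (u * u) with hm
  set t₀ := u ^ m with ht₀
  have ht₀N : t₀ ∈ N := N.pow_mem hu m
  obtain ⟨ht₀a, ht₀b⟩ := pow_swap_odd u hua hub m hu2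
  have ht₀2 : t₀ * t₀ = 1 := by
    rw [ht₀, ← pow_add, ← two_mul, pow_mul, pow_two, hm, pow_orderOf_eq_one]
  obtain ⟨c₀, hc₀⟩ := hfix_ex t₀ ht₀2
  have hc₀a : c₀ ≠ a := by
    intro h; rw [h, ht₀a] at hc₀; exact hab hc₀.symm
  have hc₀b : c₀ ≠ b := by
    intro h; rw [h, ht₀b] at hc₀; exact hab hc₀
  -- for every c an involution fixing c and swapping a and b
  have hinv_c : ∀ c : α, c ≠ a → c ≠ b → ∃ t ∈ N, t * t = 1 ∧ t a = b ∧ t b = a ∧ t c = c := by
    intro c hca hcb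
    obtain ⟨g, hg, hga, hgb, hgc⟩ := hG3 a b c₀ a b c hab hc₀a.symm hc₀b.symm hab hca.symm hcb.symm
    have hga' : g⁻¹ a = a := by rw [Perm.inv_eq_iff_eq, hga]
    have hgb' : g⁻¹ b = b := by rw [Perm.inv_eq_iff_eq, hgb]
    have hgc' : g⁻¹ c = c₀ := by rw [Perm.inv_eq_iff_eq, hgc]
    refine ⟨g * t₀ * g⁻¹, hnorm g hg t₀ ht₀N, ?_, ?_, ?_, ?_⟩
    · calc g * t₀ * g⁻¹ * (g * t₀ * g⁻¹) = g * (t₀ * t₀) * g⁻¹ := by group
        _ = 1 := by rw [ht₀2]; group
    · rw [Perm.mul_apply, Perm.mul_apply, hga', ht₀a, hgb]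
    · rw [Perm.mul_apply, Perm.mul_apply, hgb', ht₀b, hga]
    · rw [Perm.mul_apply, Perm.mul_apply, hgc', hc₀, hgc]
  -- two involutions swapping a and b are conjugate under the two-point stabilizer
  have hconj : ∀ t ∈ N, ∀ t' ∈ N, t * t = 1 → t' * t' = 1 → t a = b → t b = a → t' a = b →
      t' b = a → ∃ y ∈ N, y a = a ∧ y b = b ∧ y * t * y⁻¹ = t' := by
    intro t ht t' ht' ht2 ht'2 hta htb ht'a ht'b
    set r := t * t' with hr
    have hrN : r ∈ N := N.mul_mem ht ht'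
    have hra : r a = a := by rw [hr, Perm.mul_apply, ht'a, htb]
    have hrb : r b = b := by rw [hr, Perm.mul_apply, ht'b, hta]
    have hro := hoddK r hrN hra hrb
    obtain ⟨l, hl⟩ := hro
    have htinv : t⁻¹ = t := inv_eq_of_mul_eq_one_right ht2
    have ht'inv : t'⁻¹ = t' := inv_eq_of_mul_eq_one_right ht'2
    have hrinv : r⁻¹ = t' * t := by rw [hr, mul_inv_rev, htinv, ht'inv]
    -- t inverts r
    have htr : t * r * t⁻¹ = r⁻¹ := by
      rw [hrinv, htinv, hr]
      calc t * (t * t') * t = (t * t) * t' * t := by group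
        _ = t' * t := by rw [ht2, one_mul]
    have htrl : ∀ k : ℕ, t * r ^ k * t⁻¹ = (r ^ k)⁻¹ := by
      intro k
      have : t * r ^ k * t⁻¹ = (t * r * t⁻¹) ^ k := (conj_pow (a := t) (b := r) (i := k)).symm
      rw [this, htr, inv_pow]
    refine ⟨r ^ l, N.pow_mem hrN l, ?_, ?_, ?_⟩
    · have : ∀ k : ℕ, (r ^ k) a = a := by
        intro k
        induction k with
        | zero => simp
        | succ k ih => rw [pow_succ, Perm.mul_apply, hra, ih]
      exact this l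
    · have : ∀ k : ℕ, (r ^ k) b = b := by
        intro k
        induction k with
        | zero => simp
        | succ k ih => rw [pow_succ, Perm.mul_apply, hrb, ih]
      exact this l
    · -- y t y⁻¹ = y (t y⁻¹ t⁻¹) t = y y t = r^(2l) t = r⁻¹ t = t'
      have h1 : t * (r ^ l)⁻¹ * t⁻¹ = r ^ l := by
        have := htrl l
        have h2 : t * (r ^ l)⁻¹ * t⁻¹ = (t * r ^ l * t⁻¹)⁻¹ := by group
        rw [h2, this, inv_inv]
      have h3 : r ^ l * t * (r ^ l)⁻¹ = r ^ l * (t * (r ^ l)⁻¹ * t⁻¹) * t := by group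
      rw [h3, h1, ← pow_add]
      have h4 : r ^ (l + l) = r⁻¹ := by
        have : r ^ (l + l) * r = 1 := by
          rw [← pow_succ, ← two_mul, ← hl, pow_orderOf_eq_one]
        exact eq_inv_of_mul_eq_one_left this
      rw [h4, hrinv]
      calc t' * t * t = t' * (t * t) := by group
        _ = t' := by rw [ht2, mul_one]
  intro c d hca hcb hda hdb
  obtain ⟨t, ht, ht2, hta, htb, htc⟩ := hinv_c c hca hcb
  obtain ⟨t', ht', ht'2, ht'a, ht'b, ht'd⟩ := hinv_c d hda hdb
  obtain ⟨y, hy, hya, hyb, hyt⟩ := hconj t ht t' ht' ht2 ht'2 hta htb ht'a ht'b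
  refine ⟨y, hy, hya, hyb, ?_⟩
  have ht'1 : t' ≠ 1 := by
    intro h; rw [h, Perm.one_apply] at ht'a; exact hab ht'a
  apply hfix_uniq t' ht' ht'1 ht'2 (y c) d _ ht'd
  rw [← hyt, Perm.mul_apply, Perm.mul_apply, inv_app, htc]

end Cfsg.Agent.Lib.Helper63.Wagner
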