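import Mathlib
import Cfsg.Agent.Lib.Helper63.WagnerOdd
import Cfsg.Agent.Lib.Helper68.SylowConj

set_option autoImplicit false

namespace Cfsg.Agent.Lib.Helper63.Wagner

open Equiv
open Cfsg.Agent.Lib.Helper68 (cj mem_cj' card_cj cj_mul cj_inv_cj cj_eq_self_iff
  exists_cj_eq_of_not_dvd_relIndex)

universe u

variable {α : Type u}

/-- the pointwise stabilizer of a set inside a permutation group -/
def PStab (N : Subgroup (Perm α)) (S : Set α) : Subgroup (Perm α) where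
  carrier := {x | x ∈ N ∧ ∀ s ∈ S, x s = s}
  one_mem' := ⟨N.one_mem, fun _ _ => rfl⟩
  mul_mem' := by
    rintro x y ⟨hx, hx'⟩ ⟨hy, hy'⟩
    exact ⟨N.mul_mem hx hy, fun s hs => by rw [Perm.mul_apply, hy' s hs, hx' s hs]⟩
  inv_mem' := by
    rintro x ⟨hx, hx'⟩
    exact ⟨N.inv_mem hx, fun s hs => by rw [Perm.inv_eq_iff_eq, hx' s hs]⟩

theorem mem_PStab {N : Subgroup (Perm α)} {S : Set α} {x : Perm α} :
    x ∈ PStab N S ↔ x ∈ N ∧ ∀ s ∈ S, x s = s := Iff.rfl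

theorem PStab_anti (N : Subgroup (Perm α)) {S S' : Set α} (h : S ⊆ S') :
    PStab N S' ≤ PStab N S := fun _ hx => ⟨hx.1, fun s hs => hx.2 s (h hs)⟩

theorem PStab_image (N : Subgroup (Perm α)) (S : Set α) (m : Perm α) (hm : m ∈ N) :
    PStab N (m '' S) = cj m (PStab N S) := by
  ext x
  rw [mem_cj', mem_PStab, mem_PStab]
  constructor
  · rintro ⟨hx, hx'⟩
    refine ⟨N.mul_mem (N.mul_mem (N.inv_mem hm) hx) hm, fun s hs => ?_⟩
    rw [Perm.mul_apply, Perm.mul_apply, hx' (m s) ⟨s, hs, rfl⟩, inv_app]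
  · rintro ⟨hx, hx'⟩
    constructor
    · have : x = m * (m⁻¹ * x * m) * m⁻¹ := by group
      rw [this]
      exact N.mul_mem (N.mul_mem hm hx) (N.inv_mem hm)
    · rintro _ ⟨s, hs, rfl⟩
      have := hx' s hs
      rw [Perm.mul_apply, Perm.mul_apply, Perm.inv_eq_iff_eq] at this
      exact this

theorem relIndex_mul_card' {G : Type*} [Group G] {Q J : Subgroup G} (h : Q ≤ J) :
    Q.relIndex J * Nat.card Q = Nat.card J := by
  have h1 := (Q.subgroupOf J).index_mul_card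
  have h2 : Nat.card (Q.subgroupOf J) = Nat.card Q :=
    Nat.card_congr (Subgroup.subgroupOfEquivOfLe h).toEquiv
  rw [h2] at h1
  exact h1

theorem relIndex_eq_of_card {G : Type*} [Group G] [Finite G] {Q J Q' J' : Subgroup G}
    (h : Q ≤ J) (h' : Q' ≤ J') (hQ : Nat.card Q = Nat.card Q') (hJ : Nat.card J = Nat.card J') :
    Q.relIndex J = Q'.relIndex J' := by
  have h1 := relIndex_mul_card' h
  have h2 := relIndex_mul_card' h'
  rw [hJ, ← h2, hQ] at h1
  exact Nat.eq_of_mul_eq_mul_right Nat.card_pos h1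

theorem exists_sylow2 [Finite α] (K : Subgroup (Perm α)) :
    ∃ Q : Subgroup (Perm α), Q ≤ K ∧ IsPGroup 2 Q ∧ ¬ 2 ∣ Q.relIndex K := by
  have : Fact (Nat.Prime 2) := ⟨Nat.prime_two⟩
  obtain ⟨P⟩ : Nonempty (Sylow 2 K) := inferInstance
  refine ⟨(P : Subgroup K).map K.subtype, Subgroup.map_subtype_le _, P.isPGroup'.map _, ?_⟩
  have : ((P : Subgroup K).map K.subtype).subgroupOf K = (P : Subgroup K) := by
    rw [← Subgroup.comap_subtype]
    exact Subgroup.comap_map_eq_self_of_injective K.subtype_injective _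
  rw [Subgroup.relIndex, this]
  exact P.not_dvd_index

/-- the Sylow conjugation step in Witt's lemma -/
theorem witt_step [Finite α] (J Q : Subgroup (Perm α)) (hQJ : Q ≤ J) (hQ : IsPGroup 2 Q)
    (hi : ¬ 2 ∣ Q.relIndex J) (g : Perm α) (hg : cj g Q ≤ J) :
    ∃ k ∈ J, cj (k * g) Q = Q := by
  have : Fact (Nat.Prime 2) := ⟨Nat.prime_two⟩
  have h2 : IsPGroup 2 (cj g Q) := hQ.map _
  have hi' : ¬ 2 ∣ (cj g Q).relIndex J := by
    rw [relIndex_eq_of_card hg hQJ (card_cj g Q) rfl]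
    exact hi
  obtain ⟨k, hk, hkq⟩ := exists_cj_eq_of_not_dvd_relIndex J (cj g Q) Q hg hQJ h2 hQ hi' hi
  exact ⟨k, hk, by rw [cj_mul]; exact hkq⟩

/-- the group induced on a subset by the elements of `X` -/
def restr (X : Subgroup (Perm α)) (F : Set α) : Subgroup (Perm F) where
  carrier := {σ | ∃ g ∈ X, ∀ c : F, (σ c : α) = g c}
  one_mem' := ⟨1, X.one_mem, fun _ => rfl⟩
  mul_mem' := by
    rintro σ τ ⟨g, hg, hσ⟩ ⟨h, hh, hτ⟩
    exact ⟨g * h, X.mul_mem hg hh, fun c => by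
      rw [Perm.mul_apply, Perm.mul_apply, hσ, hτ]⟩
  inv_mem' := by
    rintro σ ⟨g, hg, hσ⟩
    refine ⟨g⁻¹, X.inv_mem hg, fun c => ?_⟩
    rw [Perm.eq_inv_iff_eq, ← hσ, app_inv]

theorem mem_restr {X : Subgroup (Perm α)} {F : Set α} {σ : Perm F} :
    σ ∈ restr X F ↔ ∃ g ∈ X, ∀ c : F, (σ c : α) = g c := Iff.rfl

theorem exists_restr (X : Subgroup (Perm α)) (F : Set α) (g : Perm α) (hg : g ∈ X)
    (hF : ∀ c, g c ∈ F ↔ c ∈ F) : ∃ σ ∈ restr X F, ∀ c : F, (σ c : α) = g c :=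
  ⟨g.subtypePerm hF, ⟨g, hg, fun _ => rfl⟩, fun _ => rfl⟩

/-- fixed points of a subgroup -/
def Fx (Q : Subgroup (Perm α)) : Set α := {c | ∀ q ∈ Q, q c = c}

theorem mem_Fx {Q : Subgroup (Perm α)} {c : α} : c ∈ Fx Q ↔ ∀ q ∈ Q, q c = c := Iff.rfl

theorem Fx_eq_fixedPoints (Q : Subgroup (Perm α)) : Fx Q = MulAction.fixedPoints Q α := by
  ext c
  rw [mem_Fx, MulAction.mem_fixedPoints]
  constructor
  · intro h q
    exact h q q.2
  · intro h q hq
    exact h ⟨q, hq⟩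

theorem smul_mem_Fx {Q : Subgroup (Perm α)} {g : Perm α} (hg : cj g Q = Q) {c : α}
    (hc : c ∈ Fx Q) : g c ∈ Fx Q := by
  intro q hq
  rw [← hg, mem_cj'] at hq
  have := hc _ hq
  rw [Perm.mul_apply, Perm.mul_apply, Perm.inv_eq_iff_eq] at this
  exact this

theorem cj_inv_of_cj {Q : Subgroup (Perm α)} {g : Perm α} (hg : cj g Q = Q) : cj g⁻¹ Q = Q := by
  conv_lhs => rw [← hg]
  exact cj_inv_cj g Q

theorem smul_mem_Fx_iff {Q : Subgroup (Perm α)} {g : Perm α} (hg : cj g Q = Q) (c : α) :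
    g c ∈ Fx Q ↔ c ∈ Fx Q := by
  constructor
  · intro h
    have := smul_mem_Fx (cj_inv_of_cj hg) h
    rwa [inv_app] at this
  · exact smul_mem_Fx hg


theorem cj_fix {Q : Subgroup (Perm α)} {g y : Perm α} (hy : g⁻¹ * y * g ∈ Q) {a' a'' : α}
    (ha' : a' ∈ Fx Q) (hga : g a' = a'') : y a'' = a'' := by
  have := ha' _ hy
  rw [Perm.mul_apply, Perm.mul_apply, Perm.inv_eq_iff_eq, hga] at this
  exact this

theorem mem_of_cj_mem {N : Subgroup (Perm α)} {g y : Perm α}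
    (hg : ∀ x ∈ N, g * x * g⁻¹ ∈ N) (hy : g⁻¹ * y * g ∈ N) : y ∈ N := by
  have : y = g * (g⁻¹ * y * g) * g⁻¹ := by group
  rw [this]
  exact hg _ hy

/-- Wagner's theorem in elementary form, by induction on the degree -/
theorem wagner_aux : ∀ n : ℕ, ∀ (α : Type u) [Finite α], Nat.card α = n → Odd n →
    ∀ (G N : Subgroup (Perm α)), N ≤ G → (∀ g ∈ G, ∀ x ∈ N, g * x * g⁻¹ ∈ N) → T3 G → T2 N →
    ∀ a b : α, a ≠ b → Tab N a b := by
  intro n
  induction n using Nat.strong_induction_on with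
  | _ n ih =>
  intro α _ hcard hodd G N hNG hnorm hG3 hN2 a b hab
  classical
  have : Fintype α := Fintype.ofFinite α
  have : Fact (Nat.Prime 2) := ⟨Nat.prime_two⟩
  have hnormN : ∀ m ∈ N, ∀ x ∈ N, m * x * m⁻¹ ∈ N := fun m hm x hx =>
    N.mul_mem (N.mul_mem hm hx) (N.inv_mem hm)
  obtain ⟨K, hK⟩ : ∃ K, K = PStab N {a, b} := ⟨_, rfl⟩
  have memK : ∀ x, x ∈ K ↔ x ∈ N ∧ x a = a ∧ x b = b := by
    intro x
    rw [hK, mem_PStab]
    constructor
    · rintro ⟨h1, h2⟩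
      exact ⟨h1, h2 a (by simp), h2 b (by simp)⟩
    · rintro ⟨h1, h2, h3⟩
      refine ⟨h1, ?_⟩
      intro s hs
      rcases hs with h | h
      · rw [h]; exact h2
      · rw [Set.mem_singleton_iff.mp h]; exact h3
  obtain ⟨Q, hQK, hQ2, hQi⟩ := exists_sylow2 K
  have hQN : Q ≤ N := fun q hq => ((memK q).mp (hQK hq)).1
  by_cases hQbot : Q = ⊥
  · -- odd case
    have hfc : Odd (Fintype.card α) := by rwa [← Nat.card_eq_fintype_card, hcard]
    apply tab_of_odd hfc G N hnorm hG3 hN2 a b hab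
    intro x hxN hxa hxb
    have hxK : x ∈ K := (memK x).mpr ⟨hxN, hxa, hxb⟩
    rw [hQbot, Subgroup.relIndex_bot_left] at hQi
    have h1 : orderOf x ∣ Nat.card K := by
      have := orderOf_dvd_natCard (⟨x, hxK⟩ : K)
      rwa [Subgroup.orderOf_mk] at this
    rw [← Nat.not_even_iff_odd, even_iff_two_dvd]
    exact fun h => hQi (h.trans h1)
  · -- even case
    have haF : a ∈ Fx Q := fun q hq => ((memK q).mp (hQK hq)).2.1
    have hbF : b ∈ Fx Q := fun q hq => ((memK q).mp (hQK hq)).2.2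
    have hFodd : Odd (Nat.card (Fx Q)) := by
      have h1 := hQ2.card_modEq_card_fixedPoints α
      rw [← Fx_eq_fixedPoints, hcard] at h1
      rw [Nat.odd_iff] at hodd ⊢
      rw [← h1]
      exact hodd
    have hFlt : Nat.card (Fx Q) < n := by
      obtain ⟨q, hq, hq1⟩ : ∃ q ∈ Q, q ≠ 1 := by
        by_contra h
        push Not at h
        exact hQbot ((Subgroup.eq_bot_iff_forall _).mpr h)
      obtain ⟨c, hc⟩ : ∃ c, q c ≠ c := by
        by_contra h
        push Not at h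
        exact hq1 (Perm.ext h)
      have hcF : ¬ c ∈ Fx Q := fun h => hc (h q hq)
      rw [← hcard, Nat.card_eq_fintype_card, Nat.card_eq_fintype_card]
      exact Fintype.card_subtype_lt hcF
    obtain ⟨c₀, hc₀F, hc₀a, hc₀b⟩ : ∃ c₀ ∈ Fx Q, c₀ ≠ a ∧ c₀ ≠ b := by
      by_contra h
      push Not at h
      have hFeq : Fx Q = {a, b} := by
        ext c
        constructor
        · intro hc
          by_cases hca : c = a
          · left; exact hca
          · right; exact h c hc hca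
        · intro hc
          rcases hc with h' | h'
          · rw [h']; exact haF
          · rw [Set.mem_singleton_iff.mp h']; exact hbF
      have : Nat.card (Fx Q) = 2 := by
        rw [hFeq, Nat.card_coe_set_eq, Set.ncard_pair hab]
      rw [this] at hFodd
      exact (by decide : ¬ Odd 2) hFodd
    have hQS : ∀ S : Set α, S ⊆ Fx Q → Q ≤ PStab N S :=
      fun S hS q hq => ⟨hQN hq, fun s hs => hS hs q hq⟩
    have hpair : ∀ a' b' : α, a' ∈ Fx Q → b' ∈ Fx Q → ({a', b'} : Set α) ⊆ Fx Q := by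
      intro a' b' ha' hb' s hs
      rcases hs with h | h
      · rw [h]; exact ha'
      · rw [Set.mem_singleton_iff.mp h]; exact hb'
    have hSyl2 : ∀ a' b' : α, a' ∈ Fx Q → b' ∈ Fx Q → a' ≠ b' →
        ¬ 2 ∣ Q.relIndex (PStab N {a', b'}) := by
      intro a' b' ha' hb' hne
      obtain ⟨m, hm, hma, hmb⟩ := hN2 a b a' b' hab hne
      have e : PStab N {a', b'} = cj m K := by
        rw [hK, ← PStab_image N _ m hm, Set.image_pair, hma, hmb]
      have hQle : Q ≤ PStab N {a', b'} := hQS _ (hpair a' b' ha' hb')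
      rw [relIndex_eq_of_card hQle hQK rfl (by rw [e, card_cj])]
      exact hQi
    -- Witt's lemma for `N` on two points
    have hA : ∀ a' b' c' d' : α, a' ∈ Fx Q → b' ∈ Fx Q → c' ∈ Fx Q → d' ∈ Fx Q → a' ≠ b' →
        c' ≠ d' → ∃ x ∈ N, cj x Q = Q ∧ x a' = c' ∧ x b' = d' := by
      intro a' b' c' d' ha' hb' hc' hd' hne hne'
      obtain ⟨m, hm, hma, hmb⟩ := hN2 a' b' c' d' hne hne'
      have hQle : Q ≤ PStab N {c', d'} := hQS _ (hpair c' d' hc' hd')
      have hcjle : cj m Q ≤ PStab N {c', d'} := by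
        intro y hy
        rw [mem_cj'] at hy
        refine ⟨mem_of_cj_mem (hnormN m hm) (hQN hy), ?_⟩
        intro s hs
        rcases hs with h | h
        · rw [h]; exact cj_fix hy ha' hma
        · rw [Set.mem_singleton_iff.mp h]; exact cj_fix hy hb' hmb
      obtain ⟨k, hk, hkq⟩ := witt_step _ Q hQle hQ2 (hSyl2 c' d' hc' hd' hne') m hcjle
      refine ⟨k * m, N.mul_mem hk.1 hm, hkq, ?_, ?_⟩
      · rw [Perm.mul_apply, hma]; exact hk.2 c' (by simp)
      · rw [Perm.mul_apply, hmb]; exact hk.2 d' (by simp)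
    -- Witt's lemma for `G` on three points
    have hB : ∀ a' b' c' a'' b'' c'' : α, a' ∈ Fx Q → b' ∈ Fx Q → c' ∈ Fx Q → a'' ∈ Fx Q →
        b'' ∈ Fx Q → c'' ∈ Fx Q → a' ≠ b' → a' ≠ c' → b' ≠ c' → a'' ≠ b'' → a'' ≠ c'' →
        b'' ≠ c'' → ∃ g ∈ G, cj g Q = Q ∧ g a' = a'' ∧ g b' = b'' ∧ g c' = c'' := by
      intro a' b' c' a'' b'' c'' ha' hb' hc' ha'' hb'' hc'' h1 h2 h3 h1' h2' h3'
      obtain ⟨g, hg, hga, hgb, hgc⟩ := hG3 a' b' c' a'' b'' c'' h1 h2 h3 h1' h2' h3'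
      have hsub : ({a'', b'', c''} : Set α) ⊆ Fx Q := by
        intro s hs
        rcases hs with h | h | h
        · rw [h]; exact ha''
        · rw [h]; exact hb''
        · rw [Set.mem_singleton_iff.mp h]; exact hc''
      have hQle : Q ≤ PStab N {a'', b'', c''} := hQS _ hsub
      have hle2 : PStab N {a'', b'', c''} ≤ PStab N {a'', b''} := PStab_anti N (by
        intro s hs
        rcases hs with h | h
        · rw [h]; simp
        · rw [Set.mem_singleton_iff.mp h]; simp)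
      have hi3 : ¬ 2 ∣ Q.relIndex (PStab N {a'', b'', c''}) := by
        intro h
        apply hSyl2 a'' b'' ha'' hb'' h1'
        rw [← Subgroup.relIndex_mul_relIndex Q _ _ hQle hle2]
        exact Dvd.dvd.mul_right h _
      have hcjle : cj g Q ≤ PStab N {a'', b'', c''} := by
        intro y hy
        rw [mem_cj'] at hy
        refine ⟨mem_of_cj_mem (hnorm g hg) (hQN hy), ?_⟩
        intro s hs
        rcases hs with h | h | h
        · rw [h]; exact cj_fix hy ha' hga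
        · rw [h]; exact cj_fix hy hb' hgb
        · rw [Set.mem_singleton_iff.mp h]; exact cj_fix hy hc' hgc
      obtain ⟨k, hk, hkq⟩ := witt_step _ Q hQle hQ2 hi3 g hcjle
      refine ⟨k * g, G.mul_mem (hNG hk.1) hg, hkq, ?_, ?_, ?_⟩
      · rw [Perm.mul_apply, hga]; exact hk.2 a'' (by simp)
      · rw [Perm.mul_apply, hgb]; exact hk.2 b'' (by simp)
      · rw [Perm.mul_apply, hgc]; exact hk.2 c'' (by simp)
    -- every orbit of `K` meets the fixed points of `Q`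
    have hC : ∀ c' : α, c' ≠ a → c' ≠ b → ∃ k ∈ K, k c' ∈ Fx Q := by
      intro c' hc'a hc'b
      obtain ⟨g, hg, hga, hgb, hgc⟩ :=
        hG3 a b c₀ a b c' hab hc₀a.symm hc₀b.symm hab hc'a.symm hc'b.symm
      have hcjle : cj g Q ≤ K := by
        intro y hy
        rw [mem_cj'] at hy
        rw [memK]
        exact ⟨mem_of_cj_mem (hnorm g hg) (hQN hy), cj_fix hy haF hga, cj_fix hy hbF hgb⟩
      obtain ⟨k, hk, hkq⟩ := witt_step K Q hQK hQ2 hQi g hcjle
      refine ⟨k, hk, ?_⟩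
      have := smul_mem_Fx hkq hc₀F
      rwa [Perm.mul_apply, hgc] at this
    -- the induced groups on the fixed points
    obtain ⟨XG, hXG⟩ : ∃ XG, XG = G ⊓ Subgroup.normalizer (Q : Set (Perm α)) := ⟨_, rfl⟩
    obtain ⟨XN, hXN⟩ : ∃ XN, XN = N ⊓ Subgroup.normalizer (Q : Set (Perm α)) := ⟨_, rfl⟩
    have memXG : ∀ g, g ∈ XG ↔ g ∈ G ∧ cj g Q = Q := fun g => by
      rw [hXG, Subgroup.mem_inf, cj_eq_self_iff]
    have memXN : ∀ g, g ∈ XN ↔ g ∈ N ∧ cj g Q = Q := fun g => by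
      rw [hXN, Subgroup.mem_inf, cj_eq_self_iff]
    have hle : restr XN (Fx Q) ≤ restr XG (Fx Q) := by
      rintro σ ⟨g, hg, hσ⟩
      exact ⟨g, (memXG g).mpr ⟨hNG ((memXN g).mp hg).1, ((memXN g).mp hg).2⟩, hσ⟩
    have hnorm' : ∀ σ ∈ restr XG (Fx Q), ∀ τ ∈ restr XN (Fx Q),
        σ * τ * σ⁻¹ ∈ restr XN (Fx Q) := by
      rintro σ ⟨g, hg, hσ⟩ τ ⟨x, hx, hτ⟩
      rw [memXG] at hg
      rw [memXN] at hx
      refine ⟨g * x * g⁻¹, ?_, fun c => ?_⟩
      · rw [memXN]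
        refine ⟨hnorm g hg.1 x hx.1, ?_⟩
        rw [cj_mul, cj_mul, cj_inv_of_cj hg.2, hx.2, hg.2]
      · have h1 : ((σ⁻¹ c : Fx Q) : α) = g⁻¹ c := by
          rw [Perm.eq_inv_iff_eq, ← hσ, app_inv]
        rw [Perm.mul_apply, Perm.mul_apply, Perm.mul_apply, Perm.mul_apply, hσ, hτ, h1]
    have hG3' : T3 (restr XG (Fx Q)) := by
      rintro ⟨a', ha'⟩ ⟨b', hb'⟩ ⟨c', hc'⟩ ⟨a'', ha''⟩ ⟨b'', hb''⟩ ⟨c'', hc''⟩ h1 h2 h3 h1' h2' h3'
      obtain ⟨g, hg, hgq, hga, hgb, hgc⟩ := hB a' b' c' a'' b'' c'' ha' hb' hc' ha'' hb'' hc''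
        (fun h => h1 (Subtype.ext h)) (fun h => h2 (Subtype.ext h)) (fun h => h3 (Subtype.ext h))
        (fun h => h1' (Subtype.ext h)) (fun h => h2' (Subtype.ext h))
        (fun h => h3' (Subtype.ext h))
      obtain ⟨σ, hσ, hσg⟩ := exists_restr XG (Fx Q) g ((memXG g).mpr ⟨hg, hgq⟩)
        (smul_mem_Fx_iff hgq)
      refine ⟨σ, hσ, ?_, ?_, ?_⟩
      · apply Subtype.ext; rw [hσg]; exact hga
      · apply Subtype.ext; rw [hσg]; exact hgb
      · apply Subtype.ext; rw [hσg]; exact hgc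
    have hN2' : T2 (restr XN (Fx Q)) := by
      rintro ⟨a', ha'⟩ ⟨b', hb'⟩ ⟨c', hc'⟩ ⟨d', hd'⟩ h1 h2
      obtain ⟨x, hx, hxq, hxa, hxb⟩ := hA a' b' c' d' ha' hb' hc' hd'
        (fun h => h1 (Subtype.ext h)) (fun h => h2 (Subtype.ext h))
      obtain ⟨σ, hσ, hσx⟩ := exists_restr XN (Fx Q) x ((memXN x).mpr ⟨hx, hxq⟩)
        (smul_mem_Fx_iff hxq)
      refine ⟨σ, hσ, ?_, ?_⟩
      · apply Subtype.ext; rw [hσx]; exact hxa
      · apply Subtype.ext; rw [hσx]; exact hxb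
    have ih' := ih (Nat.card (Fx Q)) hFlt (Fx Q) rfl hFodd (restr XG (Fx Q)) (restr XN (Fx Q))
      hle hnorm' hG3' hN2' ⟨a, haF⟩ ⟨b, hbF⟩ (fun h => hab (congrArg Subtype.val h))
    -- conclusion
    intro c d hca hcb hda hdb
    obtain ⟨k1, hk1, hk1F⟩ := hC c hca hcb
    obtain ⟨k2, hk2, hk2F⟩ := hC d hda hdb
    rw [memK] at hk1 hk2
    obtain ⟨hk1N, hk1a, hk1b⟩ := hk1
    obtain ⟨hk2N, hk2a, hk2b⟩ := hk2
    have h1 : (⟨k1 c, hk1F⟩ : Fx Q) ≠ ⟨a, haF⟩ := by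
      intro h
      have h' : k1 c = a := congrArg Subtype.val h
      exact hca (k1.injective (h'.trans hk1a.symm))
    have h2 : (⟨k1 c, hk1F⟩ : Fx Q) ≠ ⟨b, hbF⟩ := by
      intro h
      have h' : k1 c = b := congrArg Subtype.val h
      exact hcb (k1.injective (h'.trans hk1b.symm))
    have h3 : (⟨k2 d, hk2F⟩ : Fx Q) ≠ ⟨a, haF⟩ := by
      intro h
      have h' : k2 d = a := congrArg Subtype.val h
      exact hda (k2.injective (h'.trans hk2a.symm))
    have h4 : (⟨k2 d, hk2F⟩ : Fx Q) ≠ ⟨b, hbF⟩ := by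
      intro h
      have h' : k2 d = b := congrArg Subtype.val h
      exact hdb (k2.injective (h'.trans hk2b.symm))
    obtain ⟨τ, ⟨x, hx, hτx⟩, hτa, hτb, hτc⟩ := ih' ⟨k1 c, hk1F⟩ ⟨k2 d, hk2F⟩ h1 h2 h3 h4
    rw [memXN] at hx
    have hxa : x a = a := by
      have := hτx ⟨a, haF⟩
      rw [hτa] at this
      exact this.symm
    have hxb : x b = b := by
      have := hτx ⟨b, hbF⟩
      rw [hτb] at this
      exact this.symm
    have hxc : x (k1 c) = k2 d := by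
      have := hτx ⟨k1 c, hk1F⟩
      rw [hτc] at this
      exact this.symm
    refine ⟨k2⁻¹ * x * k1, N.mul_mem (N.mul_mem (N.inv_mem hk2N) hx.1) hk1N, ?_, ?_, ?_⟩
    · rw [Perm.mul_apply, Perm.mul_apply, hk1a, hxa, Perm.inv_eq_iff_eq, hk2a]
    · rw [Perm.mul_apply, Perm.mul_apply, hk1b, hxb, Perm.inv_eq_iff_eq, hk2b]
    · rw [Perm.mul_apply, Perm.mul_apply, hxc, inv_app]

end Cfsg.Agent.Lib.Helper63.Wagner
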