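import Mathlib
import Cfsg.Agent.Lib.Helper63.WagnerEven

set_option autoImplicit false

namespace Cfsg.Agent.Lib.Helper63.Wagner

open Equiv
open Cfsg.Agent.Lib.Helper68 (cj mem_cj' card_cj cj_mul cj_inv_cj cj_eq_self_iff
  exists_cj_eq_of_not_dvd_relIndex)

universe u

variable {α : Type u}

/-- orbit-stabilizer for a transitive permutation group, in relative index form -/
theorem relIndex_PStab_singleton [Finite α] (M : Subgroup (Perm α)) (a : α)
    (hM1 : ∀ b, ∃ x ∈ M, x a = b) : (PStab M {a}).relIndex M = Nat.card α := by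
  have h1 : MulAction.stabilizer M a = (PStab M {a}).subgroupOf M := by
    ext x
    rw [MulAction.mem_stabilizer_iff, Subgroup.mem_subgroupOf, mem_PStab]
    constructor
    · intro h
      exact ⟨x.2, fun s hs => by rw [Set.mem_singleton_iff.mp hs]; exact h⟩
    · intro h
      exact h.2 a rfl
  have h2 : MulAction.orbit M a = Set.univ := by
    ext b
    simp only [Set.mem_univ, iff_true]
    obtain ⟨x, hx, hxb⟩ := hM1 b
    exact ⟨⟨x, hx⟩, hxb⟩
  rw [Subgroup.relIndex, ← h1, MulAction.index_stabilizer, h2, Set.ncard_univ]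

/-- orbit-stabilizer for a permutation group whose orbit of `a` is the set `F` -/
theorem relIndex_PStab_orbit [Finite α] (M : Subgroup (Perm α)) (a : α) (F : Set α)
    (hF : ∀ x ∈ M, x a ∈ F) (hM1 : ∀ b ∈ F, ∃ x ∈ M, x a = b) :
    (PStab M {a}).relIndex M = Nat.card F := by
  have h1 : MulAction.stabilizer M a = (PStab M {a}).subgroupOf M := by
    ext x
    rw [MulAction.mem_stabilizer_iff, Subgroup.mem_subgroupOf, mem_PStab]
    constructor
    · intro h
      exact ⟨x.2, fun s hs => by rw [Set.mem_singleton_iff.mp hs]; exact h⟩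
    · intro h
      exact h.2 a rfl
  have h2 : MulAction.orbit M a = F := by
    ext b
    constructor
    · rintro ⟨x, rfl⟩
      exact hF x x.2
    · intro hb
      obtain ⟨x, hx, hxb⟩ := hM1 b hb
      exact ⟨⟨x, hx⟩, hxb⟩
  rw [Subgroup.relIndex, ← h1, MulAction.index_stabilizer, h2]
  rfl

/-- a `2`-subgroup of even relative index is of index two in a larger subgroup -/
theorem exists_index_two_overgroup [Finite α] (M Q : Subgroup (Perm α)) (hQM : Q ≤ M)
    (hQ : IsPGroup 2 Q) (h2 : 2 ∣ Q.relIndex M) :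
    ∃ T : Subgroup (Perm α), Q ≤ T ∧ T ≤ M ∧ Q.relIndex T = 2 := by
  have : Fact (Nat.Prime 2) := ⟨Nat.prime_two⟩
  obtain ⟨e, he⟩ := hQ.exists_card_eq
  have hcardH : Nat.card (Q.subgroupOf M) = 2 ^ e := by
    rw [← he]
    exact Nat.card_congr (Subgroup.subgroupOfEquivOfLe hQM).toEquiv
  have hdvd : 2 ^ (e + 1) ∣ Nat.card M := by
    rw [← relIndex_mul_card' hQM, he, pow_succ, mul_comm]
    exact Nat.mul_dvd_mul_right h2 _
  obtain ⟨T', hT'card, hT'le⟩ := Sylow.exists_subgroup_card_pow_succ hdvd hcardH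
  refine ⟨T'.map M.subtype, ?_, Subgroup.map_subtype_le _, ?_⟩
  · intro q hq
    exact ⟨⟨q, hQM hq⟩, hT'le (Subgroup.mem_subgroupOf.mpr hq), rfl⟩
  · have hle : Q ≤ T'.map M.subtype := by
      intro q hq
      exact ⟨⟨q, hQM hq⟩, hT'le (Subgroup.mem_subgroupOf.mpr hq), rfl⟩
    have h3 := relIndex_mul_card' hle
    have h4 : Nat.card (T'.map M.subtype) = 2 ^ (e + 1) := by
      rw [Subgroup.card_map_of_injective M.subtype_injective, hT'card]
    rw [h4, he, pow_succ, mul_comm] at h3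
    exact Nat.eq_of_mul_eq_mul_left (by positivity) h3


theorem sign_of_fpf_involution {β : Type*} [Fintype β] [DecidableEq β] (τ : Perm β)
    (h2 : τ * τ = 1) (hf : ∀ c, τ c ≠ c) (hcard : Fintype.card β % 4 = 2) :
    Perm.sign τ = -1 := by
  have : Fact (Nat.Prime 2) := ⟨Nat.prime_two⟩
  have hne : τ ≠ 1 := by
    intro h
    have hpos : 0 < Fintype.card β := by omega
    obtain ⟨c⟩ := Fintype.card_pos_iff.mp hpos
    exact hf c (by rw [h]; rfl)
  have ho : orderOf τ = 2 := by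
    apply orderOf_eq_prime
    · rw [pow_two]; exact h2
    · exact hne
  obtain ⟨k, hk⟩ := Perm.cycleType_prime_order (σ := τ) (by rw [ho]; exact Nat.prime_two)
  rw [ho] at hk
  have hsupp : τ.support = Finset.univ := by
    ext c
    simp [Perm.mem_support, hf c]
  have hsum := Perm.sum_cycleType τ
  rw [hk, hsupp, Finset.card_univ, Multiset.sum_replicate, smul_eq_mul] at hsum
  rw [Perm.sign_of_cycleType, hk, Multiset.sum_replicate, Multiset.card_replicate, smul_eq_mul]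
  have hodd : Odd ((k + 1) * 2 + (k + 1)) := by
    rw [Nat.odd_iff]; omega
  exact hodd.neg_one_pow

theorem coe_pow_apply {F : Set α} {σ : Perm F} {g : Perm α} (h : ∀ c : F, (σ c : α) = g c)
    (m : ℕ) (c : F) : ((σ ^ m) c : α) = (g ^ m) c := by
  induction m generalizing c with
  | zero => rfl
  | succ m ih => rw [pow_succ, pow_succ, Perm.mul_apply, Perm.mul_apply, ih, h]

theorem cj_of_mem {Q : Subgroup (Perm α)} {q : Perm α} (hq : q ∈ Q) : cj q Q = Q :=
  cj_eq_self_iff.mpr (Subgroup.le_normalizer hq)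

/-- point stabilizers of a transitive normal subgroup of a 2-transitive group of degree
`2 mod 4` are transitive on the remaining points -/
theorem stab_transitive_of_mod_four [Finite α] (hcard : Nat.card α % 4 = 2)
    (G M : Subgroup (Perm α)) (hMG : M ≤ G)
    (hnorm : ∀ g ∈ G, ∀ x ∈ M, g * x * g⁻¹ ∈ M) (hG2 : T2 G)
    (hM1 : ∀ a b : α, ∃ x ∈ M, x a = b) (a : α) :
    ∀ c d : α, c ≠ a → d ≠ a → ∃ x ∈ M, x a = a ∧ x c = d := by
  classical
  have : Fintype α := Fintype.ofFinite α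
  have : Fact (Nat.Prime 2) := ⟨Nat.prime_two⟩
  have hnormM : ∀ m ∈ M, ∀ x ∈ M, m * x * m⁻¹ ∈ M := fun m hm x hx =>
    M.mul_mem (M.mul_mem hm hx) (M.inv_mem hm)
  obtain ⟨K, hK⟩ : ∃ K, K = PStab M {a} := ⟨_, rfl⟩
  have memK : ∀ x, x ∈ K ↔ x ∈ M ∧ x a = a := by
    intro x
    rw [hK, mem_PStab]
    constructor
    · rintro ⟨h1, h2⟩
      exact ⟨h1, h2 a rfl⟩
    · rintro ⟨h1, h2⟩
      exact ⟨h1, fun s hs => by rw [Set.mem_singleton_iff.mp hs]; exact h2⟩
  have hKM : K ≤ M := fun x hx => ((memK x).mp hx).1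
  obtain ⟨Q, hQK, hQ2, hQi⟩ := exists_sylow2 K
  have hQM : Q ≤ M := hQK.trans hKM
  have haF : a ∈ Fx Q := fun q hq => ((memK q).mp (hQK hq)).2
  -- cardinalities of point stabilizers
  have hcardK : ∀ c : α, Nat.card (PStab M {c}) = Nat.card K := by
    intro c
    obtain ⟨m, hm, hma⟩ := hM1 a c
    have e : PStab M {c} = cj m K := by
      rw [hK, ← PStab_image M _ m hm, Set.image_singleton, hma]
    rw [e, card_cj]
  have hQS : ∀ S : Set α, S ⊆ Fx Q → Q ≤ PStab M S :=
    fun S hS q hq => ⟨hQM hq, fun s hs => hS hs q hq⟩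
  have hsing : ∀ c : α, c ∈ Fx Q → ({c} : Set α) ⊆ Fx Q := by
    intro c hc s hs
    rw [Set.mem_singleton_iff.mp hs]; exact hc
  have hpair : ∀ a' b' : α, a' ∈ Fx Q → b' ∈ Fx Q → ({a', b'} : Set α) ⊆ Fx Q := by
    intro a' b' ha' hb' s hs
    rcases hs with h | h
    · rw [h]; exact ha'
    · rw [Set.mem_singleton_iff.mp h]; exact hb'
  have hSyl1 : ∀ c : α, c ∈ Fx Q → ¬ 2 ∣ Q.relIndex (PStab M {c}) := by
    intro c hc
    have hQle : Q ≤ PStab M {c} := hQS _ (hsing c hc)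
    rw [relIndex_eq_of_card hQle hQK rfl (hcardK c)]
    exact hQi
  have hSyl2 : ∀ c d : α, c ∈ Fx Q → d ∈ Fx Q → ¬ 2 ∣ Q.relIndex (PStab M {c, d}) := by
    intro c d hc hd h
    apply hSyl1 c hc
    have hQle : Q ≤ PStab M {c, d} := hQS _ (hpair c d hc hd)
    have hle : PStab M {c, d} ≤ PStab M {c} := PStab_anti M (by
      intro s hs; rw [Set.mem_singleton_iff.mp hs]; simp)
    rw [← Subgroup.relIndex_mul_relIndex Q _ _ hQle hle]
    exact Dvd.dvd.mul_right h _
  -- Witt's lemma for `M` (one point) and `G` (two points)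
  have hWM : ∀ a' c' : α, a' ∈ Fx Q → c' ∈ Fx Q → ∃ x ∈ M, cj x Q = Q ∧ x a' = c' := by
    intro a' c' ha' hc'
    obtain ⟨m, hm, hma⟩ := hM1 a' c'
    have hQle : Q ≤ PStab M {c'} := hQS _ (hsing c' hc')
    have hcjle : cj m Q ≤ PStab M {c'} := by
      intro y hy
      rw [mem_cj'] at hy
      refine ⟨mem_of_cj_mem (hnormM m hm) (hQM hy), ?_⟩
      intro s hs
      rw [Set.mem_singleton_iff.mp hs]; exact cj_fix hy ha' hma
    obtain ⟨k, hk, hkq⟩ := witt_step _ Q hQle hQ2 (hSyl1 c' hc') m hcjle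
    refine ⟨k * m, M.mul_mem hk.1 hm, hkq, ?_⟩
    rw [Perm.mul_apply, hma]; exact hk.2 c' rfl
  have hWG : ∀ a' b' c' d' : α, a' ∈ Fx Q → b' ∈ Fx Q → c' ∈ Fx Q → d' ∈ Fx Q → a' ≠ b' →
      c' ≠ d' → ∃ g ∈ G, cj g Q = Q ∧ g a' = c' ∧ g b' = d' := by
    intro a' b' c' d' ha' hb' hc' hd' hne hne'
    obtain ⟨g, hg, hga, hgb⟩ := hG2 a' b' c' d' hne hne'
    have hQle : Q ≤ PStab M {c', d'} := hQS _ (hpair c' d' hc' hd')
    have hcjle : cj g Q ≤ PStab M {c', d'} := by
      intro y hy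
      rw [mem_cj'] at hy
      refine ⟨mem_of_cj_mem (hnorm g hg) (hQM hy), ?_⟩
      intro s hs
      rcases hs with h | h
      · rw [h]; exact cj_fix hy ha' hga
      · rw [Set.mem_singleton_iff.mp h]; exact cj_fix hy hb' hgb
    obtain ⟨k, hk, hkq⟩ := witt_step _ Q hQle hQ2 (hSyl2 c' d' hc' hd') g hcjle
    refine ⟨k * g, G.mul_mem (hMG hk.1) hg, hkq, ?_, ?_⟩
    · rw [Perm.mul_apply, hga]; exact hk.2 c' (by simp)
    · rw [Perm.mul_apply, hgb]; exact hk.2 d' (by simp)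
  -- index computations
  have hKidx : K.relIndex M = Nat.card α := by
    rw [hK]; exact relIndex_PStab_singleton M a (hM1 a)
  have hQidx : Q.relIndex M = Q.relIndex K * Nat.card α := by
    rw [← hKidx]; exact (Subgroup.relIndex_mul_relIndex Q K M hQK hKM).symm
  have h2dvd : 2 ∣ Q.relIndex M := by
    rw [hQidx]; apply Dvd.dvd.mul_left; omega
  have h4ndvd : ¬ 4 ∣ Q.relIndex M := by
    rw [hQidx]
    intro h
    have hcop : Nat.Coprime 4 (Q.relIndex K) := by
      have h1 : Nat.Coprime 2 (Q.relIndex K) :=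
        (Nat.Prime.coprime_iff_not_dvd Nat.prime_two).mpr hQi
      have := Nat.Coprime.pow_left 2 h1
      norm_num at this
      exact this
    have := hcop.dvd_of_dvd_mul_left h
    omega
  obtain ⟨T, hQT, hTM, hQTi⟩ := exists_index_two_overgroup M Q hQM hQ2 h2dvd
  have hidx : (Q.subgroupOf T).index = 2 := hQTi
  obtain ⟨t, htT, htQ⟩ : ∃ t ∈ T, t ∉ Q := by
    by_contra h
    push Not at h
    have hle : T ≤ Q := h
    have := Subgroup.relIndex_eq_one.mpr hle
    rw [hQTi] at this; omega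
  have htM : t ∈ M := hTM htT
  have htnorm : cj t Q = Q := by
    have hn : (Q.subgroupOf T).Normal := Subgroup.normal_of_index_eq_two hidx
    rw [cj_eq_self_iff]
    exact (Subgroup.normal_subgroupOf_iff_le_normalizer hQT).mp hn htT
  have htt : t * t ∈ Q := by
    have := Subgroup.mul_self_mem_of_index_two hidx (⟨t, htT⟩ : T)
    exact Subgroup.mem_subgroupOf.mp this
  -- `t` has no fixed points among the fixed points of `Q`
  have htfix : ∀ c ∈ Fx Q, t c ≠ c := by
    intro c hc htc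
    have hTle : T ≤ PStab M {c} := by
      intro y hy
      refine ⟨hTM hy, fun s hs => ?_⟩
      rw [Set.mem_singleton_iff.mp hs]
      by_cases hyQ : y ∈ Q
      · exact hc y hyQ
      · have h1 : (⟨t, htT⟩ : T)⁻¹ * ⟨y, hy⟩ ∈ Q.subgroupOf T := by
          rw [Subgroup.mul_mem_iff_of_index_two hidx]
          constructor
          · intro h
            exact absurd (Subgroup.mem_subgroupOf.mp ((Subgroup.inv_mem_iff _).mp h)) htQ
          · intro h
            exact absurd (Subgroup.mem_subgroupOf.mp h) hyQ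
        have h2 : t⁻¹ * y ∈ Q := Subgroup.mem_subgroupOf.mp h1
        have h3 := hc _ h2
        rw [Perm.mul_apply, Perm.inv_eq_iff_eq, htc] at h3
        exact h3
    apply hSyl1 c hc
    rw [← Subgroup.relIndex_mul_relIndex Q T _ hQT hTle, hQTi]
    exact Dvd.intro _ rfl
  -- the normalizer of `Q` in `M`
  obtain ⟨XM, hXM⟩ : ∃ XM, XM = M ⊓ Subgroup.normalizer (Q : Set (Perm α)) := ⟨_, rfl⟩
  have memXM : ∀ g, g ∈ XM ↔ g ∈ M ∧ cj g Q = Q := fun g => by
    rw [hXM, Subgroup.mem_inf, cj_eq_self_iff]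
  have hXMM : XM ≤ M := fun x hx => ((memXM x).mp hx).1
  have hQXM : Q ≤ XM := fun q hq => (memXM q).mpr ⟨hQM hq, cj_of_mem hq⟩
  obtain ⟨Z, hZdef⟩ : ∃ Z, Z = PStab XM {a} := ⟨_, rfl⟩
  have memZ : ∀ x, x ∈ Z ↔ x ∈ XM ∧ x a = a := by
    intro x
    rw [hZdef, mem_PStab]
    constructor
    · rintro ⟨h1, h2⟩
      exact ⟨h1, h2 a rfl⟩
    · rintro ⟨h1, h2⟩
      exact ⟨h1, fun s hs => by rw [Set.mem_singleton_iff.mp hs]; exact h2⟩
  have hQZ : Q ≤ Z := fun q hq => (memZ q).mpr ⟨hQXM hq, haF q hq⟩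
  have hZXM : Z ≤ XM := fun x hx => ((memZ x).mp hx).1
  have hZK : Z ≤ K := fun x hx => (memK x).mpr ⟨hXMM ((memZ x).mp hx).1, ((memZ x).mp hx).2⟩
  have hFcard : Nat.card (Fx Q) % 4 = 2 := by
    have hZ : Z.relIndex XM = Nat.card (Fx Q) := by
      rw [hZdef]
      apply relIndex_PStab_orbit
      · intro x hx; exact smul_mem_Fx ((memXM x).mp hx).2 haF
      · intro b hb
        obtain ⟨x, hx, hxq, hxa⟩ := hWM a b haF hb
        exact ⟨x, (memXM x).mpr ⟨hx, hxq⟩, hxa⟩
    have hdvd : Nat.card (Fx Q) ∣ Q.relIndex M := by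
      rw [← hZ, ← Subgroup.relIndex_mul_relIndex Q XM M hQXM hXMM,
        ← Subgroup.relIndex_mul_relIndex Q Z XM hQZ hZXM]
      exact Dvd.dvd.mul_right (Dvd.intro_left _ rfl) _
    have heven : Nat.card (Fx Q) % 2 = 0 := by
      have h1 := hQ2.card_modEq_card_fixedPoints α
      rw [← Fx_eq_fixedPoints] at h1
      have h2 : Nat.card α % 2 = 0 := by omega
      unfold Nat.ModEq at h1
      omega
    have h4 : ¬ 4 ∣ Nat.card (Fx Q) := fun h => h4ndvd (h.trans hdvd)
    omega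
  have : Fintype (Fx Q) := Fintype.ofFinite _
  -- the involution induced by `t`
  obtain ⟨τ, hτX, hτ⟩ := exists_restr XM (Fx Q) t ((memXM t).mpr ⟨htM, htnorm⟩)
    (smul_mem_Fx_iff htnorm)
  have hττ : τ * τ = 1 := by
    apply Perm.ext
    intro c
    apply Subtype.ext
    rw [Perm.mul_apply, hτ, hτ, Perm.one_apply, ← Perm.mul_apply]
    exact c.2 _ htt
  have hτf : ∀ c, τ c ≠ c := by
    intro c h
    apply htfix c c.2
    rw [← hτ, h]
  have hτsign : Perm.sign τ = -1 :=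
    sign_of_fpf_involution τ hττ hτf (by rw [← Nat.card_eq_fintype_card]; exact hFcard)
  have hta : t (t a) = a := by rw [← Perm.mul_apply]; exact haF _ htt
  have htaF : t a ∈ Fx Q := smul_mem_Fx htnorm haF
  have hata : a ≠ t a := fun h => htfix a haF h.symm
  -- the fixed points of `Q` are `a` and `t a`
  have hF2 : ∀ c ∈ Fx Q, c ≠ a → c = t a := by
    by_cases hbot : ∀ σ : Perm (Fx Q), σ ∈ restr XM (Fx Q) → Perm.sign σ = 1 → σ = 1
    · intro c hc hca
      obtain ⟨x, hx, hxq, hxa⟩ := hWM a c haF hc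
      obtain ⟨ξ, hξX, hξ⟩ := exists_restr XM (Fx Q) x ((memXM x).mpr ⟨hx, hxq⟩)
        (smul_mem_Fx_iff hxq)
      rcases Int.units_eq_one_or (Perm.sign ξ) with hs | hs
      · exfalso
        have h1 := hbot ξ hξX hs
        apply hca
        have h2 := hξ ⟨a, haF⟩
        rw [h1, Perm.one_apply] at h2
        rw [← hxa]
        exact h2.symm
      · have hs' : Perm.sign (τ * ξ) = 1 := by
          rw [map_mul, hτsign, hs]; rfl
        have h1 := hbot _ ((restr XM (Fx Q)).mul_mem hτX hξX) hs'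
        have h2 : (((τ * ξ) ⟨a, haF⟩ : Fx Q) : α) = a := by rw [h1]; rfl
        rw [Perm.mul_apply, hτ, hξ] at h2
        have h3 : t c = t (t a) := by
          rw [hta, ← hxa]; exact h2
        exact t.injective h3
    · exfalso
      push Not at hbot
      obtain ⟨σ₀, hσ₀X, hσ₀s, hσ₀1⟩ := hbot
      obtain ⟨y, hy, hσ₀⟩ := hσ₀X
      obtain ⟨c₁, hc₁⟩ : ∃ c₁ : Fx Q, σ₀ c₁ ≠ c₁ := by
        by_contra h
        push Not at h
        exact hσ₀1 (Perm.ext h)
      have hyc₁ : y c₁ ≠ c₁ := by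
        intro h
        apply hc₁
        apply Subtype.ext
        rw [hσ₀]; exact h
      have hyq := ((memXM y).mp hy).2
      have hyc₁F : y c₁ ∈ Fx Q := smul_mem_Fx hyq c₁.2
      obtain ⟨g, hg, hgq, hgc₁, hgc₂⟩ :=
        hWG c₁ (y c₁) a (t a) c₁.2 hyc₁F haF htaF (fun h => hyc₁ h.symm) hata
      -- the conjugate `g y g⁻¹`
      have hy'XM : g * y * g⁻¹ ∈ XM := by
        rw [memXM]
        refine ⟨hnorm g hg y ((memXM y).mp hy).1, ?_⟩
        rw [cj_mul, cj_mul, cj_inv_of_cj hgq, hyq, hgq]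
      have hy'a : (g * y * g⁻¹) a = t a := by
        have : g⁻¹ a = c₁ := by rw [Perm.inv_eq_iff_eq, hgc₁]
        rw [Perm.mul_apply, Perm.mul_apply, this, hgc₂]
      obtain ⟨γ, hγX, hγ⟩ := exists_restr (G ⊓ Subgroup.normalizer (Q : Set (Perm α)))
        (Fx Q) g (Subgroup.mem_inf.mpr ⟨hg, cj_eq_self_iff.mp hgq⟩) (smul_mem_Fx_iff hgq)
      have hγinv : ∀ c : Fx Q, ((γ⁻¹ c : Fx Q) : α) = g⁻¹ c := by
        intro c
        rw [Perm.eq_inv_iff_eq, ← hγ, app_inv]
      have hσ' : ∀ c : Fx Q, (((γ * σ₀ * γ⁻¹) c : Fx Q) : α) = (g * y * g⁻¹) c := by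
        intro c
        rw [Perm.mul_apply, Perm.mul_apply, Perm.mul_apply, Perm.mul_apply, hγ, hσ₀, hγinv]
      have hσ's : Perm.sign (γ * σ₀ * γ⁻¹) = 1 := by
        rw [map_mul, map_mul, map_inv, hσ₀s, mul_one, mul_inv_cancel]
      -- the element `z = t⁻¹ g y g⁻¹` fixes `a` and acts as an odd permutation
      obtain ⟨z, hz⟩ : ∃ z, z = t⁻¹ * (g * y * g⁻¹) := ⟨_, rfl⟩
      obtain ⟨ζ, hζdef⟩ : ∃ ζ : Perm (Fx Q), ζ = τ⁻¹ * (γ * σ₀ * γ⁻¹) := ⟨_, rfl⟩
      have hτinv : ∀ c : Fx Q, ((τ⁻¹ c : Fx Q) : α) = t⁻¹ c := by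
        intro c
        rw [Perm.eq_inv_iff_eq, ← hτ, app_inv]
      have hζ : ∀ c : Fx Q, ((ζ c : Fx Q) : α) = z c := by
        intro c
        rw [hζdef, hz, Perm.mul_apply, hτinv, hσ']
        rfl
      have hζs : Perm.sign ζ = -1 := by
        rw [hζdef, map_mul, map_inv, hσ's, hτsign]; rfl
      have hzXM : z ∈ XM := by
        rw [hz]
        exact XM.mul_mem (XM.inv_mem ((memXM t).mpr ⟨htM, htnorm⟩)) hy'XM
      have hza : z a = a := by
        rw [hz, Perm.mul_apply, hy'a, inv_app]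
      have hzZ : z ∈ Z := (memZ z).mpr ⟨hzXM, hza⟩
      -- odd power of `z` lies in `Q`
      have hZnorm : Z ≤ Subgroup.normalizer (Q : Set (Perm α)) := by
        intro x hx
        have := (memXM x).mp (hZXM hx)
        exact cj_eq_self_iff.mp this.2
      have hn : (Q.subgroupOf Z).Normal := Subgroup.normal_subgroupOf_of_le_normalizer hZnorm
      have hpow : z ^ (Q.relIndex Z) ∈ Q := by
        have := Subgroup.pow_index_mem (Q.subgroupOf Z) (⟨z, hzZ⟩ : Z)
        exact Subgroup.mem_subgroupOf.mp this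
      have hmodd : Odd (Q.relIndex Z) := by
        rw [← Nat.not_even_iff_odd, even_iff_two_dvd]
        intro h
        apply hQi
        rw [← Subgroup.relIndex_mul_relIndex Q Z K hQZ hZK]
        exact Dvd.dvd.mul_right h _
      have hζpow : ζ ^ (Q.relIndex Z) = 1 := by
        apply Perm.ext
        intro c
        apply Subtype.ext
        rw [coe_pow_apply hζ, Perm.one_apply]
        exact c.2 _ hpow
      have := congrArg Perm.sign hζpow
      rw [map_pow, hζs, map_one, hmodd.neg_one_pow] at this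
      exact absurd this (by decide)
  -- conclusion
  have key : ∀ c' : α, c' ≠ a → ∃ k ∈ M, k a = a ∧ k c' = t a := by
    intro c' hc'a
    obtain ⟨g, hg, hga, hgc⟩ := hG2 a (t a) a c' hata hc'a.symm
    have hcjle : cj g Q ≤ K := by
      intro y hy
      rw [mem_cj'] at hy
      rw [memK]
      exact ⟨mem_of_cj_mem (hnorm g hg) (hQM hy), cj_fix hy haF hga⟩
    obtain ⟨k, hk, hkq⟩ := witt_step K Q hQK hQ2 hQi g hcjle
    rw [memK] at hk
    have hkF := smul_mem_Fx hkq htaF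
    rw [Perm.mul_apply, hgc] at hkF
    have hne : k c' ≠ a := by
      intro h; apply hc'a; apply k.injective; rw [h, hk.2]
    exact ⟨k, hk.1, hk.2, hF2 _ hkF hne⟩
  intro c d hca hda
  obtain ⟨k1, hk1, hk1a, hk1c⟩ := key c hca
  obtain ⟨k2, hk2, hk2a, hk2d⟩ := key d hda
  refine ⟨k2⁻¹ * k1, M.mul_mem (M.inv_mem hk2) hk1, ?_, ?_⟩
  · rw [Perm.mul_apply, hk1a, Perm.inv_eq_iff_eq, hk2a]
  · rw [Perm.mul_apply, hk1c, Perm.inv_eq_iff_eq, hk2d]

end Cfsg.Agent.Lib.Helper63.Wagner
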