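import Mathlib

/-!
# Two primes in `(n, 2n]` for `n ≥ 6` (keystone K-S3419-N)

The proof of Bertrand's postulate in Mathlib has room for one extra prime: the primes up to
`sqrt (2n)` are counted in `[2, sqrt (2n)]` instead of `[1, sqrt (2n)]`, which frees a factor `2n`.
-/

set_option autoImplicit false

namespace Cfsg.Agent.Lib.Helper63.TwoPrimes

open Nat

theorem centralBinom_le_of_one_prime (n : ℕ) (n_large : 2 < n) (p₀ : ℕ)
    (hp₀n : n < p₀) (hp₀2 : p₀ ≤ 2 * n)
    (one_prime : ∀ p : ℕ, p.Prime → n < p → p ≤ 2 * n → p = p₀) :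
    centralBinom n ≤ (2 * n) ^ sqrt (2 * n) * 4 ^ (2 * n / 3) := by
  have n_pos : 0 < n := (Nat.zero_le _).trans_lt n_large
  have n2_pos : 1 ≤ 2 * n := mul_pos (zero_lt_two' ℕ) n_pos
  let f : ℕ → ℕ := fun x => x ^ n.centralBinom.factorization x
  have hp₀A : p₀ ∉ Finset.range (2 * n / 3 + 1) := by
    rw [Finset.mem_range, Nat.lt_succ_iff]
    intro h
    have : 2 * n / 3 ≤ n := by omega
    omega
  have h1 : centralBinom n = (∏ x ∈ Finset.range (2 * n / 3 + 1), f x) * f p₀ := by
    rw [mul_comm, ← Finset.prod_insert hp₀A]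
    refine (Eq.trans ?_ n.prod_pow_factorization_centralBinom).symm
    apply Finset.prod_subset
    · intro x hx
      rw [Finset.mem_insert] at hx
      rw [Finset.mem_range]
      rcases hx with rfl | hx
      · omega
      · rw [Finset.mem_range] at hx
        omega
    intro x hx h2x
    rw [Finset.mem_range, Nat.lt_succ_iff] at hx
    rw [Finset.mem_insert, not_or, Finset.mem_range, Nat.lt_succ_iff, not_le] at h2x
    obtain ⟨hne, h2x⟩ := h2x
    by_cases hxp : x.Prime
    · have hxn : x ≤ n := by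
        by_contra h
        push Not at h
        exact hne (one_prime x hxp h hx)
      have h3 : 2 * n < 3 * x := by
        rw [Nat.div_lt_iff_lt_mul three_pos] at h2x
        omega
      change x ^ _ = 1
      rw [factorization_centralBinom_of_two_mul_self_lt_three_mul n_large hxn h3, Nat.pow_zero]
    · change x ^ _ = 1
      rw [factorization_eq_zero_of_not_prime n.centralBinom hxp, Nat.pow_zero]
  have hfp₀ : f p₀ ≤ 2 * n := pow_factorization_choose_le (mul_pos two_pos n_pos)
  let S := {p ∈ Finset.range (2 * n / 3 + 1) | Nat.Prime p}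
  have hS : ∏ x ∈ S, f x = ∏ x ∈ Finset.range (2 * n / 3 + 1), f x := by
    refine Finset.prod_filter_of_ne fun p _ h => ?_
    contrapose h
    dsimp only [f]
    rw [factorization_eq_zero_of_not_prime n.centralBinom h, _root_.pow_zero]
  have hs1 : 1 ≤ sqrt (2 * n) := Nat.sqrt_pos.mpr n2_pos
  have hA : ∏ x ∈ Finset.range (2 * n / 3 + 1), f x ≤
      (2 * n) ^ (sqrt (2 * n) - 1) * 4 ^ (2 * n / 3) := by
    rw [← hS, ← Finset.prod_filter_mul_prod_filter_not S (· ≤ sqrt (2 * n))]
    apply mul_le_mul'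
    · refine (Finset.prod_le_prod' fun p _ => (?_ : f p ≤ 2 * n)).trans ?_
      · exact pow_factorization_choose_le (mul_pos two_pos n_pos)
      have : (Finset.Icc 2 (sqrt (2 * n))).card = sqrt (2 * n) - 1 := by
        rw [card_Icc]
        omega
      rw [Finset.prod_const]
      refine pow_right_mono₀ n2_pos ((Finset.card_le_card fun x hx => ?_).trans this.le)
      obtain ⟨h1, h2⟩ := Finset.mem_filter.1 hx
      exact Finset.mem_Icc.mpr ⟨(Finset.mem_filter.1 h1).2.two_le, h2⟩
    · refine le_trans ?_ (primorial_le_four_pow (2 * n / 3))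
      refine (Finset.prod_le_prod' fun p hp => (?_ : f p ≤ p)).trans ?_
      · obtain ⟨h1, h2⟩ := Finset.mem_filter.1 hp
        refine (pow_right_mono₀ (Finset.mem_filter.1 h1).2.one_lt.le ?_).trans (pow_one p).le
        exact Nat.factorization_choose_le_one (sqrt_lt'.mp <| not_le.1 h2)
      refine Finset.prod_le_prod_of_subset_of_one_le' (Finset.filter_subset _ _) ?_
      exact fun p hp _ => (Finset.mem_filter.1 hp).2.one_lt.le
  rw [h1]
  calc (∏ x ∈ Finset.range (2 * n / 3 + 1), f x) * f p₀
      ≤ ((2 * n) ^ (sqrt (2 * n) - 1) * 4 ^ (2 * n / 3)) * (2 * n) := Nat.mul_le_mul hA hfp₀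
    _ = (2 * n) ^ (sqrt (2 * n) - 1 + 1) * 4 ^ (2 * n / 3) := by ring
    _ = (2 * n) ^ sqrt (2 * n) * 4 ^ (2 * n / 3) := by rw [Nat.sub_add_cancel hs1]

theorem exists_two_primes_large (n : ℕ) (n_large : 512 ≤ n) :
    ∃ p q : ℕ, p.Prime ∧ q.Prime ∧ n < p ∧ p < q ∧ q ≤ 2 * n := by
  by_contra hcon
  push Not at hcon
  obtain ⟨p₀, hp₀, hp₀n, hp₀2⟩ := Nat.exists_prime_lt_and_le_two_mul n (by omega)
  have one_prime : ∀ p : ℕ, p.Prime → n < p → p ≤ 2 * n → p = p₀ := by
    intro p hp hpn hp2
    rcases lt_trichotomy p p₀ with h | h | h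
    · exact absurd (hcon p p₀ hp hp₀ hpn h) (by omega)
    · exact h
    · exact absurd (hcon p₀ p hp₀ hp hp₀n h) (by omega)
  have h1 : 4 ^ n < n * n.centralBinom := Nat.four_pow_lt_mul_centralBinom n (by omega)
  have h2 := centralBinom_le_of_one_prime n (by omega) p₀ hp₀n hp₀2 one_prime
  have h3 := bertrand_main_inequality n_large
  have h4 : n * n.centralBinom ≤ 4 ^ n := by
    calc n * n.centralBinom ≤ n * ((2 * n) ^ sqrt (2 * n) * 4 ^ (2 * n / 3)) :=
          Nat.mul_le_mul_left _ h2
      _ = n * (2 * n) ^ sqrt (2 * n) * 4 ^ (2 * n / 3) := by ring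
      _ ≤ 4 ^ n := h3
  omega

theorem small_aux {n a p q : ℕ} (hp : p.Prime) (hq : q.Prime) (hpq : p < q) (ha : a ≤ n)
    (hnp : n < p) (hq2 : q ≤ 2 * a) :
    ∃ p q : ℕ, p.Prime ∧ q.Prime ∧ n < p ∧ p < q ∧ q ≤ 2 * n :=
  ⟨p, q, hp, hq, hnp, hpq, by omega⟩

/-- **Two primes in `(n, 2n]`** for `n ≥ 6` (strengthened Bertrand; `π(2n) - π(n) ≥ 2`). -/
theorem exists_two_primes (n : ℕ) (hn : 6 ≤ n) :
    ∃ p q : ℕ, p.Prime ∧ q.Prime ∧ n < p ∧ p < q ∧ q ≤ 2 * n := by
  by_cases h0 : 512 ≤ n
  · exact exists_two_primes_large n h0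
  by_cases h1 : n < 7
  · exact small_aux (a := 6) (p := 7) (q := 11) (by norm_num) (by norm_num) (by norm_num) hn h1
      (by norm_num)
  by_cases h2 : n < 11
  · exact small_aux (a := 7) (p := 11) (q := 13) (by norm_num) (by norm_num) (by norm_num)
      (by omega) h2 (by norm_num)
  by_cases h3 : n < 13
  · exact small_aux (a := 11) (p := 13) (q := 19) (by norm_num) (by norm_num) (by norm_num)
      (by omega) h3 (by norm_num)
  by_cases h4 : n < 19
  · exact small_aux (a := 13) (p := 19) (q := 23) (by norm_num) (by norm_num) (by norm_num)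
      (by omega) h4 (by norm_num)
  by_cases h5 : n < 23
  · exact small_aux (a := 19) (p := 23) (q := 37) (by norm_num) (by norm_num) (by norm_num)
      (by omega) h5 (by norm_num)
  by_cases h6 : n < 37
  · exact small_aux (a := 23) (p := 37) (q := 43) (by norm_num) (by norm_num) (by norm_num)
      (by omega) h6 (by norm_num)
  by_cases h7 : n < 43
  · exact small_aux (a := 37) (p := 43) (q := 73) (by norm_num) (by norm_num) (by norm_num)
      (by omega) h7 (by norm_num)
  by_cases h8 : n < 73
  · exact small_aux (a := 43) (p := 73) (q := 83) (by norm_num) (by norm_num) (by norm_num)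
      (by omega) h8 (by norm_num)
  by_cases h9 : n < 83
  · exact small_aux (a := 73) (p := 83) (q := 139) (by norm_num) (by norm_num) (by norm_num)
      (by omega) h9 (by norm_num)
  by_cases h10 : n < 139
  · exact small_aux (a := 83) (p := 139) (q := 163) (by norm_num) (by norm_num) (by norm_num)
      (by omega) h10 (by norm_num)
  by_cases h11 : n < 163
  · exact small_aux (a := 139) (p := 163) (q := 277) (by norm_num) (by norm_num) (by norm_num)
      (by omega) h11 (by norm_num)
  by_cases h12 : n < 277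
  · exact small_aux (a := 163) (p := 277) (q := 317) (by norm_num) (by norm_num) (by norm_num)
      (by omega) h12 (by norm_num)
  by_cases h13 : n < 317
  · exact small_aux (a := 277) (p := 317) (q := 547) (by norm_num) (by norm_num) (by norm_num)
      (by omega) h13 (by norm_num)
  · exact small_aux (a := 317) (p := 547) (q := 631) (by norm_num) (by norm_num) (by norm_num)
      (by omega) (by omega) (by norm_num)

end Cfsg.Agent.Lib.Helper63.TwoPrimes
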