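import Mathlib
import Cfsg.Agent.Lib.Helper63.TwistedCount

set_option autoImplicit false
set_option linter.unusedSectionVars false

namespace Cfsg.Agent.Lib.Helper63

open scoped BigOperators

section Comp

variable {Ω : Type*} [Fintype Ω] [DecidableEq Ω] {G : Subgroup (Equiv.Perm Ω)}

theorem TwInv.comp {β γ : MulAut G} {F F' : Ω → Ω → ℤ} (hF : TwInv β F) (hF' : TwInv γ F') :
    TwInv (γ * β) (fun x z => ∑ y, F x y * F' y z) := by
  intro g x z
  show ∑ y, F (g • x) y * F' y (((γ * β) g) • z) = ∑ y, F x y * F' y z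
  rw [← Equiv.sum_comp (MulAction.toPerm (β g)) (fun y => F (g • x) y * F' y (((γ * β) g) • z))]
  apply Finset.sum_congr rfl
  intro y _
  show F (g • x) ((β g) • y) * F' ((β g) • y) ((γ (β g)) • z) = _
  rw [hF g x y, hF' (β g) y z]

theorem TwInv.levelset {β : MulAut G} {F : Ω → Ω → ℤ} (hF : TwInv β F) (m : ℤ) :
    TwInv β (fun x z => if F x z = m then 1 else 0) := by
  intro g x z
  show (if F (g • x) ((β g) • z) = m then (1 : ℤ) else 0) = if F x z = m then 1 else 0
  rw [hF g x z]

omit [DecidableEq Ω] in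
theorem pair_le_sum {f : Ω → ℤ} (h0 : ∀ z, 0 ≤ f z) {z z' : Ω} (hne : z ≠ z') :
    f z + f z' ≤ ∑ w, f w := by
  classical
  rw [← Finset.sum_pair hne]
  apply Finset.sum_le_sum_of_subset_of_nonneg (Finset.subset_univ _)
  intro i _ _
  exact h0 i

end Comp

section Core

variable {Ω : Type*} [Fintype Ω] [DecidableEq Ω] {G : Subgroup (Equiv.Perm Ω)} [Fintype G]

/-- the square of the automorphism maps the stabilizer of `o` into a point stabilizer -/
theorem alpha_sq_fix
    (h2 : ∀ a b c d : Ω, a ≠ b → c ≠ d → ∃ g : G, g • a = c ∧ g • b = d)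
    (ht : ∀ a b : Ω, ∃ g : G, g • a = b) (hn : 2 ≤ Fintype.card Ω)
    (α : MulAut G) (o ω : Ω)
    (hcop : Nat.Coprime (Nat.card {y : Ω // ∃ g : G, g • o = o ∧ (α g) • ω = y})
      (Fintype.card Ω)) :
    ∃ z : Ω, ∀ g : G, g • o = o → ((α * α) g) • z = z := by
  classical
  have hne : Nonempty Ω := ⟨o⟩
  set n : ℤ := (Fintype.card Ω : ℤ) with hndef
  have hn2 : (2 : ℤ) ≤ n := by rw [hndef]; exact_mod_cast hn
  -- the relation `A`
  let R : Ω → Ω → Prop := fun x y => ∃ g : G, g • o = x ∧ (α g) • ω = y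
  let A : Ω → Ω → ℤ := fun x y => if R x y then 1 else 0
  have hRinv' : ∀ (g : G) x y, R x y → R (g • x) ((α g) • y) := by
    rintro g x y ⟨g', rfl, rfl⟩
    exact ⟨g * g', by rw [mul_smul], by rw [map_mul, mul_smul]⟩
  have hRinv : ∀ (g : G) x y, R (g • x) ((α g) • y) ↔ R x y := by
    intro g x y
    constructor
    · intro h
      have := hRinv' g⁻¹ _ _ h
      rw [map_inv, inv_smul_smul, inv_smul_smul] at this
      exact this
    · exact hRinv' g x y
  have hAinv : TwInv α A := by
    intro g x y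
    show (if R (g • x) ((α g) • y) then (1 : ℤ) else 0) = if R x y then 1 else 0
    rw [if_congr (hRinv g x y) rfl rfl]
  have hA01 : ∀ x y, A x y * A x y = A x y := by
    intro x y
    show (if R x y then (1 : ℤ) else 0) * (if R x y then (1 : ℤ) else 0) = if R x y then 1 else 0
    split_ifs <;> simp
  have hA0 : ∀ x y, 0 ≤ A x y := by
    intro x y
    show (0 : ℤ) ≤ if R x y then 1 else 0
    split_ifs <;> simp
  have hA1 : ∀ x y, A x y ≤ 1 := by
    intro x y
    show (if R x y then (1 : ℤ) else 0) ≤ 1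
    split_ifs <;> simp
  have hRoω : R o ω := ⟨1, one_smul _ _, by rw [map_one, one_smul]⟩
  have hAoω : A o ω = 1 := if_pos hRoω
  -- row and column sums of `A`
  obtain ⟨a, ha⟩ : ∃ a : ℤ, a = ∑ y, A o y := ⟨_, rfl⟩
  have hArow : ∀ x, ∑ y, A x y = a := fun x => by rw [ha]; exact hAinv.rowsum_const ht x o
  have hAcol0 : ∀ y, ∑ x, A x y = ∑ x, A x ω := fun y => hAinv.colsum_const ht y ω
  have haa' : a = ∑ x, A x ω := rowsum_eq_colsum hArow hAcol0
  have hAcol : ∀ y, ∑ x, A x y = a := fun y => by rw [haa']; exact hAcol0 y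
  have ha_card : a = (Nat.card {y : Ω // ∃ g : G, g • o = o ∧ (α g) • ω = y} : ℤ) := by
    rw [ha]
    show ∑ y, (if R o y then (1 : ℤ) else 0) = _
    rw [Finset.sum_boole, Nat.card_eq_fintype_card, Fintype.card_subtype]
  have hcopZ : IsCoprime a n := by
    rw [ha_card, hndef]
    exact Nat.isCoprime_iff_coprime.mpr hcop
  have ha0 : 0 < a := by
    have : A o ω ≤ ∑ y, A o y :=
      Finset.single_le_sum (f := fun y => A o y) (fun i _ => hA0 o i) (Finset.mem_univ ω)
    rw [hAoω, ← ha] at this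
    linarith
  have han' : a ≤ n := by
    rw [ha]
    calc ∑ y, A o y ≤ ∑ _y : Ω, (1 : ℤ) := Finset.sum_le_sum (fun y _ => hA1 o y)
      _ = n := by simp [hndef]
  have han : a < n := by
    rcases lt_or_eq_of_le han' with h | h
    · exact h
    · exfalso
      rw [h] at hcopZ
      have : IsUnit n := hcopZ.isUnit_of_dvd' dvd_rfl dvd_rfl
      rcases Int.isUnit_iff.mp this with h1 | h1 <;> omega
  -- pair sums of `A`
  obtain ⟨y₀, y₁, hy01⟩ := Fintype.exists_pair_of_one_lt_card (by omega : 1 < Fintype.card Ω)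
  obtain ⟨lamA, hlamAdef⟩ : ∃ l : ℤ, l = ∑ z, A y₀ z * A y₁ z := ⟨_, rfl⟩
  have hArowp : ∀ y y', y ≠ y' → ∑ z, A y z * A y' z = lamA := by
    intro y y' hyy'
    rw [hlamAdef]
    exact hAinv.rowpair_const h2 y y' y₀ y₁ hyy' hy01
  obtain ⟨lamA', hlamA'def⟩ : ∃ l : ℤ, l = ∑ x, A x y₀ * A x y₁ := ⟨_, rfl⟩
  have hAcolp' : ∀ y y', y ≠ y' → ∑ x, A x y * A x y' = lamA' := by
    intro y y' hyy'
    rw [hlamA'def]
    exact hAinv.colpair_const h2 y y' y₀ y₁ hyy' hy01
  have hlamA : (n - 1) * lamA = a * (a - 1) := pair_count hA01 hArow hAcol hArowp o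
  have hlamA' : (n - 1) * lamA' = a * (a - 1) :=
    pair_count (F := fun y x => A x y) (fun y x => hA01 x y) hAcol hArow hAcolp' o
  have hlamAA' : lamA' = lamA := by
    have : (n - 1) * lamA' = (n - 1) * lamA := by rw [hlamA, hlamA']
    exact mul_left_cancel₀ (by linarith) this
  have hAcolp : ∀ y y', y ≠ y' → ∑ x, A x y * A x y' = lamA := by
    intro y y' hyy'
    rw [← hlamAA']
    exact hAcolp' y y' hyy'
  -- the relation `C`
  let M : Ω → Ω → ℤ := fun x z => ∑ y, A x y * A y z
  have hMinv : TwInv (α * α) M := hAinv.comp hAinv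
  let C : Ω → Ω → ℤ := fun x z => if M x z = M o ω then 1 else 0
  have hCinv : TwInv (α * α) C := hMinv.levelset (M o ω)
  have hC01 : ∀ x y, C x y * C x y = C x y := by
    intro x y
    show (if M x y = M o ω then (1 : ℤ) else 0) * (if M x y = M o ω then (1 : ℤ) else 0) =
      if M x y = M o ω then 1 else 0
    split_ifs <;> simp
  have hC0 : ∀ x y, 0 ≤ C x y := by
    intro x y
    show (0 : ℤ) ≤ if M x y = M o ω then 1 else 0
    split_ifs <;> simp
  have hC1 : ∀ x y, C x y ≤ 1 := by
    intro x y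
    show (if M x y = M o ω then (1 : ℤ) else 0) ≤ 1
    split_ifs <;> simp
  have hCoω : C o ω = 1 := if_pos rfl
  obtain ⟨c, hc⟩ : ∃ c : ℤ, c = ∑ z, C o z := ⟨_, rfl⟩
  have hCrow : ∀ x, ∑ z, C x z = c := fun x => by rw [hc]; exact hCinv.rowsum_const ht x o
  have hCcol0 : ∀ z, ∑ x, C x z = ∑ x, C x ω := fun z => hCinv.colsum_const ht z ω
  have hcc' : c = ∑ x, C x ω := rowsum_eq_colsum hCrow hCcol0
  have hCcol : ∀ z, ∑ x, C x z = c := fun z => by rw [hcc']; exact hCcol0 z
  obtain ⟨lamC, hlamCdef⟩ : ∃ l : ℤ, l = ∑ z, C y₀ z * C y₁ z := ⟨_, rfl⟩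
  have hCrowp : ∀ x x', x ≠ x' → ∑ z, C x z * C x' z = lamC := by
    intro x x' hxx'
    rw [hlamCdef]
    exact hCinv.rowpair_const h2 x x' y₀ y₁ hxx' hy01
  have hlamC : (n - 1) * lamC = c * (c - 1) := pair_count hC01 hCrow hCcol hCrowp o
  have hc0 : 0 < c := by
    have : C o ω ≤ ∑ z, C o z :=
      Finset.single_le_sum (f := fun z => C o z) (fun i _ => hC0 o i) (Finset.mem_univ ω)
    rw [hCoω, ← hc] at this
    linarith
  -- `C` is not everything
  have hex0 : ∃ z₁, C o z₁ = 0 := by
    by_contra hcon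
    push Not at hcon
    have hall : ∀ z, M o z = M o ω := by
      intro z
      by_contra h
      exact hcon z (if_neg h)
    have h1 : ∑ z, M o z = n * M o ω := by
      simp only [hall, Finset.sum_const, Finset.card_univ, nsmul_eq_mul]
      rw [hndef]
    have h2' : ∑ z, M o z = a * a := by
      show ∑ z, ∑ y, A o y * A y z = a * a
      rw [Finset.sum_comm]
      simp only [← Finset.mul_sum, hArow, ← Finset.sum_mul]
    rw [h2'] at h1
    have hdvd : n ∣ a * a := ⟨_, h1⟩
    have : IsUnit n := (hcopZ.mul_left hcopZ).isUnit_of_dvd' hdvd dvd_rfl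
    rcases Int.isUnit_iff.mp this with h3 | h3 <;> omega
  obtain ⟨z₁, hz₁⟩ := hex0
  have hsum1C : ∑ z, (1 - C o z) = n - c := by
    rw [Finset.sum_sub_distrib, ← hc]
    simp [hndef]
  have hcn : c < n := by
    have : (1 - C o z₁) ≤ ∑ z, (1 - C o z) :=
      Finset.single_le_sum (f := fun z => 1 - C o z) (fun i _ => by linarith [hC1 o i])
        (Finset.mem_univ z₁)
    rw [hz₁, hsum1C] at this
    linarith
  -- the mixed products
  let N : Ω → Ω → ℤ := fun y z => ∑ x, A x y * C x z
  have hNinv : TwInv α N := by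
    have := (hAinv.transpose).comp hCinv
    rw [mul_inv_cancel_right] at this
    exact this
  have hexR : ∃ p : Ω × Ω, ¬ R p.1 p.2 := by
    by_contra hcon
    push Not at hcon
    have : ∑ y, A o y = n := by
      have : ∀ y, A o y = 1 := fun y => if_pos (hcon (o, y))
      simp [this, hndef]
    rw [← ha] at this
    linarith
  obtain ⟨⟨p₁, p₂⟩, hp⟩ := hexR
  have hN : ∀ y z, ∑ x, A x y * C x z = N p₁ p₂ + (N o ω - N p₁ p₂) * A y z := by
    intro y z
    by_cases hR : R y z
    · have hAyz : A y z = 1 := if_pos hR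
      rw [hAyz, mul_one]
      obtain ⟨g, rfl, rfl⟩ := hR
      have := hNinv g o ω
      show N (g • o) ((α g) • ω) = _
      rw [this]
      ring
    · have hAyz : A y z = 0 := if_neg hR
      rw [hAyz, mul_zero, add_zero]
      rcases tw_three_pairs h2 ht α (o, ω) (p₁, p₂) (y, z) with h | h | h
      · exfalso
        obtain ⟨g, hg⟩ := h
        apply hp
        exact ⟨g, (Prod.ext_iff.mp hg).1, (Prod.ext_iff.mp hg).2⟩
      · exfalso
        obtain ⟨g, hg⟩ := h
        apply hR
        exact ⟨g, (Prod.ext_iff.mp hg).1, (Prod.ext_iff.mp hg).2⟩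
      · obtain ⟨g, hg⟩ := h
        have e1 : g • p₁ = y := (Prod.ext_iff.mp hg).1
        have e2 : (α g) • p₂ = z := (Prod.ext_iff.mp hg).2
        have := hNinv g p₁ p₂
        rw [e1, e2] at this
        exact this
  have hfinal := linked_count A C a c lamA lamC (N p₁ p₂) (N o ω - N p₁ p₂) hn hA01 hC01 hArow
    hAcol hCrow hArowp hAcolp hlamA hCrowp hlamC hN ha0 han hcopZ hc0 hcn
  rcases hfinal with hc1 | hcn1
  · refine ⟨ω, ?_⟩
    intro g hg
    by_contra hne'
    have h1 := hCinv g o ω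
    rw [hg, hCoω] at h1
    have := pair_le_sum (f := fun z => C o z) (fun z => hC0 o z) (Ne.symm hne')
    simp only [h1, hCoω, ← hc] at this
    linarith
  · refine ⟨z₁, ?_⟩
    intro g hg
    by_contra hne'
    have h1 := hCinv g o z₁
    rw [hg, hz₁] at h1
    have := pair_le_sum (f := fun z => 1 - C o z) (fun z => by linarith [hC1 o z]) (Ne.symm hne')
    simp only [h1, hz₁, hsum1C] at this
    linarith

end Core

section Final

variable {Ω : Type*} [Fintype Ω] [DecidableEq Ω] {G : Subgroup (Equiv.Perm Ω)}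

/-- `β` maps point stabilizers into point stabilizers -/
def MapsStab (β : MulAut G) : Prop := ∀ x : Ω, ∃ z : Ω, ∀ g : G, g • x = x → (β g) • z = z

theorem MapsStab.one : MapsStab (1 : MulAut G) :=
  fun x => ⟨x, fun g hg => by rw [MulAut.one_apply]; exact hg⟩

theorem MapsStab.mul {β γ : MulAut G} (hβ : MapsStab β) (hγ : MapsStab γ) :
    MapsStab (γ * β) := by
  intro x
  obtain ⟨z, hz⟩ := hβ x
  obtain ⟨w, hw⟩ := hγ z
  exact ⟨w, fun g hg => by rw [MulAut.mul_apply]; exact hw _ (hz g hg)⟩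

theorem MapsStab.pow {β : MulAut G} (hβ : MapsStab β) (k : ℕ) : MapsStab (β ^ k) := by
  induction k with
  | zero => rw [pow_zero]; exact MapsStab.one
  | succ k ih => rw [pow_succ]; exact hβ.mul ih

theorem mapsStab_of_base (ht : ∀ a b : Ω, ∃ g : G, g • a = b) {β : MulAut G} (o : Ω)
    (h : ∃ z : Ω, ∀ g : G, g • o = o → (β g) • z = z) : MapsStab β := by
  intro x
  obtain ⟨z, hz⟩ := h
  obtain ⟨k, rfl⟩ := ht o x
  refine ⟨(β k) • z, ?_⟩
  intro g hg
  have h1 : (k⁻¹ * g * k) • o = o := by rw [mul_smul, mul_smul, hg, inv_smul_smul]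
  have h2 := hz _ h1
  rw [map_mul, map_mul, map_inv, mul_smul, mul_smul, inv_smul_eq_iff] at h2
  exact h2

end Final

section Main

/-- an odd order automorphism of a doubly transitive group whose image of a point stabilizer has an
orbit of length coprime to the degree is induced by a permutation -/
theorem two_trans_odd_aut {Ω : Type*} [Fintype Ω] (G : Subgroup (Equiv.Perm Ω))
    (h2 : MulAction.IsMultiplyPretransitive G Ω 2) (o : Ω) (α : MulAut G)
    (hα : Odd (orderOf α)) (ω : Ω)
    (hk : (Nat.card (MulAction.orbit ((MulAction.stabilizer G o).map α.toMonoidHom)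
      ω)).Coprime (Fintype.card Ω)) :
    (∃ σ : Equiv.Perm Ω, σ ∈ Subgroup.normalizer (G : Set (Equiv.Perm Ω)) ∧
      ∀ g : G, ((α g : G) : Equiv.Perm Ω) = σ * (g : Equiv.Perm Ω) * σ⁻¹) ∧
    (Nat.card (MulAction.orbit ((MulAction.stabilizer G o).map α.toMonoidHom) ω) = 1 ∨
      Nat.card (MulAction.orbit ((MulAction.stabilizer G o).map α.toMonoidHom) ω) =
        Fintype.card Ω - 1) := by
  classical
  have : Fintype G := Fintype.ofFinite G
  have h2' : ∀ a b c d : Ω, a ≠ b → c ≠ d → ∃ g : G, g • a = c ∧ g • b = d := by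
    intro a b c d hab hcd
    exact (MulAction.is_two_pretransitive_iff.mp h2) hab hcd
  have htr : MulAction.IsPretransitive G Ω := MulAction.isPretransitive_of_is_two_pretransitive
  have ht : ∀ a b : Ω, ∃ g : G, g • a = b := fun a b => MulAction.exists_smul_eq G a b
  have horb : ∀ y, y ∈ MulAction.orbit ((MulAction.stabilizer G o).map α.toMonoidHom) ω ↔
      ∃ g : G, g • o = o ∧ (α g) • ω = y := by
    intro y
    constructor
    · rintro ⟨⟨k, hk'⟩, rfl⟩
      obtain ⟨g, hg, rfl⟩ := Subgroup.mem_map.mp hk'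
      exact ⟨g, MulAction.mem_stabilizer_iff.mp hg, rfl⟩
    · rintro ⟨g, hg, rfl⟩
      exact ⟨⟨α g, Subgroup.mem_map.mpr ⟨g, MulAction.mem_stabilizer_iff.mpr hg, rfl⟩⟩, rfl⟩
  have hcardorb : Nat.card {y : Ω // ∃ g : G, g • o = o ∧ (α g) • ω = y} =
      Nat.card (MulAction.orbit ((MulAction.stabilizer G o).map α.toMonoidHom) ω) :=
    Nat.card_congr (Equiv.subtypeEquivRight (fun y => (horb y).symm))
  rw [← hcardorb] at hk ⊢
  by_cases hn : 2 ≤ Fintype.card Ω
  · obtain ⟨z, hz⟩ := alpha_sq_fix h2' ht hn α o ω hk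
    have hsq : MapsStab (α * α) := mapsStab_of_base ht o ⟨z, hz⟩
    obtain ⟨t, ht'⟩ := hα
    have hαpow : α = (α * α) ^ (t + 1) := by
      rw [← pow_two, ← pow_mul]
      have : 2 * (t + 1) = orderOf α + 1 := by omega
      rw [this, pow_succ, pow_orderOf_eq_one, one_mul]
    have hα' : MapsStab α := by rw [hαpow]; exact hsq.pow _
    obtain ⟨z₀, hz₀⟩ := hα' o
    -- the permutation
    let f : Ω → Ω := fun x => (α (Classical.choose (ht o x))) • z₀
    have hf : ∀ g : G, f (g • o) = (α g) • z₀ := by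
      intro g
      have hc := Classical.choose_spec (ht o (g • o))
      have h1 : (g⁻¹ * Classical.choose (ht o (g • o))) • o = o := by
        rw [mul_smul, hc, inv_smul_smul]
      have h3 := hz₀ _ h1
      rw [map_mul, map_inv, mul_smul, inv_smul_eq_iff] at h3
      exact h3
    have hequiv : ∀ (g : G) (x : Ω), f (g • x) = (α g) • f x := by
      intro g x
      obtain ⟨h, rfl⟩ := ht o x
      rw [← mul_smul, hf, hf, map_mul, mul_smul]
    have hsurj : Function.Surjective f := by
      intro w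
      obtain ⟨k, rfl⟩ := ht z₀ w
      refine ⟨(α⁻¹ k) • o, ?_⟩
      rw [hf, MulAut.apply_inv_self]
    have hbij : Function.Bijective f := ⟨Finite.injective_iff_surjective.mpr hsurj, hsurj⟩
    let σ : Equiv.Perm Ω := Equiv.ofBijective f hbij
    have hσf : ∀ x, σ x = f x := fun x => rfl
    have hσinv : ∀ w, σ (σ⁻¹ w) = w := fun w => σ.apply_symm_apply w
    have hσ : ∀ g : G, ((α g : G) : Equiv.Perm Ω) = σ * (g : Equiv.Perm Ω) * σ⁻¹ := by
      intro g
      apply Equiv.ext
      intro w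
      rw [Equiv.Perm.mul_apply, Equiv.Perm.mul_apply, hσf]
      have h1 := hequiv g (σ⁻¹ w)
      have h4 : f (σ⁻¹ w) = w := by rw [← hσf, hσinv]
      rw [h4] at h1
      exact h1.symm
    refine ⟨⟨σ, ?_, hσ⟩, ?_⟩
    · rw [Subgroup.mem_normalizer_iff]
      intro p
      constructor
      · intro hp
        have := hσ ⟨p, hp⟩
        show σ * p * σ⁻¹ ∈ G
        rw [← this]
        exact (α ⟨p, hp⟩).2
      · intro hq
        have h1 := hσ (α⁻¹ ⟨σ * p * σ⁻¹, hq⟩)
        rw [MulAut.apply_inv_self] at h1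
        have h5 : σ * p * σ⁻¹ = σ * ((α⁻¹ ⟨σ * p * σ⁻¹, hq⟩ : G) : Equiv.Perm Ω) * σ⁻¹ := h1
        have h6 : p = ((α⁻¹ ⟨σ * p * σ⁻¹, hq⟩ : G) : Equiv.Perm Ω) := by
          have := mul_right_cancel h5
          exact mul_left_cancel this
        show p ∈ G
        rw [h6]
        exact (α⁻¹ ⟨σ * p * σ⁻¹, hq⟩).2
    · -- the orbit length
      have hfo : f o = z₀ := by
        have := hf 1
        rw [one_smul, map_one, one_smul] at this
        exact this
      by_cases hω : ω = z₀
      · left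
        have : ∀ y, (∃ g : G, g • o = o ∧ (α g) • ω = y) ↔ y = ω := by
          intro y
          constructor
          · rintro ⟨g, hg, rfl⟩
            rw [hω]
            exact hz₀ g hg
          · rintro rfl
            exact ⟨1, one_smul _ _, by rw [map_one, one_smul]⟩
        rw [Nat.card_congr (Equiv.subtypeEquivRight this)]
        simp
      · right
        have : ∀ y, (∃ g : G, g • o = o ∧ (α g) • ω = y) ↔ y ≠ z₀ := by
          intro y
          constructor
          · rintro ⟨g, hg, rfl⟩ h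
            apply hω
            have h7 := hz₀ g hg
            rw [← h7] at h
            exact MulAction.injective (α g) h
          · intro hy
            have h8 : σ⁻¹ ω ≠ o := by
              intro h
              apply hω
              rw [← hfo, ← h, ← hσf, hσinv]
            have h9 : σ⁻¹ y ≠ o := by
              intro h
              apply hy
              rw [← hfo, ← h, ← hσf, hσinv]
            obtain ⟨g, hg1, hg2⟩ := h2' o (σ⁻¹ ω) o (σ⁻¹ y) (Ne.symm h8) (Ne.symm h9)
            refine ⟨g, hg1, ?_⟩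
            have h10 := hequiv g (σ⁻¹ ω)
            rw [hg2, ← hσf, ← hσf, hσinv, hσinv] at h10
            exact h10.symm
        rw [Nat.card_congr (Equiv.subtypeEquivRight this), Nat.card_eq_fintype_card]
        exact Set.card_ne_eq z₀
  · -- the degenerate case
    have hcard1 : Fintype.card Ω = 1 := by
      have : 0 < Fintype.card Ω := Fintype.card_pos_iff.mpr ⟨o⟩
      omega
    have hsub : Subsingleton Ω := Fintype.card_le_one_iff_subsingleton.mp (by omega)
    refine ⟨⟨1, Subgroup.one_mem _, fun g => Subsingleton.elim _ _⟩, ?_⟩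
    left
    have : Nonempty {y : Ω // ∃ g : G, g • o = o ∧ (α g) • ω = y} :=
      ⟨⟨ω, 1, one_smul _ _, by rw [map_one, one_smul]⟩⟩
    exact Nat.card_eq_one_iff_unique.mpr ⟨inferInstance, this⟩

end Main

end Cfsg.Agent.Lib.Helper63
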