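import Mathlib
import Cfsg.Agent.Lib.Helper63.JordanNormal

set_option autoImplicit false

namespace Cfsg.Agent.Lib.Helper63

open MulAction Subgroup
open scoped Pointwise

section NBlock

variable {G : Type*} [Group G] {α : Type*} [MulAction G α]

/-- `B` is a block for the subgroup `N`, in elementary form -/
def NBlock (N : Subgroup G) (B : Set α) : Prop :=
  ∀ n ∈ N, n • B = B ∨ Disjoint (n • B) B

theorem nblock_of_isBlock (N : Subgroup G) {B : Set α} (hB : IsBlock N B) : NBlock N B := by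
  intro n hn
  have := (isBlock_iff_smul_eq_smul_or_disjoint.mp hB) ⟨n, hn⟩ 1
  rw [one_smul] at this
  exact this

theorem NBlock.smul_eq_of_mem {N : Subgroup G} {B : Set α} (hB : NBlock N B) {n : G} (hn : n ∈ N)
    {u : α} (hu : u ∈ B) (hnu : n • u ∈ B) : n • B = B := by
  rcases hB n hn with h | h
  · exact h
  · exfalso
    exact Set.disjoint_left.mp h (Set.smul_mem_smul_set hu) hnu

theorem NBlock.inter {N : Subgroup G} {B₁ B₂ : Set α} (h₁ : NBlock N B₁) (h₂ : NBlock N B₂) :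
    NBlock N (B₁ ∩ B₂) := by
  intro n hn
  rcases h₁ n hn with e₁ | d₁
  · rcases h₂ n hn with e₂ | d₂
    · left
      rw [Set.smul_set_inter, e₁, e₂]
    · right
      rw [Set.smul_set_inter]
      exact d₂.mono Set.inter_subset_right Set.inter_subset_right
  · right
    rw [Set.smul_set_inter]
    exact d₁.mono Set.inter_subset_left Set.inter_subset_left

theorem NBlock.translate {N : Subgroup G} [hN : N.Normal] {B : Set α} (hB : NBlock N B) (g : G) :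
    NBlock N (g • B) := by
  intro n hn
  have hn' : g⁻¹ * n * g ∈ N := by
    have := hN.conj_mem n hn g⁻¹
    simpa using this
  have e : n • g • B = g • (g⁻¹ * n * g) • B := by
    rw [← mul_smul, ← mul_smul]
    congr 1
    group
  rcases hB _ hn' with h | h
  · left
    rw [e, h]
  · right
    rw [e]
    exact (Set.disjoint_smul_set).mpr h

end NBlock

section Lines

variable {G : Type*} [Group G] {α : Type*} [MulAction G α] [Finite α]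

/-- In a faithful 2-transitive group, a normal subgroup admitting a nontrivial block acts
semiregularly on pairs: an element fixing two distinct points is trivial. -/
theorem eq_one_of_fix_two_of_nblock [FaithfulSMul G α] (h2 : IsMultiplyPretransitive G α 2)
    (N : Subgroup G) [N.Normal] (B₀ : Set α) (hB₀ : NBlock N B₀)
    (hB₀2 : ∃ p ∈ B₀, ∃ q ∈ B₀, p ≠ q) (hB₀u : B₀ ≠ Set.univ) :
    ∀ n ∈ N, ∀ a b : α, a ≠ b → n • a = a → n • b = b → n = 1 := by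
  classical
  -- choose a minimal nontrivial block
  let P : ℕ → Prop := fun d => ∃ B : Set α, NBlock N B ∧ (∃ p ∈ B, ∃ q ∈ B, p ≠ q) ∧
    B ≠ Set.univ ∧ B.ncard = d
  have hex : ∃ d, P d := ⟨B₀.ncard, B₀, hB₀, hB₀2, hB₀u, rfl⟩
  obtain ⟨B, hB, hB2, hBu, hBd⟩ := Nat.find_spec hex
  have hmin : ∀ B' : Set α, NBlock N B' → (∃ p ∈ B', ∃ q ∈ B', p ≠ q) → B' ≠ Set.univ →
      B.ncard ≤ B'.ncard := by
    intro B' h1 h2' h3
    rw [hBd]
    exact Nat.find_min' hex ⟨B', h1, h2', h3, rfl⟩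
  -- lines
  let L : Set α → Prop := fun ℓ => ∃ g : G, ℓ = g • B
  have hLblock : ∀ ℓ, L ℓ → NBlock N ℓ := by
    rintro ℓ ⟨g, rfl⟩
    exact hB.translate g
  have hLcard : ∀ ℓ, L ℓ → ℓ.ncard = B.ncard := by
    rintro ℓ ⟨g, rfl⟩
    exact Set.ncard_smul_set g B
  have hLuniv : ∀ ℓ, L ℓ → ℓ ≠ Set.univ := by
    rintro ℓ ⟨g, rfl⟩ h
    apply hBu
    have : g⁻¹ • g • B = g⁻¹ • (Set.univ : Set α) := by rw [h]
    rw [inv_smul_smul, Set.smul_set_univ] at this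
    exact this
  -- two lines sharing two points coincide
  have hLuniq : ∀ ℓ₁ ℓ₂, L ℓ₁ → L ℓ₂ → ∀ u v, u ≠ v → u ∈ ℓ₁ → v ∈ ℓ₁ → u ∈ ℓ₂ → v ∈ ℓ₂ →
      ℓ₁ = ℓ₂ := by
    intro ℓ₁ ℓ₂ h₁ h₂ u v huv hu1 hv1 hu2 hv2
    have hI : NBlock N (ℓ₁ ∩ ℓ₂) := (hLblock ℓ₁ h₁).inter (hLblock ℓ₂ h₂)
    have hI2 : ∃ p ∈ ℓ₁ ∩ ℓ₂, ∃ q ∈ ℓ₁ ∩ ℓ₂, p ≠ q := ⟨u, ⟨hu1, hu2⟩, v, ⟨hv1, hv2⟩, huv⟩
    have hIu : ℓ₁ ∩ ℓ₂ ≠ Set.univ := by
      intro h
      apply hLuniv ℓ₁ h₁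
      rw [Set.eq_univ_iff_forall] at h ⊢
      intro x
      exact (h x).1
    have hle := hmin _ hI hI2 hIu
    have e1 : ℓ₁ ∩ ℓ₂ = ℓ₁ := by
      apply Set.eq_of_subset_of_ncard_le Set.inter_subset_left _ (Set.toFinite _)
      rw [hLcard ℓ₁ h₁]
      exact hle
    have e2 : ℓ₁ ∩ ℓ₂ = ℓ₂ := by
      apply Set.eq_of_subset_of_ncard_le Set.inter_subset_right _ (Set.toFinite _)
      rw [hLcard ℓ₂ h₂]
      exact hle
    rw [← e1]
    nth_rewrite 2 [← e2]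
    rfl
  -- any two points lie on a line
  have hLex : ∀ u v : α, u ≠ v → ∃ ℓ, L ℓ ∧ u ∈ ℓ ∧ v ∈ ℓ := by
    intro u v huv
    obtain ⟨p, hp, q, hq, hpq⟩ := hB2
    obtain ⟨g, hgp, hgq⟩ := exists_smul_pair h2 hpq huv
    refine ⟨g • B, ⟨g, rfl⟩, ?_, ?_⟩
    · rw [← hgp]; exact Set.smul_mem_smul_set hp
    · rw [← hgq]; exact Set.smul_mem_smul_set hq
  -- key step
  have key : ∀ n ∈ N, ∀ u v : α, u ≠ v → n • u = u → n • v = v → ∀ ℓ, L ℓ → u ∈ ℓ → v ∈ ℓ →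
      ∀ c, c ∉ ℓ → n • c = c := by
    intro n hn u v huv hnu hnv ℓ hℓ hu hv c hc
    have hcu : u ≠ c := fun h => hc (h ▸ hu)
    have hcv : v ≠ c := fun h => hc (h ▸ hv)
    obtain ⟨ℓ₁, hℓ₁, hu1, hc1⟩ := hLex u c hcu
    obtain ⟨ℓ₂, hℓ₂, hv2, hc2⟩ := hLex v c hcv
    have hf1 : n • ℓ₁ = ℓ₁ := (hLblock ℓ₁ hℓ₁).smul_eq_of_mem hn hu1 (by rw [hnu]; exact hu1)
    have hf2 : n • ℓ₂ = ℓ₂ := (hLblock ℓ₂ hℓ₂).smul_eq_of_mem hn hv2 (by rw [hnv]; exact hv2)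
    have hnc1 : n • c ∈ ℓ₁ := by
      rw [← hf1]; exact Set.smul_mem_smul_set hc1
    have hnc2 : n • c ∈ ℓ₂ := by
      rw [← hf2]; exact Set.smul_mem_smul_set hc2
    by_contra hne
    have e12 : ℓ₁ = ℓ₂ := hLuniq ℓ₁ ℓ₂ hℓ₁ hℓ₂ (n • c) c hne hnc1 hc1 hnc2 hc2
    have hv1 : v ∈ ℓ₁ := e12 ▸ hv2
    have e1 : ℓ₁ = ℓ := hLuniq ℓ₁ ℓ hℓ₁ hℓ u v huv hu1 hv1 hu hv
    exact hc (e1 ▸ hc1)
  intro n hn a b hab hna hnb
  apply FaithfulSMul.eq_of_smul_eq_smul (α := α)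
  intro c
  rw [one_smul]
  obtain ⟨ℓ, hℓ, ha, hb⟩ := hLex a b hab
  by_cases hc : c ∈ ℓ
  · obtain ⟨d, hd⟩ : ∃ d, d ∉ ℓ := by
      by_contra hcon
      push Not at hcon
      exact hLuniv ℓ hℓ (Set.eq_univ_iff_forall.mpr hcon)
    have hnd : n • d = d := key n hn a b hab hna hnb ℓ hℓ ha hb d hd
    by_cases hca : c = a
    · rw [hca, hna]
    · have had : a ≠ d := fun h => hd (h ▸ ha)
      obtain ⟨ℓ', hℓ', ha', hd'⟩ := hLex a d had
      apply key n hn a d had hna hnd ℓ' hℓ' ha' hd' c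
      intro hc'
      have e := hLuniq ℓ ℓ' hℓ hℓ' c a hca hc ha hc' ha'
      exact hd (e ▸ hd')
  · exact key n hn a b hab hna hnb ℓ hℓ ha hb c hc

end Lines

end Cfsg.Agent.Lib.Helper63
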