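import Mathlib
import Cfsg.Agent.Lib.Helper63.TwoTransNormal
import Cfsg.Agent.S0035

set_option autoImplicit false

namespace Cfsg.Agent.Lib.Helper63

open MulAction Subgroup
open scoped Pointwise

section Conj

variable {G : Type*} [Group G]

theorem mem_conj_smul_iff' (H : Subgroup G) (g x : G) :
    x ∈ MulAut.conj g • H ↔ g⁻¹ * x * g ∈ H := by
  rw [Subgroup.mem_pointwise_smul_iff_inv_smul_mem]
  simp [MulAut.smul_def]

end Conj

section Prim

variable {G : Type*} [Group G] [Finite G] {α : Type*} [MulAction G α] [Finite α]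

/-- **Burnside, primitivity part**: a non-regular minimal normal subgroup of a faithful
2-transitive group is primitive. -/
theorem isPreprimitive_of_minimal_normal [FaithfulSMul G α] (h2 : IsMultiplyPretransitive G α 2)
    (N : Subgroup G) [hNn : N.Normal]
    (hmin : ∀ M : Subgroup G, M.Normal → M ≤ N → M = ⊥ ∨ M = N)
    (hnr : ∃ a : α, ∃ n ∈ N, n ≠ 1 ∧ n • a = a) : IsPreprimitive N α := by
  classical
  obtain ⟨a, n0, hn0, hne0, hfix0⟩ := hnr
  have hN : N ≠ ⊥ := by
    intro h
    rw [h, Subgroup.mem_bot] at hn0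
    exact hne0 hn0
  have hprimG := isPreprimitive_of_is_two_pretransitive h2
  have hNtr : IsPretransitive N α := pretransitive_of_normal_ne_bot hprimG N hN
  by_contra hnp
  have hblock : ∃ B : Set α, IsBlock N B ∧ ¬ IsTrivialBlock B := by
    by_contra hcon
    push Not at hcon
    exact hnp ⟨fun {B} hB => hcon B hB⟩
  obtain ⟨B, hB, hBt⟩ := hblock
  rw [IsTrivialBlock, not_or] at hBt
  obtain ⟨hBs, hBu⟩ := hBt
  have hB2 : ∃ p ∈ B, ∃ q ∈ B, p ≠ q := by
    rw [Set.not_subsingleton_iff] at hBs
    obtain ⟨p, hp, q, hq, hpq⟩ := hBs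
    exact ⟨p, hp, q, hq, hpq⟩
  have hfrob := eq_one_of_fix_two_of_nblock h2 N B (nblock_of_isBlock N hB) hB2 hBu
  -- the stabilizer is a Frobenius complement in N
  have htrN : ∀ x y : α, ∃ n : N, n • x = y := fun x y => hNtr.exists_smul_eq x y
  have hH : Cfsg.IsFrobeniusComplement (stabilizer N a) := by
    refine ⟨?_, ?_, ?_⟩
    · intro h
      have hmem : (⟨n0, hn0⟩ : N) ∈ stabilizer N a := hfix0
      rw [h, Subgroup.mem_bot] at hmem
      exact hne0 (congrArg Subtype.val hmem)
    · intro h
      apply hne0
      apply FaithfulSMul.eq_of_smul_eq_smul (α := α)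
      intro c
      rw [one_smul]
      obtain ⟨m, hm⟩ := htrN a c
      have hma : m ∈ stabilizer N a := by rw [h]; trivial
      have : c = a := by rw [← hm]; exact hma
      rw [this, hfix0]
    · intro g hg
      rw [eq_bot_iff]
      intro x hx
      rw [Subgroup.mem_bot]
      obtain ⟨hx1, hx2⟩ := Subgroup.mem_inf.mp hx
      rw [mem_conj_smul_iff'] at hx2
      have hxa : (x : G) • a = a := hx1
      have hxga : (x : G) • ((g : G) • a) = (g : G) • a := by
        have h' : ((g⁻¹ * x * g : N) : G) • a = a := hx2
        have h'' : (g : G)⁻¹ • (x : G) • (g : G) • a = a := by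
          rw [← mul_smul, ← mul_smul]
          exact h'
        rw [inv_smul_eq_iff] at h''
        exact h''
      have hga : a ≠ (g : G) • a := by
        intro h
        apply hg
        exact h.symm
      have := hfrob x.1 x.2 a _ hga hxa hxga
      exact Subtype.ext this
  obtain ⟨K, hKset, hKn, hKc⟩ := Cfsg.Agent.S0035.result (stabilizer N a) hH
  -- fixed-point-freeness characterization
  have hKmem : ∀ k : N, k ∈ K ↔ (k = 1 ∨ ∀ c : α, (k : G) • c ≠ c) := by
    intro k
    have : k ∈ K ↔ k ∈ (K : Set N) := Iff.rfl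
    rw [this, hKset, Cfsg.frobeniusKernel]
    constructor
    · rintro (h | h)
      · exact Or.inl h
      · right
        intro c hc
        obtain ⟨m, hm⟩ := htrN a c
        apply h m
        rw [mem_conj_smul_iff']
        change ((m⁻¹ * k * m : N) : G) • a = a
        have e : ((m⁻¹ * k * m : N) : G) = (m : G)⁻¹ * (k : G) * (m : G) := rfl
        rw [e, mul_smul, mul_smul]
        have hm' : (m : G) • a = c := hm
        rw [hm', hc, ← hm', inv_smul_smul]
    · rintro (h | h)
      · exact Or.inl h
      · right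
        intro g hg
        rw [mem_conj_smul_iff'] at hg
        have h' : ((g⁻¹ * k * g : N) : G) • a = a := hg
        have h'' : (g : G)⁻¹ • (k : G) • (g : G) • a = a := by
          rw [← mul_smul, ← mul_smul]
          exact h'
        rw [inv_smul_eq_iff] at h''
        exact h _ h''
  have hK'n : (K.map N.subtype).Normal := by
    constructor
    intro x hx y
    rw [Subgroup.mem_map] at hx ⊢
    obtain ⟨k, hk, rfl⟩ := hx
    have hmemN : y * (k : G) * y⁻¹ ∈ N := hNn.conj_mem k k.2 y
    refine ⟨⟨y * (k : G) * y⁻¹, hmemN⟩, ?_, rfl⟩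
    rw [hKmem] at hk ⊢
    rcases hk with h | h
    · left
      apply Subtype.ext
      change y * (k : G) * y⁻¹ = 1
      rw [h]
      simp
    · right
      intro c hc
      apply h (y⁻¹ • c)
      change (y * (k : G) * y⁻¹) • c = c at hc
      rw [mul_smul, mul_smul] at hc
      have := congrArg (fun z => y⁻¹ • z) hc
      simp only [inv_smul_smul] at this
      exact this
  have hle : K.map N.subtype ≤ N := by
    intro x hx
    rw [Subgroup.mem_map] at hx
    obtain ⟨k, -, rfl⟩ := hx
    exact k.2
  rcases hmin _ hK'n hle with h | h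
  · have hKbot : K = ⊥ := by
      rw [eq_bot_iff]
      intro k hk
      rw [Subgroup.mem_bot]
      have : (k : G) ∈ K.map N.subtype := Subgroup.mem_map.mpr ⟨k, hk, rfl⟩
      rw [h, Subgroup.mem_bot] at this
      exact Subtype.ext this
    rw [hKbot, Subgroup.isComplement'_bot_left] at hKc
    exact hH.2.1 hKc
  · have hKtop : K = ⊤ := by
      rw [eq_top_iff]
      intro k _
      have : (k : G) ∈ K.map N.subtype := by rw [h]; exact k.2
      rw [Subgroup.mem_map] at this
      obtain ⟨k', hk', hkk'⟩ := this
      have : k' = k := Subtype.ext hkk'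
      rw [← this]; exact hk'
    rw [hKtop, Subgroup.isComplement'_top_left] at hKc
    exact hH.1 hKc

end Prim

end Cfsg.Agent.Lib.Helper63
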